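import Cfsg.Agent.Lib.Spor.J4.Index.Trio
import Cfsg.Prelude.Def_Spor_J4

/-!
The conjugates of `t`, and the four base relations of the certificate.
-/

set_option autoImplicit false

namespace CfsgLib.Spor.J4.Index

open CfsgLib.PresCert CfsgLib.Spor Cfsg
open scoped Pointwise

/-- the presented group -/
local notation "J" => Cfsg.Spor.J4

/-- image of `x` -/
def gx : J := PresentedGroup.mk _ Cfsg.Spor.J4.x

/-- image of `y` -/
def gy : J := PresentedGroup.mk _ Cfsg.Spor.J4.y

/-- image of `t` -/
def gt : J := PresentedGroup.mk _ Cfsg.Spor.J4.t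

theorem rel_mem {r : FreeGroup Cfsg.Spor.J4.Gen} (h : r ∈ Cfsg.Spor.J4.extra) :
    PresentedGroup.mk (Cfsg.Spor.coxRelators Cfsg.Spor.J4.edges ∪
      {r | r ∈ Cfsg.Spor.J4.extra}) r = 1 :=
  PresentedGroup.one_of_mem (Or.inr h)

theorem m24Rels : M24Rels gx gy := by
  constructor <;> simp only [gx, gy, ← map_pow, ← map_mul, ← map_inv] <;> refine rel_mem ?_ <;>
    simp only [Cfsg.Spor.J4.extra, List.mem_cons, List.not_mem_nil, or_false, eq_self, true_or,
      or_true]

theorem gt_sq : gt * gt = 1 := by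
  simp only [gt, ← map_mul, ← sq]
  exact rel_mem (by simp [Cfsg.Spor.J4.extra])

theorem gt_inv : gt⁻¹ = gt := inv_eq_of_mul_eq_one_right gt_sq

/-- the map from M₂₄ -/
noncomputable def psi : M24 →* J := M24Iso.toHom m24Rels

/-- letters in M₂₄ -/
noncomputable def lEl : ℕ → M24
  | 0 => M24Iso.ga
  | 1 => M24Iso.ga
  | 2 => M24Iso.gb
  | _ => M24Iso.gb⁻¹

/-- a word in M₂₄ -/
noncomputable def wEl (w : List ℕ) : M24 := (w.map lEl).prod

/-- a word in the presented group -/
noncomputable def wJ (w : List ℕ) : J := (w.map (letterVal gx gy)).prod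

theorem rep_wEl (w : List ℕ) : Rep (wEl w : Equiv.Perm GolayPt) (pWord w) := by
  have : (wEl w : Equiv.Perm GolayPt) = (w.map mLet).prod := by
    rw [wEl, Subgroup.val_list_prod, List.map_map]
    refine congrArg List.prod (List.map_congr_left fun l _ => ?_)
    rcases l with _ | _ | _ | _ <;> rfl
  rw [this]
  exact rep_word w

theorem psi_wEl (w : List ℕ) : psi (wEl w) = wJ w := by
  rw [wEl, map_list_prod, List.map_map, wJ]
  refine congrArg List.prod (List.map_congr_left fun l _ => ?_)
  rcases l with _ | _ | _ | _ <;>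
    simp [lEl, letterVal, psi, M24Iso.toHom_ga, M24Iso.toHom_gb]

/-- the reversed inverse of a word without the letter one -/
def winv (w : List ℕ) : List ℕ :=
  (w.map fun l => if l = 2 then 3 else if l = 3 then 2 else 0).reverse

/-- `y x y⁻¹ x y x y⁻¹ x` -/
def wA : List ℕ := [2, 0, 3, 0, 2, 0, 3, 0]
/-- `(y x y x y x y)³` -/
def wPi : List ℕ := (List.replicate 3 [2, 0, 2, 0, 2, 0, 2]).flatten
/-- `(x y)³ y (x y)⁶ y` -/
def wV : List ℕ := (List.replicate 3 [0, 2]).flatten ++ [2] ++ (List.replicate 6 [0, 2]).flatten ++ [2]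
/-- `(y x)⁴ y⁻¹ x` -/
def wH : List ℕ := (List.replicate 4 [2, 0]).flatten ++ [3, 0]
/-- `y x y (x y⁻¹)² (x y)³` -/
def wE : List ℕ := [2, 0, 2] ++ [0, 3, 0, 3] ++ (List.replicate 3 [0, 2]).flatten

/-- the second generator of the stabiliser of the base trio -/
noncomputable def ge : M24 := wEl wE

theorem comm_e : psi ge * gt = gt * psi ge := by
  have h : gt⁻¹ * (wJ wE)⁻¹ * gt * wJ wE = 1 := by
    have e : wJ wE = gy * gx * gy * ((gx * gy⁻¹) ^ 2) * ((gx * gy) ^ 3) := by
      simp [wJ, wE, letterVal, pow_succ, mul_assoc, List.replicate_succ]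
    rw [e]
    simp only [gx, gy, gt, ← map_pow, ← map_mul, ← map_inv]
    exact rel_mem (by simp [Cfsg.Spor.J4.extra])
  rw [gt_inv] at h
  rw [ge, psi_wEl]
  have h2 : gt * (wJ wE)⁻¹ * gt = (wJ wE)⁻¹ := eq_inv_of_mul_eq_one_left h
  calc wJ wE * gt = (gt * (wJ wE)⁻¹ * gt)⁻¹ * gt := by rw [h2, inv_inv]
    _ = gt * wJ wE := by
      simp only [mul_inv_rev, inv_inv, gt_inv, mul_assoc, gt_sq, mul_one]

theorem comm_x : psi M24Iso.ga * gt = gt * psi M24Iso.ga := by
  have h : gt⁻¹ * gx⁻¹ * gt * gx = 1 := by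
    simp only [gx, gt, ← map_pow, ← map_mul, ← map_inv]
    exact rel_mem (by simp [Cfsg.Spor.J4.extra])
  rw [psi, M24Iso.toHom_ga]
  have h2 : gt⁻¹ * gx⁻¹ * gt = gx⁻¹ := eq_inv_of_mul_eq_one_left h
  calc gx * gt = gt * (gt⁻¹ * gx⁻¹ * gt)⁻¹ := by group
    _ = gt * gx := by rw [h2, inv_inv]

/-- the chain data really generate the stabiliser -/
theorem stab_program : okProgram [mAa, stabE] stabSLP stabLevels = true := by decide +kernel

theorem stab_size : chainSize stabLevels = 64512 := by decide +kernel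

theorem stabE_word : pWord wE = stabEi := by decide +kernel

theorem stabE_inv : okPerm stabE stabEi = true := by decide +kernel

theorem base_fixed : moveTo mAa baseTrio baseTrio = true ∧ moveTo stabEi baseTrio baseTrio = true := by
  decide +kernel

theorem stab_eq :
    MulAction.stabilizer M24 (Trio baseTrio) = Subgroup.closure {M24Iso.ga, ge} := by
  have he : Rep (ge : Equiv.Perm GolayPt) stabEi := stabE_word ▸ rep_wEl wE
  have hle : Subgroup.closure {M24Iso.ga, ge} ≤ MulAction.stabilizer M24 (Trio baseTrio) := by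
    rw [Subgroup.closure_le]
    rintro _ (rfl | rfl)
    · exact (moveTo_spec rep_ga base_fixed.1).2.2
    · exact (moveTo_spec he base_fixed.2).2.2
  have h := le_card_of_program stab_program (Subgroup.closure {M24Iso.ga, ge}) (by
    intro a ha
    simp only [List.mem_cons, List.not_mem_nil, or_false] at ha
    rcases ha with rfl | rfl
    · exact ⟨⟨_, rep_ga⟩, el_eq rep_ga ▸ Subgroup.subset_closure (Or.inl rfl)⟩
    · obtain ⟨hv, hvi, hinv⟩ := okPerm_spec stabE_inv
      refine ⟨hv, ?_⟩
      rw [el_eq he] at hinv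
      rw [← inv_inv (el stabE), ← hinv]
      exact inv_mem (Subgroup.subset_closure (Or.inr rfl)))
  rw [stab_size] at h
  have := card_stab_base
  exact (Subgroup.eq_of_le_of_card_ge hle (by omega)).symm

theorem comm_stab {g : M24} (hg : g • Trio baseTrio = Trio baseTrio) :
    psi g * gt = gt * psi g := by
  have h : g ∈ Subgroup.closure {M24Iso.ga, ge} := stab_eq ▸ hg
  have hle : Subgroup.closure {M24Iso.ga, ge} ≤ (Subgroup.centralizer {gt}).comap psi := by
    rw [Subgroup.closure_le]
    rintro _ (rfl | rfl) <;>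
      simp only [SetLike.mem_coe, Subgroup.mem_comap, Subgroup.mem_centralizer_singleton_iff]
    · exact comm_x
    · exact comm_e
  exact Subgroup.mem_centralizer_singleton_iff.1 (hle h)

open Classical in
/-- some element moving the base trio to trio `k` -/
noncomputable def toTrio (k : ℕ) : M24 := if h : k < 3795 then (exists_to h).choose else 1

theorem toTrio_spec {k : ℕ} (hk : k < 3795) : toTrio k • Trio baseTrio = Trio k := by
  rw [toTrio, dif_pos hk]; exact (exists_to hk).choose_spec

/-- the conjugate of `t` belonging to a trio -/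
noncomputable def tT (k : ℕ) : J := psi (toTrio k) * gt * (psi (toTrio k))⁻¹

theorem tT_eq {k : ℕ} (hk : k < 3795) {g : M24} (hg : g • Trio baseTrio = Trio k) :
    tT k = psi g * gt * (psi g)⁻¹ := by
  have h : ((toTrio k)⁻¹ * g) • Trio baseTrio = Trio baseTrio := by
    rw [mul_smul, hg, inv_smul_eq_iff, toTrio_spec hk]
  have hc := comm_stab h
  rw [map_mul, map_inv] at hc
  rw [tT]
  calc psi (toTrio k) * gt * (psi (toTrio k))⁻¹
      = psi (toTrio k) * (gt * ((psi (toTrio k))⁻¹ * psi g)) * (psi g)⁻¹ := by group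
    _ = psi (toTrio k) * (((psi (toTrio k))⁻¹ * psi g) * gt) * (psi g)⁻¹ := by rw [hc]
    _ = psi g * gt * (psi g)⁻¹ := by group

theorem tT_sq {k : ℕ} : tT k * tT k = 1 := by
  rw [tT]
  calc psi (toTrio k) * gt * (psi (toTrio k))⁻¹ * (psi (toTrio k) * gt * (psi (toTrio k))⁻¹)
      = psi (toTrio k) * (gt * gt) * (psi (toTrio k))⁻¹ := by group
    _ = 1 := by rw [gt_sq]; group

theorem tT_conj {a k k' : ℕ} {g : M24} (hg : Rep (g : Equiv.Perm GolayPt) a)
    (h : moveTo a k k' = true) : tT k' = psi g * tT k * (psi g)⁻¹ := by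
  obtain ⟨hk, hk', e⟩ := moveTo_spec hg h
  rw [tT_eq hk' (g := g * toTrio k) (by rw [mul_smul, toTrio_spec hk, e]), tT, map_mul]
  group

theorem tT_base : tT baseTrio = gt := by
  rw [tT_eq baseTrio_lt (g := 1) (one_smul _ _), map_one]
  simp

/-- product of conjugates of `t`, the first letter rightmost -/
noncomputable def actProd : List ℕ → J
  | [] => 1
  | b :: bs => actProd bs * tT b

theorem actProd_append (u w : List ℕ) : actProd (u ++ w) = actProd w * actProd u := by
  induction u with
  | nil => simp [actProd]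
  | cons b u ih => simp [actProd, ih, mul_assoc]

theorem actProd_reverse (w : List ℕ) : actProd w.reverse * actProd w = 1 := by
  induction w with
  | nil => simp [actProd]
  | cons b w ih =>
    rw [List.reverse_cons, actProd_append]
    simp only [actProd, one_mul]
    calc tT b * actProd w.reverse * (actProd w * tT b)
        = tT b * (actProd w.reverse * actProd w) * tT b := by group
      _ = 1 := by rw [ih, mul_one, tT_sq]

/-- each trio is the conjugate of the base trio by the inverse of the word -/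
noncomputable def okWords : List (List ℕ) → List ℕ → Bool
  | [], [] => true
  | u :: us, b :: bs => moveTo (pWord (winv u)) baseTrio b && okWords us bs
  | _, _ => false

/-- the trios of the base relations are the expected conjugates of the base trio -/
theorem rel_words : baseRels.length = 4 ∧
    okWords [wA ++ [2, 2], wA ++ [2], wA] (baseRels.getD 0 ([], 0, 0)).1 = true ∧
    okWords [wPi, wV ++ wPi, [], wV] (baseRels.getD 1 ([], 0, 0)).1 = true ∧
    okWords [[], []] (baseRels.getD 2 ([], 0, 0)).1 = true ∧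
    okWords [wH ++ [2, 2], wH ++ [2], wH] (baseRels.getD 3 ([], 0, 0)).1 = true ∧
    (baseRels.getD 0 ([], 0, 0)).2 = (idP, idP) ∧
    (baseRels.getD 1 ([], 0, 0)).2 = (pWord (winv wPi ++ winv wPi), pWord (wPi ++ wPi)) ∧
    (baseRels.getD 2 ([], 0, 0)).2 = (idP, idP) ∧
    (baseRels.getD 3 ([], 0, 0)).2 = (idP, idP) := by
  decide +kernel

end CfsgLib.Spor.J4.Index
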