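import Cfsg.Agent.Lib.Spor.Chain
import Cfsg.Agent.Lib.Spor.J4.M24Perm
import Cfsg.Agent.Lib.Spor.J4.Index.TrioData
import Cfsg.Agent.Lib.Spor.J4.Index.FactData

/-!
The checker for the double coset certificate of the index 173067389.
-/

set_option autoImplicit false

namespace CfsgLib.Spor.J4.Index

open CfsgLib.PresCert

/-- the identity permutation, packed -/
def idP : Nat := packL (List.range 24)

/-- `a` and `ai` are inverse permutations of the 24 points preserving the code -/
noncomputable def okPerm (a ai : Nat) : Bool :=
  allBelow 24 (fun i => Nat.blt (getP a i) 24 && Nat.blt (getP ai i) 24 &&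
      Nat.beq (getP a (getP ai i)) i && Nat.beq (getP ai (getP a i)) i) &&
    golayBasis.all fun b => inCode (actP a b)

/-- image mask of eight packed points -/
noncomputable def actQ (a q : Nat) : Nat :=
  Nat.rec (motive := fun _ => Nat) 0
    (fun i acc => Nat.lor acc (Nat.shiftLeft 1 (getP a (getP q i)))) 8

/-- first octad of a trio -/
noncomputable def trA (k : Nat) : Nat := Nat.land (trioTab.get k) 16777215

/-- second octad of a trio -/
noncomputable def trB (k : Nat) : Nat := Nat.land (Nat.shiftRight (trioTab.get k) 24) 16777215

/-- third octad of a trio -/
noncomputable def trC (k : Nat) : Nat := Nat.xor (Nat.xor 16777215 (trA k)) (trB k)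

/-- points of the first octad -/
noncomputable def trPA (k : Nat) : Nat :=
  Nat.land (Nat.shiftRight (trioTab.get k) 48) 1099511627775

/-- points of the second octad -/
noncomputable def trPB (k : Nat) : Nat := Nat.shiftRight (trioTab.get k) 88

/-- the table of trios is consistent -/
noncomputable def okTrio (k : Nat) : Bool :=
  Nat.blt (trA k) (trB k) && Nat.blt (trB k) (trC k) &&
    Nat.beq (actQ idP (trPA k)) (trA k) && Nat.beq (actQ idP (trPB k)) (trB k) &&
    allBelow 8 (fun i => Nat.blt (getP (trPA k) i) 24 && Nat.blt (getP (trPB k) i) 24) &&
    (Nat.beq k 3794 || Nat.blt (Nat.add (Nat.shiftLeft (trA k) 24) (trB k))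
      (Nat.add (Nat.shiftLeft (trA (Nat.succ k)) 24) (trB (Nat.succ k))))

/-- the permutation sends the trio `k` to the trio `k'` -/
noncomputable def moveTo (a k k' : Nat) : Bool :=
  let u := actQ a (trPA k)
  let v := actQ a (trPB k)
  let x := trA k'
  let y := trB k'
  let z := trC k'
  Nat.blt k 3795 && Nat.blt k' 3795 &&
  ((Nat.beq u x && (Nat.beq v y || Nat.beq v z)) || (Nat.beq u y && (Nat.beq v x || Nat.beq v z)) ||
    (Nat.beq u z && (Nat.beq v x || Nat.beq v y)))

/-- image table under the first generator -/
noncomputable def orbX (k : Nat) : Nat := Nat.land (orbTab.get k) 4095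

/-- image table under the second generator -/
noncomputable def orbY (k : Nat) : Nat := Nat.land (Nat.shiftRight (orbTab.get k) 12) 4095

/-- predecessor in the orbit -/
noncomputable def orbPar (k : Nat) : Nat := Nat.land (Nat.shiftRight (orbTab.get k) 24) 4095

/-- generator from the predecessor -/
noncomputable def orbGen (k : Nat) : Bool := Nat.beq (Nat.land (Nat.shiftRight (orbTab.get k) 36) 1) 1

/-- rank in the orbit -/
noncomputable def orbRank (k : Nat) : Nat := Nat.shiftRight (orbTab.get k) 37

/-- one line of the orbit of the base trio -/
noncomputable def okOrb (k : Nat) : Bool :=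
  moveTo mAa k (orbX k) && moveTo mBi k (orbY k) &&
    (Nat.beq k baseTrio || (Nat.blt (orbRank (orbPar k)) (orbRank k) &&
      moveTo (bif orbGen k then mBi else mAa) (orbPar k) k))

/-- kind of a fact: base, definition, edge, stabiliser -/
noncomputable def fKind (f : Nat) : Nat := Nat.land (factTab.get f) 3

/-- source node of a fact -/
noncomputable def fI (f : Nat) : Nat := Nat.land (Nat.shiftRight (factTab.get f) 2) 31

/-- target node of a fact -/
noncomputable def fJ (f : Nat) : Nat := Nat.land (Nat.shiftRight (factTab.get f) 7) 31

/-- trio of a fact -/
noncomputable def fC (f : Nat) : Nat := Nat.land (Nat.shiftRight (factTab.get f) 12) 4095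

/-- permutation of a fact -/
noncomputable def fP (f : Nat) : Nat :=
  Nat.land (Nat.shiftRight (factTab.get f) 24) 1329227995784915872903807060280344575

/-- inverse permutation of a fact -/
noncomputable def fPi (f : Nat) : Nat := Nat.shiftRight (factTab.get f) 144

/-- is it a stabiliser fact -/
noncomputable def isStab (f : Nat) : Bool := Nat.beq (fKind f) 0 || Nat.beq (fKind f) 3

/-- is it an edge fact -/
noncomputable def isEdge (f : Nat) : Bool := Nat.beq (fKind f) 1 || Nat.beq (fKind f) 2

/-- follow moves through facts below `k`, consuming letters -/
noncomputable def runMoves (k : Nat) : List Nat → List Nat → Nat → Nat → Option (Nat × Nat)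
  | [], [], i, n => some (i, n)
  | [], _ :: _, _, _ => none
  | m :: ms, bs, i, n =>
    let f := Nat.shiftRight m 2
    let d := Nat.land m 3
    bif Nat.blt f k then
      bif Nat.beq d 0 then
        bif isStab f && Nat.beq (fI f) i then runMoves k ms bs i (compP n (fP f)) else none
      else bif Nat.beq d 1 then
        bif isStab f && Nat.beq (fI f) i then runMoves k ms bs i (compP n (fPi f)) else none
      else
        match bs with
        | [] => none
        | b :: bs =>
          bif Nat.beq d 2 then
            bif isEdge f && Nat.beq (fI f) i && moveTo n (fC f) b then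
              runMoves k ms bs (fJ f) (compP n (fP f))
            else none
          else
            let n' := compP n (fPi f)
            bif isEdge f && Nat.beq (fJ f) i && moveTo n' (fC f) b then
              runMoves k ms bs (fI f) n'
            else none
    else none

/-- a loop along a conjugate of a relation -/
structure Loop where
  /-- start node -/
  start : Nat
  /-- relation -/
  rel : Nat
  /-- conjugating permutation -/
  conj : Nat
  /-- its inverse -/
  conjInv : Nat
  /-- the trios of the conjugate -/
  w : List Nat
  /-- letters read forwards -/
  split : Nat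
  /-- moves forwards -/
  fwd : List Nat
  /-- moves backwards -/
  bwd : List Nat

/-- the trios of a loop are the conjugates of those of its relation -/
noncomputable def okW (a : Nat) : List Nat → List Nat → Bool
  | [], [] => true
  | c :: cs, b :: bs => moveTo a c b && okW a cs bs
  | _, _ => false

/-- the justification of fact `k` -/
noncomputable def okFact (k : Nat) (L : Loop) : Bool :=
  okPerm (fP k) (fPi k) && Nat.blt (fI k) 20 && Nat.blt (fJ k) 20 && Nat.blt (fC k) 3795 &&
  bif Nat.beq (fKind k) 0 then
    Nat.beq (fI k) 0 && (Nat.beq (fP k) mAa || Nat.beq (fP k) mBi)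
  else bif Nat.beq (fKind k) 1 then
    let j := fJ k
    Nat.ble 1 j && Nat.beq (fP k) idP &&
      Nat.beq (nodeDefs.getD (Nat.sub j 1) (99, 99)).1 (fI k) &&
      Nat.beq (nodeDefs.getD (Nat.sub j 1) (99, 99)).2 (fC k)
  else
    let r := baseRels.getD L.rel ([], 0, 0)
    Nat.blt L.rel 4 && (Nat.blt L.rel 3 || (Nat.beq L.start 0 && Nat.beq L.conj idP)) &&
      okPerm L.conj L.conjInv && okW L.conj r.1 L.w &&
      match runMoves k L.fwd (L.w.take L.split) L.start idP with
      | none => false
      | some (i, n) =>
        let start2 := compP (compP L.conj r.2.2) L.conjInv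
        bif Nat.beq (fKind k) 2 then
          match L.w.drop L.split with
          | [] => false
          | b :: rest =>
            match runMoves k L.bwd rest.reverse L.start start2 with
            | none => false
            | some (j, m) =>
              Nat.beq i (fI k) && Nat.beq j (fJ k) && moveTo n (fC k) b &&
                Nat.beq (compP n (fP k)) m
        else
          match runMoves k L.bwd (L.w.drop L.split).reverse L.start start2 with
          | none => false
          | some (j, m) =>
            Nat.beq i (fI k) && Nat.beq j (fI k) && Nat.beq (compP n (fP k)) m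

/-- facts from `k` on are justified -/
noncomputable def okLoops : Nat → List Loop → Bool
  | _, [] => true
  | k, L :: Ls => okFact k L && okLoops (Nat.succ k) Ls

/-- one entry of a coverage table -/
noncomputable def okCovAt (node : Nat) (tab : BTree) (c : Nat) : Bool :=
  let e := tab.get c
  let f := Nat.land (Nat.shiftRight e 2) 4095
  let s := Nat.beq (Nat.land (Nat.shiftRight e 1) 1) 1
  Nat.blt f numFacts &&
  bif Nat.beq (Nat.land e 1) 0 then
    isEdge f && bif s then Nat.beq (fJ f) node && moveTo (fPi f) (fC f) c
      else Nat.beq (fI f) node && Nat.beq (fC f) c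
  else
    let u := Nat.land (Nat.shiftRight e 14) 4095
    isStab f && Nat.beq (fI f) node && Nat.blt u 3795 &&
      Nat.blt (Nat.shiftRight (tab.get u) 26) (Nat.shiftRight e 26) &&
      moveTo (bif s then fPi f else fP f) u c

/-- a coverage table -/
noncomputable def okCover (node : Nat) (tab : BTree) : Bool := allBelow 3795 (okCovAt node tab)

/-- no repetition -/
noncomputable def distinctB : List Nat → Bool
  | [] => true
  | x :: l => !(l.any fun y => Nat.beq x y) && distinctB l

/-- levels of a chain, given as positions in a list of elements -/
noncomputable def okLevels (els : List Nat) : List Nat → List (Nat × List Nat) → Bool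
  | _, [] => true
  | fixed, (b, T) :: rest =>
    Nat.blt b 24 && distinctB (T.map fun t => getP (els.getD t idP) b) &&
      T.all (fun t => fixed.all fun q => Nat.beq (getP (els.getD t idP) q) q) &&
      okLevels els (b :: fixed) rest

/-- a straight-line program and a chain on given generators -/
noncomputable def okProgram (gs : List Nat) (slp : List (Nat × Nat × Nat))
    (lv : List (Nat × List Nat)) : Bool :=
  checkSLP slp gs.reverse && okLevels (gs ++ slp.map Prod.fst) [] lv

/-- the chain of a node -/
noncomputable def okChain (node : Nat) (gens : List Nat) (slp : List (Nat × Nat × Nat))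
    (lv : List (Nat × List Nat)) : Bool :=
  gens.all (fun f => Nat.blt f numFacts && isStab f && Nat.beq (fI f) node) &&
    okProgram (gens.map fP) slp lv

/-- the product of the level sizes -/
def chainSize (lv : List (Nat × List Nat)) : Nat := (lv.map fun e => e.2.length).prod

end CfsgLib.Spor.J4.Index
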