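import Cfsg.Agent.Lib.Spor.J4.Index.Check

/-!
Coverage and stabiliser of node 0 (generated).
-/

set_option autoImplicit false
set_option linter.all false

namespace CfsgLib.Spor.J4.Index

open CfsgLib.PresCert

/-- packed table -/
noncomputable def cov0_lll : BTree := (.node (.node (.node (.node (.node (.node (.node (.node (.node (.leaf 0x8) (.leaf 0x36df0001)) (.node (.leaf 0x45224001) (.leaf 0x4d554005))) (.node (.node (.leaf 0x3acbc007) (.leaf 0x34b08005)) (.node (.leaf 0x539f8007) (.leaf 0x537bc001)))) (.node (.node (.node (.leaf 0x4f7a0005) (.leaf 0x4bb38005)) (.node (.leaf 0x53918005) (.leaf 0x3f61c005))) (.node (.node (.leaf 0x42c60007) (.leaf 0x20924007)) (.node (.leaf 0x39c14007) (.leaf 0x0))))) (.node (.node (.node (.node (.leaf 0x488fc001) (.leaf 0x45a3c005)) (.node (.leaf 0x57410001) (.leaf 0x5b23c001))) (.node (.node (.leaf 0x539b8007) (.leaf 0x323f8001)) (.node (.leaf 0x2e4d4001) (.leaf 0x49480001)))) (.node (.node (.node (.leaf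 0x1709c005) (.leaf 0x4ca2c007)) (.node (.leaf 0x5eea0005) (.leaf 0x415c0001))) (.node (.node (.leaf 0x554cc007) (.leaf 0x3453c005)) (.node (.leaf 0x4425c007) (.leaf 0x0)))))) (.node (.node (.node (.node (.node (.leaf 0x58060001) (.leaf 0x53000001)) (.node (.leaf 0x52598007) (.leaf 0x45604005))) (.node (.node (.leaf 0x406f4007) (.leaf 0x466b8007)) (.node (.leaf 0x51cec007) (.leaf 0x553bc001)))) (.node (.node (.node (.leaf 0x58688001) (.leaf 0x5618c001)) (.node (.leaf 0x49fb0007) (.leaf 0x4f17c007))) (.node (.node (.leaf 0x56810001) (.leaf 0x3dfc0001)) (.node (.leaf 0x328c4001) (.leaf 0x0))))) (.node (.node (.node (.node (.leaf 0x4c970001) (.leaf 0x56840007)) (.node (.leaf 0x46850005) (.leaf 0x3f118001))) (.node (.node (.leaf 0x510f4007) (.leaf 0x2794c005)) (.node (.leaf 0x5cbd8007) (.leaf 0x49580005)))) (.node (.node (.node (.leaf 0x54268001) (.leaf 0x4b86c005)) (.node (.leaf 0x4c598007) (.leaf 0x4b7dc001))) (.node (.node (.leaf 0x33a74001) (.leaf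 0x620a0001)) (.node (.leaf 0x3d450007) (.leaf 0x0))))))) (.node (.node (.node (.node (.node (.node (.leaf 0x4b984005) (.leaf 0x38484005)) (.node (.leaf 0x61088007) (.leaf 0x57280001))) (.node (.node (.leaf 0x56294007) (.leaf 0x36a00005)) (.node (.leaf 0x4ae48005) (.leaf 0x4980c005)))) (.node (.node (.node (.leaf 0x4807c001) (.leaf 0x40c90001)) (.node (.leaf 0x46cf0007) (.leaf 0x49948007))) (.node (.node (.leaf 0x46b34005) (.leaf 0x6a150005)) (.node (.leaf 0x44d6c005) (.leaf 0x0))))) (.node (.node (.node (.node (.leaf 0x49df0005) (.leaf 0x5afa0001)) (.node (.leaf 0x42be0001) (.leaf 0x52ae8007))) (.node (.node (.leaf 0x3f7c8005) (.leaf 0x40e10007)) (.node (.leaf 0x62acc001) (.leaf 0x1d9a8005)))) (.node (.node (.node (.leaf 0x66f00005) (.leaf 0x4186c007)) (.node (.leaf 0x4b228001) (.leaf 0x2b6e0001))) (.node (.node (.leaf 0x45bdc001) (.leaf 0x65418007)) (.node (.leaf 0x66cd0001) (.leaf 0x0)))))) (.node (.node (.node (.node (.node (.leaf 0x5c9bc001)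 (.leaf 0x556a0007)) (.node (.leaf 0x430ac001) (.leaf 0x3715c001))) (.node (.node (.leaf 0x1c778005) (.leaf 0x495f0007)) (.node (.leaf 0x4cd28001) (.leaf 0x4e96c007)))) (.node (.node (.node (.leaf 0x34748005) (.leaf 0x589d0007)) (.node (.leaf 0x46be8001) (.leaf 0x41234007))) (.node (.node (.leaf 0x3f90c001) (.leaf 0x66ea8007)) (.node (.leaf 0x65a74005) (.leaf 0x0))))) (.node (.node (.node (.node (.leaf 0x5cec4005) (.leaf 0x3a0cc001)) (.node (.leaf 0x45260005) (.leaf 0x33154001))) (.node (.node (.leaf 0x47a60007) (.leaf 0x59628001)) (.node (.leaf 0x4d5d8007) (.leaf 0x0)))) (.node (.node (.node (.leaf 0x582a8005) (.leaf 0x55068001)) (.node (.leaf 0x4401c005) (.leaf 0x50838005))) (.node (.node (.leaf 0x52600001) (.leaf 0x55614005)) (.node (.leaf 0x44ed0007) (.leaf 0x0)))))))) (.node (.node (.node (.node (.node (.node (.node (.leaf 0x48510005) (.leaf 0x5615c005)) (.node (.leaf 0x5b45c005) (.leaf 0x48be0005))) (.node (.node (.leaf 0x4f4e0007) (.leaf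 0x50cc4001)) (.node (.leaf 0x4e3bc007) (.leaf 0x4b248005)))) (.node (.node (.node (.leaf 0x40370001) (.leaf 0x51d6c001)) (.node (.leaf 0x2b66c007) (.leaf 0x3f114001))) (.node (.node (.leaf 0x59ba8001) (.leaf 0x31140005)) (.node (.leaf 0x4e148001) (.leaf 0x0))))) (.node (.node (.node (.node (.leaf 0x3c8e0005) (.leaf 0x26fd0001)) (.node (.leaf 0x45388001) (.leaf 0x4f17c005))) (.node (.node (.leaf 0x55348007) (.leaf 0x44444005)) (.node (.leaf 0x50314005) (.leaf 0x453a8001)))) (.node (.node (.node (.leaf 0x3429c001) (.leaf 0x4a3fc001)) (.node (.leaf 0x679e8001) (.leaf 0x345e0005))) (.node (.node (.leaf 0x44c54005) (.leaf 0x31f90001)) (.node (.leaf 0x3ae1c001) (.leaf 0x0)))))) (.node (.node (.node (.node (.node (.leaf 0x5adcc005) (.leaf 0x57750007)) (.node (.leaf 0x2f08c001) (.leaf 0x54678007))) (.node (.node (.leaf 0x48564001) (.leaf 0x4ee60007)) (.node (.leaf 0x41d28001) (.leaf 0x5d498001)))) (.node (.node (.node (.leaf 0x39a88007) (.leaf 0x43788007))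 (.node (.leaf 0x59578001) (.leaf 0x4c89c005))) (.node (.node (.leaf 0x62678005) (.leaf 0x4f488007)) (.node (.leaf 0x482d4007) (.leaf 0x0))))) (.node (.node (.node (.node (.leaf 0x5c804005) (.leaf 0x66968005)) (.node (.leaf 0x40194007) (.leaf 0x272b4001))) (.node (.node (.leaf 0x62fec001) (.leaf 0x49c88007)) (.node (.leaf 0x42778001) (.leaf 0x3e3f4007)))) (.node (.node (.node (.leaf 0x46b68007) (.leaf 0x4a218001)) (.node (.leaf 0x43018005) (.leaf 0x3b81c001))) (.node (.node (.leaf 0x3f06c001) (.leaf 0x49f80001)) (.node (.leaf 0x5eb88005) (.leaf 0x0))))))) (.node (.node (.node (.node (.node (.node (.leaf 0x40310001) (.leaf 0x51d78005)) (.node (.leaf 0x50320007) (.leaf 0x4313c001))) (.node (.node (.leaf 0x4c114007) (.leaf 0x3f484007)) (.node (.leaf 0x525b8005) (.leaf 0x4cdac007)))) (.node (.node (.node (.leaf 0x4ee60005) (.leaf 0x6e468005)) (.node (.leaf 0x569a4001) (.leaf 0x47174001))) (.node (.node (.leaf 0x54b38007) (.leaf 0x4e070001)) (.node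 (.leaf 0x3acf8007) (.leaf 0x0))))) (.node (.node (.node (.node (.leaf 0x44184005) (.leaf 0x4ee9c001)) (.node (.leaf 0x5b900005) (.leaf 0x531a0001))) (.node (.node (.leaf 0x45028005) (.leaf 0x470c0007)) (.node (.leaf 0x66b94007) (.leaf 0x54208005)))) (.node (.node (.node (.leaf 0x5422c001) (.leaf 0x4cb2c001)) (.node (.leaf 0x53368001) (.leaf 0x45ea8005))) (.node (.node (.leaf 0x5036c007) (.leaf 0x4171c005)) (.node (.leaf 0x3ef60001) (.leaf 0x0)))))) (.node (.node (.node (.node (.node (.leaf 0x2f0f4007) (.leaf 0x3ddb8007)) (.node (.leaf 0x1c778007) (.leaf 0x5371c005))) (.node (.node (.leaf 0x50174001) (.leaf 0x4469c007)) (.node (.leaf 0x46a18001) (.leaf 0x4cddc007)))) (.node (.node (.node (.leaf 0x4871c001) (.leaf 0x47510005)) (.node (.leaf 0x3e3a4007) (.leaf 0x30038007))) (.node (.node (.leaf 0x539b8005) (.leaf 0x5230c001)) (.node (.leaf 0x49708007) (.leaf 0x0))))) (.node (.node (.node (.node (.leaf 0x48fec005) (.leaf 0x1cc8c001)) (.node (.leaf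 0x54630007) (.leaf 0x57134001))) (.node (.node (.leaf 0x3b180007) (.leaf 0x47a60005)) (.node (.leaf 0x3d888005) (.leaf 0x0)))) (.node (.node (.node (.leaf 0x38860001) (.leaf 0x5a3d8005)) (.node (.leaf 0x3ba9c001) (.leaf 0x3b7fc001))) (.node (.node (.leaf 0x4a02c007) (.leaf 0x52370001)) (.node (.leaf 0x3b1e4005) (.leaf 0x0))))))))) (.node (.node (.node (.node (.node (.node (.node (.node (.leaf 0x403bc001) (.leaf 0x4bb38007)) (.node (.leaf 0x48a9c007) (.leaf 0x3df20001))) (.node (.node (.leaf 0x638d8005) (.leaf 0x68b30005)) (.node (.leaf 0x5a7bc005) (.leaf 0x5f73c001)))) (.node (.node (.node (.leaf 0x5f79c005) (.leaf 0x643cc007)) (.node (.leaf 0x49e88007) (.leaf 0x632b8001))) (.node (.node (.leaf 0x5ccf8005) (.leaf 0x2f2c8007)) (.node (.leaf 0x46774001) (.leaf 0x0))))) (.node (.node (.node (.node (.leaf 0x4f874005) (.leaf 0x36c04007)) (.node (.leaf 0x4dc64001) (.leaf 0x4d7a8005))) (.node (.node (.leaf 0x4c63c005) (.leaf 0x5e67c005)) (.node (.leaf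 0x4ebf4005) (.leaf 0x5d82c001)))) (.node (.node (.node (.leaf 0x582bc001) (.leaf 0x41874007)) (.node (.leaf 0x593c0001) (.leaf 0x412f8001))) (.node (.node (.leaf 0x52a74005) (.leaf 0x4de60001)) (.node (.leaf 0x4f338007) (.leaf 0x0)))))) (.node (.node (.node (.node (.node (.leaf 0x3404c001) (.leaf 0x4b33c007)) (.node (.leaf 0x3e5a8007) (.leaf 0x47160001))) (.node (.node (.leaf 0x4ea9c005) (.leaf 0x3e098001)) (.node (.leaf 0x35d00007) (.leaf 0x350d0005)))) (.node (.node (.node (.leaf 0x69bc4005) (.leaf 0x4a6d0001)) (.node (.leaf 0x44110007) (.leaf 0x33094001))) (.node (.node (.leaf 0x46670005) (.leaf 0x65ddc001)) (.node (.leaf 0x56178001) (.leaf 0x0))))) (.node (.node (.node (.node (.leaf 0x4c0e8001) (.leaf 0x5c620005)) (.node (.leaf 0x56840005) (.leaf 0x53138001))) (.node (.node (.leaf 0x4847c007) (.leaf 0x1ebbc007)) (.node (.leaf 0x5c934005) (.leaf 0x58c9c001)))) (.node (.node (.node (.leaf 0x51f58005) (.leaf 0x4d9d8005)) (.node (.leaf 0x25dd4005)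 (.leaf 0x4f874007))) (.node (.node (.leaf 0x52f78005) (.leaf 0x65ad8005)) (.node (.leaf 0x3b670005) (.leaf 0x0))))))) (.node (.node (.node (.node (.node (.node (.leaf 0x43788005) (.leaf 0x5c4a8005)) (.node (.leaf 0x4e8d0001) (.leaf 0x345e0007))) (.node (.node (.leaf 0x40a5c001) (.leaf 0x550d8001)) (.node (.leaf 0x41bbc007) (.leaf 0x657e4005)))) (.node (.node (.node (.leaf 0x5809c001) (.leaf 0x6b3ac007)) (.node (.leaf 0x44df8005) (.leaf 0x4b214001))) (.node (.node (.leaf 0x5e95c005) (.leaf 0x57320005)) (.node (.leaf 0x547e0007) (.leaf 0x0))))) (.node (.node (.node (.node (.leaf 0x3461c001) (.leaf 0x2ed30001)) (.node (.leaf 0x47284001) (.leaf 0x6cea0007))) (.node (.node (.leaf 0x5d038005) (.leaf 0x65ab4001)) (.node (.leaf 0x36868001) (.leaf 0x51448001)))) (.node (.node (.node (.leaf 0x4024c001) (.leaf 0x6645c001)) (.node (.leaf 0x53584001) (.leaf 0x3f060005))) (.node (.node (.leaf 0x6b3b0001) (.leaf 0x5a2bc001)) (.node (.leaf 0x4d1e0005) (.leaf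 0x0)))))) (.node (.node (.node (.node (.node (.leaf 0x1c9b8001) (.leaf 0x3dfc8007)) (.node (.leaf 0x4c984005) (.leaf 0x4d1ec005))) (.node (.node (.leaf 0x48190001) (.leaf 0x56654007)) (.node (.leaf 0x4e96c005) (.leaf 0x34f84005)))) (.node (.node (.node (.leaf 0x4f46c005) (.leaf 0x518e4007)) (.node (.leaf 0x57908007) (.leaf 0x2146c001))) (.node (.node (.leaf 0x4d030007) (.leaf 0x5a130001)) (.node (.leaf 0x52c88001) (.leaf 0x0))))) (.node (.node (.node (.node (.leaf 0x3f060007) (.leaf 0x5a6cc001)) (.node (.leaf 0x5c620007) (.leaf 0x4f05c005))) (.node (.node (.leaf 0x5d658007) (.leaf 0x50f1c001)) (.node (.leaf 0x51a1c001) (.leaf 0x0)))) (.node (.node (.node (.leaf 0x58a40001) (.leaf 0x51824007)) (.node (.leaf 0x3d31c001) (.leaf 0x4b6c0001))) (.node (.node (.leaf 0x580b8005) (.leaf 0x560e4005)) (.node (.leaf 0x5ae30001) (.leaf 0x0)))))))) (.node (.node (.node (.node (.node (.node (.node (.leaf 0x548d0005) (.leaf 0x2e078005)) (.node (.leaf 0x31994007)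 (.leaf 0x3a220001))) (.node (.node (.leaf 0x36a00007) (.leaf 0x55574005)) (.node (.leaf 0x36e40005) (.leaf 0x35cdc005)))) (.node (.node (.node (.leaf 0x4aa60007) (.leaf 0x5e4bc001)) (.node (.leaf 0x3b920001) (.leaf 0x31994005))) (.node (.node (.leaf 0x4dc58005) (.leaf 0x3de30001)) (.node (.leaf 0x5e3b8001) (.leaf 0x0))))) (.node (.node (.node (.node (.leaf 0x39dec005) (.leaf 0x42388005)) (.node (.leaf 0x40c98001) (.leaf 0x42388007))) (.node (.node (.leaf 0x54d5c007) (.leaf 0x46664001)) (.node (.leaf 0x48d24001) (.leaf 0x415d0001)))) (.node (.node (.node (.leaf 0x43020005) (.leaf 0x4d154001)) (.node (.leaf 0x3ab28001) (.leaf 0x52a14005))) (.node (.node (.leaf 0x40194005) (.leaf 0x49dd8001)) (.node (.leaf 0x48ed4007) (.leaf 0x0)))))) (.node (.node (.node (.node (.node (.leaf 0x5f170005) (.leaf 0x60bbc005)) (.node (.leaf 0x462a4005) (.leaf 0x401b0007))) (.node (.node (.leaf 0x1c2e8001) (.leaf 0x5a32c007)) (.node (.leaf 0x3d7f0001) (.leaf 0x4945c001))))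 (.node (.node (.node (.leaf 0x1d9a8007) (.leaf 0x3f2ec005)) (.node (.leaf 0x4fac8001) (.leaf 0x559d0005))) (.node (.node (.leaf 0x4d9e4007) (.leaf 0x56198001)) (.node (.leaf 0x48a38007) (.leaf 0x0))))) (.node (.node (.node (.node (.leaf 0x40438001) (.leaf 0x4cee8007)) (.node (.leaf 0x49684007) (.leaf 0x4b278001))) (.node (.node (.leaf 0x5b1cc001) (.leaf 0x4984c007)) (.node (.leaf 0x3f9fc005) (.leaf 0x0)))) (.node (.node (.node (.leaf 0x341a4001) (.leaf 0x4cb54007)) (.node (.leaf 0x5b3e8001) (.leaf 0x5b69c001))) (.node (.node (.leaf 0x539a8007) (.leaf 0x3a030007)) (.node (.leaf 0x44638005) (.leaf 0x0))))))) (.node (.node (.node (.node (.node (.node (.leaf 0x54330001) (.leaf 0x56898005)) (.node (.leaf 0x4532c007) (.leaf 0x629c8005))) (.node (.node (.leaf 0x384e8001) (.leaf 0x53328007)) (.node (.leaf 0x4e7f8001) (.leaf 0x58808007)))) (.node (.node (.node (.leaf 0x46770005) (.leaf 0x4de4c007)) (.node (.leaf 0x5dfa0007) (.leaf 0x4b098001))) (.node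 (.node (.leaf 0x52ab4001) (.leaf 0x61e90001)) (.node (.leaf 0x3ead8001) (.leaf 0x0))))) (.node (.node (.node (.node (.leaf 0x3b1b8005) (.leaf 0x66ea4001)) (.node (.leaf 0x5f3c8001) (.leaf 0x5f2d4005))) (.node (.node (.leaf 0x39024007) (.leaf 0x5b900007)) (.node (.leaf 0x624a4001) (.leaf 0x61228001)))) (.node (.node (.node (.leaf 0x48234005) (.leaf 0x4747c007)) (.node (.leaf 0x4a310005) (.leaf 0x27618005))) (.node (.node (.leaf 0x4d63c001) (.leaf 0x5f760007)) (.node (.leaf 0x68b30007) (.leaf 0x0)))))) (.node (.node (.node (.node (.node (.leaf 0x41914005) (.leaf 0x5ae70001)) (.node (.leaf 0x4b5d8001) (.leaf 0x4701c005))) (.node (.node (.leaf 0x3c800001) (.leaf 0x30554005)) (.node (.leaf 0x57800005) (.leaf 0x5fb20007)))) (.node (.node (.node (.leaf 0x30534001) (.leaf 0x56448005)) (.node (.leaf 0x476e4007) (.leaf 0x41174005))) (.node (.node (.leaf 0x452c8005) (.leaf 0x41d50001)) (.node (.leaf 0x52d1c001) (.leaf 0x0))))) (.node (.node (.node (.node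 (.leaf 0x48768005) (.leaf 0x839c005)) (.node (.leaf 0x30c94001) (.leaf 0x3a1ac007))) (.node (.node (.leaf 0x47470001) (.leaf 0x3fb18005)) (.node (.leaf 0x4e2c4005) (.leaf 0x0)))) (.node (.node (.node (.leaf 0x50840001) (.leaf 0x440c0007)) (.node (.leaf 0x4f4a0007) (.leaf 0x5b6fc001))) (.node (.node (.leaf 0x41cd8007) (.leaf 0x5a104005)) (.node (.leaf 0x43020007) (.leaf 0x0))))))))))

/-- packed table -/
noncomputable def cov0_llr : BTree := (.node (.node (.node (.node (.node (.node (.node (.node (.node (.leaf 0x385ec005) (.leaf 0x226ac001)) (.node (.leaf 0x51e1c001) (.leaf 0x471d8007))) (.node (.node (.leaf 0x36e40007) (.leaf 0x50b18005)) (.node (.leaf 0x49924007) (.leaf 0x31134001)))) (.node (.node (.node (.leaf 0x57798005) (.leaf 0x52b90007)) (.node (.leaf 0x67144001) (.leaf 0x52f78007))) (.node (.node (.leaf 0x5282c007) (.leaf 0x5d210001)) (.node (.leaf 0x59c44001) (.leaf 0x0))))) (.node (.node (.node (.node (.leaf 0x4c8f4001) (.leaf 0x43050001))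 (.node (.leaf 0x5ad90007) (.leaf 0x50aac001))) (.node (.node (.leaf 0x60de4005) (.leaf 0x2a004001)) (.node (.leaf 0x3ec0c005) (.leaf 0x586c0005)))) (.node (.node (.node (.leaf 0x2f648007) (.leaf 0x5466c007)) (.node (.leaf 0x66ea8005) (.leaf 0x55014001))) (.node (.node (.leaf 0x3dcc0001) (.leaf 0x47574007)) (.node (.leaf 0x5fa0c005) (.leaf 0x0)))))) (.node (.node (.node (.node (.node (.leaf 0x40054001) (.leaf 0x4775c007)) (.node (.leaf 0x4e594007) (.leaf 0x44c88001))) (.node (.node (.leaf 0x381e8001) (.leaf 0x5a694001)) (.node (.leaf 0x37380005) (.leaf 0x63820007)))) (.node (.node (.node (.leaf 0x44660001) (.leaf 0x451fc001)) (.node (.leaf 0x5299c005) (.leaf 0x40d74001))) (.node (.node (.leaf 0x57734007) (.leaf 0x61e04001)) (.node (.leaf 0x3f740007) (.leaf 0x0))))) (.node (.node (.node (.node (.leaf 0x3f61c007) (.leaf 0x46dbc001)) (.node (.leaf 0x67148001) (.leaf 0x59070001))) (.node (.node (.leaf 0x53590001) (.leaf 0x39a4c007)) (.node (.leaf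 0x3a928001) (.leaf 0x3ce34001)))) (.node (.node (.node (.leaf 0x248b4007) (.leaf 0x31a00005)) (.node (.leaf 0x37810007) (.leaf 0x40c78001))) (.node (.node (.leaf 0x448a0007) (.leaf 0x65ae0005)) (.node (.leaf 0x4b010001) (.leaf 0x0))))))) (.node (.node (.node (.node (.node (.node (.leaf 0x3c474001) (.leaf 0x4847c005)) (.node (.leaf 0x576b0001) (.leaf 0x4b644005))) (.node (.node (.leaf 0x4ca84001) (.leaf 0x50c5c005)) (.node (.leaf 0x35bb0007) (.leaf 0x44b50001)))) (.node (.node (.node (.leaf 0x48094001) (.leaf 0x565b0001)) (.node (.leaf 0x66f70007) (.leaf 0x37b44007))) (.node (.node (.leaf 0x3f304007) (.leaf 0x4af04005)) (.node (.leaf 0x49df0007) (.leaf 0x0))))) (.node (.node (.node (.node (.leaf 0x546dc001) (.leaf 0x335d0005)) (.node (.leaf 0x4b748001) (.leaf 0x40f3c001))) (.node (.node (.leaf 0x3eb10001) (.leaf 0x3a514001)) (.node (.leaf 0x41b28001) (.leaf 0x3cfa8001)))) (.node (.node (.node (.leaf 0x43a90007) (.leaf 0x556a0005)) (.node (.leaf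 0x2935c005) (.leaf 0x54c3c001))) (.node (.node (.leaf 0x4a86c001) (.leaf 0x462e4001)) (.node (.leaf 0x5f310005) (.leaf 0x0)))))) (.node (.node (.node (.node (.node (.leaf 0x47290007) (.leaf 0x54678005)) (.node (.leaf 0x322a0005) (.leaf 0x59200005))) (.node (.node (.leaf 0x3c2e0001) (.leaf 0x481e4007)) (.node (.leaf 0x42474001) (.leaf 0x48f54005)))) (.node (.node (.node (.leaf 0x53524007) (.leaf 0x4d104005)) (.node (.leaf 0x5d0cc005) (.leaf 0x4d7a8007))) (.node (.node (.leaf 0x3f304005) (.leaf 0x5611c001)) (.node (.leaf 0x511a0001) (.leaf 0x0))))) (.node (.node (.node (.node (.leaf 0x4e740007) (.leaf 0x3a264007)) (.node (.leaf 0x5b084005) (.leaf 0x54a48005))) (.node (.node (.leaf 0x3dc84001) (.leaf 0x4da48001)) (.node (.leaf 0x3eafc001) (.leaf 0x0)))) (.node (.node (.node (.leaf 0x4c814007) (.leaf 0x425a4001)) (.node (.leaf 0x30034005) (.leaf 0x50cb0001))) (.node (.node (.leaf 0x4aab0001) (.leaf 0x2cd94005)) (.node (.leaf 0x2d4d4005) (.leaf 0x0))))))))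 (.node (.node (.node (.node (.node (.node (.node (.leaf 0x5a32c005) (.leaf 0x317a4005)) (.node (.leaf 0x4cc70005) (.leaf 0x3c8a8007))) (.node (.node (.leaf 0x4f7a0007) (.leaf 0x424dc001)) (.node (.leaf 0x52be4001) (.leaf 0x5de70005)))) (.node (.node (.node (.leaf 0x48368001) (.leaf 0x4d06c001)) (.node (.leaf 0x3a734001) (.leaf 0x59158001))) (.node (.node (.leaf 0x4680c001) (.leaf 0x51e20001)) (.node (.leaf 0x5d138001) (.leaf 0x0))))) (.node (.node (.node (.node (.leaf 0x53994005) (.leaf 0x5efe0001)) (.node (.leaf 0x53608001) (.leaf 0x41144001))) (.node (.node (.leaf 0x39018005) (.leaf 0x4c450005)) (.node (.leaf 0x49fd4005) (.leaf 0x5a768005)))) (.node (.node (.node (.leaf 0x3c2b4001) (.leaf 0x321bc001)) (.node (.leaf 0x5ae84007) (.leaf 0x55054001))) (.node (.node (.leaf 0x5502c007) (.leaf 0x390b4001)) (.node (.leaf 0x4ae10001) (.leaf 0x0)))))) (.node (.node (.node (.node (.node (.leaf 0x3c8d8005) (.leaf 0x66ed0001)) (.node (.leaf 0x5a38c001)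 (.leaf 0x34db4005))) (.node (.node (.leaf 0x4858c001) (.leaf 0x4dbe8001)) (.node (.leaf 0x5b478005) (.leaf 0x4cfc0001)))) (.node (.node (.node (.leaf 0x18600001) (.leaf 0x424ec001)) (.node (.leaf 0x5aad4007) (.leaf 0x4d16c001))) (.node (.node (.leaf 0x4ca7c005) (.leaf 0x54d18001)) (.node (.leaf 0x3ec1c005) (.leaf 0x0))))) (.node (.node (.node (.node (.leaf 0x48ed4005) (.leaf 0x405dc007)) (.node (.leaf 0x4b110005) (.leaf 0x550a8001))) (.node (.node (.leaf 0x42de4005) (.leaf 0x4d1f0007)) (.node (.leaf 0x3c8d8007) (.leaf 0x0)))) (.node (.node (.node (.leaf 0x245f8007) (.leaf 0x486a8007)) (.node (.leaf 0x35190001) (.leaf 0x5108c001))) (.node (.node (.leaf 0x36aa8005) (.leaf 0x5deb0001)) (.node (.leaf 0x5af80001) (.leaf 0x0))))))) (.node (.node (.node (.node (.node (.node (.leaf 0x28328001) (.leaf 0x4f040001)) (.node (.leaf 0x33a14001) (.leaf 0x3d1f4001))) (.node (.node (.leaf 0x504c0001) (.leaf 0x4ba04007)) (.node (.leaf 0x4658c005) (.leaf 0x3acbc005))))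 (.node (.node (.node (.leaf 0x4e944007) (.leaf 0x4de50007)) (.node (.leaf 0x52a74007) (.leaf 0x24308007))) (.node (.node (.leaf 0x5e0f8005) (.leaf 0x63588007)) (.node (.leaf 0x3548c007) (.leaf 0x0))))) (.node (.node (.node (.node (.leaf 0x45260007) (.leaf 0x48f9c001)) (.node (.leaf 0x57908005) (.leaf 0x50d08001))) (.node (.node (.leaf 0x29f3c001) (.leaf 0x63764007)) (.node (.leaf 0x58bf8007) (.leaf 0x50f34001)))) (.node (.node (.node (.leaf 0x57af8005) (.leaf 0x4560c005)) (.node (.leaf 0x40d80005) (.leaf 0x491c4005))) (.node (.node (.leaf 0x4277c001) (.leaf 0x60884007)) (.node (.leaf 0x597d4005) (.leaf 0x0)))))) (.node (.node (.node (.node (.node (.leaf 0x2ea48005) (.leaf 0x4d1f0005)) (.node (.leaf 0x4fb00001) (.leaf 0x37028005))) (.node (.node (.leaf 0x54188001) (.leaf 0x563c8001)) (.node (.leaf 0x51638001) (.leaf 0x45280005)))) (.node (.node (.node (.leaf 0x5af14005) (.leaf 0x48f10001)) (.node (.leaf 0x3cc24007) (.leaf 0x2cd58001))) (.node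 (.node (.leaf 0x65a5c001) (.leaf 0x4dd60001)) (.node (.leaf 0x3703c005) (.leaf 0x0))))) (.node (.node (.node (.node (.leaf 0x3a1ac005) (.leaf 0x467a8007)) (.node (.leaf 0x53540001) (.leaf 0x650a4001))) (.node (.node (.leaf 0x51098001) (.leaf 0x54f20001)) (.node (.leaf 0x5df68001) (.leaf 0x0)))) (.node (.node (.node (.leaf 0x56484007) (.leaf 0x5ba34005)) (.node (.leaf 0x57210007) (.leaf 0x38120005))) (.node (.node (.leaf 0x4eb40001) (.leaf 0x201a0005)) (.node (.leaf 0x5a830007) (.leaf 0x0))))))))) (.node (.node (.node (.node (.node (.node (.node (.node (.leaf 0x55770007) (.leaf 0x36ca8001)) (.node (.leaf 0x4a6f0001) (.leaf 0x560c0001))) (.node (.node (.leaf 0x5eea0007) (.leaf 0x55f18001)) (.node (.leaf 0x23a80001) (.leaf 0x60bbc007)))) (.node (.node (.node (.leaf 0x53794005) (.leaf 0x5e69c001)) (.node (.leaf 0x4ed48001) (.leaf 0x4cccc001))) (.node (.node (.leaf 0x3ab14001) (.leaf 0x50d50001)) (.node (.leaf 0x4dc0c005) (.leaf 0x0))))) (.node (.node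 (.node (.node (.leaf 0x5c6c4001) (.leaf 0x26da4005)) (.node (.leaf 0x4a884001) (.leaf 0x38f14005))) (.node (.node (.leaf 0x5c780001) (.leaf 0x57320007)) (.node (.leaf 0x42748001) (.leaf 0x500c4005)))) (.node (.node (.node (.leaf 0x50294001) (.leaf 0x5918c001)) (.node (.leaf 0x475e0001) (.leaf 0x505e8005))) (.node (.node (.leaf 0x3d4a8007) (.leaf 0x55870007)) (.node (.leaf 0x3ba18005) (.leaf 0x0)))))) (.node (.node (.node (.node (.node (.leaf 0x54158001) (.leaf 0x54b58005)) (.node (.leaf 0x22c3c007) (.leaf 0x44894007))) (.node (.node (.leaf 0x29758005) (.leaf 0x481ec007)) (.node (.leaf 0x3f484005) (.leaf 0x60124007)))) (.node (.node (.node (.leaf 0x4664c007) (.leaf 0x48c50005)) (.node (.leaf 0x5ea98001) (.leaf 0x60884005))) (.node (.node (.leaf 0x3e97c007) (.leaf 0x2992c005)) (.node (.leaf 0x36508007) (.leaf 0x0))))) (.node (.node (.node (.node (.leaf 0x53348007) (.leaf 0x4b984007)) (.node (.leaf 0x54f80005) (.leaf 0x40f40005))) (.node (.node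 (.leaf 0x6738c001) (.leaf 0x50908007)) (.node (.leaf 0x588dc007) (.leaf 0x3e3e4007)))) (.node (.node (.node (.leaf 0x45f48005) (.leaf 0x359ec005)) (.node (.leaf 0x2efdc007) (.leaf 0x3cebc001))) (.node (.node (.leaf 0x598ac007) (.leaf 0x4cdac005)) (.node (.leaf 0x3c708007) (.leaf 0x0))))))) (.node (.node (.node (.node (.node (.node (.leaf 0x40494001) (.leaf 0x2f204005)) (.node (.leaf 0x4b978001) (.leaf 0x53544005))) (.node (.node (.leaf 0x39b3c005) (.leaf 0x566c8001)) (.node (.leaf 0x4baa4005) (.leaf 0x5a0dc005)))) (.node (.node (.node (.leaf 0x3e6b0005) (.leaf 0x6216c007)) (.node (.leaf 0x59a78001) (.leaf 0x2cad0007))) (.node (.node (.leaf 0x4deb8005) (.leaf 0x32060001)) (.node (.leaf 0x4ddb4001) (.leaf 0x0))))) (.node (.node (.node (.node (.leaf 0x5c634001) (.leaf 0x4661c001)) (.node (.leaf 0x5fb20005) (.leaf 0x40170005))) (.node (.node (.leaf 0x4f14c001) (.leaf 0x44e74005)) (.node (.leaf 0x40b90005) (.leaf 0x41914007)))) (.node (.node (.node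 (.leaf 0x3d384007) (.leaf 0x39dd0001)) (.node (.leaf 0x3fae8001) (.leaf 0x51e9c005))) (.node (.node (.leaf 0x4035c007) (.leaf 0x3122c005)) (.node (.leaf 0x5b350005) (.leaf 0x0)))))) (.node (.node (.node (.node (.node (.leaf 0x3c774001) (.leaf 0x440b0005)) (.node (.leaf 0x521ec007) (.leaf 0x44c4c001))) (.node (.node (.leaf 0x4817c001) (.leaf 0x622d8001)) (.node (.leaf 0x5ede8005) (.leaf 0x40d7c001)))) (.node (.node (.node (.leaf 0x48740001) (.leaf 0x518e0007)) (.node (.leaf 0x67ae0007) (.leaf 0x44e08001))) (.node (.node (.leaf 0x4c89c007) (.leaf 0x5a758007)) (.node (.leaf 0x4c598005) (.leaf 0x0))))) (.node (.node (.node (.node (.leaf 0x5b058007) (.leaf 0x3df1c001)) (.node (.leaf 0x44638007) (.leaf 0x645d8007))) (.node (.node (.leaf 0x3fb18007) (.leaf 0x5aad4005)) (.node (.leaf 0x32714001) (.leaf 0x0)))) (.node (.node (.node (.leaf 0x4088c007) (.leaf 0x3d818007)) (.node (.leaf 0x48628005) (.leaf 0x38e7c001))) (.node (.node (.leaf 0x5318c001) (.leaf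 0x4dc58007)) (.node (.leaf 0x46680001) (.leaf 0x0)))))))) (.node (.node (.node (.node (.node (.node (.node (.leaf 0x5e0ec005) (.leaf 0x48cdc005)) (.node (.leaf 0x54ef0005) (.leaf 0x28c84001))) (.node (.node (.leaf 0x40a88001) (.leaf 0x5084c007)) (.node (.leaf 0x529a8001) (.leaf 0x54f68001)))) (.node (.node (.node (.leaf 0x50364001) (.leaf 0x51d70001)) (.node (.leaf 0x47580001) (.leaf 0x41960007))) (.node (.node (.leaf 0x4b534001) (.leaf 0x5e630005)) (.node (.leaf 0x1605c007) (.leaf 0x0))))) (.node (.node (.node (.node (.leaf 0x286cc001) (.leaf 0x32f90001)) (.node (.leaf 0x47038007) (.leaf 0x48878007))) (.node (.node (.leaf 0x28ad8005) (.leaf 0x414b8005)) (.node (.leaf 0x4a788005) (.leaf 0x30f38001)))) (.node (.node (.node (.leaf 0x57790007) (.leaf 0x4263c001)) (.node (.leaf 0x49b88001) (.leaf 0x34c74001))) (.node (.node (.leaf 0x47290005) (.leaf 0x55624005)) (.node (.leaf 0x5acdc001) (.leaf 0x0)))))) (.node (.node (.node (.node (.node (.leaf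 0x3c9a4001) (.leaf 0x5ed54001)) (.node (.leaf 0x51430005) (.leaf 0x58cc0001))) (.node (.node (.leaf 0x4acfc005) (.leaf 0x586a4005)) (.node (.leaf 0x4a268001) (.leaf 0x56974007)))) (.node (.node (.node (.leaf 0x4c928001) (.leaf 0x4c9a0007)) (.node (.leaf 0x5f528001) (.leaf 0x3cfd8001))) (.node (.node (.leaf 0x3a98c001) (.leaf 0x4e330001)) (.node (.leaf 0x4c984007) (.leaf 0x0))))) (.node (.node (.node (.node (.leaf 0x3f8f0007) (.leaf 0x4cf08007)) (.node (.leaf 0x4ba44001) (.leaf 0x4c5c0007))) (.node (.node (.leaf 0x1e014005) (.leaf 0x2c724005)) (.node (.leaf 0x4eb4c005) (.leaf 0x0)))) (.node (.node (.node (.leaf 0x50890007) (.leaf 0x41dc8001)) (.node (.leaf 0x52b50001) (.leaf 0x3d1e4001))) (.node (.node (.leaf 0x58fe4001) (.leaf 0x61f40001)) (.node (.leaf 0x52f30001) (.leaf 0x0))))))) (.node (.node (.node (.node (.node (.node (.leaf 0x4c974005) (.leaf 0x5aff0001)) (.node (.leaf 0x3d8d8005) (.leaf 0x5134c007))) (.node (.node (.leaf 0x4eeac005)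 (.leaf 0x4e278001)) (.node (.leaf 0x4d880001) (.leaf 0x38f50001)))) (.node (.node (.node (.leaf 0x6a2e0007) (.leaf 0x44d04005)) (.node (.leaf 0xcad4005) (.leaf 0x5de70007))) (.node (.node (.leaf 0x35a98001) (.leaf 0x41fcc001)) (.node (.leaf 0x46ce4007) (.leaf 0x0))))) (.node (.node (.node (.node (.leaf 0x41278007) (.leaf 0x5ba64005)) (.node (.leaf 0x4eac8001) (.leaf 0x211c0001))) (.node (.node (.leaf 0x4b4b8005) (.leaf 0x43b10007)) (.node (.leaf 0x20924005) (.leaf 0x406e4007)))) (.node (.node (.node (.leaf 0x4c288001) (.leaf 0x46850007)) (.node (.leaf 0x36aa8007) (.leaf 0x633a4007))) (.node (.node (.leaf 0x535f4001) (.leaf 0x4e090001)) (.node (.leaf 0x6af20001) (.leaf 0x0)))))) (.node (.node (.node (.node (.node (.leaf 0x348f8001) (.leaf 0x65608005)) (.node (.leaf 0x4b9d0001) (.leaf 0x49470005))) (.node (.node (.leaf 0x452c8007) (.leaf 0x4ef4c005)) (.node (.leaf 0x31058001) (.leaf 0x4ef4c007)))) (.node (.node (.node (.leaf 0x40548001) (.leaf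 0x406f4005)) (.node (.leaf 0x46af0001) (.leaf 0x550fc001))) (.node (.node (.leaf 0x3ca0c007) (.leaf 0x30888007)) (.node (.leaf 0x451a4001) (.leaf 0x0))))) (.node (.node (.node (.node (.leaf 0x5a62c005) (.leaf 0x3f4a8007)) (.node (.leaf 0x353e0005) (.leaf 0x4cea4001))) (.node (.node (.leaf 0x36bec007) (.leaf 0x46210005)) (.node (.leaf 0x5050c007) (.leaf 0x0)))) (.node (.node (.node (.leaf 0x2b188005) (.leaf 0x37a3c005)) (.node (.leaf 0x3a978007) (.leaf 0x31a00007))) (.node (.node (.leaf 0x529f0001) (.leaf 0x56ba4007)) (.node (.leaf 0x3ae00001) (.leaf 0x0))))))))))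

/-- packed table -/
noncomputable def cov0_lrl : BTree := (.node (.node (.node (.node (.node (.node (.node (.node (.node (.leaf 0x4d784007) (.leaf 0x369e0001)) (.node (.leaf 0x4c490005) (.leaf 0x56ba0007))) (.node (.node (.leaf 0x549e8001) (.leaf 0x519bc001)) (.node (.leaf 0x5f3e4001) (.leaf 0x492fc001)))) (.node (.node (.node (.leaf 0x4d974005) (.leaf 0x47b2c005)) (.node (.leaf 0x60de4007) (.leaf 0x53348005))) (.node (.node (.leaf 0x50da0001) (.leaf 0x45a3c007)) (.node (.leaf 0x5dc10007) (.leaf 0x0))))) (.node (.node (.node (.node (.leaf 0x5090c001) (.leaf 0x4ebf4007)) (.node (.leaf 0x45284007) (.leaf 0x4d6e0001))) (.node (.node (.leaf 0x55478007) (.leaf 0x552d8001)) (.node (.leaf 0x4b804005) (.leaf 0x3a030005)))) (.node (.node (.node (.leaf 0x4ea44005) (.leaf 0x406d8005)) (.node (.leaf 0x639e0001) (.leaf 0x4f88c005))) (.node (.node (.leaf 0x414b8007) (.leaf 0x3fa78007)) (.node (.leaf 0x466f4005) (.leaf 0x0)))))) (.node (.node (.node (.node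 (.node (.leaf 0x6003c001) (.leaf 0x3d2bc001)) (.node (.leaf 0x4d020001) (.leaf 0x458a4001))) (.node (.node (.leaf 0x4c1f8001) (.leaf 0x5a728001)) (.node (.leaf 0x41cfc007) (.leaf 0x5123c001)))) (.node (.node (.node (.leaf 0x58670001) (.leaf 0x31b44001)) (.node (.leaf 0x53430005) (.leaf 0x4d350001))) (.node (.node (.leaf 0x4f74c005) (.leaf 0x45814001)) (.node (.leaf 0x3477c007) (.leaf 0x0))))) (.node (.node (.node (.node (.leaf 0x20980001) (.leaf 0x54208007)) (.node (.leaf 0x55f70007) (.leaf 0x2d688001))) (.node (.node (.leaf 0x32b70001) (.leaf 0x25af0001)) (.node (.leaf 0x5492c005) (.leaf 0x5d040001)))) (.node (.node (.node (.leaf 0x385bc001) (.leaf 0x45a90005)) (.node (.leaf 0x461c4001) (.leaf 0x4f554005))) (.node (.node (.leaf 0x4a7e0001) (.leaf 0x36d14005)) (.node (.leaf 0x4da50001) (.leaf 0x0))))))) (.node (.node (.node (.node (.node (.node (.leaf 0x322a0007) (.leaf 0x5c4a0005)) (.node (.leaf 0x5f5f8001) (.leaf 0x54630005))) (.node (.node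 (.leaf 0x2ca70001) (.leaf 0x4f9d4005)) (.node (.leaf 0x3aaf8001) (.leaf 0x45280007)))) (.node (.node (.node (.leaf 0x4cf74005) (.leaf 0x52940001)) (.node (.leaf 0x4c950007) (.leaf 0x49270001))) (.node (.node (.leaf 0x40a24007) (.leaf 0x4ccfc005)) (.node (.leaf 0x44fe0001) (.leaf 0x0))))) (.node (.node (.node (.node (.leaf 0x48e5c007) (.leaf 0x45514001)) (.node (.leaf 0x5ac44005) (.leaf 0x56498005))) (.node (.node (.leaf 0x3f7b0005) (.leaf 0x3d4a8005)) (.node (.leaf 0x35ff4001) (.leaf 0x39a88005)))) (.node (.node (.node (.leaf 0x551cc005) (.leaf 0x51b18001)) (.node (.leaf 0x2936c005) (.leaf 0x494e4001))) (.node (.node (.leaf 0x56808005) (.leaf 0x515b4001)) (.node (.leaf 0x4688c001) (.leaf 0x0)))))) (.node (.node (.node (.node (.node (.leaf 0x5134c005) (.leaf 0x5e9dc001)) (.node (.leaf 0x4e41c001) (.leaf 0x25334001))) (.node (.node (.leaf 0x511a8007) (.leaf 0x46670007)) (.node (.leaf 0x4b468007) (.leaf 0x5e95c007)))) (.node (.node (.node (.leaf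 0x2c930001) (.leaf 0x4c9b0007)) (.node (.leaf 0x3d7c0005) (.leaf 0x5d2c0001))) (.node (.node (.leaf 0x36f6c001) (.leaf 0x52ae8005)) (.node (.leaf 0x4caec007) (.leaf 0x0))))) (.node (.node (.node (.node (.leaf 0x4f05c007) (.leaf 0x3dd3c001)) (.node (.leaf 0x41594005) (.leaf 0x4a46c005))) (.node (.node (.leaf 0x4b5ec001) (.leaf 0x594d8001)) (.node (.leaf 0x476e4005) (.leaf 0x0)))) (.node (.node (.node (.leaf 0x448c8007) (.leaf 0x46a84001)) (.node (.leaf 0x30038005) (.leaf 0x3d744001))) (.node (.node (.leaf 0x60230007) (.leaf 0x40f40007)) (.node (.leaf 0x455bc001) (.leaf 0x0)))))))) (.node (.node (.node (.node (.node (.node (.node (.leaf 0x4626c005) (.leaf 0x5aca0001)) (.node (.leaf 0x3d998007) (.leaf 0x43730007))) (.node (.node (.leaf 0x5a9d0007) (.leaf 0x55f70005)) (.node (.leaf 0x467a8005) (.leaf 0x612c4001)))) (.node (.node (.node (.leaf 0x4ea44007) (.leaf 0x51958001)) (.node (.leaf 0x4d58c007) (.leaf 0x49fb0005))) (.node (.node (.leaf 0x47a94001)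 (.leaf 0x51148005)) (.node (.leaf 0x48c50007) (.leaf 0x0))))) (.node (.node (.node (.node (.leaf 0x67724007) (.leaf 0x5e7d0001)) (.node (.leaf 0x582f8005) (.leaf 0x471bc001))) (.node (.node (.leaf 0x50790001) (.leaf 0x2994c001)) (.node (.leaf 0x48b64005) (.leaf 0x61294001)))) (.node (.node (.node (.leaf 0x5b084007) (.leaf 0x612a8007)) (.node (.leaf 0x65418005) (.leaf 0x2924c001))) (.node (.node (.leaf 0x4e9c4007) (.leaf 0x45fa4001)) (.node (.leaf 0x2596c001) (.leaf 0x0)))))) (.node (.node (.node (.node (.node (.leaf 0x5d034007) (.leaf 0x4a2b0007)) (.node (.leaf 0x4e990001) (.leaf 0x622fc007))) (.node (.node (.leaf 0x38574001) (.leaf 0x56e54007)) (.node (.leaf 0x451ac001) (.leaf 0x495ac001)))) (.node (.node (.node (.leaf 0x3fa78005) (.leaf 0x5d414005)) (.node (.leaf 0x52bac005) (.leaf 0x48878005))) (.node (.node (.leaf 0x495f0005) (.leaf 0x49948005)) (.node (.leaf 0x39860001) (.leaf 0x0))))) (.node (.node (.node (.node (.leaf 0x34454001) (.leaf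 0x3a978005)) (.node (.leaf 0x526a8001) (.leaf 0x4d8b0001))) (.node (.node (.leaf 0x51eac001) (.leaf 0x60944007)) (.node (.leaf 0x508e4007) (.leaf 0x3c7c0007)))) (.node (.node (.node (.leaf 0x301d0001) (.leaf 0x3d13c007)) (.node (.leaf 0x4f558005) (.leaf 0x47b28005))) (.node (.node (.leaf 0x633ec001) (.leaf 0x4549c001)) (.node (.leaf 0x4273c001) (.leaf 0x0))))))) (.node (.node (.node (.node (.node (.node (.leaf 0x60340001) (.leaf 0x36710001)) (.node (.leaf 0x55ba0005) (.leaf 0x3a0c8007))) (.node (.node (.leaf 0x404b0001) (.leaf 0x56af4007)) (.node (.leaf 0x65738005) (.leaf 0x4abd4007)))) (.node (.node (.node (.leaf 0x506d4007) (.leaf 0x5bb14005)) (.node (.leaf 0x5b3a8001) (.leaf 0x2d5a8001))) (.node (.node (.leaf 0x4d230005) (.leaf 0x2ab18005)) (.node (.leaf 0x567d4001) (.leaf 0x0))))) (.node (.node (.node (.node (.leaf 0x4c814005) (.leaf 0x69bc4007)) (.node (.leaf 0x41d10001) (.leaf 0x292d4001))) (.node (.node (.leaf 0x34f00007) (.leaf 0x4a310007))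 (.node (.leaf 0x61bd8001) (.leaf 0x492a0007)))) (.node (.node (.node (.leaf 0x4821c001) (.leaf 0x50fc4007)) (.node (.leaf 0x56688007) (.leaf 0x53354007))) (.node (.node (.leaf 0x34354007) (.leaf 0x4a1b4001)) (.node (.leaf 0x454a4001) (.leaf 0x0)))))) (.node (.node (.node (.node (.node (.leaf 0x28750001) (.leaf 0x27618007)) (.node (.leaf 0x5b690007) (.leaf 0x4167c001))) (.node (.node (.leaf 0x4ed0c007) (.leaf 0x5e8a8001)) (.node (.leaf 0x5e4a8001) (.leaf 0x3d274001)))) (.node (.node (.node (.leaf 0x4872c001) (.leaf 0x1a3e8005)) (.node (.leaf 0x45ab0001) (.leaf 0x60024007))) (.node (.node (.leaf 0x479b4005) (.leaf 0x486a8005)) (.node (.leaf 0x3d714007) (.leaf 0x0))))) (.node (.node (.node (.node (.leaf 0x48728005) (.leaf 0x51824005)) (.node (.leaf 0x5aaec001) (.leaf 0x5b744007))) (.node (.node (.leaf 0x626fc007) (.leaf 0x5d658005)) (.node (.leaf 0x56b30001) (.leaf 0x0)))) (.node (.node (.node (.leaf 0x53508005) (.leaf 0x223c0005)) (.node (.leaf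 0x3e8e4001) (.leaf 0x3951c001))) (.node (.node (.leaf 0x2dca8007) (.leaf 0x61c4c007)) (.node (.leaf 0x39ce4001) (.leaf 0x0))))))))) (.node (.node (.node (.node (.node (.node (.node (.node (.leaf 0x417a0007) (.leaf 0x40614005)) (.node (.leaf 0x4316c001) (.leaf 0x3150c001))) (.node (.node (.leaf 0x509e4001) (.leaf 0x54b10005)) (.node (.leaf 0x467b4005) (.leaf 0x5d0cc007)))) (.node (.node (.node (.leaf 0x55cb8005) (.leaf 0x4aa5c001)) (.node (.leaf 0x58f18005) (.leaf 0x5d8e8001))) (.node (.node (.leaf 0x61c4c005) (.leaf 0x3d13c005)) (.node (.leaf 0x4dc0c007) (.leaf 0x0))))) (.node (.node (.node (.node (.leaf 0x3185c007) (.leaf 0x21a38005)) (.node (.leaf 0x5c4a0007) (.leaf 0x457b4005))) (.node (.node (.leaf 0x5b350007) (.leaf 0x46790007)) (.node (.leaf 0x590c8001) (.leaf 0x4f338005)))) (.node (.node (.node (.leaf 0x442a4001) (.leaf 0x4d954001)) (.node (.leaf 0x55838005) (.leaf 0x41588001))) (.node (.node (.leaf 0x5b36c001) (.leaf 0x4f554007)) (.node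 (.leaf 0x48e80005) (.leaf 0x0)))))) (.node (.node (.node (.node (.node (.leaf 0x60070001) (.leaf 0x54b48005)) (.node (.leaf 0x40170007) (.leaf 0x31374001))) (.node (.node (.leaf 0x49a68005) (.leaf 0x36e68007)) (.node (.leaf 0x46ce4005) (.leaf 0x4d290007)))) (.node (.node (.node (.leaf 0x37a70005) (.leaf 0x5354c007)) (.node (.leaf 0x58c0c007) (.leaf 0x5927c007))) (.node (.node (.leaf 0x481e4005) (.leaf 0x3ddfc001)) (.node (.leaf 0x3e51c007) (.leaf 0x0))))) (.node (.node (.node (.node (.leaf 0x24a94005) (.leaf 0x39a14001)) (.node (.leaf 0x52dd0005) (.leaf 0x4d728001))) (.node (.node (.leaf 0x5683c001) (.leaf 0x36cb8007)) (.node (.leaf 0x3c8e0007) (.leaf 0x40ea8001)))) (.node (.node (.node (.leaf 0x445cc001) (.leaf 0x559dc005)) (.node (.leaf 0x48ee4005) (.leaf 0x49300001))) (.node (.node (.leaf 0x55614007) (.leaf 0x59884001)) (.node (.leaf 0x4d58c005) (.leaf 0x0))))))) (.node (.node (.node (.node (.node (.node (.leaf 0x4656c007) (.leaf 0x6154c001))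 (.node (.leaf 0x510a0007) (.leaf 0x40614007))) (.node (.node (.leaf 0x38a6c001) (.leaf 0x5a0dc007)) (.node (.leaf 0x5026c005) (.leaf 0x46de0005)))) (.node (.node (.node (.leaf 0x5808c001) (.leaf 0x5b1c4005)) (.node (.leaf 0x3b640001) (.leaf 0x3975c001))) (.node (.node (.leaf 0x55568005) (.leaf 0x32138005)) (.node (.leaf 0x2ab00001) (.leaf 0x0))))) (.node (.node (.node (.node (.leaf 0x5464c001) (.leaf 0x59178007)) (.node (.leaf 0x5e4c8001) (.leaf 0x30e84007))) (.node (.node (.leaf 0x4c490007) (.leaf 0x31c6c001)) (.node (.leaf 0x47ae4005) (.leaf 0x59894007)))) (.node (.node (.node (.leaf 0x4423c001) (.leaf 0x4c7e4007)) (.node (.leaf 0x4186c005) (.leaf 0x547d8007))) (.node (.node (.leaf 0x3f8f0005) (.leaf 0x622dc001)) (.node (.leaf 0x41b60001) (.leaf 0x0)))))) (.node (.node (.node (.node (.node (.leaf 0x43158005) (.leaf 0x5b610007)) (.node (.leaf 0x4d9b8001) (.leaf 0x5d1e8005))) (.node (.node (.leaf 0x4f2cc007) (.leaf 0x4cd1c005)) (.node (.leaf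 0x19ff8001) (.leaf 0x4d2e4001)))) (.node (.node (.node (.leaf 0x48730001) (.leaf 0x3a7f0001)) (.node (.leaf 0x281c4005) (.leaf 0x3d7c0007))) (.node (.node (.leaf 0x4a824005) (.leaf 0x56434005)) (.node (.leaf 0x61530007) (.leaf 0x0))))) (.node (.node (.node (.node (.leaf 0x4cb0c007) (.leaf 0x13258005)) (.node (.leaf 0x40650007) (.leaf 0x5615c007))) (.node (.node (.leaf 0x474ac001) (.leaf 0x51560007)) (.node (.leaf 0x57aa0007) (.leaf 0x0)))) (.node (.node (.node (.leaf 0x4c940007) (.leaf 0x41c8c001)) (.node (.leaf 0x4aac0001) (.leaf 0x54424007))) (.node (.node (.leaf 0x3959c007) (.leaf 0x272f0005)) (.node (.leaf 0x446a0007) (.leaf 0x0)))))))) (.node (.node (.node (.node (.node (.node (.node (.leaf 0x4de4c005) (.leaf 0x1605c005)) (.node (.leaf 0x51980007) (.leaf 0x57ad0007))) (.node (.node (.leaf 0x2c7f0001) (.leaf 0x30868007)) (.node (.leaf 0x4f960007) (.leaf 0x5f310007)))) (.node (.node (.node (.leaf 0x2ea48007) (.leaf 0x6941c001)) (.node (.leaf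 0x51188007) (.leaf 0x45538001))) (.node (.node (.leaf 0x4aab8001) (.leaf 0x318f4001)) (.node (.leaf 0x42fb4005) (.leaf 0x0))))) (.node (.node (.node (.node (.leaf 0x51df4005) (.leaf 0x47250007)) (.node (.leaf 0x5af38007) (.leaf 0x3a264005))) (.node (.node (.leaf 0x577ac005) (.leaf 0x45340001)) (.node (.leaf 0x467a4001) (.leaf 0x5a758005)))) (.node (.node (.node (.leaf 0x6c520001) (.leaf 0x50d38007)) (.node (.leaf 0x2a1c8001) (.leaf 0x496cc001))) (.node (.node (.leaf 0x36cb0005) (.leaf 0x31dbc001)) (.node (.leaf 0x3e4e8005) (.leaf 0x0)))))) (.node (.node (.node (.node (.node (.leaf 0x4b110007) (.leaf 0x6aed8001)) (.node (.leaf 0x1f5e8007) (.leaf 0x281c4007))) (.node (.node (.leaf 0x521ec005) (.leaf 0x628a4001)) (.node (.leaf 0x54ef0007) (.leaf 0x5553c001)))) (.node (.node (.node (.leaf 0x4a5d8005) (.leaf 0x55bf0001)) (.node (.leaf 0x52888001) (.leaf 0x5d550001))) (.node (.node (.leaf 0x5b7b8007) (.leaf 0x5ad50007)) (.node (.leaf 0x3a000007) (.leaf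 0x0))))) (.node (.node (.node (.node (.leaf 0x44ed0005) (.leaf 0x56890001)) (.node (.leaf 0x41cd4001) (.leaf 0x4deb8007))) (.node (.node (.leaf 0x4e114007) (.leaf 0x41930001)) (.node (.leaf 0x45e98005) (.leaf 0x0)))) (.node (.node (.node (.leaf 0x441d4001) (.leaf 0x55834001)) (.node (.leaf 0x539a4001) (.leaf 0x52ee4005))) (.node (.node (.leaf 0x53994007) (.leaf 0x539f8005)) (.node (.leaf 0x59178005) (.leaf 0x0))))))) (.node (.node (.node (.node (.node (.node (.leaf 0x48978007) (.leaf 0x69ac0001)) (.node (.leaf 0x6b974001) (.leaf 0x4f668007))) (.node (.node (.leaf 0x36650005) (.leaf 0x46bdc007)) (.node (.leaf 0x58130005) (.leaf 0x5168c001)))) (.node (.node (.node (.leaf 0x36e68005) (.leaf 0x3a730001)) (.node (.leaf 0x45c68001) (.leaf 0x3f234001))) (.node (.node (.leaf 0x41ec0007) (.leaf 0x47b28007)) (.node (.leaf 0x46118001) (.leaf 0x0))))) (.node (.node (.node (.node (.leaf 0x19244007) (.leaf 0x52e8c001)) (.node (.leaf 0x495c8005) (.leaf 0x696f8001)))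 (.node (.node (.leaf 0x40a34007) (.leaf 0x4d19c001)) (.node (.leaf 0x6b3ac005) (.leaf 0x39aa0007)))) (.node (.node (.node (.leaf 0x58298007) (.leaf 0x55b48001)) (.node (.leaf 0x470c0005) (.leaf 0x47ae4007))) (.node (.node (.leaf 0x4ad4c001) (.leaf 0x5e158001)) (.node (.leaf 0x5ae84005) (.leaf 0x0)))))) (.node (.node (.node (.node (.node (.leaf 0x360c4005) (.leaf 0x5492c007)) (.node (.leaf 0x59b08001) (.leaf 0x394f4001))) (.node (.node (.leaf 0x51220007) (.leaf 0x3300c005)) (.node (.leaf 0x4cbb4007) (.leaf 0x63568007)))) (.node (.node (.node (.leaf 0x4c558001) (.leaf 0x4750c005)) (.node (.leaf 0x55b64005) (.leaf 0x19858001))) (.node (.node (.leaf 0x51220005) (.leaf 0x59d64001)) (.node (.leaf 0x2c270007) (.leaf 0x0))))) (.node (.node (.node (.node (.leaf 0x566b4007) (.leaf 0x15a34001)) (.node (.leaf 0x62764001) (.leaf 0x543e4005))) (.node (.node (.leaf 0x5e048007) (.leaf 0x40b90007)) (.node (.leaf 0x48510007) (.leaf 0x0)))) (.node (.node (.node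 (.leaf 0x4aa68005) (.leaf 0x580e0007)) (.node (.leaf 0x51fb4001) (.leaf 0x51748001))) (.node (.node (.leaf 0x539f0001) (.leaf 0x55544001)) (.node (.leaf 0x571d4005) (.leaf 0x0))))))))))

/-- packed table -/
noncomputable def cov0_lrr : BTree := (.node (.node (.node (.node (.node (.node (.node (.node (.node (.leaf 0x58384001) (.leaf 0x4ea1c005)) (.node (.leaf 0x377f0001) (.leaf 0x3df04001))) (.node (.node (.leaf 0x489f8001) (.leaf 0x56874001)) (.node (.leaf 0x3ae04001) (.leaf 0x47738001)))) (.node (.node (.node (.leaf 0x5c3fc001) (.leaf 0x26da4007)) (.node (.leaf 0x62918001) (.leaf 0x5d760007))) (.node (.node (.leaf 0x52c58007) (.leaf 0x492b8001)) (.node (.leaf 0x49c20005) (.leaf 0x0))))) (.node (.node (.node (.node (.leaf 0x30904001) (.leaf 0x45a30005)) (.node (.leaf 0x4356c005) (.leaf 0x457bc005))) (.node (.node (.leaf 0x2a240005) (.leaf 0x434dc007)) (.node (.leaf 0x52208001) (.leaf 0x35060001)))) (.node (.node (.node (.leaf 0x2f070007) (.leaf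 0x406e4005)) (.node (.leaf 0x5f3c4001) (.leaf 0x21168001))) (.node (.node (.leaf 0x3fab4001) (.leaf 0x37128005)) (.node (.leaf 0x41b5c001) (.leaf 0x0)))))) (.node (.node (.node (.node (.node (.leaf 0x50068001) (.leaf 0x42de4007)) (.node (.leaf 0x58130007) (.leaf 0x39750005))) (.node (.node (.leaf 0x54204001) (.leaf 0x5f3b8005)) (.node (.leaf 0x4dcf4007) (.leaf 0x4cd48001)))) (.node (.node (.node (.leaf 0x4dbf4005) (.leaf 0x49d44005)) (.node (.leaf 0x40650005) (.leaf 0x4a5d8007))) (.node (.node (.leaf 0x52660005) (.leaf 0x52ef0007)) (.node (.leaf 0x35a6c005) (.leaf 0x0))))) (.node (.node (.node (.node (.leaf 0x37404005) (.leaf 0x47620005)) (.node (.leaf 0x405c4007) (.leaf 0x5f2d8001))) (.node (.node (.leaf 0x4dc18001) (.leaf 0x25198001)) (.node (.leaf 0x4c950005) (.leaf 0x38bec001)))) (.node (.node (.node (.leaf 0x4984c005) (.leaf 0x31d38001)) (.node (.leaf 0x42d00007) (.leaf 0x5f878001))) (.node (.node (.leaf 0x57938001) (.leaf 0x61ed4001))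 (.node (.leaf 0x50e78005) (.leaf 0x0))))))) (.node (.node (.node (.node (.node (.node (.leaf 0x5e1e0007) (.leaf 0x38498005)) (.node (.leaf 0x4d0b0007) (.leaf 0x45e18005))) (.node (.node (.leaf 0x53544007) (.leaf 0x51d34001)) (.node (.leaf 0x55a40001) (.leaf 0x5eddc005)))) (.node (.node (.node (.leaf 0x34084001) (.leaf 0x513b4001)) (.node (.leaf 0x5b058005) (.leaf 0x19244005))) (.node (.node (.leaf 0x3f2f4007) (.leaf 0x46790005)) (.node (.leaf 0x582f4007) (.leaf 0x0))))) (.node (.node (.node (.node (.leaf 0x54644001) (.leaf 0x41174007)) (.node (.leaf 0x660a8005) (.leaf 0x54e94007))) (.node (.node (.leaf 0x39024005) (.leaf 0x594c0005)) (.node (.leaf 0x334c8007) (.leaf 0x55bb4005)))) (.node (.node (.node (.leaf 0x45f54007) (.leaf 0x568e0001)) (.node (.leaf 0x4c7e4005) (.leaf 0x63718005))) (.node (.node (.leaf 0x3de40005) (.leaf 0x45604007)) (.node (.leaf 0x418fc001) (.leaf 0x0)))))) (.node (.node (.node (.node (.node (.leaf 0x509a8001) (.leaf 0x52450005))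 (.node (.leaf 0x20960005) (.leaf 0x3ba1c007))) (.node (.node (.leaf 0x491c4007) (.leaf 0x62678007)) (.node (.leaf 0x39710001) (.leaf 0x5cffc001)))) (.node (.node (.node (.leaf 0x48938001) (.leaf 0x4da70001)) (.node (.leaf 0x3fa88001) (.leaf 0x457b4007))) (.node (.node (.leaf 0x5772c001) (.leaf 0x4a258007)) (.node (.leaf 0x4a788007) (.leaf 0x0))))) (.node (.node (.node (.node (.leaf 0x55e94005) (.leaf 0x4a288007)) (.node (.leaf 0x48628007) (.leaf 0x57750005))) (.node (.node (.leaf 0x49f88007) (.leaf 0x5999c001)) (.node (.leaf 0x598ac005) (.leaf 0x0)))) (.node (.node (.node (.leaf 0x58298005) (.leaf 0x46ae4005)) (.node (.leaf 0x60024005) (.leaf 0x536b4001))) (.node (.node (.leaf 0x566bc005) (.leaf 0x33308005)) (.node (.leaf 0xcad4007) (.leaf 0x0)))))))) (.node (.node (.node (.node (.node (.node (.node (.leaf 0x500f0001) (.leaf 0x317a4007)) (.node (.leaf 0x2f458005) (.leaf 0x56204001))) (.node (.node (.leaf 0x547c8001) (.leaf 0x46480005)) (.node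 (.leaf 0x16e34005) (.leaf 0x49e88005)))) (.node (.node (.node (.leaf 0x38bf4007) (.leaf 0x5aa30001)) (.node (.leaf 0x4df10005) (.leaf 0x2b4d0001))) (.node (.node (.leaf 0x5b390001) (.leaf 0x4de14001)) (.node (.leaf 0x4a988001) (.leaf 0x0))))) (.node (.node (.node (.node (.leaf 0x55de0005) (.leaf 0x454dc001)) (.node (.leaf 0x4b8a8001) (.leaf 0xf49c001))) (.node (.node (.leaf 0x40d80007) (.leaf 0x5e7e8001)) (.node (.leaf 0x46724005) (.leaf 0x56dc0007)))) (.node (.node (.node (.leaf 0x4701c007) (.leaf 0x3db7c001)) (.node (.leaf 0x595e8001) (.leaf 0x63778001))) (.node (.node (.leaf 0x4e184007) (.leaf 0x45dac001)) (.node (.leaf 0x4a7cc001) (.leaf 0x0)))))) (.node (.node (.node (.node (.node (.leaf 0x52ef0005) (.leaf 0x5b39c005)) (.node (.leaf 0x55250005) (.leaf 0x3f3e0001))) (.node (.node (.leaf 0x5c59c001) (.leaf 0x59b38001)) (.node (.leaf 0x4f488005) (.leaf 0x55850005)))) (.node (.node (.node (.leaf 0x4adec007) (.leaf 0x56484005)) (.node (.leaf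 0x3ab9c005) (.leaf 0x48d20001))) (.node (.node (.leaf 0x28ad8007) (.leaf 0x5ad60005)) (.node (.leaf 0x4e5d0007) (.leaf 0x0))))) (.node (.node (.node (.node (.leaf 0x50ee0005) (.leaf 0x448a0005)) (.node (.leaf 0x4d680007) (.leaf 0x51e9c007))) (.node (.node (.leaf 0x5105c001) (.leaf 0x558c0001)) (.node (.leaf 0x3e3a4005) (.leaf 0x0)))) (.node (.node (.node (.leaf 0x301b8001) (.leaf 0x56994001)) (.node (.leaf 0x267c8001) (.leaf 0x63694001))) (.node (.node (.leaf 0x2b66c005) (.leaf 0x51ea4001)) (.node (.leaf 0x4d5f4001) (.leaf 0x0))))))) (.node (.node (.node (.node (.node (.node (.leaf 0x38318001) (.leaf 0x55394001)) (.node (.leaf 0x53918007) (.leaf 0x374fc001))) (.node (.node (.leaf 0x384d8001) (.leaf 0x4a938001)) (.node (.leaf 0x3bac4001) (.leaf 0x5d1c8001)))) (.node (.node (.node (.leaf 0x34b08007) (.leaf 0x45e64007)) (.node (.leaf 0x57444005) (.leaf 0x471c8005))) (.node (.node (.leaf 0x53950007) (.leaf 0x43730005)) (.node (.leaf 0x3d558001)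 (.leaf 0x0))))) (.node (.node (.node (.node (.leaf 0x54968001) (.leaf 0x5c500005)) (.node (.leaf 0x51df4007) (.leaf 0x5a354007))) (.node (.node (.leaf 0x277ec001) (.leaf 0x3b1e4007)) (.node (.leaf 0x62894001) (.leaf 0x47628005)))) (.node (.node (.node (.leaf 0x3c274001) (.leaf 0x3959c005)) (.node (.leaf 0x4da08001) (.leaf 0x3f678001))) (.node (.node (.leaf 0x4f0fc005) (.leaf 0x65ac8007)) (.node (.leaf 0x6dbcc001) (.leaf 0x0)))))) (.node (.node (.node (.node (.node (.leaf 0x2c764001) (.leaf 0x4d784005)) (.node (.leaf 0x66b48001) (.leaf 0x43400001))) (.node (.node (.leaf 0x479b0007) (.leaf 0x5b650005)) (.node (.leaf 0x4abc0001) (.leaf 0x551b0001)))) (.node (.node (.node (.leaf 0x6070c001) (.leaf 0x468dc001)) (.node (.leaf 0x4a8e8001) (.leaf 0x462a4007))) (.node (.node (.leaf 0x4f28c001) (.leaf 0x6dd54001)) (.node (.leaf 0x47710005) (.leaf 0x0))))) (.node (.node (.node (.node (.leaf 0x4c3c0001) (.leaf 0x55454001)) (.node (.leaf 0x5d3c8007) (.leaf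 0x48768007))) (.node (.node (.leaf 0x5a7ac001) (.leaf 0x49f88005)) (.node (.leaf 0x5c508007) (.leaf 0x0)))) (.node (.node (.node (.leaf 0x50850001) (.leaf 0x4ba40005)) (.node (.leaf 0x554d0001) (.leaf 0x4c0f8005))) (.node (.node (.leaf 0x3acf8005) (.leaf 0x67420005)) (.node (.leaf 0x37028007) (.leaf 0x0))))))))) (.node (.node (.node (.node (.node (.node (.node (.node (.leaf 0x2c3a4001) (.leaf 0x4af48007)) (.node (.leaf 0x5b970001) (.leaf 0x420b4001))) (.node (.node (.leaf 0x4c7e8001) (.leaf 0x36270005)) (.node (.leaf 0x52914001) (.leaf 0x62460005)))) (.node (.node (.node (.leaf 0x3efac005) (.leaf 0x4e244005)) (.node (.leaf 0x50e78007) (.leaf 0x43334001))) (.node (.node (.leaf 0x4d934007) (.leaf 0x4f2bc007)) (.node (.leaf 0x50c5c007) (.leaf 0x0))))) (.node (.node (.node (.node (.leaf 0x63718007) (.leaf 0x5ad90005)) (.node (.leaf 0x474c4001) (.leaf 0x53500001))) (.node (.node (.leaf 0x447b0001) (.leaf 0x57ad4007)) (.node (.leaf 0x1e5c8001) (.leaf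 0x44c7c001)))) (.node (.node (.node (.leaf 0x402ac001) (.leaf 0x538c4005)) (.node (.leaf 0x4cf7c005) (.leaf 0x245f8005))) (.node (.node (.leaf 0x4efcc001) (.leaf 0x55850007)) (.node (.leaf 0x3c324005) (.leaf 0x0)))))) (.node (.node (.node (.node (.node (.leaf 0x40150001) (.leaf 0x2ed94001)) (.node (.leaf 0x5ac44007) (.leaf 0x4cee8005))) (.node (.node (.leaf 0x450d4005) (.leaf 0x46770007)) (.node (.leaf 0x3ad3c007) (.leaf 0x500fc007)))) (.node (.node (.node (.leaf 0x30888005) (.leaf 0x4dd40001)) (.node (.leaf 0x41278005) (.leaf 0x50890005))) (.node (.node (.leaf 0x4e750001) (.leaf 0x49e74007)) (.node (.leaf 0x2e524007) (.leaf 0x0))))) (.node (.node (.node (.node (.leaf 0x533fc005) (.leaf 0x52950005)) (.node (.leaf 0x5b288001) (.leaf 0x4b4d8001))) (.node (.node (.leaf 0x516ac001) (.leaf 0x59968001)) (.node (.leaf 0x548d0007) (.leaf 0x45004001)))) (.node (.node (.node (.leaf 0x38d88005) (.leaf 0x4b804007)) (.node (.leaf 0x62b54001) (.leaf 0x42108005)))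 (.node (.node (.leaf 0x2cad0005) (.leaf 0x55f64001)) (.node (.leaf 0x5db98001) (.leaf 0x0))))))) (.node (.node (.node (.node (.node (.node (.leaf 0x54338001) (.leaf 0x3d938001)) (.node (.leaf 0x4ac8c001) (.leaf 0x5e908007))) (.node (.node (.leaf 0x2c1c8007) (.leaf 0x5e0f8007)) (.node (.leaf 0x596c8001) (.leaf 0x4ef3c005)))) (.node (.node (.node (.leaf 0x1e91c007) (.leaf 0x5e7c0001)) (.node (.leaf 0x3fa08001) (.leaf 0x47414001))) (.node (.node (.leaf 0x54424005) (.leaf 0x32054001)) (.node (.leaf 0x51b24001) (.leaf 0x0))))) (.node (.node (.node (.node (.leaf 0x448c8005) (.leaf 0x4ed38001)) (.node (.leaf 0x467b4007) (.leaf 0x5d150007))) (.node (.node (.leaf 0x5a4ac001) (.leaf 0x4425c005)) (.node (.leaf 0x6851c005) (.leaf 0x50210005)))) (.node (.node (.node (.leaf 0x4eec8007) (.leaf 0x41b50001)) (.node (.leaf 0x628b8001) (.leaf 0x49ec8005))) (.node (.node (.leaf 0x44360007) (.leaf 0x58918007)) (.node (.leaf 0x4a85c001) (.leaf 0x0)))))) (.node (.node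 (.node (.node (.node (.leaf 0x2d9fc007) (.leaf 0x381f0007)) (.node (.leaf 0x52c7c007) (.leaf 0x37460001))) (.node (.node (.leaf 0x1937c007) (.leaf 0x3b0e4007)) (.node (.leaf 0x4ad08007) (.leaf 0x4cf4c001)))) (.node (.node (.node (.leaf 0x28710001) (.leaf 0x4d420001)) (.node (.leaf 0x22b20001) (.leaf 0x54c6c001))) (.node (.node (.leaf 0x6392c001) (.leaf 0x3cf2c005)) (.node (.leaf 0x39c78001) (.leaf 0x0))))) (.node (.node (.node (.node (.leaf 0x2ab08007) (.leaf 0x5a7bc007)) (.node (.leaf 0x2f070005) (.leaf 0x5b3d4001))) (.node (.node (.leaf 0x654ac005) (.leaf 0x5d248001)) (.node (.leaf 0x1e4cc001) (.leaf 0x0)))) (.node (.node (.node (.leaf 0x38760007) (.leaf 0x4e754001)) (.node (.leaf 0x3e328005) (.leaf 0x577f8001))) (.node (.node (.leaf 0x466b8005) (.leaf 0x51c40007)) (.node (.leaf 0x47438007) (.leaf 0x0)))))))) (.node (.node (.node (.node (.node (.node (.node (.leaf 0x223c0007) (.leaf 0x29854001)) (.node (.leaf 0x23454005) (.leaf 0x4f480001)))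 (.node (.node (.leaf 0x44a58001) (.leaf 0x54074005)) (.node (.leaf 0x57408001) (.leaf 0x5a6f8007)))) (.node (.node (.node (.leaf 0x416b0005) (.leaf 0x2b188007)) (.node (.leaf 0x5195c001) (.leaf 0x57358001))) (.node (.node (.leaf 0x3e6e4007) (.leaf 0x51d88001)) (.node (.leaf 0x344d4007) (.leaf 0x0))))) (.node (.node (.node (.node (.leaf 0x62188007) (.leaf 0x49630007)) (.node (.leaf 0x3f944001) (.leaf 0x46ae4007))) (.node (.node (.leaf 0x44d4c007) (.leaf 0x5db34001)) (.node (.leaf 0x55da0007) (.leaf 0x38ec8001)))) (.node (.node (.node (.leaf 0x50518001) (.leaf 0x5d534001)) (.node (.leaf 0x41594007) (.leaf 0x39434005))) (.node (.node (.leaf 0x4f6d0001) (.leaf 0x4876c007)) (.node (.leaf 0x5db94001) (.leaf 0x0)))))) (.node (.node (.node (.node (.node (.leaf 0x52dd0007) (.leaf 0x51184005)) (.node (.leaf 0x57ab8001) (.leaf 0x436d8007))) (.node (.node (.leaf 0x442f0001) (.leaf 0x365d4001)) (.node (.leaf 0x5f450007) (.leaf 0x46964007)))) (.node (.node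 (.node (.leaf 0x5927c005) (.leaf 0x549c0007)) (.node (.leaf 0x56ba4005) (.leaf 0x650bc001))) (.node (.node (.leaf 0x34758007) (.leaf 0x4cf08005)) (.node (.leaf 0x4d704001) (.leaf 0x0))))) (.node (.node (.node (.node (.leaf 0x3ceac005) (.leaf 0x4d584001)) (.node (.leaf 0x56a34001) (.leaf 0x46cf0005))) (.node (.node (.leaf 0x56e88007) (.leaf 0x58c64001)) (.node (.leaf 0x3e9b4001) (.leaf 0x0)))) (.node (.node (.node (.leaf 0x181bc001) (.leaf 0x3ec34005)) (.node (.leaf 0x44020005) (.leaf 0x5d414007))) (.node (.node (.leaf 0x4b1ac001) (.leaf 0x4df34001)) (.node (.leaf 0x5094c007) (.leaf 0x0))))))) (.node (.node (.node (.node (.node (.node (.leaf 0x48044001) (.leaf 0x5a860001)) (.node (.leaf 0x518e0005) (.leaf 0x50300007))) (.node (.node (.leaf 0x3122c007) (.leaf 0x59ad4001)) (.node (.leaf 0x46254005) (.leaf 0x5e458005)))) (.node (.node (.node (.leaf 0x48658001) (.leaf 0x4de58007)) (.node (.leaf 0x51d84005) (.leaf 0x5f170007))) (.node (.node (.leaf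 0x5ba58001) (.leaf 0x35fe4001)) (.node (.leaf 0x20fa4001) (.leaf 0x0))))) (.node (.node (.node (.node (.leaf 0x54988001) (.leaf 0x417a0005)) (.node (.leaf 0x3ce8c007) (.leaf 0x4f3d8001))) (.node (.node (.leaf 0x34354005) (.leaf 0x37404007)) (.node (.leaf 0x462f8001) (.leaf 0x5112c001)))) (.node (.node (.node (.leaf 0x5e604007) (.leaf 0x567ec001)) (.node (.leaf 0x67758005) (.leaf 0x6b7d4001))) (.node (.node (.leaf 0x52378005) (.leaf 0x4f02c007)) (.node (.leaf 0x4f700005) (.leaf 0x0)))))) (.node (.node (.node (.node (.node (.leaf 0x492a0005) (.leaf 0x5ab3c007)) (.node (.leaf 0x52720001) (.leaf 0x44138005))) (.node (.node (.leaf 0x479b4007) (.leaf 0x5c284005)) (.node (.leaf 0x4e7d8001) (.leaf 0x4d1b4001)))) (.node (.node (.node (.leaf 0x20560001) (.leaf 0x57af8007)) (.node (.leaf 0x635bc001) (.leaf 0x5adcc007))) (.node (.node (.leaf 0x43b40001) (.leaf 0x17a84007)) (.node (.leaf 0x48e5c005) (.leaf 0x0))))) (.node (.node (.node (.node (.leaf 0x4c3e0001)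 (.leaf 0x2c270005)) (.node (.leaf 0x5b91c001) (.leaf 0x3c324007))) (.node (.node (.leaf 0x55edc001) (.leaf 0x21a38007)) (.node (.leaf 0x61590001) (.leaf 0x0)))) (.node (.node (.node (.leaf 0x577ac007) (.leaf 0x4ba38005)) (.node (.leaf 0x44afc005) (.leaf 0x519f8007))) (.node (.node (.leaf 0x3b490001) (.leaf 0x4d55c005)) (.node (.leaf 0x1709c007) (.leaf 0x0))))))))))

/-- packed table -/
noncomputable def cov0_rll : BTree := (.node (.node (.node (.node (.node (.node (.node (.node (.node (.leaf 0x50390001) (.leaf 0x278ec007)) (.node (.leaf 0x40e14005) (.leaf 0x5a0f4001))) (.node (.node (.leaf 0x58a08001) (.leaf 0x55984001)) (.node (.leaf 0x52ee4007) (.leaf 0x456d0001)))) (.node (.node (.node (.leaf 0x477a4005) (.leaf 0x2c5b8005)) (.node (.leaf 0x66968007) (.leaf 0x313b8001))) (.node (.node (.leaf 0x4588c007) (.leaf 0x30a8c001)) (.node (.leaf 0x4a174001) (.leaf 0x0))))) (.node (.node (.node (.node (.leaf 0x50b18007) (.leaf 0x50314007)) (.node (.leaf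 0x5b958001) (.leaf 0x29720001))) (.node (.node (.leaf 0x4f9c4007) (.leaf 0x533fc007)) (.node (.leaf 0x4a72c007) (.leaf 0x45718001)))) (.node (.node (.node (.leaf 0x4b644007) (.leaf 0x5a9a0001)) (.node (.leaf 0x40bb0001) (.leaf 0x657e4007))) (.node (.node (.leaf 0x3ea90005) (.leaf 0x37a70007)) (.node (.leaf 0x5c284007) (.leaf 0x0)))))) (.node (.node (.node (.node (.node (.leaf 0x4f948005) (.leaf 0x56ff4001)) (.node (.leaf 0x49d2c001) (.leaf 0x395cc005))) (.node (.node (.leaf 0x2d668005) (.leaf 0x58290005)) (.node (.leaf 0x3d460005) (.leaf 0x4172c001)))) (.node (.node (.node (.leaf 0x60674001) (.leaf 0x49d1c005)) (.node (.leaf 0x446a0005) (.leaf 0x436d8005))) (.node (.node (.leaf 0x423f0001) (.leaf 0x49464001)) (.node (.leaf 0x2a418001) (.leaf 0x0))))) (.node (.node (.node (.node (.leaf 0x47038005) (.leaf 0x4a6a4005)) (.node (.leaf 0x5282c005) (.leaf 0x393f0001))) (.node (.node (.leaf 0x52f8c001) (.leaf 0x3dc00001)) (.node (.leaf 0x5094c005) (.leaf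 0x506f0007)))) (.node (.node (.node (.leaf 0x3e614007) (.leaf 0x4980c007)) (.node (.leaf 0x4b890007) (.leaf 0x555fc001))) (.node (.node (.leaf 0x4e930001) (.leaf 0x46094001)) (.node (.leaf 0x39434007) (.leaf 0x0))))))) (.node (.node (.node (.node (.node (.node (.leaf 0x31140007) (.leaf 0x4c480005)) (.node (.leaf 0x67530001) (.leaf 0x55800001))) (.node (.node (.leaf 0x5ca64001) (.leaf 0x44854007)) (.node (.leaf 0x55bb4007) (.leaf 0x2b340005)))) (.node (.node (.node (.leaf 0x34088001) (.leaf 0x5281c001)) (.node (.leaf 0x46854001) (.leaf 0x39724001))) (.node (.node (.leaf 0x272f0007) (.leaf 0x3a000005)) (.node (.leaf 0x38498007) (.leaf 0x0))))) (.node (.node (.node (.node (.leaf 0x586d0001) (.leaf 0x46f94001)) (.node (.leaf 0x4363c001) (.leaf 0x43b10005))) (.node (.node (.leaf 0x48d54007) (.leaf 0x40e18007)) (.node (.leaf 0x57ad4005) (.leaf 0x114f0001)))) (.node (.node (.node (.leaf 0x61e8c007) (.leaf 0x51b80001)) (.node (.leaf 0x47504001) (.leaf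 0x3d450005))) (.node (.node (.leaf 0x2d9b4001) (.leaf 0x561e4001)) (.node (.leaf 0x3f864007) (.leaf 0x0)))))) (.node (.node (.node (.node (.node (.leaf 0x4099c001) (.leaf 0x4aa40001)) (.node (.leaf 0x4f24c001) (.leaf 0x397fc001))) (.node (.node (.leaf 0x482fc001) (.leaf 0x4d988001)) (.node (.leaf 0x52538007) (.leaf 0x45764001)))) (.node (.node (.node (.leaf 0x4a5bc005) (.leaf 0x3b32c005)) (.node (.leaf 0x48c48005) (.leaf 0x4d230007))) (.node (.node (.leaf 0x47af4001) (.leaf 0x5a6f8005)) (.node (.leaf 0x4ec74001) (.leaf 0x0))))) (.node (.node (.node (.node (.leaf 0x57ad0005) (.leaf 0x2d4d4007)) (.node (.leaf 0x3b9a0001) (.leaf 0x553ec001))) (.node (.node (.leaf 0x4abd4005) (.leaf 0x51f58007)) (.node (.leaf 0x499cc005) (.leaf 0x0)))) (.node (.node (.node (.leaf 0x44184007) (.leaf 0x54e94005)) (.node (.leaf 0x4b9dc001) (.leaf 0x653fc001))) (.node (.node (.leaf 0x3348c001) (.leaf 0x49f44001)) (.node (.leaf 0x4dcf4005) (.leaf 0x0)))))))) (.node (.node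 (.node (.node (.node (.node (.node (.leaf 0x45a2c007) (.leaf 0x4eb24007)) (.node (.leaf 0x5eccc001) (.leaf 0x2f60c005))) (.node (.node (.leaf 0x522b8007) (.leaf 0x3ce8c005)) (.node (.leaf 0x53980001) (.leaf 0x5e048005)))) (.node (.node (.node (.leaf 0x4034c001) (.leaf 0x5dc98001)) (.node (.leaf 0x2f680007) (.leaf 0x51424001))) (.node (.node (.leaf 0x54cf4001) (.leaf 0x55548001)) (.node (.leaf 0x56fc0005) (.leaf 0x0))))) (.node (.node (.node (.node (.leaf 0x4f728007) (.leaf 0x4afe4001)) (.node (.leaf 0x16c14001) (.leaf 0x44254007))) (.node (.node (.leaf 0x387b4001) (.leaf 0x49c54001)) (.node (.leaf 0x4eb60001) (.leaf 0x440e4005)))) (.node (.node (.node (.leaf 0x529e4007) (.leaf 0x50344005)) (.node (.leaf 0x53124001) (.leaf 0x45518001))) (.node (.node (.leaf 0x26d2c005) (.leaf 0x49fa8001)) (.node (.leaf 0x3ae18001) (.leaf 0x0)))))) (.node (.node (.node (.node (.node (.leaf 0x4adec005) (.leaf 0x633a4005)) (.node (.leaf 0x3ec1c007) (.leaf 0x6216c005)))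 (.node (.node (.leaf 0x5c578001) (.leaf 0x4944c001)) (.node (.leaf 0x4c480007) (.leaf 0x38120007)))) (.node (.node (.node (.leaf 0x382a0007) (.leaf 0x59d94005)) (.node (.leaf 0x52b90005) (.leaf 0x4d7b0001))) (.node (.node (.leaf 0x56654005) (.leaf 0x4f46c007)) (.node (.leaf 0x456a8001) (.leaf 0x0))))) (.node (.node (.node (.node (.leaf 0x4c0b4001) (.leaf 0x5ed74001)) (.node (.leaf 0x5416c007) (.leaf 0x495e0001))) (.node (.node (.leaf 0x32138007) (.leaf 0x65080001)) (.node (.leaf 0x2c1c8005) (.leaf 0x30fc8001)))) (.node (.node (.node (.leaf 0x353e0007) (.leaf 0x56dc0005)) (.node (.leaf 0x3b0d8005) (.leaf 0x55400001))) (.node (.node (.leaf 0x46f7c005) (.leaf 0x41cfc005)) (.node (.leaf 0x46b64005) (.leaf 0x0))))))) (.node (.node (.node (.node (.node (.node (.leaf 0x4c33c001) (.leaf 0x33044001)) (.node (.leaf 0x4d290005) (.leaf 0x551f8007))) (.node (.node (.leaf 0x4db4c005) (.leaf 0x2f204007)) (.node (.leaf 0x3e348001) (.leaf 0x4d810001)))) (.node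 (.node (.node (.leaf 0x481ec005) (.leaf 0x645d8005)) (.node (.leaf 0x4e6d4001) (.leaf 0x41598005))) (.node (.node (.leaf 0x4ce90005) (.leaf 0x2ab08005)) (.node (.leaf 0x50fd4005) (.leaf 0x0))))) (.node (.node (.node (.node (.leaf 0x5c648001) (.leaf 0x4ae98001)) (.node (.leaf 0x5f8f4005) (.leaf 0x4ac2c005))) (.node (.node (.leaf 0x25cf8007) (.leaf 0x4d6f4005)) (.node (.leaf 0x4db9c001) (.leaf 0x34218005)))) (.node (.node (.node (.leaf 0x5b39c007) (.leaf 0x3a78c001)) (.node (.leaf 0x5e67c007) (.leaf 0x49780001))) (.node (.node (.leaf 0x58cb8001) (.leaf 0x3e1b8001)) (.node (.leaf 0x52f54001) (.leaf 0x0)))))) (.node (.node (.node (.node (.node (.leaf 0x2475c001) (.leaf 0x420b8007)) (.node (.leaf 0x47330001) (.leaf 0x5540c001))) (.node (.node (.leaf 0x3b32c007) (.leaf 0x4aa54001)) (.node (.leaf 0x4f41c005) (.leaf 0x49504001)))) (.node (.node (.node (.leaf 0x3c738001) (.leaf 0x55aa4001)) (.node (.leaf 0x3f364007) (.leaf 0x54004007))) (.node (.node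 (.leaf 0x3f9ac005) (.leaf 0x5a75c007)) (.node (.leaf 0x3a800001) (.leaf 0x0))))) (.node (.node (.node (.node (.leaf 0x5cb60005) (.leaf 0x527b8007)) (.node (.leaf 0x3eb7c001) (.leaf 0x5bb14007))) (.node (.node (.leaf 0x67848005) (.leaf 0x47600005)) (.node (.leaf 0x66ad0001) (.leaf 0x0)))) (.node (.node (.node (.leaf 0x56498007) (.leaf 0x51488001)) (.node (.leaf 0x57224007) (.leaf 0x54d5c005))) (.node (.node (.leaf 0x4f990001) (.leaf 0x5a364001)) (.node (.leaf 0x55214007) (.leaf 0x0))))))))) (.node (.node (.node (.node (.node (.node (.node (.node (.leaf 0x5c3b0001) (.leaf 0x597d8007)) (.node (.leaf 0x37a6c001) (.leaf 0x3dfc8005))) (.node (.node (.leaf 0x4f8dc005) (.leaf 0x453e4001)) (.node (.leaf 0x4db84001) (.leaf 0x50320005)))) (.node (.node (.node (.leaf 0x50400001) (.leaf 0x4293c001)) (.node (.leaf 0x4e520005) (.leaf 0x597d0001))) (.node (.node (.leaf 0x3990c001) (.leaf 0x519a0001)) (.node (.leaf 0x5a624001) (.leaf 0x0))))) (.node (.node (.node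 (.node (.leaf 0x48698001) (.leaf 0x5438c007)) (.node (.leaf 0x43570005) (.leaf 0x5130c001))) (.node (.node (.leaf 0x3c7b8001) (.leaf 0x3c95c007)) (.node (.leaf 0x36bec005) (.leaf 0x458a0001)))) (.node (.node (.node (.leaf 0x482b8001) (.leaf 0x572d0007)) (.node (.leaf 0x52e28001) (.leaf 0x440b0007))) (.node (.node (.leaf 0x594c0007) (.leaf 0x52c94007)) (.node (.leaf 0x586c0007) (.leaf 0x0)))))) (.node (.node (.node (.node (.node (.leaf 0x5c050001) (.leaf 0x1e014007)) (.node (.leaf 0x518e4005) (.leaf 0x4f558007))) (.node (.node (.leaf 0x1c57c001) (.leaf 0x4ae58007)) (.node (.leaf 0x478bc001) (.leaf 0x4d0b8005)))) (.node (.node (.node (.leaf 0x3c654001) (.leaf 0x297cc001)) (.node (.leaf 0x4d370007) (.leaf 0x4d500001))) (.node (.node (.leaf 0x4664c005) (.leaf 0x49e00001)) (.node (.leaf 0x5354c005) (.leaf 0x0))))) (.node (.node (.node (.node (.leaf 0x380d4001) (.leaf 0x52d78001)) (.node (.leaf 0x54198007) (.leaf 0x5b3c0005))) (.node (.node (.leaf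 0x4f270001) (.leaf 0x494a0001)) (.node (.leaf 0x4c8bc007) (.leaf 0x64c28001)))) (.node (.node (.node (.leaf 0x285ac001) (.leaf 0x42a88001)) (.node (.leaf 0x3703c007) (.leaf 0x613d8001))) (.node (.node (.leaf 0x32ef4007) (.leaf 0x55ee4001)) (.node (.leaf 0x43014001) (.leaf 0x0))))))) (.node (.node (.node (.node (.node (.node (.leaf 0x44478001) (.leaf 0x284ac005)) (.node (.leaf 0x61088005) (.leaf 0x3c5f4007))) (.node (.node (.leaf 0x5752c007) (.leaf 0x5e0ec007)) (.node (.leaf 0x43a90005) (.leaf 0x55328001)))) (.node (.node (.node (.leaf 0x480a8001) (.leaf 0x5f3b8007)) (.node (.leaf 0x40e10005) (.leaf 0x47b2c007))) (.node (.node (.leaf 0x4e674007) (.leaf 0x434dc005)) (.node (.leaf 0x5428c007) (.leaf 0x0))))) (.node (.node (.node (.node (.leaf 0x4088c005) (.leaf 0x428c0001)) (.node (.leaf 0x41cd8005) (.leaf 0x4d6b4001))) (.node (.node (.leaf 0x54c08007) (.leaf 0x4dbfc001)) (.node (.leaf 0x52378007) (.leaf 0x45678001)))) (.node (.node (.node (.leaf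 0x54250001) (.leaf 0x45318001)) (.node (.leaf 0x56684007) (.leaf 0x4d1ec007))) (.node (.node (.leaf 0x49484007) (.leaf 0x61618007)) (.node (.leaf 0x4f360005) (.leaf 0x0)))))) (.node (.node (.node (.node (.node (.leaf 0x335d0007) (.leaf 0x42eb4001)) (.node (.leaf 0x42efc007) (.leaf 0x551f8005))) (.node (.node (.leaf 0x3acb4007) (.leaf 0x50d14005)) (.node (.leaf 0x5a768007) (.leaf 0x4cf78005)))) (.node (.node (.node (.leaf 0x5583c005) (.leaf 0x3d8d8007)) (.node (.leaf 0x49000007) (.leaf 0x457ac007))) (.node (.node (.leaf 0x5b384005) (.leaf 0x22124001)) (.node (.leaf 0x48b64007) (.leaf 0x0))))) (.node (.node (.node (.node (.leaf 0x2935c007) (.leaf 0x3991c001)) (.node (.leaf 0x4c624007) (.leaf 0x5d650001))) (.node (.node (.leaf 0x2e6ec001) (.leaf 0x50ca4001)) (.node (.leaf 0x4588c005) (.leaf 0x0)))) (.node (.node (.node (.leaf 0x3c1fc007) (.leaf 0x423b0005)) (.node (.leaf 0x2ecc8001) (.leaf 0x415c4001))) (.node (.node (.leaf 0x1c550007) (.leaf 0x3e6e4005))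 (.node (.leaf 0x43440007) (.leaf 0x0)))))))) (.node (.node (.node (.node (.node (.node (.node (.leaf 0x55d90005) (.leaf 0x2ecc4001)) (.node (.leaf 0x570f0001) (.leaf 0x42214001))) (.node (.node (.leaf 0x4ef84007) (.leaf 0x5a9d0005)) (.node (.leaf 0x45368007) (.leaf 0x3b860001)))) (.node (.node (.node (.leaf 0x4c350001) (.leaf 0x5d204007)) (.node (.leaf 0x471d8005) (.leaf 0x45990005))) (.node (.node (.leaf 0x560e4007) (.leaf 0x58c0c005)) (.node (.leaf 0x48c48007) (.leaf 0x0))))) (.node (.node (.node (.node (.leaf 0x466f4007) (.leaf 0x36f98001)) (.node (.leaf 0x582f4005) (.leaf 0x4a284005))) (.node (.node (.leaf 0x5b7b8005) (.leaf 0x4445c005)) (.node (.leaf 0x55d90007) (.leaf 0x55304001)))) (.node (.node (.node (.leaf 0x584fc001) (.leaf 0x40d3c007)) (.node (.leaf 0x45368005) (.leaf 0x430d0005))) (.node (.node (.leaf 0x434ec001) (.leaf 0x4ddc0001)) (.node (.leaf 0x42e14001) (.leaf 0x0)))))) (.node (.node (.node (.node (.node (.leaf 0x59200007)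 (.leaf 0x5a6e8005)) (.node (.leaf 0x522b8005) (.leaf 0x415d4001))) (.node (.node (.leaf 0x52c7c005) (.leaf 0x427e4001)) (.node (.leaf 0x2f458007) (.leaf 0x5587c005)))) (.node (.node (.node (.leaf 0x47510007) (.leaf 0x4f2cc005)) (.node (.leaf 0x5f004007) (.leaf 0x5b704007))) (.node (.node (.leaf 0x39018007) (.leaf 0x6617c001)) (.node (.leaf 0x566bc007) (.leaf 0x0))))) (.node (.node (.node (.node (.leaf 0x4f0fc007) (.leaf 0x56f58005)) (.node (.leaf 0x4d670007) (.leaf 0x39920001))) (.node (.node (.leaf 0x46a80001) (.leaf 0x41b54001)) (.node (.leaf 0x51a8c001) (.leaf 0x0)))) (.node (.node (.node (.leaf 0x2936c007) (.leaf 0x5edac005)) (.node (.leaf 0x43614005) (.leaf 0x5d39c001))) (.node (.node (.leaf 0x49fac005) (.leaf 0x5084c005)) (.node (.leaf 0x51980005) (.leaf 0x0))))))) (.node (.node (.node (.node (.node (.node (.leaf 0x4031c001) (.leaf 0x52ff8001)) (.node (.leaf 0x4b818005) (.leaf 0x35790001))) (.node (.node (.leaf 0x4c4cc001) (.leaf 0x3a0c8005))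 (.node (.leaf 0x4e704001) (.leaf 0x598b4001)))) (.node (.node (.node (.leaf 0x508c0001) (.leaf 0x55624007)) (.node (.leaf 0x47438005) (.leaf 0x4f294001))) (.node (.node (.leaf 0x3f1dc007) (.leaf 0x41e84001)) (.node (.leaf 0x37380007) (.leaf 0x0))))) (.node (.node (.node (.node (.leaf 0x5af38005) (.leaf 0x40524005)) (.node (.leaf 0x499c0007) (.leaf 0x55804001))) (.node (.node (.leaf 0x41598007) (.leaf 0x41048001)) (.node (.leaf 0x5af14007) (.leaf 0x41674001)))) (.node (.node (.node (.leaf 0x3c260001) (.leaf 0x39d08001)) (.node (.leaf 0x52aa4007) (.leaf 0x41904001))) (.node (.node (.leaf 0x46e4c001) (.leaf 0x4e154001)) (.node (.leaf 0x50210007) (.leaf 0x0)))))) (.node (.node (.node (.node (.node (.leaf 0x44914001) (.leaf 0x50908005)) (.node (.leaf 0x3b0e4005) (.leaf 0x353ac001))) (.node (.node (.leaf 0x4cddc005) (.leaf 0x4dc90001)) (.node (.leaf 0x49a58001) (.leaf 0x5d7f4001)))) (.node (.node (.node (.leaf 0x29e48007) (.leaf 0x495dc001)) (.node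 (.leaf 0x499cc007) (.leaf 0x45740001))) (.node (.node (.leaf 0x5e89c001) (.leaf 0x3dd68001)) (.node (.leaf 0x56d18001) (.leaf 0x0))))) (.node (.node (.node (.node (.leaf 0x503ec001) (.leaf 0x39cd0001)) (.node (.leaf 0x413c4007) (.leaf 0x5a62c007))) (.node (.node (.leaf 0x4b248007) (.leaf 0x4f344005)) (.node (.leaf 0x4e924001) (.leaf 0x0)))) (.node (.node (.node (.leaf 0x4885c001) (.leaf 0x3c0d8007)) (.node (.leaf 0x61d74001) (.leaf 0x6528c001))) (.node (.node (.leaf 0x55cb8007) (.leaf 0x47064005)) (.node (.leaf 0x3300c007) (.leaf 0x0))))))))))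

/-- packed table -/
noncomputable def cov0_rlr : BTree := (.node (.node (.node (.node (.node (.node (.node (.node (.node (.leaf 0x58398001) (.leaf 0x1adf8001)) (.node (.leaf 0x50ab0007) (.leaf 0x3f1e8007))) (.node (.node (.leaf 0x489d8001) (.leaf 0x5cb14005)) (.node (.leaf 0x423b0007) (.leaf 0x4d0b8007)))) (.node (.node (.node (.leaf 0x4c818007) (.leaf 0x4e13c007)) (.node (.leaf 0x5a828001) (.leaf 0x43158007))) (.node (.node (.leaf 0x56c50007) (.leaf 0x1221c005)) (.node (.leaf 0x34adc001) (.leaf 0x0))))) (.node (.node (.node (.node (.leaf 0x5036c005) (.leaf 0x3ec0c007)) (.node (.leaf 0x51f28001) (.leaf 0x457ac005))) (.node (.node (.leaf 0x59064005) (.leaf 0x4db74001)) (.node (.leaf 0x36c04005) (.leaf 0x2dd04005)))) (.node (.node (.node (.leaf 0x3c55c001) (.leaf 0x396f0001)) (.node (.leaf 0x52494001) (.leaf 0x3cbc0001))) (.node (.node (.leaf 0x3cae0001) (.leaf 0x3cff8007)) (.node (.leaf 0x4ba24005) (.leaf 0x0)))))) (.node (.node (.node (.node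 (.node (.leaf 0x48048001) (.leaf 0x49c74001)) (.node (.leaf 0x469bc001) (.leaf 0x39734005))) (.node (.node (.leaf 0x42ec4005) (.leaf 0x4f41c007)) (.node (.leaf 0x3f104001) (.leaf 0x4b818007)))) (.node (.node (.node (.leaf 0x5e2cc007) (.leaf 0x35a6c007)) (.node (.leaf 0x43300005) (.leaf 0x34748007))) (.node (.node (.leaf 0x4ec90001) (.leaf 0x31de8001)) (.node (.leaf 0x4a510007) (.leaf 0x0))))) (.node (.node (.node (.node (.leaf 0x4c0bc001) (.leaf 0x42db8001)) (.node (.leaf 0x4c9a0005) (.leaf 0x301d8005))) (.node (.node (.leaf 0x5b64c001) (.leaf 0x36cb0007)) (.node (.leaf 0x29758007) (.leaf 0x54dc0001)))) (.node (.node (.node (.leaf 0x5eb80007) (.leaf 0x2d9fc005)) (.node (.leaf 0x3babc001) (.leaf 0x44254005))) (.node (.node (.leaf 0x37954001) (.leaf 0x55ef4001)) (.node (.leaf 0x3f674005) (.leaf 0x0))))))) (.node (.node (.node (.node (.node (.node (.leaf 0x45028007) (.leaf 0x416b0007)) (.node (.leaf 0x59090007) (.leaf 0x2f648005))) (.node (.node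 (.leaf 0x40a80001) (.leaf 0x5e0f0007)) (.node (.leaf 0x57824001) (.leaf 0x56440005)))) (.node (.node (.node (.leaf 0x3d354007) (.leaf 0x4fb1c007)) (.node (.leaf 0x474d4005) (.leaf 0x47b34007))) (.node (.node (.leaf 0x2cd94007) (.leaf 0x4e020001)) (.node (.leaf 0x4e35c007) (.leaf 0x0))))) (.node (.node (.node (.node (.leaf 0x4c940005) (.leaf 0x51c3c001)) (.node (.leaf 0x5d540005) (.leaf 0x48e80007))) (.node (.node (.leaf 0x23634001) (.leaf 0x514c4005)) (.node (.leaf 0x60cb4001) (.leaf 0x41bbc005)))) (.node (.node (.node (.leaf 0x34228001) (.leaf 0x55644007)) (.node (.leaf 0x5a8a0005) (.leaf 0x5cec4007))) (.node (.node (.leaf 0x528cc001) (.leaf 0x6e2c8001)) (.node (.leaf 0x52cd4001) (.leaf 0x0)))))) (.node (.node (.node (.node (.node (.leaf 0x3c9c4001) (.leaf 0x5e0f0005)) (.node (.leaf 0x4e2ac005) (.leaf 0x5f3bc001))) (.node (.node (.leaf 0x551cc007) (.leaf 0x50d38005)) (.node (.leaf 0x2d440001) (.leaf 0x4cbe4001)))) (.node (.node (.node (.leaf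 0x56448007) (.leaf 0x49aa8001)) (.node (.leaf 0x3ccd4001) (.leaf 0x417c8007))) (.node (.node (.leaf 0x2b638001) (.leaf 0x2a240007)) (.node (.leaf 0x567fc001) (.leaf 0x0))))) (.node (.node (.node (.node (.leaf 0x3c010001) (.leaf 0x4626c007)) (.node (.leaf 0x53078005) (.leaf 0x6e168007))) (.node (.node (.leaf 0x477a4007) (.leaf 0x61c34001)) (.node (.leaf 0x59894005) (.leaf 0x0)))) (.node (.node (.node (.leaf 0x382a0005) (.leaf 0x4d5d8005)) (.node (.leaf 0x5c014005) (.leaf 0x4f6b8001))) (.node (.node (.leaf 0x52c38001) (.leaf 0x40a24005)) (.node (.leaf 0x57444007) (.leaf 0x0)))))))) (.node (.node (.node (.node (.node (.node (.node (.leaf 0x3c0d8005) (.leaf 0x2e078007)) (.node (.leaf 0x52538005) (.leaf 0x55e94007))) (.node (.node (.leaf 0x407d4001) (.leaf 0x405c4005)) (.node (.leaf 0x2794c007) (.leaf 0x61e8c005)))) (.node (.node (.node (.leaf 0x307ac005) (.leaf 0x6e84c001)) (.node (.leaf 0x51ac4007) (.leaf 0x1f498001))) (.node (.node (.leaf 0x4250c001)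 (.leaf 0x58bf8005)) (.node (.leaf 0x44c54007) (.leaf 0x0))))) (.node (.node (.node (.node (.leaf 0x406b0001) (.leaf 0x42fd4001)) (.node (.leaf 0x576c8001) (.leaf 0x3e380007))) (.node (.node (.leaf 0x4d9e4005) (.leaf 0x46f2c007)) (.node (.leaf 0x59d94007) (.leaf 0x4e740005)))) (.node (.node (.node (.leaf 0x3b670007) (.leaf 0x51c94001)) (.node (.leaf 0x5f8e0001) (.leaf 0x41fec005))) (.node (.node (.leaf 0x56c50005) (.leaf 0x51db0001)) (.node (.leaf 0x4eeac007) (.leaf 0x0)))))) (.node (.node (.node (.node (.node (.leaf 0x58918005) (.leaf 0x4aebc007)) (.node (.leaf 0x4ac2c007) (.leaf 0x2f0f4005))) (.node (.node (.leaf 0x51b1c007) (.leaf 0x3e328007)) (.node (.leaf 0x49d1c007) (.leaf 0x3185c005)))) (.node (.node (.node (.leaf 0x2c5e4001) (.leaf 0x4f77c007)) (.node (.leaf 0x4b888001) (.leaf 0x48eb8001))) (.node (.node (.leaf 0x4762c001) (.leaf 0x5a500005)) (.node (.leaf 0x6a150007) (.leaf 0x0))))) (.node (.node (.node (.node (.leaf 0x30468001) (.leaf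 0x56fb8001)) (.node (.leaf 0x3af08001) (.leaf 0x4f518001))) (.node (.node (.leaf 0x49ba4001) (.leaf 0x5e1e0005)) (.node (.leaf 0x3f364005) (.leaf 0x0)))) (.node (.node (.node (.leaf 0x457bc007) (.leaf 0x49af8005)) (.node (.leaf 0x44e64005) (.leaf 0x62ee8005))) (.node (.node (.leaf 0x47af0001) (.leaf 0x4fa00005)) (.node (.leaf 0x42f74001) (.leaf 0x0))))))) (.node (.node (.node (.node (.node (.node (.leaf 0x37a3c007) (.leaf 0x4b034001)) (.node (.leaf 0x427b0001) (.leaf 0x5b650007))) (.node (.node (.leaf 0x39dec007) (.leaf 0x47904007)) (.node (.leaf 0x3d660005) (.leaf 0x4d0e4001)))) (.node (.node (.node (.leaf 0x308b8001) (.leaf 0x2992c007)) (.node (.leaf 0x2afa8001) (.leaf 0x433f8001))) (.node (.node (.leaf 0x39aa0005) (.leaf 0x4c9b0005)) (.node (.leaf 0x3cff8005) (.leaf 0x0))))) (.node (.node (.node (.node (.leaf 0x4498c001) (.leaf 0x4e980001)) (.node (.leaf 0x278ec005) (.leaf 0x5b398001))) (.node (.node (.leaf 0xb5ac001) (.leaf 0x55c38001))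 (.node (.leaf 0x5562c007) (.leaf 0x50aa8001)))) (.node (.node (.node (.leaf 0x4c280001) (.leaf 0x4a02c005)) (.node (.leaf 0x4ef40005) (.leaf 0x36cb8005))) (.node (.node (.leaf 0x46540001) (.leaf 0x55ccc005)) (.node (.leaf 0x5f2d4007) (.leaf 0x0)))))) (.node (.node (.node (.node (.node (.leaf 0x4356c007) (.leaf 0x46b34007)) (.node (.leaf 0x3ba1c005) (.leaf 0x533a0001))) (.node (.node (.leaf 0x4656c005) (.leaf 0x4f668005)) (.node (.leaf 0x46724007) (.leaf 0x48c80001)))) (.node (.node (.node (.leaf 0x4c718001) (.leaf 0x30588007)) (.node (.leaf 0x3f9fc007) (.leaf 0x51188005))) (.node (.node (.leaf 0x449fc007) (.leaf 0x4f88c007)) (.node (.leaf 0x22e5c001) (.leaf 0x0))))) (.node (.node (.node (.node (.leaf 0x69e80005) (.leaf 0x61794001)) (.node (.leaf 0x413c4005) (.leaf 0x5644c007))) (.node (.node (.leaf 0x5f8f4007) (.leaf 0x44d8c001)) (.node (.leaf 0x544f4007) (.leaf 0x0)))) (.node (.node (.node (.leaf 0x3d888007) (.leaf 0x500c4007)) (.node (.leaf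 0x5797c001) (.leaf 0x64128005))) (.node (.node (.leaf 0x4e1dc001) (.leaf 0x3f864005)) (.node (.leaf 0x46a70001) (.leaf 0x0))))))))) (.node (.node (.node (.node (.node (.node (.node (.node (.leaf 0x2c3b8001) (.leaf 0x55da0005)) (.node (.leaf 0x5b40c001) (.leaf 0x46f7c007))) (.node (.node (.leaf 0x4f9d4007) (.leaf 0x35a9c001)) (.node (.leaf 0x527b8005) (.leaf 0x3b180005)))) (.node (.node (.node (.leaf 0x57790005) (.leaf 0x51840001)) (.node (.leaf 0x375c0001) (.leaf 0x4b374001))) (.node (.node (.leaf 0x4afbc007) (.leaf 0x38f5c001)) (.node (.leaf 0x5efc4005) (.leaf 0x0))))) (.node (.node (.node (.node (.leaf 0x44690001) (.leaf 0x643cc005)) (.node (.leaf 0x3e6d8001) (.leaf 0x3ba18007))) (.node (.node (.leaf 0x3c794001) (.leaf 0x52c94005)) (.node (.leaf 0x1221c007) (.leaf 0x54d2c001)))) (.node (.node (.node (.leaf 0x5b080007) (.leaf 0x51b1c005)) (.node (.leaf 0x559dc007) (.leaf 0x1c60c005))) (.node (.node (.leaf 0x38640007) (.leaf 0x11f98001)) (.node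 (.leaf 0x5ec54001) (.leaf 0x0)))))) (.node (.node (.node (.node (.node (.leaf 0x5d150005) (.leaf 0x4ed98001)) (.node (.leaf 0x2f2c8005) (.leaf 0x52450007))) (.node (.node (.leaf 0x58594001) (.leaf 0x344d4005)) (.node (.leaf 0x4a358001) (.leaf 0x60cd0001)))) (.node (.node (.node (.leaf 0x2ea10007) (.leaf 0x6b784007)) (.node (.leaf 0x5af24005) (.leaf 0x44870005))) (.node (.node (.leaf 0x4e674005) (.leaf 0x4c5b0007)) (.node (.leaf 0x4e520007) (.leaf 0x0))))) (.node (.node (.node (.node (.leaf 0x56688005) (.leaf 0x586a4007)) (.node (.leaf 0x201a0007) (.leaf 0x3dd48007))) (.node (.node (.leaf 0x3f8d0001) (.leaf 0x41b58001)) (.node (.leaf 0x588ac007) (.leaf 0x410ec001)))) (.node (.node (.node (.leaf 0x55f2c005) (.leaf 0x359f0005)) (.node (.leaf 0x36c40001) (.leaf 0x53814001))) (.node (.node (.leaf 0x4c4a4007) (.leaf 0x538c4007)) (.node (.leaf 0x48728007) (.leaf 0x0))))))) (.node (.node (.node (.node (.node (.node (.leaf 0x4ba38007) (.leaf 0x3d998005))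 (.node (.leaf 0x37810005) (.leaf 0x2e524005))) (.node (.node (.leaf 0x204b8001) (.leaf 0x69648001)) (.node (.leaf 0x57aa0005) (.leaf 0x52aa4005)))) (.node (.node (.node (.leaf 0x3c8d4001) (.leaf 0x6b784005)) (.node (.leaf 0x5ce28005) (.leaf 0x37314001))) (.node (.node (.leaf 0x5d8b8007) (.leaf 0x36074001)) (.node (.leaf 0x4734c007) (.leaf 0x0))))) (.node (.node (.node (.node (.leaf 0x38760005) (.leaf 0x52d34001)) (.node (.leaf 0x47048001) (.leaf 0x22c3c005))) (.node (.node (.leaf 0x5265c001) (.leaf 0x4ef40007)) (.node (.leaf 0x62f1c007) (.leaf 0x381f0005)))) (.node (.node (.node (.leaf 0x69310005) (.leaf 0x519c4001)) (.node (.leaf 0x4a6a4007) (.leaf 0x4f360007))) (.node (.node (.leaf 0x4ed24005) (.leaf 0x3c910007)) (.node (.leaf 0x56f64001) (.leaf 0x0)))))) (.node (.node (.node (.node (.node (.leaf 0x49238007) (.leaf 0x47620007)) (.node (.leaf 0x4acfc007) (.leaf 0x534e4007))) (.node (.node (.leaf 0x552dc007) (.leaf 0x3b0d8007)) (.node (.leaf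 0x284ac007) (.leaf 0x41120001)))) (.node (.node (.node (.leaf 0x5c11c005) (.leaf 0x51458001)) (.node (.leaf 0x4eb4c007) (.leaf 0x5577c005))) (.node (.node (.leaf 0x334b0001) (.leaf 0x4a318001)) (.node (.leaf 0x4b890005) (.leaf 0x0))))) (.node (.node (.node (.node (.leaf 0x55e6c007) (.leaf 0x25830005)) (.node (.leaf 0x4c63c007) (.leaf 0x6e468007))) (.node (.node (.leaf 0x4ac08001) (.leaf 0x51698001)) (.node (.leaf 0x52414001) (.leaf 0x0)))) (.node (.node (.node (.leaf 0x342cc005) (.leaf 0x42a24001)) (.node (.leaf 0x43684001) (.leaf 0x48d54005))) (.node (.node (.leaf 0x4f20c001) (.leaf 0x3e374001)) (.node (.leaf 0x4d4fc005) (.leaf 0x0)))))))) (.node (.node (.node (.node (.node (.node (.node (.leaf 0x5010c001) (.leaf 0x32064005)) (.node (.leaf 0x5d98c007) (.leaf 0x4f37c001))) (.node (.node (.leaf 0x47250005) (.leaf 0x50838007)) (.node (.leaf 0x3e584001) (.leaf 0x4b714001)))) (.node (.node (.node (.leaf 0x39c14005) (.leaf 0x3c7c0005)) (.node (.leaf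 0x5ae2c007) (.leaf 0x3ad3c005))) (.node (.node (.leaf 0x33308007) (.leaf 0x4a510005)) (.node (.leaf 0x46424005) (.leaf 0x0))))) (.node (.node (.node (.node (.leaf 0x39b3c007) (.leaf 0x3dff0007)) (.node (.leaf 0x3b1b8007) (.leaf 0x63764005))) (.node (.node (.leaf 0x4487c001) (.leaf 0x4db0c001)) (.node (.leaf 0x613a0001) (.leaf 0x2ea10005)))) (.node (.node (.node (.leaf 0x5c4a8007) (.leaf 0x496bc001)) (.node (.leaf 0x3d354005) (.leaf 0x3b6d4001))) (.node (.node (.leaf 0x43afc001) (.leaf 0x5562c005)) (.node (.leaf 0x46cd8001) (.leaf 0x0)))))) (.node (.node (.node (.node (.node (.leaf 0x4d33c005) (.leaf 0x44894005)) (.node (.leaf 0x3f7d0001) (.leaf 0x401b0005))) (.node (.node (.leaf 0x48304001) (.leaf 0x524e0001)) (.node (.leaf 0x49cb4001) (.leaf 0x6633c005)))) (.node (.node (.node (.leaf 0x37520007) (.leaf 0x552dc005)) (.node (.leaf 0x53928001) (.leaf 0x40cac001))) (.node (.node (.leaf 0x3f7b0007) (.leaf 0x59cc8005)) (.node (.leaf 0x5e630007) (.leaf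 0x0))))) (.node (.node (.node (.node (.leaf 0x4c43c001) (.leaf 0x38f14007)) (.node (.leaf 0x2d668007) (.leaf 0x464fc005))) (.node (.node (.leaf 0x4b33c005) (.leaf 0x44eb0001)) (.node (.leaf 0x495c8007) (.leaf 0x0)))) (.node (.node (.node (.leaf 0x39750007) (.leaf 0x417c8005)) (.node (.leaf 0x385ec007) (.leaf 0x47654001))) (.node (.node (.leaf 0x4bacc001) (.leaf 0x3ca44005)) (.node (.leaf 0x3e6c4007) (.leaf 0x0))))))) (.node (.node (.node (.node (.node (.node (.leaf 0x58064001) (.leaf 0x54f94005)) (.node (.leaf 0x4eb0c001) (.leaf 0x2b4bc001))) (.node (.node (.leaf 0x4aebc005) (.leaf 0x505e8007)) (.node (.leaf 0x2dd04007) (.leaf 0x58d44001)))) (.node (.node (.node (.leaf 0x5067c001) (.leaf 0x3de44007)) (.node (.leaf 0x3743c005) (.leaf 0x4b120005))) (.node (.node (.leaf 0x53794007) (.leaf 0x5a568007)) (.node (.leaf 0x48dd4001) (.leaf 0x0))))) (.node (.node (.node (.node (.leaf 0x5496c001) (.leaf 0x57224005)) (.node (.leaf 0x5a830005) (.leaf 0x3b514001)))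 (.node (.node (.leaf 0x3342c001) (.leaf 0x51700001)) (.node (.leaf 0x3c95c005) (.leaf 0x406d8007)))) (.node (.node (.node (.leaf 0x3c27c001) (.leaf 0x429fc001)) (.node (.leaf 0x4b4a4001) (.leaf 0x50ee0007))) (.node (.node (.leaf 0x51be0001) (.leaf 0x2e0a4001)) (.node (.leaf 0x534e4005) (.leaf 0x0)))))) (.node (.node (.node (.node (.node (.leaf 0x449fc005) (.leaf 0x5ab58007)) (.node (.leaf 0x3a834007) (.leaf 0x49470007))) (.node (.node (.leaf 0x582a8007) (.leaf 0x5e904001)) (.node (.leaf 0x36718007) (.leaf 0x40d30001)))) (.node (.node (.node (.leaf 0x38528001) (.leaf 0x506f0005)) (.node (.leaf 0x4ae90005) (.leaf 0x4d258005))) (.node (.node (.leaf 0x339bc005) (.leaf 0x4fa7c007)) (.node (.leaf 0x4ea0c001) (.leaf 0x0))))) (.node (.node (.node (.node (.leaf 0x5644c005) (.leaf 0x3a880001)) (.node (.leaf 0x538c0001) (.leaf 0x4b108005))) (.node (.node (.leaf 0x36bcc001) (.leaf 0x49a0c001)) (.node (.leaf 0x49520001) (.leaf 0x0)))) (.node (.node (.node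 (.leaf 0x4fb1c005) (.leaf 0x640cc007)) (.node (.leaf 0x5ab58005) (.leaf 0x4f7b4001))) (.node (.node (.leaf 0x3548c005) (.leaf 0x52bac007)) (.node (.leaf 0x30034007) (.leaf 0x0))))))))))

/-- packed table -/
noncomputable def cov0_rrl : BTree := (.node (.node (.node (.node (.node (.node (.node (.node (.node (.leaf 0x50388001) (.leaf 0x3f8cc007)) (.node (.leaf 0x4aaac001) (.leaf 0x2cf58001))) (.node (.node (.leaf 0x349ec001) (.leaf 0x40b34005)) (.node (.leaf 0x4795c001) (.leaf 0x68bc4001)))) (.node (.node (.node (.leaf 0x4401c007) (.leaf 0x5eda0007)) (.node (.leaf 0x50fc4005) (.leaf 0x55adc007))) (.node (.node (.leaf 0x57a2c001) (.leaf 0x392ec001)) (.node (.leaf 0x49c7c001) (.leaf 0x0))))) (.node (.node (.node (.node (.leaf 0x4c450007) (.leaf 0x45a2c005)) (.node (.leaf 0x66fc8001) (.leaf 0x48d84005))) (.node (.node (.leaf 0x38810001) (.leaf 0x4af04007)) (.node (.leaf 0x46210007) (.leaf 0x5910c001)))) (.node (.node (.node (.leaf 0x1854c001) (.leaf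 0x48234007)) (.node (.leaf 0x430a4001) (.leaf 0x28e44001))) (.node (.node (.leaf 0x5f6ec001) (.leaf 0x36d14007)) (.node (.leaf 0x5a34c001) (.leaf 0x0)))))) (.node (.node (.node (.node (.node (.leaf 0x4d670005) (.leaf 0x4cb54005)) (.node (.leaf 0x565b4007) (.leaf 0x44e64007))) (.node (.node (.leaf 0x4eec8005) (.leaf 0x5b610005)) (.node (.leaf 0x3477c005) (.leaf 0x38348005)))) (.node (.node (.node (.leaf 0x4c68c001) (.leaf 0x3dd48005)) (.node (.leaf 0x2f680005) (.leaf 0x40df0001))) (.node (.node (.leaf 0x4c37c005) (.leaf 0x49e08001)) (.node (.leaf 0x49924005) (.leaf 0x0))))) (.node (.node (.node (.node (.leaf 0x5ef28007) (.leaf 0x4f728005)) (.node (.leaf 0x4cf90005) (.leaf 0x589d0005))) (.node (.node (.leaf 0x4a20c001) (.leaf 0x4b774005)) (.node (.leaf 0x49a68007) (.leaf 0x5b704005)))) (.node (.node (.node (.leaf 0x5eb78007) (.leaf 0x519f8005)) (.node (.leaf 0x4c82c007) (.leaf 0x60230005))) (.node (.node (.leaf 0x6920c005) (.leaf 0x60dfc001))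 (.node (.leaf 0x40ce4001) (.leaf 0x0))))))) (.node (.node (.node (.node (.node (.node (.leaf 0x54118007) (.leaf 0x5049c005)) (.node (.leaf 0x4d0b0005) (.leaf 0x29e48005))) (.node (.node (.leaf 0x3ca50001) (.leaf 0x42108007)) (.node (.leaf 0x41e38001) (.leaf 0x48b8c001)))) (.node (.node (.node (.leaf 0x60098001) (.leaf 0x53508007)) (.node (.leaf 0x32404001) (.leaf 0x2c5b8007))) (.node (.node (.leaf 0x19e3c005) (.leaf 0x44440007)) (.node (.leaf 0x3db10005) (.leaf 0x0))))) (.node (.node (.node (.node (.leaf 0x506fc001) (.leaf 0x51184007)) (.node (.leaf 0x63568005) (.leaf 0x49484005))) (.node (.node (.leaf 0x2c0d0007) (.leaf 0x5e544001)) (.node (.leaf 0x4f948007) (.leaf 0x41b90005)))) (.node (.node (.node (.leaf 0x4b86c007) (.leaf 0x44e60001)) (.node (.leaf 0x4d370005) (.leaf 0x58fdc001))) (.node (.node (.leaf 0x3b150001) (.leaf 0x4d5ec007)) (.node (.leaf 0x5e49c001) (.leaf 0x0)))))) (.node (.node (.node (.node (.node (.leaf 0x55348005) (.leaf 0x511bc005))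 (.node (.leaf 0x56294005) (.leaf 0x4f57c007))) (.node (.node (.leaf 0x42efc005) (.leaf 0x36650007)) (.node (.leaf 0x5a5f8001) (.leaf 0x5e03c007)))) (.node (.node (.node (.leaf 0x4750c007) (.leaf 0x41f7c001)) (.node (.leaf 0x4b6e8001) (.leaf 0x597d4007))) (.node (.node (.leaf 0x430d0007) (.leaf 0x4e120001)) (.node (.leaf 0x588ac005) (.leaf 0x0))))) (.node (.node (.node (.node (.leaf 0x50008001) (.leaf 0x54b04007)) (.node (.leaf 0x56d88001) (.leaf 0x62f1c005))) (.node (.node (.leaf 0x47600007) (.leaf 0x59ca4001)) (.node (.leaf 0x5026c007) (.leaf 0x0)))) (.node (.node (.node (.leaf 0x5ca28001) (.leaf 0x35d00005)) (.node (.leaf 0x54004005) (.leaf 0x4c818005))) (.node (.node (.leaf 0x5e03c005) (.leaf 0x4f2fc005)) (.node (.leaf 0x4f434007) (.leaf 0x0)))))))) (.node (.node (.node (.node (.node (.node (.node (.leaf 0x30588005) (.leaf 0x32064007)) (.node (.leaf 0x45990007) (.leaf 0x38bf0001))) (.node (.node (.leaf 0x4c7dc001) (.leaf 0x69310007)) (.node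 (.leaf 0x46f88001) (.leaf 0x4f858001)))) (.node (.node (.node (.leaf 0x46f2c005) (.leaf 0x50cc8001)) (.node (.leaf 0x45f0c005) (.leaf 0x59064007))) (.node (.node (.leaf 0x42fb4007) (.leaf 0x38bf4005)) (.node (.leaf 0x5cf30001) (.leaf 0x0))))) (.node (.node (.node (.node (.leaf 0x3e51c005) (.leaf 0x4e13c005)) (.node (.leaf 0x24308005) (.leaf 0x4a288005))) (.node (.node (.leaf 0x48784001) (.leaf 0x546bc007)) (.node (.leaf 0x36058001) (.leaf 0x5a75c005)))) (.node (.node (.node (.leaf 0x53078007) (.leaf 0x4200c001)) (.node (.leaf 0x50fd4007) (.leaf 0x54ce0007))) (.node (.node (.leaf 0x580e0005) (.leaf 0x42920005)) (.node (.leaf 0x4904c001) (.leaf 0x0)))))) (.node (.node (.node (.node (.node (.leaf 0x4b4b8007) (.leaf 0x54a48007)) (.node (.leaf 0x572c0005) (.leaf 0x49238005))) (.node (.node (.leaf 0x4c568001) (.leaf 0x5462c005)) (.node (.leaf 0x26d2c007) (.leaf 0x20b70001)))) (.node (.node (.node (.leaf 0x17a84005) (.leaf 0x5666c001)) (.node (.leaf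 0x5eb8c005) (.leaf 0x4cf64001))) (.node (.node (.leaf 0x42b6c001) (.leaf 0x44444007)) (.node (.leaf 0x56c78005) (.leaf 0x0))))) (.node (.node (.node (.node (.leaf 0x3cecc005) (.leaf 0x54efc007)) (.node (.leaf 0x4f388001) (.leaf 0x4115c001))) (.node (.node (.leaf 0x503f8005) (.leaf 0x498f8001)) (.node (.leaf 0x4a4d8001) (.leaf 0x0)))) (.node (.node (.node (.leaf 0x481ac001) (.leaf 0x5ba64007)) (.node (.leaf 0x49684005) (.leaf 0x48dc8001))) (.node (.node (.leaf 0x4ae90007) (.leaf 0x48fcc001)) (.node (.leaf 0x46b68005) (.leaf 0x0))))))) (.node (.node (.node (.node (.node (.node (.leaf 0x6030c001) (.leaf 0x3799c005)) (.node (.leaf 0x5ba98001) (.leaf 0x4e9c4005))) (.node (.node (.leaf 0x45b40005) (.leaf 0x4c6c8007)) (.node (.leaf 0x51108007) (.leaf 0x38e68001)))) (.node (.node (.node (.leaf 0x4ae58005) (.leaf 0x19e3c007)) (.node (.leaf 0x53924001) (.leaf 0x5fa0c007))) (.node (.node (.leaf 0x49d44007) (.leaf 0x5aa08007)) (.node (.leaf 0x52564001)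 (.leaf 0x0))))) (.node (.node (.node (.node (.leaf 0x30618001) (.leaf 0x58f28001)) (.node (.leaf 0x5566c005) (.leaf 0x48b6c001))) (.node (.node (.leaf 0x26c00001) (.leaf 0x5d620007)) (.node (.leaf 0x5af24007) (.leaf 0x45a90007)))) (.node (.node (.node (.leaf 0x255b8007) (.leaf 0x54f94007)) (.node (.leaf 0x46550005) (.leaf 0x55170001))) (.node (.node (.leaf 0x3b1d0001) (.leaf 0x54198005)) (.node (.leaf 0x55efc001) (.leaf 0x0)))))) (.node (.node (.node (.node (.node (.leaf 0x54770001) (.leaf 0x6ab44007)) (.node (.leaf 0x538b8001) (.leaf 0x55214005))) (.node (.node (.leaf 0x5416c005) (.leaf 0x51cec005)) (.node (.leaf 0x45908001) (.leaf 0x5ccbc001)))) (.node (.node (.node (.leaf 0x41234005) (.leaf 0x53524005)) (.node (.leaf 0x34e6c001) (.leaf 0x4cbfc001))) (.node (.node (.leaf 0x479b0005) (.leaf 0x55d5c001)) (.node (.leaf 0x4c82c005) (.leaf 0x0))))) (.node (.node (.node (.node (.leaf 0x603c4001) (.leaf 0x3e42c001)) (.node (.leaf 0x4f59c001) (.leaf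 0x48fec007))) (.node (.node (.leaf 0x5d038007) (.leaf 0x30ba4007)) (.node (.leaf 0x6851c007) (.leaf 0x0)))) (.node (.node (.node (.leaf 0x54844001) (.leaf 0x440e4007)) (.node (.leaf 0x275a0005) (.leaf 0x4c974007))) (.node (.node (.leaf 0x4734c005) (.leaf 0x4aa60005)) (.node (.leaf 0x3f1e8005) (.leaf 0x0))))))))) (.node (.node (.node (.node (.node (.node (.node (.node (.leaf 0x503a8001) (.leaf 0x46ca4001)) (.node (.leaf 0x52a50001) (.leaf 0x48b7c001))) (.node (.node (.leaf 0x489f0001) (.leaf 0x4de28001)) (.node (.leaf 0x5a3d8007) (.leaf 0x48be0007)))) (.node (.node (.node (.leaf 0x50408001) (.leaf 0x3a22c005)) (.node (.leaf 0x3f674007) (.leaf 0x2dca8005))) (.node (.node (.leaf 0x5eb38007) (.leaf 0x44e3c001)) (.node (.leaf 0x516d4001) (.leaf 0x0))))) (.node (.node (.node (.node (.leaf 0x5371c007) (.leaf 0x3604c001)) (.node (.leaf 0x2f168001) (.leaf 0x62ee8007))) (.node (.node (.leaf 0x48788001) (.leaf 0x5787c007)) (.node (.leaf 0x42954001) (.leaf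 0x500ec005)))) (.node (.node (.node (.leaf 0x502c8001) (.leaf 0x54de8001)) (.node (.leaf 0x51ef8001) (.leaf 0x405dc005))) (.node (.node (.leaf 0x67910001) (.leaf 0x55f9c001)) (.node (.leaf 0x40990007) (.leaf 0x0)))))) (.node (.node (.node (.node (.node (.leaf 0x5402c005) (.leaf 0x66d9c001)) (.node (.leaf 0x4f2bc005) (.leaf 0x4e184005))) (.node (.node (.leaf 0x5056c001) (.leaf 0x3e6b0007)) (.node (.leaf 0x26bf8001) (.leaf 0x5c100007)))) (.node (.node (.node (.leaf 0x4fa7c005) (.leaf 0x4b774007)) (.node (.leaf 0x4f2c4001) (.leaf 0x50c38001))) (.node (.node (.leaf 0x5299c007) (.leaf 0x2229c001)) (.node (.leaf 0x464fc007) (.leaf 0x0))))) (.node (.node (.node (.node (.leaf 0x4b108007) (.leaf 0x550f8001)) (.node (.leaf 0x41bc0001) (.leaf 0x34df4001))) (.node (.node (.leaf 0x4a824007) (.leaf 0x65608007)) (.node (.leaf 0x4c114005) (.leaf 0x40dc4001)))) (.node (.node (.node (.leaf 0x45f54005) (.leaf 0x46608001)) (.node (.leaf 0x3ddb8005) (.leaf 0x539a8005)))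 (.node (.node (.leaf 0x39b6c001) (.leaf 0x410f0001)) (.node (.leaf 0x5207c001) (.leaf 0x0))))))) (.node (.node (.node (.node (.node (.node (.leaf 0x4cf78007) (.leaf 0x4ba04005)) (.node (.leaf 0x5f8b0001) (.leaf 0x3e4e8007))) (.node (.node (.leaf 0x544c8001) (.leaf 0x62548001)) (.node (.leaf 0x56644001) (.leaf 0x4af48005)))) (.node (.node (.node (.leaf 0x24078001) (.leaf 0x54b10007)) (.node (.leaf 0x63844001) (.leaf 0x40a34005))) (.node (.node (.leaf 0x3e3f4005) (.leaf 0x42d28007)) (.node (.leaf 0x54fe8005) (.leaf 0x0))))) (.node (.node (.node (.node (.leaf 0x3c1fc005) (.leaf 0x4a6e0001)) (.node (.leaf 0x5d1e8007) (.leaf 0x51148007))) (.node (.node (.leaf 0x4d00c005) (.leaf 0x46550007)) (.node (.leaf 0x61600001) (.leaf 0x4cb98001)))) (.node (.node (.node (.leaf 0x5f79c007) (.leaf 0x1c550005)) (.node (.leaf 0x4d680005) (.leaf 0x41ec0005))) (.node (.node (.leaf 0x3ae0c001) (.leaf 0x4a1b0001)) (.node (.leaf 0x4c8bc005) (.leaf 0x0)))))) (.node (.node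 (.node (.node (.node (.leaf 0x47164005) (.leaf 0x36eb0001)) (.node (.leaf 0x40990005) (.leaf 0x45e64005))) (.node (.node (.leaf 0x54178001) (.leaf 0x4e038001)) (.node (.leaf 0x4a72c005) (.leaf 0x38af8001)))) (.node (.node (.node (.leaf 0x275a0007) (.leaf 0x51108005)) (.node (.leaf 0x44854005) (.leaf 0x4000007))) (.node (.node (.leaf 0x4a9c0001) (.leaf 0x5a300001)) (.node (.leaf 0x42d00005) (.leaf 0x0))))) (.node (.node (.node (.node (.leaf 0x44028001) (.leaf 0x5224c001)) (.node (.leaf 0x3307c005) (.leaf 0x64bdc001))) (.node (.node (.leaf 0x1ebbc005) (.leaf 0x4d7dc001)) (.node (.leaf 0x5e864001) (.leaf 0x0)))) (.node (.node (.node (.leaf 0x2ca18001) (.leaf 0x55844007)) (.node (.leaf 0x41e68001) (.leaf 0x50d60001))) (.node (.node (.leaf 0x3e6c4005) (.leaf 0x38ac8001)) (.node (.leaf 0x46620001) (.leaf 0x0)))))))) (.node (.node (.node (.node (.node (.node (.node (.leaf 0x549c0005) (.leaf 0x48cdc007)) (.node (.leaf 0x4b468005) (.leaf 0x38640005)))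 (.node (.node (.leaf 0x46314007) (.leaf 0x46314005)) (.node (.leaf 0x3f268001) (.leaf 0x44c00001)))) (.node (.node (.node (.leaf 0x62a58007) (.leaf 0x45fe0001)) (.node (.leaf 0x1c60c007) (.leaf 0x48f44001))) (.node (.node (.leaf 0x532f8007) (.leaf 0x48a38005)) (.node (.leaf 0x2c724007) (.leaf 0x0))))) (.node (.node (.node (.node (.leaf 0x4c6ec001) (.leaf 0x40d90001)) (.node (.leaf 0x482d4005) (.leaf 0x54c10001))) (.node (.node (.leaf 0x34758005) (.leaf 0x554cc005)) (.node (.leaf 0x32384001) (.leaf 0x30554007)))) (.node (.node (.node (.leaf 0x504ec001) (.leaf 0x50d14007)) (.node (.leaf 0x51c30001) (.leaf 0x25130001))) (.node (.node (.leaf 0x30ba4005) (.leaf 0x61654005)) (.node (.leaf 0x521fc001) (.leaf 0x0)))))) (.node (.node (.node (.node (.node (.leaf 0x509c8001) (.leaf 0x5ed58001)) (.node (.leaf 0x4a2b0005) (.leaf 0x3de44005))) (.node (.node (.leaf 0x511bc007) (.leaf 0x4a394001)) (.node (.leaf 0x23454007) (.leaf 0x5e958007)))) (.node (.node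 (.node (.leaf 0x4e5e4005) (.leaf 0x40e98001)) (.node (.leaf 0x66648001) (.leaf 0x3ca98001))) (.node (.node (.leaf 0x4292c001) (.leaf 0x62a58005)) (.node (.leaf 0x4ccfc007) (.leaf 0x0))))) (.node (.node (.node (.node (.leaf 0x4c460001) (.leaf 0x48ee4007)) (.node (.leaf 0x25078001) (.leaf 0x54fe8007))) (.node (.node (.leaf 0x4775c005) (.leaf 0x3c708005)) (.node (.leaf 0x36c68005) (.leaf 0x0)))) (.node (.node (.node (.leaf 0x441a8001) (.leaf 0x5b478007)) (.node (.leaf 0x4000005) (.leaf 0x50e48001))) (.node (.node (.leaf 0x3453c007) (.leaf 0x32ef4005)) (.node (.leaf 0x45b40007) (.leaf 0x0))))))) (.node (.node (.node (.node (.node (.node (.leaf 0x4c32c001) (.leaf 0x58ca8001)) (.node (.leaf 0x3d660007) (.leaf 0x43570007))) (.node (.node (.leaf 0x4171c007) (.leaf 0x55adc005)) (.node (.leaf 0x565b4005) (.leaf 0x20bac001)))) (.node (.node (.node (.leaf 0x4e2d0007) (.leaf 0x3ceac007)) (.node (.leaf 0x4f434005) (.leaf 0x3f184007))) (.node (.node (.leaf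 0x60124005) (.leaf 0x5b384007)) (.node (.leaf 0x4dc48001) (.leaf 0x0))))) (.node (.node (.node (.node (.leaf 0x5442c005) (.leaf 0x4e244007)) (.node (.leaf 0x36270007) (.leaf 0x38d78001))) (.node (.node (.leaf 0x4aa7c001) (.leaf 0x54dbc007)) (.node (.leaf 0x60944005) (.leaf 0x255b8005)))) (.node (.node (.node (.leaf 0x49580007) (.leaf 0x2b340007)) (.node (.leaf 0x4a408001) (.leaf 0x58808005))) (.node (.node (.leaf 0x5a354005) (.leaf 0x50464007)) (.node (.leaf 0x6e4a0001) (.leaf 0x0)))))) (.node (.node (.node (.node (.node (.leaf 0x448ec001) (.leaf 0x4e37c001)) (.node (.leaf 0x48b94001) (.leaf 0x44138007))) (.node (.node (.leaf 0x339bc007) (.leaf 0x42ec4007)) (.node (.leaf 0x3101c001) (.leaf 0x54b48007)))) (.node (.node (.node (.leaf 0x34538001) (.leaf 0x506d4005)) (.node (.leaf 0x4ace8001) (.leaf 0x46de0007))) (.node (.node (.leaf 0x565cc001) (.leaf 0x45ffc001)) (.node (.leaf 0x34f24001) (.leaf 0x0))))) (.node (.node (.node (.node (.leaf 0x4de50005)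 (.leaf 0x37b44005)) (.node (.leaf 0x513cc005) (.leaf 0x5ef28005))) (.node (.node (.leaf 0x36c68007) (.leaf 0x31964001)) (.node (.leaf 0x6a2e0005) (.leaf 0x0)))) (.node (.node (.node (.leaf 0x4ca4c005) (.leaf 0x500ec007)) (.node (.leaf 0x4ae48007) (.leaf 0x20960007))) (.node (.node (.leaf 0x470ec001) (.leaf 0x5eb8c007)) (.node (.leaf 0x3edfc001) (.leaf 0x0))))))))))

/-- packed table -/
noncomputable def cov0_rrr : BTree := (.node (.node (.node (.node (.node (.node (.node (.node (.node (.leaf 0x403a0001) (.leaf 0x49ec8007)) (.node (.leaf 0x2c0d0005) (.leaf 0x41f00001))) (.node (.node (.leaf 0x3f8cc005) (.leaf 0x4cb0c005)) (.node (.leaf 0x635fc001) (.leaf 0x350d0007)))) (.node (.node (.node (.leaf 0x48a9c005) (.leaf 0x4a258005)) (.node (.leaf 0x65ad8007) (.leaf 0x4b1f8001))) (.node (.node (.leaf 0x54efc005) (.leaf 0x39d18001)) (.node (.leaf 0x5a744001) (.leaf 0x0))))) (.node (.node (.node (.node (.leaf 0x47710007) (.leaf 0xe3e0001)) (.node (.leaf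 0x63588005) (.leaf 0x597d8005))) (.node (.node (.leaf 0x4e3bc005) (.leaf 0x48de0001)) (.node (.leaf 0x4ec18005) (.leaf 0x35788001)))) (.node (.node (.node (.leaf 0x3307c007) (.leaf 0x41960005)) (.node (.leaf 0x6b93c001) (.leaf 0x39890001))) (.node (.node (.leaf 0x4f1f0001) (.leaf 0x34f84007)) (.node (.leaf 0x4db4c007) (.leaf 0x0)))))) (.node (.node (.node (.node (.node (.leaf 0x5806c001) (.leaf 0x503f8007)) (.node (.leaf 0x634f0001) (.leaf 0x571c0001))) (.node (.node (.leaf 0x49708005) (.leaf 0x1a068001)) (.node (.leaf 0x35cdc007) (.leaf 0x550dc005)))) (.node (.node (.node (.leaf 0x64684001) (.leaf 0x3a5dc001)) (.node (.leaf 0x359ec007) (.leaf 0x5a5c4007))) (.node (.node (.leaf 0x4b598001) (.leaf 0x4f02c005)) (.node (.leaf 0x46298001) (.leaf 0x0))))) (.node (.node (.node (.node (.leaf 0x3e3e4005) (.leaf 0x46964005)) (.node (.leaf 0x3a834005) (.leaf 0x3f230001))) (.node (.node (.leaf 0x4d00c007) (.leaf 0x976c001)) (.node (.leaf 0x4d7ec001) (.leaf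 0x48e70001)))) (.node (.node (.node (.leaf 0x46b64007) (.leaf 0x54e20001)) (.node (.leaf 0x3f0c8001) (.leaf 0x4f880001))) (.node (.node (.leaf 0x4ef84005) (.leaf 0x5ded0001)) (.node (.leaf 0x3880c005) (.leaf 0x0))))))) (.node (.node (.node (.node (.node (.node (.leaf 0x543e4007) (.leaf 0x4cf74007)) (.node (.leaf 0x5e74c001) (.leaf 0x1319c001))) (.node (.node (.leaf 0x48a78001) (.leaf 0x5a104007)) (.node (.leaf 0x21bb8007) (.leaf 0x72dd8005)))) (.node (.node (.node (.leaf 0x4c080001) (.leaf 0x5b744005)) (.node (.leaf 0x40e18005) (.leaf 0x839c007))) (.node (.node (.leaf 0x56ba0005) (.leaf 0x4ea1c007)) (.node (.leaf 0x4e8d8005) (.leaf 0x0))))) (.node (.node (.node (.node (.leaf 0x307ac007) (.leaf 0x1f5e8005)) (.node (.leaf 0x5afe8005) (.leaf 0x44e74007))) (.node (.node (.leaf 0x476ac001) (.leaf 0x49a7c001)) (.node (.leaf 0x30e84005) (.leaf 0x35bb0005)))) (.node (.node (.node (.leaf 0x40240001) (.leaf 0x5a8a0007)) (.node (.leaf 0x55644005) (.leaf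 0x54b58007))) (.node (.node (.leaf 0x4d33c007) (.leaf 0x48f54007)) (.node (.leaf 0x4e0ac001) (.leaf 0x0)))))) (.node (.node (.node (.node (.node (.leaf 0x54f80007) (.leaf 0x43614007)) (.node (.leaf 0x48978005) (.leaf 0xeb1c007))) (.node (.node (.leaf 0x3f2ec007) (.leaf 0x4e398001)) (.node (.leaf 0x56434007) (.leaf 0x31730001)))) (.node (.node (.node (.leaf 0x5a5c4005) (.leaf 0x4caf0001)) (.node (.leaf 0x372a8001) (.leaf 0x48d84007))) (.node (.node (.leaf 0x5dad0001) (.leaf 0x62250007)) (.node (.leaf 0x39a4c005) (.leaf 0x0))))) (.node (.node (.node (.node (.leaf 0x4000001) (.leaf 0x3e57c001)) (.node (.leaf 0x5b080005) (.leaf 0x571b4001))) (.node (.node (.leaf 0x4f344007) (.leaf 0x34b44001)) (.node (.leaf 0x4baa4007) (.leaf 0x0)))) (.node (.node (.node (.leaf 0x50a20001) (.leaf 0x55838007)) (.node (.leaf 0x5c018005) (.leaf 0x5b6bc001))) (.node (.node (.leaf 0x4560c007) (.leaf 0x3f2f4005)) (.node (.leaf 0x53430007) (.leaf 0x0)))))))) (.node (.node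 (.node (.node (.node (.node (.node (.leaf 0x5049c007) (.leaf 0x111dc001)) (.node (.leaf 0x4d974007) (.leaf 0x4a200001))) (.node (.node (.leaf 0x479f4007) (.leaf 0x479f4005)) (.node (.leaf 0x2f884001) (.leaf 0x55e6c005)))) (.node (.node (.node (.leaf 0x40378001) (.leaf 0x61618005)) (.node (.leaf 0x45f24005) (.leaf 0x570f8001))) (.node (.node (.leaf 0x4f914001) (.leaf 0x5ccf8007)) (.node (.leaf 0x4afbc005) (.leaf 0x0))))) (.node (.node (.node (.node (.leaf 0x40704001) (.leaf 0x13258007)) (.node (.leaf 0x50300005) (.leaf 0x5b1fc001))) (.node (.node (.leaf 0x3f7c0005) (.leaf 0x44440005)) (.node (.leaf 0x61530005) (.leaf 0x4edb4007)))) (.node (.node (.node (.leaf 0x60514001) (.leaf 0x4cd1c007)) (.node (.leaf 0x1937c005) (.leaf 0x4469c005))) (.node (.node (.leaf 0x469ec001) (.leaf 0x1e91c005)) (.node (.leaf 0x44d04007) (.leaf 0x0)))))) (.node (.node (.node (.node (.node (.leaf 0x65ae0007) (.leaf 0x52edc001)) (.node (.leaf 0x3ec34007) (.leaf 0x301d8007)))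 (.node (.node (.leaf 0x38580001) (.leaf 0x5a878001)) (.node (.leaf 0x4c5b0005) (.leaf 0x41874005)))) (.node (.node (.node (.leaf 0x38cf0005) (.leaf 0x4ed0c005)) (.node (.leaf 0x49208001) (.leaf 0x55900001))) (.node (.node (.leaf 0x537cc001) (.leaf 0x62194001)) (.node (.leaf 0x50b24007) (.leaf 0x0))))) (.node (.node (.node (.node (.leaf 0x3c458001) (.leaf 0x48e40001)) (.node (.leaf 0x26228001) (.leaf 0x55ec4007))) (.node (.node (.leaf 0x52134007) (.leaf 0x55b8c001)) (.node (.leaf 0x3cc24005) (.leaf 0x0)))) (.node (.node (.node (.leaf 0x21bb8005) (.leaf 0x56668001)) (.node (.leaf 0x37128007) (.leaf 0x436a0001))) (.node (.node (.leaf 0x3799c007) (.leaf 0x511a8005)) (.node (.leaf 0x51560005) (.leaf 0x0))))))) (.node (.node (.node (.node (.node (.node (.leaf 0x5ba34007) (.leaf 0x55f5c001)) (.node (.leaf 0x52570001) (.leaf 0x54ce0005))) (.node (.node (.leaf 0x544dc001) (.leaf 0x420b8005)) (.node (.leaf 0x4f264001) (.leaf 0x49494001)))) (.node (.node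 (.node (.leaf 0x51cb0005) (.leaf 0x3de40007)) (.node (.leaf 0x43440005) (.leaf 0x3f198001))) (.node (.node (.leaf 0x46cac001) (.leaf 0x57734005)) (.node (.leaf 0x32c20001) (.leaf 0x0))))) (.node (.node (.node (.node (.leaf 0x4d258007) (.leaf 0x5c508005)) (.node (.leaf 0x52588001) (.leaf 0x6722c001))) (.node (.node (.leaf 0x334c8005) (.leaf 0x65a74007)) (.node (.leaf 0x524d0001) (.leaf 0x65aac007)))) (.node (.node (.node (.leaf 0x503d8005) (.leaf 0x5787c005)) (.node (.leaf 0x4ea9c007) (.leaf 0x471c8007))) (.node (.node (.leaf 0x4f8ac001) (.leaf 0x4f74c007)) (.node (.leaf 0x508e4005) (.leaf 0x0)))))) (.node (.node (.node (.node (.node (.leaf 0x34db4007) (.leaf 0x49c88005)) (.node (.leaf 0xeb1c005) (.leaf 0x3b0a0001))) (.node (.node (.leaf 0x64820001) (.leaf 0x5ad50005)) (.node (.leaf 0x521d8001) (.leaf 0x45284005)))) (.node (.node (.node (.leaf 0x3c544001) (.leaf 0x37520005)) (.node (.leaf 0x45e98007) (.leaf 0x55438001))) (.node (.node (.leaf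 0x4b10c001) (.leaf 0x59d4c001)) (.node (.leaf 0x62188005) (.leaf 0x0))))) (.node (.node (.node (.node (.leaf 0x50ab0005) (.leaf 0x47b34005)) (.node (.leaf 0x513cc007) (.leaf 0x5cb60007))) (.node (.node (.leaf 0x62460007) (.leaf 0x416fc001)) (.node (.leaf 0x40524007) (.leaf 0x0)))) (.node (.node (.node (.leaf 0x4a46c007) (.leaf 0x580b8007)) (.node (.leaf 0x4a284007) (.leaf 0x44110005))) (.node (.node (.leaf 0x55ccc007) (.leaf 0x2a230001)) (.node (.leaf 0x3f1dc005) (.leaf 0x0))))))))) (.node (.node (.node (.node (.node (.node (.node (.node (.leaf 0x5e2cc005) (.leaf 0x5a6dc001)) (.node (.leaf 0x2589c001) (.leaf 0x320b0001))) (.node (.node (.leaf 0x55574007) (.leaf 0x512f0007)) (.node (.leaf 0x52554001) (.leaf 0x626fc005)))) (.node (.node (.node (.leaf 0x4aa68007) (.leaf 0x5ad60007)) (.node (.leaf 0x3880c007) (.leaf 0x330b4001))) (.node (.node (.leaf 0x51c40005) (.leaf 0x1d65c001)) (.node (.leaf 0x4d934005) (.leaf 0x0))))) (.node (.node (.node (.node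 (.leaf 0x42c60005) (.leaf 0x40e04001)) (.node (.leaf 0x4e114005) (.leaf 0x56100005))) (.node (.node (.leaf 0x407a4001) (.leaf 0x4ddf8001)) (.node (.leaf 0x417b8001) (.leaf 0x31444001)))) (.node (.node (.node (.leaf 0x482c0001) (.leaf 0x3f184005)) (.node (.leaf 0x4876c005) (.leaf 0x3c5f4005))) (.node (.node (.leaf 0x40d3c005) (.leaf 0x53950005)) (.node (.leaf 0x1625c001) (.leaf 0x0)))))) (.node (.node (.node (.node (.node (.leaf 0x57210005) (.leaf 0x4a110001)) (.node (.leaf 0x39a24001) (.leaf 0x3cecc007))) (.node (.node (.leaf 0x49af8007) (.leaf 0x3ee50007)) (.node (.leaf 0x49e74005) (.leaf 0x64108007)))) (.node (.node (.node (.leaf 0x30610001) (.leaf 0x5d118001)) (.node (.leaf 0x52134005) (.leaf 0x3d774001))) (.node (.node (.leaf 0x3e390001) (.leaf 0x36290001)) (.node (.leaf 0x39734007) (.leaf 0x0))))) (.node (.node (.node (.node (.leaf 0x4ba24007) (.leaf 0x6240c001)) (.node (.leaf 0x4a858001) (.leaf 0x47178001))) (.node (.node (.leaf 0x41b90007)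 (.leaf 0x55164001)) (.node (.leaf 0x369e8001) (.leaf 0x4f4a0005)))) (.node (.node (.node (.leaf 0x5c5d0001) (.leaf 0x3cf2c007)) (.node (.leaf 0x4b120007) (.leaf 0x5aa08005))) (.node (.node (.leaf 0x3ca44007) (.leaf 0x49f60001)) (.node (.leaf 0x248b4005) (.leaf 0x0))))))) (.node (.node (.node (.node (.node (.node (.leaf 0x4ba40007) (.leaf 0x4cc34001)) (.node (.leaf 0x63820005) (.leaf 0x2ab18007))) (.node (.node (.leaf 0x484e0001) (.leaf 0x4dd98001)) (.node (.leaf 0x52598005) (.leaf 0x41b78007)))) (.node (.node (.node (.leaf 0x3c8b0001) (.leaf 0x5b3c0007)) (.node (.leaf 0x3ea90007) (.leaf 0x25cf8005))) (.node (.node (.leaf 0x5ab3c005) (.leaf 0x36050001)) (.node (.leaf 0x49000005) (.leaf 0x0))))) (.node (.node (.node (.node (.leaf 0x54058005) (.leaf 0x544f4005)) (.node (.leaf 0x3ab9c007) (.leaf 0x4b100001))) (.node (.node (.leaf 0x4d030005) (.leaf 0x4e640007)) (.node (.leaf 0x62088001) (.leaf 0x360c4007)))) (.node (.node (.node (.leaf 0x50220001)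 (.leaf 0x50db0001)) (.node (.leaf 0x44a3c005) (.leaf 0x55ec4005))) (.node (.node (.leaf 0x38348007) (.leaf 0x4619c001)) (.node (.leaf 0x53354005) (.leaf 0x0)))))) (.node (.node (.node (.node (.node (.leaf 0x16e34007) (.leaf 0x2f60c007)) (.node (.leaf 0x4f090001) (.leaf 0x4331c005))) (.node (.node (.leaf 0x5a568005) (.leaf 0x41fec007)) (.node (.leaf 0x4f77c005) (.leaf 0x2d690001)))) (.node (.node (.node (.leaf 0x342cc007) (.leaf 0x45e2c001)) (.node (.leaf 0x41b78005) (.leaf 0x5c018007))) (.node (.node (.leaf 0x513a4001) (.leaf 0x4035c005)) (.node (.leaf 0x2efdc005) (.leaf 0x0))))) (.node (.node (.node (.node (.leaf 0x3f04c007) (.leaf 0x490e0001)) (.node (.leaf 0x529e4005) (.leaf 0x5b1c4007))) (.node (.node (.leaf 0x5f58c001) (.leaf 0x19c70001)) (.node (.leaf 0x3d43c001) (.leaf 0x0)))) (.node (.node (.node (.leaf 0x46480007) (.leaf 0x56634001)) (.node (.leaf 0x40e30001) (.leaf 0x4ca7c007))) (.node (.node (.leaf 0x582f8007) (.leaf 0x46350001))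 (.node (.leaf 0x43018007) (.leaf 0x0)))))))) (.node (.node (.node (.node (.node (.node (.node (.leaf 0x45180007) (.leaf 0x4c4a4005)) (.node (.leaf 0x510a0005) (.leaf 0x2f0bc001))) (.node (.node (.leaf 0x4353c007) (.leaf 0x4e518001)) (.node (.leaf 0x539c0001) (.leaf 0x53720001)))) (.node (.node (.node (.leaf 0x440a0001) (.leaf 0x4ca4c007)) (.node (.leaf 0x52c58005) (.leaf 0x43254001))) (.node (.node (.leaf 0x43300007) (.leaf 0x4dd7c001)) (.node (.leaf 0x45f0c007) (.leaf 0x0))))) (.node (.node (.node (.node (.leaf 0x3a008007) (.leaf 0x3e380005)) (.node (.leaf 0x56b84001) (.leaf 0x5d620005))) (.node (.node (.leaf 0x48874001) (.leaf 0x44df8007)) (.node (.leaf 0x47628007) (.leaf 0x497f8001)))) (.node (.node (.node (.leaf 0x4ef3c007) (.leaf 0x5a040001)) (.node (.leaf 0x3d384005) (.leaf 0x45f24007))) (.node (.node (.leaf 0x36718005) (.leaf 0x4cf7c007)) (.node (.leaf 0x54f60001) (.leaf 0x0)))))) (.node (.node (.node (.node (.node (.leaf 0x4532c005)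 (.leaf 0x622fc005)) (.node (.leaf 0x562b4005) (.leaf 0x4b244001))) (.node (.node (.leaf 0x5b690005) (.leaf 0x39fd8001)) (.node (.leaf 0x5b45c007) (.leaf 0x52950007)))) (.node (.node (.node (.leaf 0x1a3e8007) (.leaf 0x3acb4005)) (.node (.leaf 0x5b068001) (.leaf 0x49778001))) (.node (.node (.leaf 0x3f7c0007) (.leaf 0x638d8007)) (.node (.leaf 0x49fd4007) (.leaf 0x0))))) (.node (.node (.node (.node (.leaf 0x4844c001) (.leaf 0x49630005)) (.node (.leaf 0x163a8001) (.leaf 0x4ad08005))) (.node (.node (.leaf 0x46bdc005) (.leaf 0x38d88007)) (.node (.leaf 0x395cc007) (.leaf 0x0)))) (.node (.node (.node (.leaf 0x301c0001) (.leaf 0x3c910005)) (.node (.leaf 0x536a4001) (.leaf 0x4b65c001))) (.node (.node (.leaf 0x4a900001) (.leaf 0x41f30001)) (.node (.leaf 0x3d714005) (.leaf 0x0))))))) (.node (.node (.node (.node (.node (.node (.leaf 0x4c040001) (.leaf 0x538d4007)) (.node (.leaf 0x525b8007) (.leaf 0x4b29c001))) (.node (.node (.leaf 0x440c0005) (.leaf 0x60ba0001))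 (.node (.leaf 0x3f740005) (.leaf 0x499c0005)))) (.node (.node (.node (.leaf 0x562e8007) (.leaf 0x41fdc001)) (.node (.leaf 0x4a5e8001) (.leaf 0x30868005))) (.node (.node (.leaf 0x4b130001) (.leaf 0x45fbc001)) (.node (.leaf 0x3e9b8001) (.leaf 0x0))))) (.node (.node (.node (.node (.leaf 0x44870007) (.leaf 0x5edb0001)) (.node (.leaf 0x44d4c005) (.leaf 0x4b218001))) (.node (.node (.leaf 0x418d4001) (.leaf 0x3a22c007)) (.node (.leaf 0x450d4007) (.leaf 0x3e614005)))) (.node (.node (.node (.leaf 0x4ca2c005) (.leaf 0x5e580001)) (.node (.leaf 0x3ddc4005) (.leaf 0x559d0007))) (.node (.node (.leaf 0x53a54001) (.leaf 0x3e080001)) (.node (.leaf 0x51ac4005) (.leaf 0x0)))))) (.node (.node (.node (.node (.node (.leaf 0x388e8001) (.leaf 0x4ec18007)) (.node (.leaf 0x4353c005) (.leaf 0x56898007))) (.node (.node (.leaf 0x4081c001) (.leaf 0x3f04c005)) (.node (.leaf 0x2a3b4001) (.leaf 0x39910001)))) (.node (.node (.node (.leaf 0x38484007) (.leaf 0x503d8007)) (.node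 (.leaf 0x500fc005) (.leaf 0x5ede8007))) (.node (.node (.leaf 0x5d4c8007) (.leaf 0x38cf0007)) (.node (.leaf 0x3a008005) (.leaf 0x0))))) (.node (.node (.node (.node (.leaf 0x59090005) (.leaf 0x44360005)) (.node (.leaf 0x629c8007) (.leaf 0x4f1f4001))) (.node (.node (.leaf 0x4a5bc007) (.leaf 0x45a30007)) (.node (.leaf 0x49c20007) (.leaf 0x0)))) (.node (.node (.node (.leaf 0x538d4005) (.leaf 0x50b24005)) (.node (.leaf 0x34218007) (.leaf 0x359f0007))) (.node (.node (.leaf 0x59cc8007) (.leaf 0x5a0e0001)) (.node (.leaf 0x40b34007) (.leaf 0x0))))))))))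

/-- packed table -/
noncomputable def cov0 : BTree := (.node (.node (.node cov0_lll cov0_llr) (.node cov0_lrl cov0_lrr)) (.node (.node cov0_rll cov0_rlr) (.node cov0_rrl cov0_rrr)))

theorem cov0_ok : okCover 0 cov0 = true := by decide +kernel

end CfsgLib.Spor.J4.Index
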