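import Cfsg.Agent.Lib.Spor.J4.Index.Check

/-!
Coverage and stabiliser of node 1 (generated).
-/

set_option autoImplicit false
set_option linter.all false

namespace CfsgLib.Spor.J4.Index

open CfsgLib.PresCert

/-- packed table -/
noncomputable def cov1_lll : BTree := (.node (.node (.node (.node (.node (.node (.node (.node (.node (.leaf 0xa) (.leaf 0x1a6c400f)) (.node (.leaf 0x219f4013) (.leaf 0x1a24800f))) (.node (.node (.leaf 0x1d708013) (.leaf 0x1a0c4011)) (.node (.leaf 0x18358013) (.leaf 0x1eed000f)))) (.node (.node (.node (.leaf 0x20844013) (.leaf 0x1b4ac013)) (.node (.leaf 0x22b9800d) (.leaf 0x21f38011))) (.node (.node (.leaf 0x1e244013) (.leaf 0x26680013)) (.node (.leaf 0x1da9800d) (.leaf 0x0))))) (.node (.node (.node (.node (.leaf 0x1f768011) (.leaf 0x1986c011)) (.node (.leaf 0x1b2c000d) (.leaf 0x1f9a800d))) (.node (.node (.leaf 0x1d3d0013) (.leaf 0x217ac00d)) (.node (.leaf 0x1972000d) (.leaf 0x1e06400d)))) (.node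 (.node (.node (.leaf 0x1c7a800d) (.leaf 0x1ba94011)) (.node (.leaf 0x180bc00d) (.leaf 0x1648800f))) (.node (.node (.leaf 0x1dda000f) (.leaf 0x1b09400f)) (.node (.leaf 0x179c0013) (.leaf 0x0)))))) (.node (.node (.node (.node (.node (.leaf 0x1ea98013) (.leaf 0x187b4011)) (.node (.leaf 0x1ebe400d) (.leaf 0x1d0b000f))) (.node (.node (.leaf 0x211bc013) (.leaf 0x1449c00f)) (.node (.leaf 0x1903000d) (.leaf 0x22674011)))) (.node (.node (.node (.leaf 0x195f800d) (.leaf 0x1d264011)) (.node (.leaf 0x1b70c00d) (.leaf 0x1761c011))) (.node (.node (.leaf 0x1d590013) (.leaf 0x16da0011)) (.node (.leaf 0x11ff8013) (.leaf 0x0))))) (.node (.node (.node (.node (.leaf 0x1827400f) (.leaf 0x1e21400d)) (.node (.leaf 0x1e7e0011) (.leaf 0x1f68000d))) (.node (.node (.leaf 0xd0ec011) (.leaf 0x25dc400f)) (.node (.leaf 0x238b000d) (.leaf 0x1d1cc00d)))) (.node (.node (.node (.leaf 0x18a3400f) (.leaf 0x20bbc011)) (.node (.leaf 0x107bc00d) (.leaf 0x119f000d)))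 (.node (.node (.leaf 0x18310013) (.leaf 0x1ad68013)) (.node (.leaf 0x20d7400d) (.leaf 0x0))))))) (.node (.node (.node (.node (.node (.node (.leaf 0x20ef0013) (.leaf 0x21a8800d)) (.node (.leaf 0x1163c011) (.leaf 0x1c07000f))) (.node (.node (.leaf 0x142fc013) (.leaf 0x2154c011)) (.node (.leaf 0x1a218013) (.leaf 0x208f000f)))) (.node (.node (.node (.leaf 0x154b400d) (.leaf 0x2151400f)) (.node (.leaf 0x1cb80013) (.leaf 0x1b62c00d))) (.node (.node (.leaf 0x18a50013) (.leaf 0x1e69c00f)) (.node (.leaf 0x1a938011) (.leaf 0x0))))) (.node (.node (.node (.node (.leaf 0x1e470013) (.leaf 0x2023000d)) (.node (.leaf 0x156d000d) (.leaf 0x1f9b000d))) (.node (.node (.leaf 0x22cb800f) (.leaf 0x149f800d)) (.node (.leaf 0x106a4013) (.leaf 0x21e1c00d)))) (.node (.node (.node (.leaf 0x21cb400f) (.leaf 0x21dd000f)) (.node (.leaf 0x2215400f) (.leaf 0x1a80c013))) (.node (.node (.leaf 0x21b1000d) (.leaf 0x1f2bc011)) (.node (.leaf 0x187f400f) (.leaf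 0x0)))))) (.node (.node (.node (.node (.node (.leaf 0x1add800f) (.leaf 0x17ae8011)) (.node (.leaf 0x1c2e800d) (.leaf 0x16648011))) (.node (.node (.leaf 0xd0d800d) (.leaf 0x1ba98013)) (.node (.leaf 0x20d0800f) (.leaf 0x21dec00d)))) (.node (.node (.node (.leaf 0x1d0cc00d) (.leaf 0x1f38c00d)) (.node (.leaf 0x1a10c013) (.leaf 0x1d33400d))) (.node (.node (.leaf 0x1e5d4013) (.leaf 0x132d4013)) (.node (.leaf 0x15b5800f) (.leaf 0x0))))) (.node (.node (.node (.node (.leaf 0x231a000d) (.leaf 0x21bc4011)) (.node (.leaf 0x19c08011) (.leaf 0x1c8b400d))) (.node (.node (.leaf 0x19ff400f) (.leaf 0x1f36c00f)) (.node (.leaf 0x1ec3400f) (.leaf 0x0)))) (.node (.node (.node (.leaf 0x15c38013) (.leaf 0x1cb90011)) (.node (.leaf 0x20d34013) (.leaf 0x22b9400f))) (.node (.node (.leaf 0x1af74011) (.leaf 0x21ab400d)) (.node (.leaf 0x1f060013) (.leaf 0x0)))))))) (.node (.node (.node (.node (.node (.node (.node (.leaf 0xa8) (.leaf 0x14158011)) (.node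 (.leaf 0x1a9d800f) (.leaf 0x1d2c000f))) (.node (.node (.leaf 0x234b400f) (.leaf 0x18f68011)) (.node (.leaf 0x14f9800d) (.leaf 0x21ea8011)))) (.node (.node (.node (.leaf 0x19330013) (.leaf 0xb08400f)) (.node (.leaf 0x20508013) (.leaf 0x1c65000d))) (.node (.node (.leaf 0x1da68013) (.leaf 0x1b0d4011)) (.node (.leaf 0x5158013) (.leaf 0x0))))) (.node (.node (.node (.node (.leaf 0x1f80c011) (.leaf 0x21f5c013)) (.node (.leaf 0x19ccc011) (.leaf 0x1de38011))) (.node (.node (.leaf 0x1cad0011) (.leaf 0x214fc00d)) (.node (.leaf 0x114c4011) (.leaf 0x18908013)))) (.node (.node (.node (.leaf 0x220b0013) (.leaf 0x1c31c011)) (.node (.leaf 0x1b9d800d) (.leaf 0x1b4f4013))) (.node (.node (.leaf 0x1a9c0011) (.leaf 0x230ac013)) (.node (.leaf 0x15700011) (.leaf 0x0)))))) (.node (.node (.node (.node (.node (.leaf 0x1e034013) (.leaf 0x1a18000d)) (.node (.leaf 0x1dc48011) (.leaf 0x1e51000f))) (.node (.node (.leaf 0x97f000f) (.leaf 0x1f610011))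 (.node (.leaf 0x1a7e4011) (.leaf 0x1e49c011)))) (.node (.node (.node (.leaf 0x211f000d) (.leaf 0x1827000d)) (.node (.leaf 0x255d4013) (.leaf 0x1a10c011))) (.node (.node (.leaf 0x2267800d) (.leaf 0x1cb2400f)) (.node (.leaf 0xc00c011) (.leaf 0x0))))) (.node (.node (.node (.node (.leaf 0x183ac00f) (.leaf 0x2229800d)) (.node (.leaf 0x1dcd400d) (.leaf 0x1b99800f))) (.node (.node (.leaf 0x154e4013) (.leaf 0x1bb34011)) (.node (.leaf 0x1da3c011) (.leaf 0x1a3a4011)))) (.node (.node (.node (.leaf 0x1d6fc00d) (.leaf 0x1f5c400f)) (.node (.leaf 0x1e41c011) (.leaf 0x148bc00d))) (.node (.node (.leaf 0x20cd0011) (.leaf 0x1d57c00f)) (.node (.leaf 0x190c0013) (.leaf 0x0))))))) (.node (.node (.node (.node (.node (.node (.leaf 0x224ec013) (.leaf 0x1e6d400f)) (.node (.leaf 0x1589c00f) (.leaf 0x27214013))) (.node (.node (.leaf 0x2547c013) (.leaf 0xc36c011)) (.node (.leaf 0x1d36c011) (.leaf 0x1edc0011)))) (.node (.node (.node (.leaf 0x1ebf000f)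 (.leaf 0x2393c013)) (.node (.leaf 0x198cc011) (.leaf 0x208f800f))) (.node (.node (.leaf 0x18f2c013) (.leaf 0x1aa3c011)) (.node (.leaf 0x1c73400d) (.leaf 0x0))))) (.node (.node (.node (.node (.leaf 0x1781c00d) (.leaf 0x1ca58011)) (.node (.leaf 0x19cd8013) (.leaf 0x142a800d))) (.node (.node (.leaf 0x1cc3800d) (.leaf 0x209cc011)) (.node (.leaf 0x1502c00d) (.leaf 0x175bc011)))) (.node (.node (.node (.leaf 0x1827000f) (.leaf 0x1e56000f)) (.node (.leaf 0x1dc24013) (.leaf 0x1caa8013))) (.node (.node (.leaf 0x20240011) (.leaf 0x2713c013)) (.node (.leaf 0x174d4011) (.leaf 0x0)))))) (.node (.node (.node (.node (.node (.leaf 0x15cdc013) (.leaf 0x22d94011)) (.node (.leaf 0x1a0bc00d) (.leaf 0x22c6400d))) (.node (.node (.leaf 0x1d600011) (.leaf 0x17a5c011)) (.node (.leaf 0x2394c00d) (.leaf 0x12728013)))) (.node (.node (.node (.leaf 0x1d31c011) (.leaf 0x20d4c011)) (.node (.leaf 0x204d000f) (.leaf 0x201b400f))) (.node (.node (.leaf 0x1abac00d)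 (.leaf 0x18e5400d)) (.node (.leaf 0x1d848011) (.leaf 0x0))))) (.node (.node (.node (.node (.leaf 0x1920c013) (.leaf 0x207d0011)) (.node (.leaf 0x21ae0011) (.leaf 0x2060400d))) (.node (.node (.leaf 0x1b4b800d) (.leaf 0x2117000f)) (.node (.leaf 0x2219c00f) (.leaf 0x0)))) (.node (.node (.node (.leaf 0x1ca5800f) (.leaf 0x1f64400d)) (.node (.leaf 0x209cc00d) (.leaf 0x2129800f))) (.node (.node (.leaf 0x1934800f) (.leaf 0x238b0013)) (.node (.leaf 0x1e184011) (.leaf 0x0))))))))) (.node (.node (.node (.node (.node (.node (.node (.node (.leaf 0x401800d) (.leaf 0x1cbc000d)) (.node (.leaf 0xdb3000d) (.leaf 0x21ab800d))) (.node (.node (.leaf 0x1dca0011) (.leaf 0x22e8c011)) (.node (.leaf 0x198d800f) (.leaf 0x1abb4011)))) (.node (.node (.node (.leaf 0x2395400f) (.leaf 0x1c7c400f)) (.node (.leaf 0x1fac800f) (.leaf 0x21e68011))) (.node (.node (.leaf 0x1148c00d) (.leaf 0x1f5a0013)) (.node (.leaf 0x156c4011) (.leaf 0x0))))) (.node (.node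 (.node (.node (.leaf 0x213d800d) (.leaf 0x1f9ac00d)) (.node (.leaf 0x21ca4011) (.leaf 0x23320011))) (.node (.node (.leaf 0x24684013) (.leaf 0x20e84011)) (.node (.leaf 0x1d4c0011) (.leaf 0x20bb000f)))) (.node (.node (.node (.leaf 0x1cf7c00d) (.leaf 0x210b400f)) (.node (.leaf 0x14fbc011) (.leaf 0x1935c00d))) (.node (.node (.leaf 0x10720011) (.leaf 0x2312800d)) (.node (.leaf 0x23a8400f) (.leaf 0x0)))))) (.node (.node (.node (.node (.node (.leaf 0x1ef58011) (.leaf 0x195ac011)) (.node (.leaf 0x179c000d) (.leaf 0x1edf8013))) (.node (.node (.leaf 0x1f498011) (.leaf 0x168dc00d)) (.node (.leaf 0x22c2000f) (.leaf 0x1de80013)))) (.node (.node (.node (.leaf 0x1a8a4013) (.leaf 0x2228c00d)) (.node (.leaf 0xe4b4011) (.leaf 0x1b740013))) (.node (.node (.leaf 0x198cc00f) (.leaf 0x22c2c00d)) (.node (.leaf 0xc024011) (.leaf 0x0))))) (.node (.node (.node (.node (.leaf 0x20f04011) (.leaf 0x1805800f)) (.node (.leaf 0x1f06000d) (.leaf 0x1e63000f)))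 (.node (.node (.leaf 0x1ad3400d) (.leaf 0x1b4ac011)) (.node (.leaf 0x1f8bc00d) (.leaf 0x19d80011)))) (.node (.node (.node (.leaf 0xcfe800f) (.leaf 0x1e2f400f)) (.node (.leaf 0x15e48013) (.leaf 0x1e318011))) (.node (.node (.leaf 0x2213c013) (.leaf 0x1a2b800d)) (.node (.leaf 0x2272000f) (.leaf 0x0))))))) (.node (.node (.node (.node (.node (.node (.leaf 0x228f400d) (.leaf 0x15a8000d)) (.node (.leaf 0x21634011) (.leaf 0x1ab5c011))) (.node (.node (.leaf 0x1b3f0011) (.leaf 0x1c790013)) (.node (.leaf 0x1163000d) (.leaf 0x26724013)))) (.node (.node (.node (.leaf 0x1043000f) (.leaf 0x22780011)) (.node (.leaf 0x15a14013) (.leaf 0x1f7d8013))) (.node (.node (.leaf 0x1d94000d) (.leaf 0x1c51c00d)) (.node (.leaf 0x1b438011) (.leaf 0x0))))) (.node (.node (.node (.node (.leaf 0x1b09c00f) (.leaf 0x21a54011)) (.node (.leaf 0x1df34013) (.leaf 0x1d38800d))) (.node (.node (.leaf 0x21a94013) (.leaf 0x1b0f8013)) (.node (.leaf 0x18a9c011) (.leaf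 0x1d3cc00f)))) (.node (.node (.node (.leaf 0x19a7c011) (.leaf 0x16d80013)) (.node (.leaf 0x19c30013) (.leaf 0x1c6c000f))) (.node (.node (.leaf 0x21b0c00d) (.leaf 0x27ab8013)) (.node (.leaf 0x128d8011) (.leaf 0x0)))))) (.node (.node (.node (.node (.node (.leaf 0xedcc00f) (.leaf 0x1e428011)) (.node (.leaf 0x1cbdc013) (.leaf 0x1e8e4011))) (.node (.node (.leaf 0x227a000d) (.leaf 0x23a90013)) (.node (.leaf 0x1c6e800f) (.leaf 0x1e85000d)))) (.node (.node (.node (.leaf 0x1d304011) (.leaf 0x1d748011)) (.node (.leaf 0x2130c00f) (.leaf 0x1a71c00d))) (.node (.node (.leaf 0x20e9800d) (.leaf 0x111e400f)) (.node (.leaf 0x1ad10011) (.leaf 0x0))))) (.node (.node (.node (.node (.leaf 0x1aa8400f) (.leaf 0x1fb30013)) (.node (.leaf 0x21ab8011) (.leaf 0x23140013))) (.node (.node (.leaf 0x21478011) (.leaf 0x25090011)) (.node (.leaf 0x1eba4011) (.leaf 0x0)))) (.node (.node (.node (.leaf 0x1ba98011) (.leaf 0x1faec013)) (.node (.leaf 0x168dc00f)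 (.leaf 0x22818013))) (.node (.node (.leaf 0x1a274011) (.leaf 0x1f84800f)) (.node (.leaf 0x1fb04011) (.leaf 0x0)))))))) (.node (.node (.node (.node (.node (.node (.node (.leaf 0x23824011) (.leaf 0x20304011)) (.node (.leaf 0xd0c4011) (.leaf 0x1b5f8013))) (.node (.node (.leaf 0x18408011) (.leaf 0x1e6f800f)) (.node (.leaf 0x1233400f) (.leaf 0x1867000f)))) (.node (.node (.node (.leaf 0x1d6d4011) (.leaf 0x1ea9800d)) (.node (.leaf 0x1f50c011) (.leaf 0x1696c011))) (.node (.node (.leaf 0x10ab800f) (.leaf 0x2223000f)) (.node (.leaf 0x1fb4000f) (.leaf 0x0))))) (.node (.node (.node (.node (.leaf 0x1da24011) (.leaf 0x1e634011)) (.node (.leaf 0x245b4011) (.leaf 0x1106000f))) (.node (.node (.leaf 0x18fcc00d) (.leaf 0x1de8000f)) (.node (.leaf 0x14c60011) (.leaf 0x1f0c400d)))) (.node (.node (.node (.leaf 0x22bec00f) (.leaf 0x1d99c00d)) (.node (.leaf 0x1d22c00f) (.leaf 0x1a62400f))) (.node (.node (.leaf 0x1d7c800f) (.leaf 0x1ef54013)) (.node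 (.leaf 0x1d708011) (.leaf 0x0)))))) (.node (.node (.node (.node (.node (.leaf 0x1c198011) (.leaf 0x1b27c00f)) (.node (.leaf 0xcb94011) (.leaf 0x1e13400d))) (.node (.node (.leaf 0xdd2400f) (.leaf 0x21998011)) (.node (.leaf 0x132d4011) (.leaf 0x219a400f)))) (.node (.node (.node (.leaf 0x1a4dc00d) (.leaf 0x193c4011)) (.node (.leaf 0x224c800f) (.leaf 0x1f37c011))) (.node (.node (.leaf 0x1f0b000f) (.leaf 0x1ecf4013)) (.node (.leaf 0x1faa8011) (.leaf 0x0))))) (.node (.node (.node (.node (.leaf 0x97dc011) (.leaf 0x1ce4000f)) (.node (.leaf 0x1d8e4013) (.leaf 0x1a5b0011))) (.node (.node (.leaf 0x2132c011) (.leaf 0x1f08c013)) (.node (.leaf 0x18984011) (.leaf 0x0)))) (.node (.node (.node (.leaf 0x1e32400d) (.leaf 0x272ac013)) (.node (.leaf 0x1324c011) (.leaf 0x2248c011))) (.node (.node (.leaf 0x2581400f) (.leaf 0x1931800f)) (.node (.leaf 0x1f054013) (.leaf 0x0))))))) (.node (.node (.node (.node (.node (.node (.leaf 0x2355000d) (.leaf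 0x176d4013)) (.node (.leaf 0x24d9800d) (.leaf 0x1b2c0011))) (.node (.node (.leaf 0x22ee800d) (.leaf 0x1a93800f)) (.node (.leaf 0x11384011) (.leaf 0x1a8b8011)))) (.node (.node (.node (.leaf 0x22670013) (.leaf 0x1e02c00d)) (.node (.leaf 0x1f72400d) (.leaf 0x22f2800f))) (.node (.node (.leaf 0x18a1400d) (.leaf 0x21fc000f)) (.node (.leaf 0x107ec00d) (.leaf 0x0))))) (.node (.node (.node (.node (.leaf 0x1761c00f) (.leaf 0x18a5c011)) (.node (.leaf 0x19ccc013) (.leaf 0x2365000d))) (.node (.node (.leaf 0x239fc011) (.leaf 0x199cc011)) (.node (.leaf 0x1f054011) (.leaf 0x1a2b0011)))) (.node (.node (.node (.leaf 0x114f000f) (.leaf 0x1cb2c00f)) (.node (.leaf 0x1535000d) (.leaf 0x1d78800d))) (.node (.node (.leaf 0x1f42c00f) (.leaf 0x1b5f4013)) (.node (.leaf 0x403c00d) (.leaf 0x0)))))) (.node (.node (.node (.node (.node (.leaf 0x229d400f) (.leaf 0x1d054011)) (.node (.leaf 0x1c4dc013) (.leaf 0x1e414011))) (.node (.node (.leaf 0x1e3f000d)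 (.leaf 0x1475000f)) (.node (.leaf 0x18ff0011) (.leaf 0x1deec011)))) (.node (.node (.node (.leaf 0x1414c011) (.leaf 0x20d54011)) (.node (.leaf 0x1ca5800d) (.leaf 0x1f0b0013))) (.node (.node (.leaf 0x1dd6400f) (.leaf 0x2308000f)) (.node (.leaf 0x20eb0011) (.leaf 0x0))))) (.node (.node (.node (.node (.leaf 0x234cc00f) (.leaf 0x1b4b8013)) (.node (.leaf 0x1d0c800d) (.leaf 0x27568011))) (.node (.node (.leaf 0x1d71400d) (.leaf 0x1f660013)) (.node (.leaf 0x1c59c011) (.leaf 0x0)))) (.node (.node (.node (.leaf 0x1c560011) (.leaf 0x18d44011)) (.node (.leaf 0x1c354013) (.leaf 0x203a4013))) (.node (.node (.leaf 0x97f000d) (.leaf 0x1ad0000d)) (.node (.leaf 0x18a1400f) (.leaf 0x0))))))))))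

/-- packed table -/
noncomputable def cov1_llr : BTree := (.node (.node (.node (.node (.node (.node (.node (.node (.node (.leaf 0x15d34011) (.leaf 0xefd400f)) (.node (.leaf 0x18b28011) (.leaf 0x1ec5c011))) (.node (.node (.leaf 0x1d714013) (.leaf 0x27984011)) (.node (.leaf 0x2404c011) (.leaf 0x12b90011)))) (.node (.node (.node (.leaf 0x2081000f) (.leaf 0x16bcc00d)) (.node (.leaf 0x17ad0011) (.leaf 0x1dc8000f))) (.node (.node (.leaf 0x22fa000f) (.leaf 0x211a000d)) (.node (.leaf 0x1cf0000d) (.leaf 0x0))))) (.node (.node (.node (.node (.leaf 0x2028800f) (.leaf 0x2187c011)) (.node (.leaf 0x1eacc00f) (.leaf 0x22e4800f))) (.node (.node (.leaf 0x228d000f) (.leaf 0x181d000d)) (.node (.leaf 0x154b4011) (.leaf 0x1ddcc011)))) (.node (.node (.node (.leaf 0x1948800d) (.leaf 0x1adc8013)) (.node (.leaf 0x1aad400d) (.leaf 0x19ff0011))) (.node (.node (.leaf 0x2206c00d) (.leaf 0x1a040011)) (.node (.leaf 0x20dac011) (.leaf 0x0)))))) (.node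 (.node (.node (.node (.node (.leaf 0x179f000d) (.leaf 0x23534013)) (.node (.leaf 0x10b18013) (.leaf 0x1e07c011))) (.node (.node (.leaf 0x2549800f) (.leaf 0x22d90013)) (.node (.leaf 0x1d7d8011) (.leaf 0x1f104011)))) (.node (.node (.node (.leaf 0x1e894013) (.leaf 0x19274011)) (.node (.leaf 0x186f800f) (.leaf 0x1dc9000f))) (.node (.node (.leaf 0x15598013) (.leaf 0x17b1000d)) (.node (.leaf 0x1e000013) (.leaf 0x0))))) (.node (.node (.node (.node (.leaf 0x1718800d) (.leaf 0x1c24400d)) (.node (.leaf 0x23a54011) (.leaf 0x1e9e4011))) (.node (.node (.leaf 0x12d4800d) (.leaf 0x1f88c011)) (.node (.leaf 0x1fb30011) (.leaf 0x12338013)))) (.node (.node (.node (.leaf 0xdd2c00f) (.leaf 0x21f0400d)) (.node (.leaf 0x2352c00f) (.leaf 0x1978c013))) (.node (.node (.leaf 0x2033c013) (.leaf 0x1d0e4013)) (.node (.leaf 0x11630013) (.leaf 0x0))))))) (.node (.node (.node (.node (.node (.node (.leaf 0x20f04013) (.leaf 0x2038400d)) (.node (.leaf 0x226d000d)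 (.leaf 0x22b80011))) (.node (.node (.leaf 0x182e000f) (.leaf 0x1e0f000d)) (.node (.leaf 0x14d5800d) (.leaf 0x21b0c013)))) (.node (.node (.node (.leaf 0x210f0013) (.leaf 0x20288011)) (.node (.leaf 0x1b02800d) (.leaf 0x20d80013))) (.node (.node (.leaf 0x1e6e400d) (.leaf 0x19ccc00f)) (.node (.leaf 0x18808013) (.leaf 0x0))))) (.node (.node (.node (.node (.leaf 0x23250011) (.leaf 0x17ad0013)) (.node (.leaf 0x1aba8011) (.leaf 0x2141c013))) (.node (.node (.leaf 0x1b18000f) (.leaf 0x2379800f)) (.node (.leaf 0x18a8c011) (.leaf 0x1de6400d)))) (.node (.node (.node (.leaf 0x1829c013) (.leaf 0x1efbc00f)) (.node (.leaf 0x1c6b800f) (.leaf 0x23300011))) (.node (.node (.leaf 0x22a0c013) (.leaf 0x2521400d)) (.node (.leaf 0x1c16400f) (.leaf 0x0)))))) (.node (.node (.node (.node (.node (.leaf 0x1f5a000d) (.leaf 0x1b27c013)) (.node (.leaf 0x25f0c013) (.leaf 0xc36c00f))) (.node (.node (.leaf 0x1a54800d) (.leaf 0x1c26c013)) (.node (.leaf 0x1b0b8011)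 (.leaf 0x210ac00f)))) (.node (.node (.node (.leaf 0x1e3c800f) (.leaf 0x1d2c400d)) (.node (.leaf 0x1a11c013) (.leaf 0x2209c013))) (.node (.node (.leaf 0x20e8c00d) (.leaf 0x1f0b400d)) (.node (.leaf 0x1f8e0011) (.leaf 0x0))))) (.node (.node (.node (.node (.leaf 0x1432c00d) (.leaf 0x21bf4011)) (.node (.leaf 0x2030c011) (.leaf 0x1e610013))) (.node (.node (.leaf 0x19ff000f) (.leaf 0xd3fc00f)) (.node (.leaf 0x2312000f) (.leaf 0x0)))) (.node (.node (.node (.leaf 0x1a27400f) (.leaf 0xf94400d)) (.node (.leaf 0x1e90c00f) (.leaf 0x15bac013))) (.node (.node (.leaf 0x1af7400f) (.leaf 0x1c560013)) (.node (.leaf 0x1ebbc00d) (.leaf 0x0)))))))) (.node (.node (.node (.node (.node (.node (.node (.leaf 0x1d7fc013) (.leaf 0x1b9f800f)) (.node (.leaf 0xd0d8011) (.leaf 0x197a000f))) (.node (.node (.leaf 0x10430011) (.leaf 0x18f84011)) (.node (.leaf 0x196f400d) (.leaf 0x103c400d)))) (.node (.node (.node (.leaf 0x2077800f) (.leaf 0x1efc400f)) (.node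 (.leaf 0x1093800f) (.leaf 0x23ac400f))) (.node (.node (.leaf 0x1f8fc011) (.leaf 0x1f1d400d)) (.node (.leaf 0x10dd0011) (.leaf 0x0))))) (.node (.node (.node (.node (.leaf 0x1758c011) (.leaf 0x2245000f)) (.node (.leaf 0x22eb800f) (.leaf 0x1df08011))) (.node (.node (.leaf 0x15a80013) (.leaf 0x106a4011)) (.node (.leaf 0x1a2b8013) (.leaf 0x2167c013)))) (.node (.node (.node (.leaf 0x1a0bc013) (.leaf 0x1f8f0013)) (.node (.leaf 0x1ecb000f) (.leaf 0x1e4ac013))) (.node (.node (.leaf 0x20ca0013) (.leaf 0x187b4013)) (.node (.leaf 0x1cc6c013) (.leaf 0x0)))))) (.node (.node (.node (.node (.node (.leaf 0x1817c011) (.leaf 0x1941000d)) (.node (.leaf 0x14de400f) (.leaf 0x208a8013))) (.node (.node (.leaf 0x1e44800f) (.leaf 0x19984011)) (.node (.leaf 0x226b4013) (.leaf 0x199cc00f)))) (.node (.node (.node (.leaf 0x207d0013) (.leaf 0x2222800f)) (.node (.leaf 0x1e17c011) (.leaf 0x1dea400d))) (.node (.node (.leaf 0x19224011) (.leaf 0x1b468011))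 (.node (.leaf 0x1db5000f) (.leaf 0x0))))) (.node (.node (.node (.node (.leaf 0x1e8bc013) (.leaf 0x1c08400f)) (.node (.leaf 0x10b74013) (.leaf 0x192a4013))) (.node (.node (.leaf 0x214f8013) (.leaf 0x1f708013)) (.node (.leaf 0x19a18011) (.leaf 0x0)))) (.node (.node (.node (.leaf 0x10194013) (.leaf 0x1d84c00d)) (.node (.leaf 0x21738013) (.leaf 0x20f1800d))) (.node (.node (.leaf 0x1a21800f) (.leaf 0x25958013)) (.node (.leaf 0x15288011) (.leaf 0x0))))))) (.node (.node (.node (.node (.node (.node (.leaf 0x1b9f8011) (.leaf 0x1ee4c013)) (.node (.leaf 0x19ff000d) (.leaf 0x2190800f))) (.node (.node (.leaf 0x238e4011) (.leaf 0x1e92800f)) (.node (.leaf 0x1d90000d) (.leaf 0x1e08c013)))) (.node (.node (.node (.leaf 0x1ec7000f) (.leaf 0x1ec70013)) (.node (.leaf 0x128c000f) (.leaf 0x1589c00d))) (.node (.node (.leaf 0x1ce40011) (.leaf 0x2142400d)) (.node (.leaf 0x1d2bc011) (.leaf 0x0))))) (.node (.node (.node (.node (.leaf 0x20cdc013)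 (.leaf 0x1462c013)) (.node (.leaf 0x1f848011) (.leaf 0x1b66800d))) (.node (.node (.leaf 0x1a844011) (.leaf 0x1b4d0013)) (.node (.leaf 0x20d0000d) (.leaf 0x106a400f)))) (.node (.node (.node (.leaf 0x8a7000f) (.leaf 0x1e15000d)) (.node (.leaf 0x1341800d) (.leaf 0x1c890013))) (.node (.node (.leaf 0x18250011) (.leaf 0x1b5dc011)) (.node (.leaf 0x19410011) (.leaf 0x0)))))) (.node (.node (.node (.node (.node (.leaf 0x15d04013) (.leaf 0x1f7f0013)) (.node (.leaf 0x104b4013) (.leaf 0x1a918013))) (.node (.node (.leaf 0x1d44800f) (.leaf 0x23010011)) (.node (.leaf 0x1eae8013) (.leaf 0x1d63800f)))) (.node (.node (.node (.leaf 0x19270013) (.leaf 0x1cd7c011)) (.node (.leaf 0x11520011) (.leaf 0x20770013))) (.node (.node (.leaf 0xdd5400f) (.leaf 0x1817c00d)) (.node (.leaf 0x1f05400f) (.leaf 0x0))))) (.node (.node (.node (.node (.leaf 0x1e000011) (.leaf 0x858400d)) (.node (.leaf 0x1825400f) (.leaf 0x23080011))) (.node (.node (.leaf 0x19280013)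 (.leaf 0xd3fc013)) (.node (.leaf 0x1188400f) (.leaf 0x0)))) (.node (.node (.node (.leaf 0x1e1ac00d) (.leaf 0x1a85c00f)) (.node (.leaf 0x1f2b000d) (.leaf 0x1f32800d))) (.node (.node (.leaf 0x1589c011) (.leaf 0x1781000d)) (.node (.leaf 0x1997000f) (.leaf 0x0))))))))) (.node (.node (.node (.node (.node (.node (.node (.node (.leaf 0xdd44013) (.leaf 0x1b23400f)) (.node (.leaf 0x14b10011) (.leaf 0x1a148011))) (.node (.node (.leaf 0x150a400f) (.leaf 0x18f78011)) (.node (.leaf 0x1c6d800d) (.leaf 0x21ebc011)))) (.node (.node (.node (.leaf 0xedcc011) (.leaf 0x1eae400f)) (.node (.leaf 0x1cf8c00d) (.leaf 0x2219c011))) (.node (.node (.leaf 0x1f2d000d) (.leaf 0x22f3c00f)) (.node (.leaf 0x1414c00d) (.leaf 0x0))))) (.node (.node (.node (.node (.leaf 0x1cec4013) (.leaf 0x1f000013)) (.node (.leaf 0x19cb8011) (.leaf 0x26288013))) (.node (.node (.leaf 0x20ad8011) (.leaf 0x2060800d)) (.node (.leaf 0x154d0011) (.leaf 0x1db08013)))) (.node (.node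 (.node (.leaf 0x22b4400d) (.leaf 0x1973c013)) (.node (.leaf 0xcfe000d) (.leaf 0x1725c011))) (.node (.node (.leaf 0x1c738011) (.leaf 0x1c3ec013)) (.node (.leaf 0x18db4011) (.leaf 0x0)))))) (.node (.node (.node (.node (.node (.leaf 0x1d2e000d) (.leaf 0x215a8011)) (.node (.leaf 0xd0d800f) (.leaf 0x2380400d))) (.node (.node (.leaf 0x1473c013) (.leaf 0x1f970011)) (.node (.leaf 0x20ccc00f) (.leaf 0x2023c013)))) (.node (.node (.node (.leaf 0x20f7400d) (.leaf 0x22fa0013)) (.node (.leaf 0x1789c011) (.leaf 0x1ebc800f))) (.node (.node (.leaf 0x1473c00d) (.leaf 0x18b1c00f)) (.node (.leaf 0xc6cc00d) (.leaf 0x0))))) (.node (.node (.node (.node (.leaf 0x1a624013) (.leaf 0x1a9b0013)) (.node (.leaf 0x1725c00f) (.leaf 0x1c0ec013))) (.node (.node (.leaf 0x1d0f8011) (.leaf 0x17b1000f)) (.node (.leaf 0x96b8013) (.leaf 0x18f7800f)))) (.node (.node (.node (.leaf 0x1c958011) (.leaf 0x1df1400d)) (.node (.leaf 0x2335800f) (.leaf 0x2705800f))) (.node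 (.node (.leaf 0x2214c013) (.leaf 0x20c24013)) (.node (.leaf 0x2274800f) (.leaf 0x0))))))) (.node (.node (.node (.node (.node (.node (.leaf 0x1cf00013) (.leaf 0x1f3c800d)) (.node (.leaf 0x1aba8013) (.leaf 0x180e4013))) (.node (.node (.leaf 0x1cec8011) (.leaf 0x1a0e000d)) (.node (.leaf 0x1ca6000d) (.leaf 0x1f0e000d)))) (.node (.node (.node (.leaf 0x1ac6c00f) (.leaf 0x1c08c013)) (.node (.leaf 0x1da24013) (.leaf 0x1cce400d))) (.node (.node (.leaf 0x22b1000f) (.leaf 0x19f8c00f)) (.node (.leaf 0x212b4011) (.leaf 0x0))))) (.node (.node (.node (.node (.leaf 0x2363c00f) (.leaf 0x15a7800d)) (.node (.leaf 0x1e2e000f) (.leaf 0x1a6a0013))) (.node (.node (.leaf 0x21a88013) (.leaf 0x209d0011)) (.node (.leaf 0x14a98011) (.leaf 0x208dc00d)))) (.node (.node (.node (.leaf 0x21a8c011) (.leaf 0x2346c013)) (.node (.leaf 0x1ce3c00f) (.leaf 0x1a6a000d))) (.node (.node (.leaf 0x1df3400d) (.leaf 0x22b24011)) (.node (.leaf 0x23aa0011) (.leaf 0x0))))))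 (.node (.node (.node (.node (.node (.leaf 0x1a9e000f) (.leaf 0x22170013)) (.node (.leaf 0x1fae000f) (.leaf 0x1b51400f))) (.node (.node (.leaf 0x1aab8013) (.leaf 0x151d000d)) (.node (.leaf 0x1781000f) (.leaf 0x1aa8400d)))) (.node (.node (.node (.leaf 0x1c8a000d) (.leaf 0x15760011)) (.node (.leaf 0x20d08011) (.leaf 0x21e98011))) (.node (.node (.leaf 0x1de38013) (.leaf 0x1666800d)) (.node (.leaf 0x23a14013) (.leaf 0x0))))) (.node (.node (.node (.node (.leaf 0x22b80013) (.leaf 0x207e0011)) (.node (.leaf 0x19ae8011) (.leaf 0x1a0c400f))) (.node (.node (.leaf 0x1d490011) (.leaf 0x190a8011)) (.node (.leaf 0x1893000f) (.leaf 0x0)))) (.node (.node (.node (.leaf 0x235d4011) (.leaf 0x1d904011)) (.node (.leaf 0x1edd000d) (.leaf 0x1a91c011))) (.node (.node (.leaf 0x107ec00f) (.leaf 0x2266000d)) (.node (.leaf 0x1ecc000d) (.leaf 0x0)))))))) (.node (.node (.node (.node (.node (.node (.node (.leaf 0x1b83800f) (.leaf 0x182e0011)) (.node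 (.leaf 0x190c0011) (.leaf 0x1ebf400d))) (.node (.node (.leaf 0x142d4013) (.leaf 0x1c9dc00d)) (.node (.leaf 0x22d1400d) (.leaf 0x1847800f)))) (.node (.node (.node (.leaf 0x1fa0c00d) (.leaf 0x1817800d)) (.node (.leaf 0x1976800f) (.leaf 0x1824c013))) (.node (.node (.leaf 0x14afc00f) (.leaf 0x18594013)) (.node (.leaf 0x182ec011) (.leaf 0x0))))) (.node (.node (.node (.node (.leaf 0x16488013) (.leaf 0x1e20000d)) (.node (.leaf 0x1570000d) (.leaf 0x277f400d))) (.node (.node (.leaf 0x4040013) (.leaf 0x2304000f)) (.node (.leaf 0x14c54011) (.leaf 0x1e560011)))) (.node (.node (.node (.leaf 0x14a48011) (.leaf 0x1f908013)) (.node (.leaf 0x1e4ac011) (.leaf 0x20a2400f))) (.node (.node (.leaf 0x14458011) (.leaf 0x18d6400f)) (.node (.leaf 0x20ab400d) (.leaf 0x0)))))) (.node (.node (.node (.node (.node (.leaf 0x1f59400d) (.leaf 0x1de9c00f)) (.node (.leaf 0x1df14013) (.leaf 0x1e61c011))) (.node (.node (.leaf 0x1eb7800d) (.leaf 0x1d98c011))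 (.node (.leaf 0x1696c013) (.leaf 0x1b9dc00f)))) (.node (.node (.node (.leaf 0x19bec013) (.leaf 0x1afa400f)) (.node (.leaf 0x1687c013) (.leaf 0x1b33c00d))) (.node (.node (.leaf 0x22e7800d) (.leaf 0x21650013)) (.node (.leaf 0x1f868013) (.leaf 0x0))))) (.node (.node (.node (.node (.leaf 0x243e800f) (.leaf 0x1c3ec011)) (.node (.leaf 0x1d65400d) (.leaf 0x1eb6400d))) (.node (.node (.leaf 0x114ec013) (.leaf 0x2039c011)) (.node (.leaf 0x18780013) (.leaf 0x0)))) (.node (.node (.node (.leaf 0x1c198013) (.leaf 0x1f92c00d)) (.node (.leaf 0x213e0011) (.leaf 0x2389800d))) (.node (.node (.leaf 0x1c0f400f) (.leaf 0x20b8800f)) (.node (.leaf 0x1a21800d) (.leaf 0x0))))))) (.node (.node (.node (.node (.node (.node (.leaf 0x18908011) (.leaf 0x1a24800d)) (.node (.leaf 0x1f88400d) (.leaf 0x1e4bc013))) (.node (.node (.leaf 0x1c0d0011) (.leaf 0x1e540011)) (.node (.leaf 0x154b8013) (.leaf 0x1811000d)))) (.node (.node (.node (.leaf 0x1961800d) (.leaf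 0x1ac78013)) (.node (.leaf 0xdc0400f) (.leaf 0x1eb58013))) (.node (.node (.leaf 0x2196400d) (.leaf 0x2752400f)) (.node (.leaf 0x1f35000d) (.leaf 0x0))))) (.node (.node (.node (.node (.leaf 0x1d7a4013) (.leaf 0x1e17c00d)) (.node (.leaf 0x205b0013) (.leaf 0x1f124011))) (.node (.node (.leaf 0xcc9800d) (.leaf 0x1b4d8013)) (.node (.leaf 0x1d864011) (.leaf 0x222fc013)))) (.node (.node (.node (.leaf 0x15a08011) (.leaf 0x1a920013)) (.node (.leaf 0x1dc7000f) (.leaf 0x15a0800d))) (.node (.node (.leaf 0x1f76800f) (.leaf 0x1cbd800f)) (.node (.leaf 0x190a800f) (.leaf 0x0)))))) (.node (.node (.node (.node (.node (.leaf 0x1d848013) (.leaf 0x203fc00f)) (.node (.leaf 0x1c4b0013) (.leaf 0x1f52000f))) (.node (.node (.leaf 0x2011800d) (.leaf 0x1d240011)) (.node (.leaf 0xcfe0011) (.leaf 0x1205400d)))) (.node (.node (.node (.leaf 0x209d000f) (.leaf 0x22dbc013)) (.node (.leaf 0x1c4b0011) (.leaf 0x1c43c00f))) (.node (.node (.leaf 0x1a0cc00d)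 (.leaf 0x181b800d)) (.node (.leaf 0x1e5ec00d) (.leaf 0x0))))) (.node (.node (.node (.node (.leaf 0x233d8011) (.leaf 0x1bb2c00d)) (.node (.leaf 0x1ba9400d) (.leaf 0x16a5000f))) (.node (.node (.leaf 0x2264000d) (.leaf 0x185e4011)) (.node (.leaf 0x18594011) (.leaf 0x0)))) (.node (.node (.node (.leaf 0x1a11c00d) (.leaf 0x1f64800d)) (.node (.leaf 0x4040011) (.leaf 0x1a938013))) (.node (.node (.leaf 0x15bd000f) (.leaf 0x2666400d)) (.node (.leaf 0x15ce0011) (.leaf 0x0))))))))))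

/-- packed table -/
noncomputable def cov1_lrl : BTree := (.node (.node (.node (.node (.node (.node (.node (.node (.node (.leaf 0x401800f) (.leaf 0x1ef3400f)) (.node (.leaf 0x18930013) (.leaf 0x231f4013))) (.node (.node (.leaf 0x1576000f) (.leaf 0x1e5d8011)) (.node (.leaf 0x20374013) (.leaf 0x1e1d8011)))) (.node (.node (.node (.leaf 0x1576000d) (.leaf 0x1eab400f)) (.node (.leaf 0x1aba800d) (.leaf 0x19f50011))) (.node (.node (.leaf 0x23a00011) (.leaf 0x1c5f4011)) (.node (.leaf 0x1502400d) (.leaf 0x0))))) (.node (.node (.node (.node (.leaf 0x1d820013) (.leaf 0x1f57c013)) (.node (.leaf 0x2217000f) (.leaf 0x21d1000d))) (.node (.node (.leaf 0x1e54000d) (.leaf 0x2013800f)) (.node (.leaf 0x10fd4011) (.leaf 0x1e2a800f)))) (.node (.node (.node (.leaf 0x1da6800d) (.leaf 0x18390013)) (.node (.leaf 0x1899c013) (.leaf 0x236c4013))) (.node (.node (.leaf 0x14728011) (.leaf 0x181a800d)) (.node (.leaf 0x1b9c4013) (.leaf 0x0)))))) (.node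 (.node (.node (.node (.node (.leaf 0x1ea88013) (.leaf 0x236d8013)) (.node (.leaf 0x14b08013) (.leaf 0x174d400d))) (.node (.node (.leaf 0x17ad000f) (.leaf 0x1511000d)) (.node (.leaf 0x1d7c8011) (.leaf 0x19984013)))) (.node (.node (.node (.leaf 0x1d61000d) (.leaf 0x2101400f)) (.node (.leaf 0x1f71800d) (.leaf 0x22f68013))) (.node (.node (.leaf 0x1ebd400f) (.leaf 0x27388011)) (.node (.leaf 0x201b4011) (.leaf 0x0))))) (.node (.node (.node (.node (.leaf 0x224e000d) (.leaf 0x1a10c00f)) (.node (.leaf 0x23954011) (.leaf 0x1f68800d))) (.node (.node (.leaf 0x11018013) (.leaf 0x1f6b000d)) (.node (.leaf 0x181a4013) (.leaf 0x224b0013)))) (.node (.node (.node (.leaf 0x1daec00d) (.leaf 0x2289000d)) (.node (.leaf 0x1887000d) (.leaf 0x1a3ec013))) (.node (.node (.leaf 0x1c0ac011) (.leaf 0x179f0013)) (.node (.leaf 0x1a70c00f) (.leaf 0x0))))))) (.node (.node (.node (.node (.node (.node (.leaf 0x22870011) (.leaf 0x1a20c011)) (.node (.leaf 0x237c800f)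 (.leaf 0x404000f))) (.node (.node (.leaf 0x2139400f) (.leaf 0x1e17c00f)) (.node (.leaf 0x18258011) (.leaf 0x1cee800f)))) (.node (.node (.node (.leaf 0x19108013) (.leaf 0x1152000f)) (.node (.leaf 0x14b8c013) (.leaf 0x166b8011))) (.node (.node (.leaf 0x1ca64013) (.leaf 0x164d8011)) (.node (.leaf 0x187f8013) (.leaf 0x0))))) (.node (.node (.node (.node (.leaf 0x1f08c011) (.leaf 0x2108c00d)) (.node (.leaf 0x1101800d) (.leaf 0x2246000d))) (.node (.node (.leaf 0x1cc6c011) (.leaf 0x1910800d)) (.node (.leaf 0x1c1dc00d) (.leaf 0x1dd64013)))) (.node (.node (.node (.leaf 0x1c79800f) (.leaf 0x1df3c011)) (.node (.leaf 0x20d08013) (.leaf 0x1adb000d))) (.node (.node (.leaf 0x18db400f) (.leaf 0x20d6c00f)) (.node (.leaf 0x2099800f) (.leaf 0x0)))))) (.node (.node (.node (.node (.node (.leaf 0x1e02400d) (.leaf 0x1d2c0013)) (.node (.leaf 0x15f1c013) (.leaf 0x12d48013))) (.node (.node (.leaf 0x1e95800f) (.leaf 0x1c33000f)) (.node (.leaf 0x21fd800d)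 (.leaf 0x1913800f)))) (.node (.node (.node (.leaf 0x1b8e8011) (.leaf 0x23a84013)) (.node (.leaf 0x1e134013) (.leaf 0x233d8013))) (.node (.node (.leaf 0x24ea000d) (.leaf 0x1a6a8011)) (.node (.leaf 0x1ce0400d) (.leaf 0x0))))) (.node (.node (.node (.node (.leaf 0x1cf38011) (.leaf 0x1dbe8011)) (.node (.leaf 0x198dc013) (.leaf 0x221a000f))) (.node (.node (.leaf 0x1d464011) (.leaf 0x1fa6800d)) (.node (.leaf 0x1dd9800d) (.leaf 0x0)))) (.node (.node (.node (.leaf 0x229bc00f) (.leaf 0x14b8c011)) (.node (.leaf 0x18d18013) (.leaf 0x1e3f0013))) (.node (.node (.leaf 0x1b10800d) (.leaf 0x1edd0013)) (.node (.leaf 0x1f6a400d) (.leaf 0x0)))))))) (.node (.node (.node (.node (.node (.node (.node (.leaf 0x1e9e400d) (.leaf 0x1415c011)) (.node (.leaf 0x1a94800f) (.leaf 0x1d47000f))) (.node (.node (.leaf 0x1e2ec00d) (.leaf 0x1b9c400f)) (.node (.leaf 0x188cc00f) (.leaf 0x19ec0011)))) (.node (.node (.node (.leaf 0x1102000d) (.leaf 0x1ace4013))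 (.node (.leaf 0x1b82c011) (.leaf 0x2107800d))) (.node (.node (.leaf 0x1caa800f) (.leaf 0x11e8c00f)) (.node (.leaf 0x1abb400f) (.leaf 0x0))))) (.node (.node (.node (.node (.leaf 0x20ee0013) (.leaf 0x14c20011)) (.node (.leaf 0x205a0011) (.leaf 0x1b028013))) (.node (.node (.leaf 0x10af0011) (.leaf 0x20694011)) (.node (.leaf 0x20c28011) (.leaf 0x1cc80013)))) (.node (.node (.node (.leaf 0x22a6000f) (.leaf 0x1279000d)) (.node (.leaf 0x19084013) (.leaf 0x1905c00d))) (.node (.node (.leaf 0x1ebd4011) (.leaf 0x1ebf8011)) (.node (.leaf 0x13418013) (.leaf 0x0)))))) (.node (.node (.node (.node (.node (.leaf 0x1c180011) (.leaf 0x16d8000f)) (.node (.leaf 0x1dc44011) (.leaf 0x1f5c4011))) (.node (.node (.leaf 0x1903c011) (.leaf 0x1740c011)) (.node (.leaf 0x239e8011) (.leaf 0x224c8011)))) (.node (.node (.node (.leaf 0x1b9dc011) (.leaf 0x17850011)) (.node (.leaf 0xc6d000f) (.leaf 0x1d59000d))) (.node (.node (.leaf 0x1a7e4013) (.leaf 0xedcc013))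 (.node (.leaf 0xd0ec00f) (.leaf 0x0))))) (.node (.node (.node (.node (.leaf 0x1d048013) (.leaf 0x1f4ec011)) (.node (.leaf 0x15d0000f) (.leaf 0x20f7000f))) (.node (.node (.leaf 0x1d500013) (.leaf 0x15174013)) (.node (.leaf 0xdd5400d) (.leaf 0x219c800d)))) (.node (.node (.node (.leaf 0x18174013) (.leaf 0x1f2bc013)) (.node (.leaf 0x194a400f) (.leaf 0x1a3f8013))) (.node (.node (.leaf 0x1e160013) (.leaf 0x23040011)) (.node (.leaf 0x152ac011) (.leaf 0x0))))))) (.node (.node (.node (.node (.node (.node (.leaf 0x21df0011) (.leaf 0x210fc00d)) (.node (.leaf 0x19e4000d) (.leaf 0x1ee00011))) (.node (.node (.leaf 0x277c0011) (.leaf 0x171a8013)) (.node (.leaf 0x114c4013) (.leaf 0x183ac013)))) (.node (.node (.node (.leaf 0x22660013) (.leaf 0x1f538011)) (.node (.leaf 0x16d2c00f) (.leaf 0x1f8c8013))) (.node (.node (.leaf 0x1cf4c013) (.leaf 0x22a68011)) (.node (.leaf 0x25214013) (.leaf 0x0))))) (.node (.node (.node (.node (.leaf 0x230f400d)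 (.leaf 0x1ca54011)) (.node (.leaf 0x1a5b000f) (.leaf 0x17778013))) (.node (.node (.leaf 0x2087c00f) (.leaf 0x1b108013)) (.node (.leaf 0x1b40400f) (.leaf 0x1b27c011)))) (.node (.node (.node (.leaf 0x21a88011) (.leaf 0x1d14400d)) (.node (.leaf 0x1b4d000d) (.leaf 0x26b2800f))) (.node (.node (.leaf 0x18254011) (.leaf 0x17a4c00f)) (.node (.leaf 0x1b834013) (.leaf 0x0)))))) (.node (.node (.node (.node (.node (.leaf 0x21cf0013) (.leaf 0x23440013)) (.node (.leaf 0x1d38800f) (.leaf 0x1f87400f))) (.node (.node (.leaf 0x19618011) (.leaf 0x1512c00d)) (.node (.leaf 0x1eaf0013) (.leaf 0x2106800d)))) (.node (.node (.node (.leaf 0x21320011) (.leaf 0x212f800d)) (.node (.leaf 0x199bc013) (.leaf 0x1f224013))) (.node (.node (.leaf 0x1dc58013) (.leaf 0x1767c00f)) (.node (.leaf 0x22e3000d) (.leaf 0x0))))) (.node (.node (.node (.node (.leaf 0x1c3a0011) (.leaf 0x187f4011)) (.node (.leaf 0x209d8011) (.leaf 0x1a828011))) (.node (.node (.leaf 0x1e6f0013)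 (.leaf 0x1b668013)) (.node (.leaf 0x20580011) (.leaf 0x0)))) (.node (.node (.node (.leaf 0x2052c011) (.leaf 0x1f48000d)) (.node (.leaf 0x195ac00f) (.leaf 0x1e928011))) (.node (.node (.leaf 0x11d2000f) (.leaf 0x211bc00d)) (.node (.leaf 0x1f520013) (.leaf 0x0))))))))) (.node (.node (.node (.node (.node (.node (.node (.node (.leaf 0x11d28011) (.leaf 0x1b7fc00f)) (.node (.leaf 0x18b14011) (.leaf 0x1508000d))) (.node (.node (.leaf 0x1ca6400d) (.leaf 0x15bac00f)) (.node (.leaf 0x2010000d) (.leaf 0x1ebb0011)))) (.node (.node (.node (.leaf 0x1f95000f) (.leaf 0x1aad400f)) (.node (.leaf 0x1def8013) (.leaf 0x1f7b000f))) (.node (.node (.leaf 0x1f2e400d) (.leaf 0x1f59c013)) (.node (.leaf 0x8a7000d) (.leaf 0x0))))) (.node (.node (.node (.node (.leaf 0x22c08011) (.leaf 0x1f570013)) (.node (.leaf 0x1a5a800d) (.leaf 0x23140011))) (.node (.node (.leaf 0x1c674013) (.leaf 0x1d638013)) (.node (.leaf 0x209c000d) (.leaf 0x19c1c00d)))) (.node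 (.node (.node (.leaf 0x1272800d) (.leaf 0x17188013)) (.node (.leaf 0x1f33400f) (.leaf 0x2158400d))) (.node (.node (.leaf 0x1c4a4013) (.leaf 0x1148c00f)) (.node (.leaf 0x20100013) (.leaf 0x0)))))) (.node (.node (.node (.node (.node (.leaf 0x138f800f) (.leaf 0x2324000f)) (.node (.leaf 0xdd4400d) (.leaf 0x1dbb800d))) (.node (.node (.leaf 0x10720013) (.leaf 0x19a5800f)) (.node (.leaf 0x217d0011) (.leaf 0x2145800d)))) (.node (.node (.node (.leaf 0x155d0011) (.leaf 0x19270011)) (.node (.leaf 0x18bec013) (.leaf 0x21fc0011))) (.node (.node (.leaf 0x21790011) (.leaf 0x27208011)) (.node (.leaf 0xc92400d) (.leaf 0x0))))) (.node (.node (.node (.node (.leaf 0x2052c013) (.leaf 0x1e71800d)) (.node (.leaf 0x1c45c011) (.leaf 0x1a9e0011))) (.node (.node (.leaf 0x1696c00f) (.leaf 0x2388800f)) (.node (.leaf 0x114ec00f) (.leaf 0x1a908013)))) (.node (.node (.node (.leaf 0x10938011) (.leaf 0xdd54013)) (.node (.leaf 0x2347400f) (.leaf 0x19a1800d)))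 (.node (.node (.leaf 0x1d22c00d) (.leaf 0x1cf7c00f)) (.node (.leaf 0x17260013) (.leaf 0x0))))))) (.node (.node (.node (.node (.node (.node (.leaf 0x15f1000f) (.leaf 0x23120013)) (.node (.leaf 0x16c4800f) (.leaf 0x16d2c013))) (.node (.node (.leaf 0x1c6a000f) (.leaf 0x1e61800f)) (.node (.leaf 0x20fd8013) (.leaf 0x21fd4013)))) (.node (.node (.node (.leaf 0x15110013) (.leaf 0x1eae4011)) (.node (.leaf 0x19a38013) (.leaf 0x270e8011))) (.node (.node (.leaf 0x20f48013) (.leaf 0x1c4f000d)) (.node (.leaf 0x2194c00f) (.leaf 0x0))))) (.node (.node (.node (.node (.leaf 0x12bd0013) (.leaf 0x19a74011)) (.node (.leaf 0x237c800d) (.leaf 0x22c54013))) (.node (.node (.leaf 0x19a7c013) (.leaf 0x230f0013)) (.node (.leaf 0x20a8800d) (.leaf 0x1a9a8011)))) (.node (.node (.node (.leaf 0x1daa0011) (.leaf 0x161bc00f)) (.node (.leaf 0x19b38011) (.leaf 0x20604013))) (.node (.node (.leaf 0x21ca4013) (.leaf 0x272e0013)) (.node (.leaf 0x1c6a000d) (.leaf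 0x0)))))) (.node (.node (.node (.node (.node (.leaf 0x15ce8013) (.leaf 0x21e54011)) (.node (.leaf 0x2382800f) (.leaf 0x10af000d))) (.node (.node (.leaf 0x1d610011) (.leaf 0x1511000f)) (.node (.leaf 0x1f08c00f) (.leaf 0x1afa400d)))) (.node (.node (.node (.leaf 0x21f5800d) (.leaf 0x148bc013)) (.node (.leaf 0x1c20400d) (.leaf 0x1817400f))) (.node (.node (.leaf 0x19e18013) (.leaf 0x22fdc013)) (.node (.leaf 0x20e1800d) (.leaf 0x0))))) (.node (.node (.node (.node (.leaf 0x1eb64013) (.leaf 0x1455400d)) (.node (.leaf 0x1dac8011) (.leaf 0x23898013))) (.node (.node (.leaf 0x9ee000d) (.leaf 0x1777800d)) (.node (.leaf 0x239cc011) (.leaf 0x0)))) (.node (.node (.node (.leaf 0x1a0e0013) (.leaf 0x1d80000d)) (.node (.leaf 0x1c674011) (.leaf 0x19c5c00d))) (.node (.node (.leaf 0x22d9400f) (.leaf 0x1df7000d)) (.node (.leaf 0x23a58011) (.leaf 0x0)))))))) (.node (.node (.node (.node (.node (.node (.node (.leaf 0x22e34011) (.leaf 0x1c2e8011))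 (.node (.leaf 0x1e1d4013) (.leaf 0x15f84011))) (.node (.node (.leaf 0x1d07000f) (.leaf 0x11548011)) (.node (.leaf 0x239e0011) (.leaf 0x1ac38013)))) (.node (.node (.node (.leaf 0x1d6ec011) (.leaf 0x20d3400f)) (.node (.leaf 0x1cb90013) (.leaf 0x150a400d))) (.node (.node (.leaf 0x18a5c013) (.leaf 0x231dc00d)) (.node (.leaf 0x1cdf4011) (.leaf 0x0))))) (.node (.node (.node (.node (.leaf 0x1e54400f) (.leaf 0x22124011)) (.node (.leaf 0x1e4fc013) (.leaf 0x1d10c00f))) (.node (.node (.leaf 0x232b400f) (.leaf 0x1c6a0011)) (.node (.leaf 0x1a92000d) (.leaf 0x1909c00d)))) (.node (.node (.node (.leaf 0x1ca3c011) (.leaf 0x11558013)) (.node (.leaf 0x22b10011) (.leaf 0x15ce800d))) (.node (.node (.leaf 0x1f1ec011) (.leaf 0x1ad34013)) (.node (.leaf 0x1c26c00f) (.leaf 0x0)))))) (.node (.node (.node (.node (.node (.leaf 0x20130013) (.leaf 0x1cd4800f)) (.node (.leaf 0x1e510011) (.leaf 0x1d1c000d))) (.node (.node (.leaf 0x96b800d) (.leaf 0x18c70013))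 (.node (.leaf 0x1cce400f) (.leaf 0x23240011)))) (.node (.node (.node (.leaf 0x21bcc013) (.leaf 0x271e400f)) (.node (.leaf 0x1379c011) (.leaf 0x21ebc00d))) (.node (.node (.leaf 0x1b998011) (.leaf 0x154e400d)) (.node (.leaf 0x17678011) (.leaf 0x0))))) (.node (.node (.node (.node (.leaf 0x2181c00d) (.leaf 0x1c3d4011)) (.node (.leaf 0x1043000d) (.leaf 0x1ecf8013))) (.node (.node (.leaf 0x19348011) (.leaf 0x1b0a8013)) (.node (.leaf 0x10964011) (.leaf 0x0)))) (.node (.node (.node (.leaf 0x107bc00f) (.leaf 0x175bc00f)) (.node (.leaf 0x17618011) (.leaf 0x1b3f000f))) (.node (.node (.leaf 0x15a4000d) (.leaf 0x1f3b000f)) (.node (.leaf 0x16874011) (.leaf 0x0))))))) (.node (.node (.node (.node (.node (.node (.leaf 0x1c79000f) (.leaf 0x21eb800d)) (.node (.leaf 0x1b394011) (.leaf 0x22e7c011))) (.node (.node (.leaf 0x21784011) (.leaf 0x152ac00d)) (.node (.leaf 0x1528800d) (.leaf 0x140d400d)))) (.node (.node (.node (.leaf 0x16668013) (.leaf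 0x1c95c00f)) (.node (.leaf 0x1cb44011) (.leaf 0x1f950013))) (.node (.node (.leaf 0x2199400d) (.leaf 0x1d46400f)) (.node (.leaf 0x12010013) (.leaf 0x0))))) (.node (.node (.node (.node (.leaf 0x1b23400d) (.leaf 0x1d79c00d)) (.node (.leaf 0x1eedc00d) (.leaf 0x1f2e4013))) (.node (.node (.leaf 0x20a28013) (.leaf 0x1a41000d)) (.node (.leaf 0x1556800f) (.leaf 0x1113000f)))) (.node (.node (.node (.leaf 0x1825c013) (.leaf 0x1903000f)) (.node (.leaf 0x106e4011) (.leaf 0x205f8013))) (.node (.node (.leaf 0x18094011) (.leaf 0x1f620011)) (.node (.leaf 0x1d408011) (.leaf 0x0)))))) (.node (.node (.node (.node (.node (.leaf 0x2181c013) (.leaf 0x22b0400d)) (.node (.leaf 0x2163400f) (.leaf 0x1f37800d))) (.node (.node (.leaf 0x198dc00f) (.leaf 0x1d01000f)) (.node (.leaf 0x1517400f) (.leaf 0x1def0011)))) (.node (.node (.node (.leaf 0x26c14013) (.leaf 0x20d78011)) (.node (.leaf 0x199b8013) (.leaf 0x1edf0013))) (.node (.node (.leaf 0x19a6c00d)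 (.leaf 0x1ec5c013)) (.node (.leaf 0x1ced0011) (.leaf 0x0))))) (.node (.node (.node (.node (.leaf 0x23a84011) (.leaf 0x1aab800f)) (.node (.leaf 0x2423800f) (.leaf 0x1f0e0011))) (.node (.node (.leaf 0x1a04000f) (.leaf 0x1e05000f)) (.node (.leaf 0x18598011) (.leaf 0x0)))) (.node (.node (.node (.leaf 0x223cc013) (.leaf 0x2286000f)) (.node (.leaf 0x20378013) (.leaf 0x230dc011))) (.node (.node (.leaf 0x98b8011) (.leaf 0x27288011)) (.node (.leaf 0x2199800f) (.leaf 0x0))))))))))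

/-- packed table -/
noncomputable def cov1_lrr : BTree := (.node (.node (.node (.node (.node (.node (.node (.node (.node (.leaf 0x18) (.leaf 0x25d08011)) (.node (.leaf 0xc940013) (.leaf 0x1f648011))) (.node (.node (.leaf 0x1b63000f) (.leaf 0x1faf800d)) (.node (.leaf 0x20fac00f) (.leaf 0x1d63800d)))) (.node (.node (.node (.leaf 0x277b8011) (.leaf 0x1eae0011)) (.node (.leaf 0x22b9400d) (.leaf 0xcc98013))) (.node (.node (.leaf 0x22c50011) (.leaf 0x231f000f)) (.node (.leaf 0x19354013) (.leaf 0x0))))) (.node (.node (.node (.node (.leaf 0x1ae18011) (.leaf 0x15fc4013)) (.node (.leaf 0x1e5b400d) (.leaf 0x22ee400f))) (.node (.node (.leaf 0x1c87800f) (.leaf 0x1ec4c00d)) (.node (.leaf 0x1549c011) (.leaf 0x2320000d)))) (.node (.node (.node (.leaf 0x2076c00d) (.leaf 0x1a2d000f)) (.node (.leaf 0x14f98011) (.leaf 0x1200c011))) (.node (.node (.leaf 0x1c718011) (.leaf 0x158c800d)) (.node (.leaf 0x17238013) (.leaf 0x0)))))) (.node (.node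 (.node (.node (.node (.leaf 0x1fb4400d) (.leaf 0x2248c00f)) (.node (.leaf 0x10b7400d) (.leaf 0x1e088011))) (.node (.node (.leaf 0x1c21800d) (.leaf 0x16da0013)) (.node (.leaf 0x1d2c800f) (.leaf 0x2143000d)))) (.node (.node (.node (.leaf 0x215f000d) (.leaf 0x19254011)) (.node (.leaf 0x1e47000d) (.leaf 0x243b000d))) (.node (.node (.leaf 0x1664800d) (.leaf 0x20614013)) (.node (.leaf 0x4018013) (.leaf 0x0))))) (.node (.node (.node (.node (.leaf 0x16648013) (.leaf 0x1b54c011)) (.node (.leaf 0x145cc013) (.leaf 0x243f4013))) (.node (.node (.leaf 0xed3800d) (.leaf 0x1fb0c011)) (.node (.leaf 0x241d4013) (.leaf 0x1d1f8013)))) (.node (.node (.node (.leaf 0x199b800f) (.leaf 0x19f2800d)) (.node (.leaf 0x1070c00d) (.leaf 0x1a74c013))) (.node (.node (.leaf 0x1c330013) (.leaf 0x12798011)) (.node (.leaf 0x20048013) (.leaf 0x0))))))) (.node (.node (.node (.node (.node (.node (.leaf 0x2709000d) (.leaf 0x19ab000d)) (.node (.leaf 0x16d8000d)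 (.leaf 0x1edf800d))) (.node (.node (.leaf 0x210f000d) (.leaf 0x238d0013)) (.node (.leaf 0x21148011) (.leaf 0x1e2e000d)))) (.node (.node (.node (.leaf 0x1e60000d) (.leaf 0x1ded800d)) (.node (.leaf 0x20b9c013) (.leaf 0x1989000d))) (.node (.node (.leaf 0x8a70013) (.leaf 0x1ec3c00f)) (.node (.leaf 0x18830013) (.leaf 0x0))))) (.node (.node (.node (.node (.leaf 0x20a7400f) (.leaf 0x1dec800d)) (.node (.leaf 0x1f6b0011) (.leaf 0x1e5dc011))) (.node (.node (.leaf 0x10c3400d) (.leaf 0x1909800d)) (.node (.leaf 0x1870400d) (.leaf 0x15e4c00d)))) (.node (.node (.node (.leaf 0x1a65800f) (.leaf 0x1ac24013)) (.node (.leaf 0x1b5f400d) (.leaf 0x1e758013))) (.node (.node (.leaf 0x1daf400d) (.leaf 0x22348011)) (.node (.leaf 0x1ef34011) (.leaf 0x0)))))) (.node (.node (.node (.node (.node (.leaf 0x1b59800d) (.leaf 0x2014000f)) (.node (.leaf 0x1f5a800f) (.leaf 0xc36000f))) (.node (.node (.leaf 0x1da9000f) (.leaf 0x1d0c8013)) (.node (.leaf 0x1edf8011)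 (.leaf 0x1412800f)))) (.node (.node (.node (.leaf 0x1789c00d) (.leaf 0x21738011)) (.node (.leaf 0x103c4013) (.leaf 0x16c48011))) (.node (.node (.leaf 0x21e1c013) (.leaf 0x1a8f8011)) (.node (.leaf 0x18e2400d) (.leaf 0x0))))) (.node (.node (.node (.node (.leaf 0x1485000f) (.leaf 0x1c54800d)) (.node (.leaf 0x1c21800f) (.leaf 0x22be000f))) (.node (.node (.leaf 0x21474011) (.leaf 0x1f80c013)) (.node (.leaf 0x158c800f) (.leaf 0x0)))) (.node (.node (.node (.leaf 0x1a80c00f) (.leaf 0xcba8011)) (.node (.leaf 0x1d18c00d) (.leaf 0x1c424013))) (.node (.node (.leaf 0x104b400d) (.leaf 0x2654c011)) (.node (.leaf 0x1e3f0011) (.leaf 0x0)))))))) (.node (.node (.node (.node (.node (.node (.node (.leaf 0x177c4011) (.leaf 0x1c18000f)) (.node (.leaf 0x2324000d) (.leaf 0x2314800f))) (.node (.node (.leaf 0x20414011) (.leaf 0x1cf64011)) (.node (.leaf 0x158a400f) (.leaf 0x1d648013)))) (.node (.node (.node (.leaf 0x116d8011) (.leaf 0x20688011))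 (.node (.leaf 0x1c520013) (.leaf 0x1b0b800d))) (.node (.node (.leaf 0x19a74013) (.leaf 0x1f1d000d)) (.node (.leaf 0x1913c013) (.leaf 0x0))))) (.node (.node (.node (.node (.leaf 0x15c50011) (.leaf 0x20c1c011)) (.node (.leaf 0x265e000d) (.leaf 0x25f00011))) (.node (.node (.leaf 0x1899c011) (.leaf 0x21e5000f)) (.node (.leaf 0x14c2c011) (.leaf 0x1f624011)))) (.node (.node (.node (.leaf 0x1ace400d) (.leaf 0x144d8011)) (.node (.leaf 0x128d800f) (.leaf 0x1908400f))) (.node (.node (.leaf 0x23af4011) (.leaf 0x21dec00f)) (.node (.leaf 0x27aa400f) (.leaf 0x0)))))) (.node (.node (.node (.node (.node (.leaf 0x10194011) (.leaf 0x10c34013)) (.node (.leaf 0x14) (.leaf 0x21f90011))) (.node (.node (.leaf 0x1a8c800f) (.leaf 0x1b468013)) (.node (.leaf 0x226d0013) (.leaf 0x199b000f)))) (.node (.node (.node (.leaf 0x1c7f0013) (.leaf 0x22fa8013)) (.node (.leaf 0xe4b400f) (.leaf 0x1d6f800f))) (.node (.node (.leaf 0x10fd400d) (.leaf 0x1ac88011))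 (.node (.leaf 0x1dfd0011) (.leaf 0x0))))) (.node (.node (.node (.node (.leaf 0x168dc013) (.leaf 0xb088013)) (.node (.leaf 0x14a4800d) (.leaf 0x1e5b4011))) (.node (.node (.leaf 0x19330011) (.leaf 0x1b704013)) (.node (.leaf 0x10980011) (.leaf 0x0)))) (.node (.node (.node (.leaf 0x24184013) (.leaf 0x19f4800d)) (.node (.leaf 0x23a10011) (.leaf 0x2220400f))) (.node (.node (.leaf 0x1ca5400f) (.leaf 0x1b404011)) (.node (.leaf 0x1e55400d) (.leaf 0x0))))))) (.node (.node (.node (.node (.node (.node (.leaf 0x237d000d) (.leaf 0x1c5d000f)) (.node (.leaf 0xb854011) (.leaf 0x1d6d400f))) (.node (.node (.leaf 0x11494013) (.leaf 0xc360011)) (.node (.leaf 0x15368011) (.leaf 0x211f000f)))) (.node (.node (.node (.leaf 0x111e4011) (.leaf 0x1098000d)) (.node (.leaf 0x1cb58011) (.leaf 0x14c20013))) (.node (.node (.leaf 0x1a9c000f) (.leaf 0x21fd800f)) (.node (.leaf 0x1415800d) (.leaf 0x0))))) (.node (.node (.node (.node (.leaf 0x1f27800d) (.leaf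 0x1e61000f)) (.node (.leaf 0x1f744011) (.leaf 0x1f408011))) (.node (.node (.leaf 0x1cc6c00d) (.leaf 0x258f800d)) (.node (.leaf 0x1898400f) (.leaf 0x1e094013)))) (.node (.node (.node (.leaf 0x196f4013) (.leaf 0x21954011)) (.node (.leaf 0xc6d0011) (.leaf 0x1e12000d))) (.node (.node (.leaf 0x1824c011) (.leaf 0x1c59c00f)) (.node (.leaf 0x1b9dc013) (.leaf 0x0)))))) (.node (.node (.node (.node (.node (.leaf 0x1db14011) (.leaf 0x181a400f)) (.node (.leaf 0x1e83000f) (.leaf 0x1a410011))) (.node (.node (.leaf 0x1e03000f) (.leaf 0x1415800f)) (.node (.leaf 0x146e0013) (.leaf 0x1462c00d)))) (.node (.node (.node (.leaf 0x1daa000f) (.leaf 0x1931800d)) (.node (.leaf 0x199b0013) (.leaf 0x1687c011))) (.node (.node (.leaf 0x9c40013) (.leaf 0x14124013)) (.node (.leaf 0x1d820011) (.leaf 0x0))))) (.node (.node (.node (.node (.leaf 0x22360013) (.leaf 0x23798013)) (.node (.leaf 0x1c9dc011) (.leaf 0x1ced000f))) (.node (.node (.leaf 0x185e000f)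 (.leaf 0x25744013)) (.node (.leaf 0x1def800f) (.leaf 0x0)))) (.node (.node (.node (.leaf 0x1cbb800f) (.leaf 0x18d18011)) (.node (.leaf 0x1a2b800f) (.leaf 0x1a20c00f))) (.node (.node (.leaf 0x1da04013) (.leaf 0x1dfe0013)) (.node (.leaf 0x1f6a4011) (.leaf 0x0))))))))) (.node (.node (.node (.node (.node (.node (.node (.node (.leaf 0x11d30013) (.leaf 0x1c164011)) (.node (.leaf 0x1c94c013) (.leaf 0x1e140011))) (.node (.node (.leaf 0x1c8a000f) (.leaf 0x2117c00f)) (.node (.leaf 0x2063800f) (.leaf 0x14b8c00f)))) (.node (.node (.node (.leaf 0xdd4400f) (.leaf 0x2304c00d)) (.node (.leaf 0x1c51c013) (.leaf 0x161bc011))) (.node (.node (.leaf 0x19a6c013) (.leaf 0x14628013)) (.node (.leaf 0x11130013) (.leaf 0x0))))) (.node (.node (.node (.node (.leaf 0x20eb0013) (.leaf 0x2324400d)) (.node (.leaf 0x21cd0011) (.leaf 0x116d800f))) (.node (.node (.leaf 0x20af8011) (.leaf 0x1f9a8013)) (.node (.leaf 0x15b4c013) (.leaf 0x21784013)))) (.node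 (.node (.node (.leaf 0x1f950011) (.leaf 0x20344011)) (.node (.leaf 0x19098013) (.leaf 0x1ee6400f))) (.node (.node (.leaf 0x1f87400d) (.leaf 0x1cee400f)) (.node (.leaf 0x1b4d800d) (.leaf 0x0)))))) (.node (.node (.node (.node (.node (.leaf 0x1d84800f) (.leaf 0x23548013)) (.node (.leaf 0x158a0013) (.leaf 0x2085400d))) (.node (.node (.leaf 0xe35800f) (.leaf 0x15a7800f)) (.node (.leaf 0x1e150011) (.leaf 0x1615800d)))) (.node (.node (.node (.leaf 0x1a11c011) (.leaf 0x2234800f)) (.node (.leaf 0x1d5e8013) (.leaf 0x1a114011))) (.node (.node (.leaf 0x197a0011) (.leaf 0xb088011)) (.node (.leaf 0x4018011) (.leaf 0x0))))) (.node (.node (.node (.node (.leaf 0x20ef0011) (.leaf 0xc94000f)) (.node (.leaf 0x1f23c00f) (.leaf 0x1e75c013))) (.node (.node (.leaf 0x15024013) (.leaf 0x229bc011)) (.node (.leaf 0x15a40011) (.leaf 0x1e934013)))) (.node (.node (.node (.leaf 0x1928000d) (.leaf 0x15ce000d)) (.node (.leaf 0x1d2c000d) (.leaf 0x1efbc011)))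 (.node (.node (.leaf 0x19c1c00f) (.leaf 0x1eedc011)) (.node (.leaf 0x1e76400f) (.leaf 0x0))))))) (.node (.node (.node (.node (.node (.node (.leaf 0x1e63000d) (.leaf 0x1ee68013)) (.node (.leaf 0x1c89000f) (.leaf 0x17260011))) (.node (.node (.leaf 0x234bc00f) (.leaf 0x15c3800d)) (.node (.leaf 0x515800f) (.leaf 0x1c0dc013)))) (.node (.node (.node (.leaf 0x22650013) (.leaf 0x2154c00d)) (.node (.leaf 0x11a0c013) (.leaf 0x15658013))) (.node (.node (.leaf 0x20e68011) (.leaf 0x1c610013)) (.node (.leaf 0x1502c00f) (.leaf 0x0))))) (.node (.node (.node (.node (.leaf 0x1ebc8013) (.leaf 0x17ae8013)) (.node (.leaf 0x187dc011) (.leaf 0x22740011))) (.node (.node (.leaf 0xed38011) (.leaf 0x155bc00f)) (.node (.leaf 0x1ca6c011) (.leaf 0x21754013)))) (.node (.node (.node (.leaf 0x19ab0011) (.leaf 0x1101800f)) (.node (.leaf 0x515800d) (.leaf 0x22b2400f))) (.node (.node (.leaf 0x19e00013) (.leaf 0x1f4ec00f)) (.node (.leaf 0x1d2c4013) (.leaf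 0x0)))))) (.node (.node (.node (.node (.node (.leaf 0x15d00013) (.leaf 0x1f988011)) (.node (.leaf 0x1cbc0013) (.leaf 0x216b000f))) (.node (.node (.leaf 0x209e0013) (.leaf 0x1efbc013)) (.node (.leaf 0x15c5000f) (.leaf 0x1e2a800d)))) (.node (.node (.node (.leaf 0x1d264013) (.leaf 0x1d23000f)) (.node (.leaf 0x1eab400d) (.leaf 0x19e6c011))) (.node (.node (.leaf 0x2624c00f) (.leaf 0x1e618011)) (.node (.leaf 0x257e800d) (.leaf 0x0))))) (.node (.node (.node (.node (.leaf 0x1f1f8011) (.leaf 0x1c7c4011)) (.node (.leaf 0x19ac0011) (.leaf 0x20c90013))) (.node (.node (.leaf 0x1a04800f) (.leaf 0x1d05400d)) (.node (.leaf 0x1a80c00d) (.leaf 0x0)))) (.node (.node (.node (.leaf 0x26104013) (.leaf 0x1e84800f)) (.node (.leaf 0x239d400f) (.leaf 0x212b000f))) (.node (.node (.leaf 0x1f254011) (.leaf 0x1a9d8011)) (.node (.leaf 0x1d94000f) (.leaf 0x0)))))))) (.node (.node (.node (.node (.node (.node (.node (.leaf 0x1475000d) (.leaf 0xdc2800d))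 (.node (.leaf 0x1e4f400d) (.leaf 0x208dc013))) (.node (.node (.leaf 0x182e0013) (.leaf 0x1f6dc00f)) (.node (.leaf 0x2355400d) (.leaf 0x24c10013)))) (.node (.node (.node (.leaf 0x148a400f) (.leaf 0x18274011)) (.node (.leaf 0x1c94c00d) (.leaf 0x1ec4000f))) (.node (.node (.leaf 0x2330800d) (.leaf 0x144d800d)) (.node (.leaf 0x220c0011) (.leaf 0x0))))) (.node (.node (.node (.node (.leaf 0x1e46c013) (.leaf 0x1c054013)) (.node (.leaf 0x1e5d800d) (.leaf 0x1a04800d))) (.node (.node (.leaf 0x24bf000d) (.leaf 0x1c0f8011)) (.node (.leaf 0x10c34011) (.leaf 0x1a900013)))) (.node (.node (.node (.leaf 0x2243c013) (.leaf 0x1d07c00d)) (.node (.leaf 0x1ccd8013) (.leaf 0x1105000f))) (.node (.node (.leaf 0x21af800d) (.leaf 0x1f57c011)) (.node (.leaf 0x15e84011) (.leaf 0x0)))))) (.node (.node (.node (.node (.node (.leaf 0x14768011) (.leaf 0x22878011)) (.node (.leaf 0x1f958011) (.leaf 0x18a5000d))) (.node (.node (.leaf 0x1db70013) (.leaf 0x1f458013))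 (.node (.leaf 0x19d68011) (.leaf 0x212a0013)))) (.node (.node (.node (.leaf 0x21bdc013) (.leaf 0x1d3f8011)) (.node (.leaf 0x1d0b000d) (.leaf 0x22204011))) (.node (.node (.leaf 0x1f570011) (.leaf 0x1f47000f)) (.node (.leaf 0x17850013) (.leaf 0x0))))) (.node (.node (.node (.node (.leaf 0x1e8e4013) (.leaf 0x2653000d)) (.node (.leaf 0x218d0013) (.leaf 0x1a768013))) (.node (.node (.leaf 0x1d07c013) (.leaf 0x18398011)) (.node (.leaf 0x1e60000f) (.leaf 0x0)))) (.node (.node (.node (.leaf 0x1f2ec011) (.leaf 0x1ef20013)) (.node (.leaf 0x18d44013) (.leaf 0x103e4013))) (.node (.node (.leaf 0x1777c011) (.leaf 0x20ef000f)) (.node (.leaf 0x1e3e0013) (.leaf 0x0))))))) (.node (.node (.node (.node (.node (.node (.leaf 0x1a3ec00d) (.leaf 0x1f74400d)) (.node (.leaf 0x18478011) (.leaf 0x156c400f))) (.node (.node (.leaf 0x1d1c0013) (.leaf 0x16e2800f)) (.node (.leaf 0x227a4013) (.leaf 0xe654011)))) (.node (.node (.node (.leaf 0x15450011) (.leaf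 0x22c80013)) (.node (.leaf 0x1ed5800f) (.leaf 0x1d880013))) (.node (.node (.leaf 0x1998400d) (.leaf 0x19da4013)) (.node (.leaf 0x21c2c00f) (.leaf 0x0))))) (.node (.node (.node (.node (.leaf 0x1dbe800f) (.leaf 0x19e7c011)) (.node (.leaf 0x1c5d0013) (.leaf 0x18c7000f))) (.node (.node (.leaf 0x1f1a400f) (.leaf 0x234e8013)) (.node (.leaf 0x1c1dc013) (.leaf 0x199cc00d)))) (.node (.node (.node (.leaf 0x1414c00f) (.leaf 0x1adac00f)) (.node (.leaf 0x186f8011) (.leaf 0x20c84013))) (.node (.node (.leaf 0x1cfdc00f) (.leaf 0x1d72c00d)) (.node (.leaf 0x1b9d8013) (.leaf 0x0)))))) (.node (.node (.node (.node (.node (.leaf 0x2165000f) (.leaf 0x1825800f)) (.node (.leaf 0x1912000d) (.leaf 0x1b068011))) (.node (.node (.leaf 0x103e400d) (.leaf 0x2404c00d)) (.node (.leaf 0x206dc013) (.leaf 0x16e28011)))) (.node (.node (.node (.leaf 0x1c38c013) (.leaf 0x1067c00d)) (.node (.leaf 0x14fb0011) (.leaf 0x152ac013))) (.node (.node (.leaf 0x9d1800f)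 (.leaf 0x181a400d)) (.node (.leaf 0x201f4013) (.leaf 0x0))))) (.node (.node (.node (.node (.leaf 0x22cec011) (.leaf 0x14a98013)) (.node (.leaf 0x1ba9800d) (.leaf 0x21c94013))) (.node (.node (.leaf 0x26784011) (.leaf 0x1893000d)) (.node (.leaf 0x1ded000f) (.leaf 0x0)))) (.node (.node (.node (.leaf 0x15700013) (.leaf 0x1b46000d)) (.node (.leaf 0x1834c013) (.leaf 0x1d40800d))) (.node (.node (.leaf 0x19890011) (.leaf 0x20ea4013)) (.node (.leaf 0xcb9400d) (.leaf 0x0))))))))))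

/-- packed table -/
noncomputable def cov1_rll : BTree := (.node (.node (.node (.node (.node (.node (.node (.node (.node (.leaf 0x11d28013) (.leaf 0x1df7400f)) (.node (.leaf 0xdd2400d) (.leaf 0x1e96400f))) (.node (.node (.leaf 0x1f61000f) (.leaf 0x1df14011)) (.node (.leaf 0x1c1fc00d) (.leaf 0x1e1cc011)))) (.node (.node (.node (.leaf 0x1c71800f) (.leaf 0x2289c00d)) (.node (.leaf 0x239e800f) (.leaf 0x1740c00f))) (.node (.node (.leaf 0x21e5c00d) (.leaf 0x1c610011)) (.node (.leaf 0x96b8011) (.leaf 0x0))))) (.node (.node (.node (.node (.leaf 0x1b668011) (.leaf 0x1d84c011)) (.node (.leaf 0x2330c011) (.leaf 0x23774013))) (.node (.node (.leaf 0x1f114011) (.leaf 0x2331c013)) (.node (.leaf 0x1b70400f) (.leaf 0x1ee08011)))) (.node (.node (.node (.leaf 0x1ebf4013) (.leaf 0x202f400f)) (.node (.leaf 0x184f800f) (.leaf 0x1f6a4013))) (.node (.node (.leaf 0x184a8013) (.leaf 0x23380011)) (.node (.leaf 0x1f9b0013) (.leaf 0x0)))))) (.node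 (.node (.node (.node (.node (.leaf 0x1dc8800d) (.leaf 0x228a800f)) (.node (.leaf 0x1233800f) (.leaf 0x19ae800f))) (.node (.node (.leaf 0x1f7d8011) (.leaf 0x2351c00d)) (.node (.leaf 0x1adac00d) (.leaf 0x237dc00f)))) (.node (.node (.node (.leaf 0x1d60800d) (.leaf 0x1f334013)) (.node (.leaf 0x18984013) (.leaf 0x23604013))) (.node (.node (.leaf 0x215a8013) (.leaf 0x279ec013)) (.node (.leaf 0x1200c013) (.leaf 0x0))))) (.node (.node (.node (.node (.leaf 0x1e69800d) (.leaf 0x18f68013)) (.node (.leaf 0x1b938011) (.leaf 0x16f5c013))) (.node (.node (.leaf 0x1e61c00d) (.leaf 0x1eec4013)) (.node (.leaf 0x181a8013) (.leaf 0x190f400f)))) (.node (.node (.node (.leaf 0x15cdc00d) (.leaf 0x1cbc0011)) (.node (.leaf 0x21e5c013) (.leaf 0x1549c00f))) (.node (.node (.leaf 0x1dac800f) (.leaf 0x1e63400f)) (.node (.leaf 0x1d20000d) (.leaf 0x0))))))) (.node (.node (.node (.node (.node (.node (.leaf 0x1b4b800f) (.leaf 0x1f114013)) (.node (.leaf 0x14c6000f)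 (.leaf 0x403c00f))) (.node (.node (.leaf 0x1cee800d) (.leaf 0x1d56c011)) (.node (.leaf 0xcfe0013) (.leaf 0x19c3000d)))) (.node (.node (.node (.leaf 0x14e1c011) (.leaf 0x1d52800f)) (.node (.leaf 0x248e4011) (.leaf 0x23374013))) (.node (.node (.leaf 0x1f2ec00d) (.leaf 0x224ec011)) (.node (.leaf 0x2297c00f) (.leaf 0x0))))) (.node (.node (.node (.node (.leaf 0x2628800d) (.leaf 0x1fa40013)) (.node (.leaf 0x2037800f) (.leaf 0x21ab800f))) (.node (.node (.leaf 0x1a2d0013) (.leaf 0x14124011)) (.node (.leaf 0x1ca90011) (.leaf 0x1d3b000f)))) (.node (.node (.node (.leaf 0x22460013) (.leaf 0x22d74013)) (.node (.leaf 0x18d10013) (.leaf 0x1e070011))) (.node (.node (.leaf 0x1e2a4011) (.leaf 0x1f53800d)) (.node (.leaf 0x1200c00d) (.leaf 0x0)))))) (.node (.node (.node (.node (.node (.leaf 0x2232800d) (.leaf 0x19cd800d)) (.node (.leaf 0x23b00011) (.leaf 0x1a624011))) (.node (.node (.leaf 0x166b800f) (.leaf 0x1c67400d)) (.node (.leaf 0x15fc400d)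 (.leaf 0x239cc00f)))) (.node (.node (.node (.leaf 0x403c013) (.leaf 0x1dc1800d)) (.node (.leaf 0x1cce0011) (.leaf 0x1d14400f))) (.node (.node (.leaf 0x20854011) (.leaf 0x235d400d)) (.node (.leaf 0x1db5400f) (.leaf 0x0))))) (.node (.node (.node (.node (.leaf 0x1c698013) (.leaf 0x1dea400f)) (.node (.leaf 0xdc28011) (.leaf 0x1ab5c00d))) (.node (.node (.leaf 0x2581800f) (.leaf 0x20394011)) (.node (.leaf 0x20970011) (.leaf 0x0)))) (.node (.node (.node (.leaf 0x18b40013) (.leaf 0x20bb0011)) (.node (.leaf 0x1f0b000d) (.leaf 0x239fc00d))) (.node (.node (.leaf 0x1761c00d) (.leaf 0x1afd0013)) (.node (.leaf 0x1067c00f) (.leaf 0x0)))))))) (.node (.node (.node (.node (.node (.node (.node (.leaf 0x257e8013) (.leaf 0x20138011)) (.node (.leaf 0x1d0d0011) (.leaf 0x23924013))) (.node (.node (.leaf 0x1e07c00d) (.leaf 0x1777c00f)) (.node (.leaf 0x24210011) (.leaf 0x1de9c011)))) (.node (.node (.node (.leaf 0x114ec00d) (.leaf 0x1c65c011)) (.node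 (.leaf 0x1b90c00f) (.leaf 0x221a0011))) (.node (.node (.leaf 0x1da44013) (.leaf 0x19a7000d)) (.node (.leaf 0x18d3000d) (.leaf 0x0))))) (.node (.node (.node (.node (.leaf 0x1b70c011) (.leaf 0x19ac0013)) (.node (.leaf 0x205c0011) (.leaf 0x1fa68013))) (.node (.node (.leaf 0x2701c00d) (.leaf 0x1ecb0013)) (.node (.leaf 0x1a290013) (.leaf 0x1dc88013)))) (.node (.node (.node (.leaf 0x2207400f) (.leaf 0x20f5800f)) (.node (.leaf 0x2108c013) (.leaf 0x1909400d))) (.node (.node (.leaf 0x20ccc013) (.leaf 0x21dd800f)) (.node (.leaf 0x23428013) (.leaf 0x0)))))) (.node (.node (.node (.node (.node (.leaf 0x1e02c013) (.leaf 0x25eb400d)) (.node (.leaf 0x19890013) (.leaf 0x1e51800f))) (.node (.node (.leaf 0x20708013) (.leaf 0x2316c011)) (.node (.leaf 0x252f0013) (.leaf 0x8584013)))) (.node (.node (.node (.leaf 0x97dc00f) (.leaf 0x1859400f)) (.node (.leaf 0x1cf8800d) (.leaf 0x1b90c00d))) (.node (.node (.leaf 0x1415c00d) (.leaf 0x1ace4011))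 (.node (.leaf 0x8020013) (.leaf 0x0))))) (.node (.node (.node (.node (.leaf 0x1ceec011) (.leaf 0x2360c011)) (.node (.leaf 0x14444011) (.leaf 0x1eb4000f))) (.node (.node (.leaf 0x18e70011) (.leaf 0x1ef2000d)) (.node (.leaf 0x1da34011) (.leaf 0x1a3a8011)))) (.node (.node (.node (.leaf 0x209f4011) (.leaf 0x1e1d800f)) (.node (.leaf 0x209a800f) (.leaf 0x1b36400d))) (.node (.node (.leaf 0x19f4800f) (.leaf 0x1c8d400d)) (.node (.leaf 0x1ca94013) (.leaf 0x0))))))) (.node (.node (.node (.node (.node (.node (.leaf 0x1eae8011) (.leaf 0x1462c011)) (.node (.leaf 0x9ee0011) (.leaf 0x1b600011))) (.node (.node (.leaf 0x19488013) (.leaf 0x2294000f)) (.node (.leaf 0x1761400f) (.leaf 0x15e84013)))) (.node (.node (.node (.leaf 0x1ec7c00f) (.leaf 0x1f92c013)) (.node (.leaf 0xed3800f) (.leaf 0x1b600013))) (.node (.node (.leaf 0x20e6c011) (.leaf 0x22d40013)) (.node (.leaf 0x1d2c8011) (.leaf 0x0))))) (.node (.node (.node (.node (.leaf 0x1dbb8011)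 (.leaf 0x231e000f)) (.node (.leaf 0x19cbc013) (.leaf 0x21ae000f))) (.node (.node (.leaf 0x20c9000d) (.leaf 0x1b0ec013)) (.node (.leaf 0x16dc400d) (.leaf 0x1e184013)))) (.node (.node (.node (.leaf 0x2549800d) (.leaf 0x15960011)) (.node (.leaf 0x11b48011) (.leaf 0x1e4bc00d))) (.node (.node (.leaf 0x19b8c013) (.leaf 0x1b90c013)) (.node (.leaf 0x1f334011) (.leaf 0x0)))))) (.node (.node (.node (.node (.node (.leaf 0x209ac00d) (.leaf 0x26df4011)) (.node (.leaf 0x19f2800f) (.leaf 0x231e8011))) (.node (.node (.leaf 0x1961c011) (.leaf 0x1c3c000d)) (.node (.leaf 0x2081000d) (.leaf 0x16da000f)))) (.node (.node (.node (.leaf 0x21300011) (.leaf 0x1cd50011)) (.node (.leaf 0x219b4013) (.leaf 0x19e78011))) (.node (.node (.leaf 0xc6cc011) (.leaf 0x1379c00d)) (.node (.leaf 0x20efc00f) (.leaf 0x0))))) (.node (.node (.node (.node (.leaf 0xe358013) (.leaf 0x1c7f0011)) (.node (.leaf 0x149f8011) (.leaf 0x212b400f))) (.node (.node (.leaf 0x1e03400f)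 (.leaf 0x1c19800d)) (.node (.leaf 0x1def000f) (.leaf 0x0)))) (.node (.node (.node (.leaf 0x18528011) (.leaf 0x1a84400f)) (.node (.leaf 0x182c000d) (.leaf 0x124a400d))) (.node (.node (.leaf 0x1d610013) (.leaf 0x1a9b0011)) (.node (.leaf 0x12cdc00d) (.leaf 0x0))))))))) (.node (.node (.node (.node (.node (.node (.node (.node (.leaf 0x800800f) (.leaf 0x18bb400d)) (.node (.leaf 0x106e400d) (.leaf 0x23560011))) (.node (.node (.leaf 0x21724013) (.leaf 0x1db9400f)) (.node (.leaf 0x1c204011) (.leaf 0x1cf8000f)))) (.node (.node (.node (.leaf 0x1a91800d) (.leaf 0x1ead000f)) (.node (.leaf 0x1c22400d) (.leaf 0x1ed2400d))) (.node (.node (.leaf 0x1e23c013) (.leaf 0x1758c013)) (.node (.leaf 0x19a6000d) (.leaf 0x0))))) (.node (.node (.node (.node (.leaf 0x19098011) (.leaf 0x19858011)) (.node (.leaf 0x140fc00f) (.leaf 0x1b06800d))) (.node (.node (.leaf 0x1cc6800f) (.leaf 0x2061400f)) (.node (.leaf 0x1b71400f) (.leaf 0x1cf8c00f)))) (.node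 (.node (.node (.leaf 0x220d0013) (.leaf 0x14c2c00f)) (.node (.leaf 0x1d714011) (.leaf 0x19fec011))) (.node (.node (.leaf 0x144a0013) (.leaf 0x1e03c011)) (.node (.leaf 0x24d9c011) (.leaf 0x0)))))) (.node (.node (.node (.node (.node (.leaf 0x1155800f) (.leaf 0x1e4f400f)) (.node (.leaf 0x1545000f) (.leaf 0x1a0a0011))) (.node (.node (.leaf 0x9d3800d) (.leaf 0x137b4013)) (.node (.leaf 0x2320c00d) (.leaf 0x1e1ac013)))) (.node (.node (.node (.leaf 0x215ec00d) (.leaf 0x1df3400f)) (.node (.leaf 0x215b8013) (.leaf 0x212d800f))) (.node (.node (.leaf 0x21e3400d) (.leaf 0x1aec8011)) (.node (.leaf 0x8008011) (.leaf 0x0))))) (.node (.node (.node (.node (.leaf 0x1cee4011) (.leaf 0x1aea4013)) (.node (.leaf 0x18f1400d) (.leaf 0x1a3a400d))) (.node (.node (.leaf 0x19120011) (.leaf 0x1e2a400f)) (.node (.leaf 0x19a30011) (.leaf 0x1e608013)))) (.node (.node (.node (.leaf 0x1d58000d) (.leaf 0x208f4013)) (.node (.leaf 0x1de64013) (.leaf 0x19a1c00d)))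 (.node (.node (.leaf 0x229ec00d) (.leaf 0x23914013)) (.node (.leaf 0x1f254013) (.leaf 0x0))))))) (.node (.node (.node (.node (.node (.node (.leaf 0x1ec90011) (.leaf 0x1da9c00d)) (.node (.leaf 0x11630011) (.leaf 0x22b88011))) (.node (.node (.leaf 0x13190011) (.leaf 0x15860013)) (.node (.leaf 0x10fd4013) (.leaf 0x27448011)))) (.node (.node (.node (.leaf 0x1b00c00d) (.leaf 0xf944013)) (.node (.leaf 0x158e0011) (.leaf 0x1dce400d))) (.node (.node (.leaf 0x20e34011) (.leaf 0x1ec4c013)) (.node (.leaf 0x1ee4c00d) (.leaf 0x0))))) (.node (.node (.node (.node (.leaf 0x2392000d) (.leaf 0x19a58011)) (.node (.leaf 0x177c400d) (.leaf 0x1a5e4011))) (.node (.node (.leaf 0x20384013) (.leaf 0x1a3f800d)) (.node (.leaf 0x1c86c00d) (.leaf 0x22984011)))) (.node (.node (.node (.leaf 0xd0c400f) (.leaf 0x235ac011)) (.node (.leaf 0x1dc14013) (.leaf 0x18d4400d))) (.node (.node (.leaf 0x1db0400d) (.leaf 0x1789c013)) (.node (.leaf 0x1b838013) (.leaf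 0x0)))))) (.node (.node (.node (.node (.node (.leaf 0x15ce0013) (.leaf 0x1f42c013)) (.node (.leaf 0x1cbe8013) (.leaf 0x1a8e8011))) (.node (.node (.leaf 0x1c6ec00f) (.leaf 0x1a29c00f)) (.node (.leaf 0x1eaec013) (.leaf 0x20c44013)))) (.node (.node (.node (.leaf 0x107bc011) (.leaf 0x21764011)) (.node (.leaf 0x1f3a400d) (.leaf 0x1ec3c011))) (.node (.node (.leaf 0x2070800d) (.leaf 0x2257800d)) (.node (.leaf 0x17b10013) (.leaf 0x0))))) (.node (.node (.node (.node (.leaf 0x1c31c00d) (.leaf 0x15bd0011)) (.node (.leaf 0x1ce3c013) (.leaf 0x1a738011))) (.node (.node (.leaf 0x12790013) (.leaf 0x1941000f)) (.node (.leaf 0x1c294013) (.leaf 0x0)))) (.node (.node (.node (.leaf 0x2212400f) (.leaf 0x1f37c00d)) (.node (.leaf 0x1b9f400f) (.leaf 0x22b1c00d))) (.node (.node (.leaf 0x2160c013) (.leaf 0x1777c013)) (.node (.leaf 0x22714013) (.leaf 0x0)))))))) (.node (.node (.node (.node (.node (.node (.node (.leaf 0x21f6000d) (.leaf 0x19ac4013))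 (.node (.leaf 0x1d0c8011) (.leaf 0x1c64c00d))) (.node (.node (.leaf 0x21c9400f) (.leaf 0x227ec00d)) (.node (.leaf 0x1b7d4011) (.leaf 0x2461c00d)))) (.node (.node (.node (.leaf 0x196f4011) (.leaf 0x220d000d)) (.node (.leaf 0x188cc011) (.leaf 0x22970011))) (.node (.node (.leaf 0x20508011) (.leaf 0x1f1b0013)) (.node (.leaf 0x1d144013) (.leaf 0x0))))) (.node (.node (.node (.node (.leaf 0x2083800f) (.leaf 0x1e3ac00d)) (.node (.leaf 0x1a5e400d) (.leaf 0x21bdc00f))) (.node (.node (.leaf 0x18d1800d) (.leaf 0x1f47000d)) (.node (.leaf 0x22298013) (.leaf 0x2306400d)))) (.node (.node (.node (.leaf 0x234bc00d) (.leaf 0x21ca400d)) (.node (.leaf 0x21dc000f) (.leaf 0x1ce88013))) (.node (.node (.leaf 0x198d800d) (.leaf 0x1a0cc011)) (.node (.leaf 0x1a8a400d) (.leaf 0x0)))))) (.node (.node (.node (.node (.node (.leaf 0x19ab000f) (.leaf 0x1cf44011)) (.node (.leaf 0x1df08013) (.leaf 0x21f98011))) (.node (.node (.leaf 0xdb3000f) (.leaf 0x18408013))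 (.node (.leaf 0x1dfcc00d) (.leaf 0x188cc013)))) (.node (.node (.node (.leaf 0x223c400f) (.leaf 0x20c5000f)) (.node (.leaf 0x238c0011) (.leaf 0x1f544011))) (.node (.node (.leaf 0x179f0011) (.leaf 0x1d50400d)) (.node (.leaf 0x18398013) (.leaf 0x0))))) (.node (.node (.node (.node (.leaf 0x1c3cc00f) (.leaf 0x21518013)) (.node (.leaf 0x19c20011) (.leaf 0x14c2000d))) (.node (.node (.leaf 0x19bec00f) (.leaf 0x1b094013)) (.node (.leaf 0xc968011) (.leaf 0x0)))) (.node (.node (.node (.leaf 0x2202000d) (.leaf 0x1b2c0013)) (.node (.leaf 0x1d77800d) (.leaf 0x18110013))) (.node (.node (.leaf 0x1903c00d) (.leaf 0x1d7b400d)) (.node (.leaf 0x22f6800f) (.leaf 0x0))))))) (.node (.node (.node (.node (.node (.node (.leaf 0x1761800d) (.leaf 0x236d0013)) (.node (.leaf 0x1905c013) (.leaf 0x1f8c800f))) (.node (.node (.leaf 0x2146000f) (.leaf 0x1a91c00f)) (.node (.leaf 0x194cc013) (.leaf 0x1e8b0011)))) (.node (.node (.node (.leaf 0x1d5d800d) (.leaf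 0x1c65000f)) (.node (.leaf 0x10980013) (.leaf 0x15a4000f))) (.node (.node (.leaf 0x195ac013) (.leaf 0x148d800d)) (.node (.leaf 0x1b4ac00d) (.leaf 0x0))))) (.node (.node (.node (.node (.leaf 0x1b0d400d) (.leaf 0x1f96c013)) (.node (.leaf 0x2659800f) (.leaf 0x1b8c4013))) (.node (.node (.leaf 0x1319800f) (.leaf 0x1961c00f)) (.node (.leaf 0x22cd4011) (.leaf 0x2228c011)))) (.node (.node (.node (.leaf 0xc96800d) (.leaf 0x18bd4011)) (.node (.leaf 0x1844c013) (.leaf 0x2314400f))) (.node (.node (.leaf 0x18078011) (.leaf 0x1f498013)) (.node (.leaf 0x21bdc00d) (.leaf 0x0)))))) (.node (.node (.node (.node (.node (.leaf 0x204d0011) (.leaf 0x2151c013)) (.node (.leaf 0xe35400f) (.leaf 0x22434011))) (.node (.node (.leaf 0x229f000f) (.leaf 0x1920c011)) (.node (.leaf 0x18fd0011) (.leaf 0x1d0d0013)))) (.node (.node (.node (.leaf 0x140d4011) (.leaf 0x14d58011)) (.node (.leaf 0x21514011) (.leaf 0x2208400d))) (.node (.node (.leaf 0x1096400f)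 (.leaf 0x2376c013)) (.node (.leaf 0x1f7bc00f) (.leaf 0x0))))) (.node (.node (.node (.node (.leaf 0xe354013) (.leaf 0x19f48011)) (.node (.leaf 0x2023c00f) (.leaf 0x1e4fc00d))) (.node (.node (.leaf 0x1d1c4011) (.leaf 0x182c0011)) (.node (.leaf 0x1e37c013) (.leaf 0x0)))) (.node (.node (.node (.leaf 0x1e3ac013) (.leaf 0x1687c00f)) (.node (.leaf 0x1e9e400f) (.leaf 0x23548011))) (.node (.node (.leaf 0x15b6800d) (.leaf 0x206a800f)) (.node (.leaf 0x2288c00d) (.leaf 0x0))))))))))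

/-- packed table -/
noncomputable def cov1_rlr : BTree := (.node (.node (.node (.node (.node (.node (.node (.node (.node (.leaf 0x15d34013) (.leaf 0x1dce4011)) (.node (.leaf 0x1cb24011) (.leaf 0x22db800f))) (.node (.node (.leaf 0x1dc80011) (.leaf 0x21ba400f)) (.node (.leaf 0x20200011) (.leaf 0x1eb8c011)))) (.node (.node (.node (.leaf 0x1f95c00f) (.leaf 0x1a71c011)) (.node (.leaf 0x1d30400f) (.leaf 0x1a9d8013))) (.node (.node (.leaf 0x1bac0011) (.leaf 0x22e34013)) (.node (.leaf 0x1a9a800f) (.leaf 0x0))))) (.node (.node (.node (.node (.leaf 0x1e8e400f) (.leaf 0x19e0000d)) (.node (.leaf 0x2173800d) (.leaf 0x2187c00f))) (.node (.node (.leaf 0x14ae4011) (.leaf 0x1ce88011)) (.node (.leaf 0x11b48013) (.leaf 0x1c7a8013)))) (.node (.node (.node (.leaf 0x1e8e000f) (.leaf 0x1edc0013)) (.node (.leaf 0x209d0013) (.leaf 0x11ff8011))) (.node (.node (.leaf 0x18478013) (.leaf 0x1f12400d)) (.node (.leaf 0x2775400d) (.leaf 0x0)))))) (.node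 (.node (.node (.node (.node (.leaf 0x1f8fc00f) (.leaf 0x1726000f)) (.node (.leaf 0x184ac011) (.leaf 0x19b8c00d))) (.node (.node (.leaf 0x1f458011) (.leaf 0x23370011)) (.node (.leaf 0x2279c013) (.leaf 0x1f53800f)))) (.node (.node (.node (.leaf 0x21460011) (.leaf 0x249e4013)) (.node (.leaf 0x1e544011) (.leaf 0x15fc4011))) (.node (.node (.leaf 0x1cbdc00d) (.leaf 0x1e400013)) (.node (.leaf 0x1071000f) (.leaf 0x0))))) (.node (.node (.node (.node (.leaf 0x247c800d) (.leaf 0x15efc00f)) (.node (.leaf 0x205d4013) (.leaf 0x1e38c00d))) (.node (.node (.leaf 0x16d2c00d) (.leaf 0x21cb400d)) (.node (.leaf 0x1b630011) (.leaf 0x15450013)))) (.node (.node (.node (.leaf 0x1492c011) (.leaf 0x1f59c00f)) (.node (.leaf 0x1807800d) (.leaf 0x154e400f))) (.node (.node (.leaf 0x1432c013) (.leaf 0x22f6400d)) (.node (.leaf 0x187b400d) (.leaf 0x0))))))) (.node (.node (.node (.node (.node (.node (.leaf 0x176d400f) (.leaf 0x1a14800f)) (.node (.leaf 0x1474c013)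 (.leaf 0x14c54013))) (.node (.node (.leaf 0x1c2e4013) (.leaf 0x1b8e8013)) (.node (.leaf 0x18ff0013) (.leaf 0x1f328011)))) (.node (.node (.node (.leaf 0x190f4013) (.leaf 0x235fc00d)) (.node (.leaf 0xcb94013) (.leaf 0x1d86400f))) (.node (.node (.leaf 0x1adac011) (.leaf 0x1c20c013)) (.node (.leaf 0x1de7400f) (.leaf 0x0))))) (.node (.node (.node (.node (.leaf 0x1b8c400d) (.leaf 0x22e8000f)) (.node (.leaf 0x1d84c013) (.leaf 0x1f90800d))) (.node (.node (.leaf 0x18c3c00d) (.leaf 0x22ca4013)) (.node (.leaf 0x1e09400f) (.leaf 0x15e4800d)))) (.node (.node (.node (.leaf 0x1da98011) (.leaf 0x16f1c00d)) (.node (.leaf 0x20f9400f) (.leaf 0x20d2c00d))) (.node (.node (.leaf 0x22a18013) (.leaf 0x2312c00f)) (.node (.leaf 0x2091400d) (.leaf 0x0)))))) (.node (.node (.node (.node (.node (.leaf 0xe44000f) (.leaf 0x23280013)) (.node (.leaf 0x23410011) (.leaf 0x1e8bc011))) (.node (.node (.leaf 0x1ac3800d) (.leaf 0x24c04013)) (.node (.leaf 0x1f178011)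 (.leaf 0x22a18011)))) (.node (.node (.node (.leaf 0x145a400f) (.leaf 0x1735c013)) (.node (.leaf 0x2568000f) (.leaf 0x1a73800d))) (.node (.node (.leaf 0x1de2c013) (.leaf 0x1e90c011)) (.node (.leaf 0x21b6c00f) (.leaf 0x0))))) (.node (.node (.node (.node (.leaf 0x1ee7000f) (.leaf 0x21bf8011)) (.node (.leaf 0x1e9a4013) (.leaf 0x14ba400f))) (.node (.node (.leaf 0xb85400d) (.leaf 0x1d07c011)) (.node (.leaf 0x182cc013) (.leaf 0x0)))) (.node (.node (.node (.leaf 0x1e570011) (.leaf 0x2793000d)) (.node (.leaf 0x23070011) (.leaf 0x1d64c00d))) (.node (.node (.leaf 0x1d600013) (.leaf 0x20fb400d)) (.node (.leaf 0x27150013) (.leaf 0x0)))))))) (.node (.node (.node (.node (.node (.node (.node (.leaf 0x1b39400f) (.leaf 0xe3d000d)) (.node (.leaf 0x1b83400d) (.leaf 0x1bac000f))) (.node (.node (.leaf 0x1c9b000d) (.leaf 0x22f6c013)) (.node (.leaf 0x2575c00d) (.leaf 0x404000d)))) (.node (.node (.node (.leaf 0x156d0011) (.leaf 0x2468c011)) (.node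 (.leaf 0x2328c011) (.leaf 0x14554013))) (.node (.node (.leaf 0x132d400d) (.leaf 0x1f1bc00f)) (.node (.leaf 0x20dd4011) (.leaf 0x0))))) (.node (.node (.node (.node (.leaf 0x17614011) (.leaf 0x20bfc011)) (.node (.leaf 0x145a4011) (.leaf 0x1970c00d))) (.node (.node (.leaf 0x1b59800f) (.leaf 0x246c8011)) (.node (.leaf 0x1ebb000f) (.leaf 0x1f15c011)))) (.node (.node (.node (.leaf 0x1c4f0013) (.leaf 0x97dc00d)) (.node (.leaf 0x19094013) (.leaf 0x1c3cc00d))) (.node (.node (.leaf 0x1687400d) (.leaf 0x2372c00d)) (.node (.leaf 0x1d72c011) (.leaf 0x0)))))) (.node (.node (.node (.node (.node (.leaf 0x1cf5000f) (.leaf 0x1cf50011)) (.node (.leaf 0x2267400d) (.leaf 0x21fb4011))) (.node (.node (.leaf 0x21014011) (.leaf 0x27a3800f)) (.node (.leaf 0x1da4400d) (.leaf 0x1f1bc011)))) (.node (.node (.node (.leaf 0x107ec013) (.leaf 0x1afa4013)) (.node (.leaf 0x1e308011) (.leaf 0x1f0bc011))) (.node (.node (.leaf 0x1e37c00d) (.leaf 0x1b488011))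 (.node (.leaf 0xb854013) (.leaf 0x0))))) (.node (.node (.node (.node (.leaf 0x1a8e8013) (.leaf 0xb084013)) (.node (.leaf 0x158c8013) (.leaf 0x1d64c013))) (.node (.node (.leaf 0x1d334011) (.leaf 0x170cc011)) (.node (.leaf 0x1b54c00f) (.leaf 0x0)))) (.node (.node (.node (.leaf 0x26c30011) (.leaf 0x1fa28011)) (.node (.leaf 0x1e58c013) (.leaf 0x20efc00d))) (.node (.node (.leaf 0x204f400f) (.leaf 0x19570013)) (.node (.leaf 0x1b404013) (.leaf 0x0))))))) (.node (.node (.node (.node (.node (.node (.leaf 0x1324c00d) (.leaf 0x22e60013)) (.node (.leaf 0x1d054013) (.leaf 0x16f5c011))) (.node (.node (.leaf 0x1b740011) (.leaf 0x229b8013)) (.node (.leaf 0x194a0013) (.leaf 0x22890011)))) (.node (.node (.node (.leaf 0x215b800d) (.leaf 0x200b8011)) (.node (.leaf 0x18f6800d) (.leaf 0x1163c00d))) (.node (.node (.leaf 0x1ce64011) (.leaf 0x1dfcc00f)) (.node (.leaf 0x19224013) (.leaf 0x0))))) (.node (.node (.node (.node (.leaf 0x12054013) (.leaf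 0x1f74800d)) (.node (.leaf 0x1c7a000d) (.leaf 0xd3fc00d))) (.node (.node (.leaf 0x14a4c013) (.leaf 0x174d4013)) (.node (.leaf 0x26f2400d) (.leaf 0x222ac011)))) (.node (.node (.node (.leaf 0x156d0013) (.leaf 0x1a29000f)) (.node (.leaf 0x186f0011) (.leaf 0x1163c013))) (.node (.node (.leaf 0x1ce1400f) (.leaf 0x14fbc013)) (.node (.leaf 0x1cc5800f) (.leaf 0x0)))))) (.node (.node (.node (.node (.node (.leaf 0x21d10013) (.leaf 0x1899c00f)) (.node (.leaf 0x204c0013) (.leaf 0x19ae8013))) (.node (.node (.leaf 0x195f8011) (.leaf 0x1ee70011)) (.node (.leaf 0xcfe8011) (.leaf 0x1d62c00f)))) (.node (.node (.node (.leaf 0x1d33400f) (.leaf 0x1927400f)) (.node (.leaf 0x209e000d) (.leaf 0x1e08c00d))) (.node (.node (.leaf 0x1db74011) (.leaf 0x22f68011)) (.node (.leaf 0x1fa0c013) (.leaf 0x0))))) (.node (.node (.node (.node (.leaf 0x1834c00d) (.leaf 0x1c59c00d)) (.node (.leaf 0x1c22400f) (.leaf 0x22c80011))) (.node (.node (.leaf 0x176d400d)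 (.leaf 0x182cc011)) (.node (.leaf 0x1e38c013) (.leaf 0x0)))) (.node (.node (.node (.leaf 0x21e5000d) (.leaf 0x1687400f)) (.node (.leaf 0x230f000d) (.leaf 0x16f1c011))) (.node (.node (.leaf 0xe35800d) (.leaf 0xb084011)) (.node (.leaf 0x1d98c00f) (.leaf 0x0))))))))) (.node (.node (.node (.node (.node (.node (.node (.node (.leaf 0xc00c00d) (.leaf 0x1b13400f)) (.node (.leaf 0x1cd2000f) (.leaf 0x1cf8c013))) (.node (.node (.leaf 0x2572800f) (.leaf 0x1ef7c013)) (.node (.leaf 0x20214011) (.leaf 0x14ae4013)))) (.node (.node (.node (.leaf 0x1f95800f) (.leaf 0x1f36c011)) (.node (.leaf 0x20abc00d) (.leaf 0x25eac00f))) (.node (.node (.leaf 0xe35400d) (.leaf 0x1b7fc011)) (.node (.leaf 0x19138013) (.leaf 0x0))))) (.node (.node (.node (.node (.leaf 0x2282400f) (.leaf 0x2651c00d)) (.node (.leaf 0x2259000d) (.leaf 0x16c48013))) (.node (.node (.leaf 0x14afc011) (.leaf 0x1b998013)) (.node (.leaf 0x194a4011) (.leaf 0x2062000d)))) (.node (.node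 (.node (.leaf 0x27990011) (.leaf 0x185e400f)) (.node (.leaf 0x1f03000f) (.leaf 0x1d684013))) (.node (.node (.leaf 0x1c20400f) (.leaf 0x1e4ac00d)) (.node (.leaf 0x1f248013) (.leaf 0x0)))))) (.node (.node (.node (.node (.node (.leaf 0x1e024013) (.leaf 0x1a0c400d)) (.node (.leaf 0x2336800d) (.leaf 0x142d400f))) (.node (.node (.leaf 0x1d00c011) (.leaf 0x1a8e800d)) (.node (.leaf 0x1a9c8011) (.leaf 0x21ba4013)))) (.node (.node (.node (.leaf 0x1e39c00f) (.leaf 0x22f90013)) (.node (.leaf 0x23294011) (.leaf 0x1d79c013))) (.node (.node (.leaf 0x1e7d0013) (.leaf 0x148d8013)) (.node (.leaf 0x1112800d) (.leaf 0x0))))) (.node (.node (.node (.node (.leaf 0x1e61c013) (.leaf 0xc54400f)) (.node (.leaf 0x1844c011) (.leaf 0x1b0ec00f))) (.node (.node (.leaf 0x1137c00f) (.leaf 0x1fb2800f)) (.node (.leaf 0x21d4c00d) (.leaf 0x15b4c00d)))) (.node (.node (.node (.leaf 0x18e24013) (.leaf 0x23174011)) (.node (.leaf 0x1a594013) (.leaf 0x22188013)))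 (.node (.node (.leaf 0x21dc000d) (.leaf 0x1829c00f)) (.node (.leaf 0x1b3f0013) (.leaf 0x0))))))) (.node (.node (.node (.node (.node (.node (.leaf 0x18058011) (.leaf 0x1ee50013)) (.node (.leaf 0x1ca6c00f) (.leaf 0x18f84013))) (.node (.node (.leaf 0x1946c013) (.leaf 0x2042800f)) (.node (.leaf 0x19150011) (.leaf 0x21af000f)))) (.node (.node (.node (.leaf 0xe654013) (.leaf 0x858400f)) (.node (.leaf 0x11b6400d) (.leaf 0x1e3e4011))) (.node (.node (.leaf 0x1992c00d) (.leaf 0x1df9c00f)) (.node (.leaf 0x1d228013) (.leaf 0x0))))) (.node (.node (.node (.node (.leaf 0x1d0d000d) (.leaf 0x19f5000f)) (.node (.leaf 0x1e5b400f) (.leaf 0x1e75c011))) (.node (.node (.leaf 0x1cc5800d) (.leaf 0x19f8c013)) (.node (.leaf 0x1ca3c00d) (.leaf 0x1f55c011)))) (.node (.node (.node (.leaf 0x1e22400d) (.leaf 0x1f470013)) (.node (.leaf 0x15b28011) (.leaf 0x2141c00d))) (.node (.node (.leaf 0x21e04013) (.leaf 0x1927000d)) (.node (.leaf 0x23adc011) (.leaf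 0x0)))))) (.node (.node (.node (.node (.node (.leaf 0x1ee0000f) (.leaf 0x1e2ec00f)) (.node (.leaf 0x18bb4013) (.leaf 0x1cf88013))) (.node (.node (.leaf 0x1aaac013) (.leaf 0x1c69000d)) (.node (.leaf 0x1f96400d) (.leaf 0x22b44013)))) (.node (.node (.node (.leaf 0x2130c011) (.leaf 0x1973c011)) (.node (.leaf 0x1c4b000f) (.leaf 0x201ac00f))) (.node (.node (.leaf 0x15f1c00f) (.leaf 0x1e5ec011)) (.node (.leaf 0x22e3c00d) (.leaf 0x0))))) (.node (.node (.node (.node (.leaf 0x22b88013) (.leaf 0x2116800f)) (.node (.leaf 0x24fa400d) (.leaf 0x250dc013))) (.node (.node (.leaf 0x15f1000d) (.leaf 0x150a4011)) (.node (.leaf 0x267fc00d) (.leaf 0x0)))) (.node (.node (.node (.leaf 0x16f5c00d) (.leaf 0x1f0bc00d)) (.node (.leaf 0x1afd000d) (.leaf 0xc544013))) (.node (.node (.leaf 0x1d57c00d) (.leaf 0x229b4011)) (.node (.leaf 0x1f2d0011) (.leaf 0x0)))))))) (.node (.node (.node (.node (.node (.node (.node (.leaf 0x1d7f8013) (.leaf 0x1c300011))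 (.node (.leaf 0x2016000d) (.leaf 0x2406000f))) (.node (.node (.leaf 0x18a5c00f) (.leaf 0x11558011)) (.node (.leaf 0x22c9400d) (.leaf 0x1a7d4011)))) (.node (.node (.node (.leaf 0xd0ec013) (.leaf 0x2552400f)) (.node (.leaf 0x1c42400d) (.leaf 0x1e6d4011))) (.node (.node (.leaf 0x1e0f0011) (.leaf 0x20f0c00f)) (.node (.leaf 0x2303400d) (.leaf 0x0))))) (.node (.node (.node (.node (.leaf 0x17810011) (.leaf 0x1767c011)) (.node (.leaf 0x145cc011) (.leaf 0x238f400d))) (.node (.node (.leaf 0x1d1c400f) (.leaf 0x1cd6800d)) (.node (.leaf 0x1692400d) (.leaf 0x22580011)))) (.node (.node (.node (.leaf 0x1b74000d) (.leaf 0x1c4dc011)) (.node (.leaf 0x1cce0013) (.leaf 0x1839000d))) (.node (.node (.leaf 0x18d8c00f) (.leaf 0x1a738013)) (.node (.leaf 0x1a6c4011) (.leaf 0x0)))))) (.node (.node (.node (.node (.node (.leaf 0x1415c013) (.leaf 0x1e1cc00f)) (.node (.leaf 0x114c400f) (.leaf 0x1c34000f))) (.node (.node (.leaf 0x21b6c013) (.leaf 0x1d990011))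 (.node (.leaf 0x223c4011) (.leaf 0x239d000f)))) (.node (.node (.node (.leaf 0x21bf4013) (.leaf 0x238d000d)) (.node (.leaf 0x22878013) (.leaf 0x1986c00f))) (.node (.node (.leaf 0x1e5dc013) (.leaf 0x1cc58013)) (.node (.leaf 0x2026000f) (.leaf 0x0))))) (.node (.node (.node (.node (.leaf 0x1e8e0013) (.leaf 0x203d0011)) (.node (.leaf 0x19c30011) (.leaf 0x1e554013))) (.node (.node (.leaf 0xdc0400d) (.leaf 0x18f2c00d)) (.node (.leaf 0x1a90000f) (.leaf 0x0)))) (.node (.node (.node (.leaf 0x101a0013) (.leaf 0x20b9c011)) (.node (.leaf 0x1edf000d) (.leaf 0x1e540013))) (.node (.node (.leaf 0x1cf90013) (.leaf 0x15ce800f)) (.node (.leaf 0x19e6c013) (.leaf 0x0))))))) (.node (.node (.node (.node (.node (.node (.leaf 0x18110011) (.leaf 0x1a8a400f)) (.node (.leaf 0x14b10013) (.leaf 0x1eabc011))) (.node (.node (.leaf 0x1d1cc013) (.leaf 0x1eb74011)) (.node (.leaf 0x227a8013) (.leaf 0x1c0f400d)))) (.node (.node (.node (.leaf 0x1ec9000f) (.leaf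 0x180e4011)) (.node (.leaf 0x1d85c00d) (.leaf 0x14afc013))) (.node (.node (.leaf 0x1d580013) (.leaf 0x1858c00f)) (.node (.leaf 0x1984000d) (.leaf 0x0))))) (.node (.node (.node (.node (.leaf 0x1e050013) (.leaf 0x1b70c013)) (.node (.leaf 0x1f38400d) (.leaf 0x2218c013))) (.node (.node (.leaf 0x23474011) (.leaf 0x219a8011)) (.node (.leaf 0x181d0013) (.leaf 0x1e7c4011)))) (.node (.node (.node (.leaf 0x196cc013) (.leaf 0x20bc4011)) (.node (.leaf 0x1761400d) (.leaf 0x154d000f))) (.node (.node (.leaf 0x1f76400f) (.leaf 0x1c3bc013)) (.node (.leaf 0x1dbe800d) (.leaf 0x0)))))) (.node (.node (.node (.node (.node (.leaf 0x1d3b000d) (.leaf 0x248e800f)) (.node (.leaf 0x204c4013) (.leaf 0x1fb2800d))) (.node (.node (.leaf 0x1e33000d) (.leaf 0x1dea4013)) (.node (.leaf 0x1c6d8013) (.leaf 0x16f1800f)))) (.node (.node (.node (.leaf 0x1ab4800d) (.leaf 0x16dc4013)) (.node (.leaf 0x1c87800d) (.leaf 0x158a400d))) (.node (.node (.leaf 0x19d7800f)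 (.leaf 0x22a4400f)) (.node (.leaf 0x1d2c8013) (.leaf 0x0))))) (.node (.node (.node (.node (.leaf 0x2389400f) (.leaf 0x1bb1400d)) (.node (.leaf 0x23a9000d) (.leaf 0x21e1c00f))) (.node (.node (.leaf 0x1472800f) (.leaf 0x1817400d)) (.node (.leaf 0x1deec00f) (.leaf 0x0)))) (.node (.node (.node (.leaf 0x15a8000f) (.leaf 0x2356000d)) (.node (.leaf 0x1805800d) (.leaf 0x22a7400d))) (.node (.node (.leaf 0x1ebf800d) (.leaf 0x20a08013)) (.node (.leaf 0x15cdc011) (.leaf 0x0))))))))))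

/-- packed table -/
noncomputable def cov1_rrl : BTree := (.node (.node (.node (.node (.node (.node (.node (.node (.node (.leaf 0x802000d) (.leaf 0xcba800d)) (.node (.leaf 0x19b9800f) (.leaf 0x15b5800d))) (.node (.node (.leaf 0x19720013) (.leaf 0x165f8013)) (.node (.leaf 0x1933000f) (.leaf 0x1ac2400d)))) (.node (.node (.node (.leaf 0x1de80011) (.leaf 0x1eadc00f)) (.node (.leaf 0x1a7e400f) (.leaf 0x137b400f))) (.node (.node (.leaf 0x21544013) (.leaf 0x1cb0c00d)) (.node (.leaf 0x1d36c013) (.leaf 0x0))))) (.node (.node (.node (.node (.leaf 0x19840013) (.leaf 0x15860011)) (.node (.leaf 0x14f9c00f) (.leaf 0x1c650013))) (.node (.node (.leaf 0x1c45c00d) (.leaf 0x1ef6000f)) (.node (.leaf 0xdb30013) (.leaf 0x1ab48013)))) (.node (.node (.node (.leaf 0x22c58011) (.leaf 0x1adb0013)) (.node (.leaf 0x1c9b0013) (.leaf 0x1d70800d))) (.node (.node (.leaf 0x1c494013) (.leaf 0x21cd000f)) (.node (.leaf 0x18d8c011) (.leaf 0x0)))))) (.node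 (.node (.node (.node (.node (.leaf 0x1ca90013) (.leaf 0x1767800f)) (.node (.leaf 0x1848c011) (.leaf 0x223dc00f))) (.node (.node (.leaf 0x23a5400f) (.leaf 0x1af0800f)) (.node (.leaf 0x1d7b4011) (.leaf 0x14768013)))) (.node (.node (.node (.leaf 0x1d60000d) (.leaf 0x1a5f4013)) (.node (.leaf 0x21178011) (.leaf 0x1a3f800f))) (.node (.node (.leaf 0x23af400f) (.leaf 0x1cfc0013)) (.node (.leaf 0x1c1b0011) (.leaf 0x0))))) (.node (.node (.node (.node (.leaf 0x1f18400d) (.leaf 0x1e22c00f)) (.node (.leaf 0x1e5d400f) (.leaf 0x1e41c00f))) (.node (.node (.leaf 0x1ad3c00d) (.leaf 0x1445800f)) (.node (.leaf 0x1c1b0013) (.leaf 0x1ab2c00d)))) (.node (.node (.node (.leaf 0xc940011) (.leaf 0x1758c00f)) (.node (.leaf 0x15e4c013) (.leaf 0x15a1400d))) (.node (.node (.leaf 0x1c340013) (.leaf 0x21cc400f)) (.node (.leaf 0x2119800f) (.leaf 0x0))))))) (.node (.node (.node (.node (.node (.node (.leaf 0x1b09400d) (.leaf 0x1a8f8013)) (.node (.leaf 0x1eba4013)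 (.leaf 0x1809400f))) (.node (.node (.leaf 0x1f7b0011) (.leaf 0x1e10000d)) (.node (.leaf 0x20ff4013) (.leaf 0x1ad0000f)))) (.node (.node (.node (.leaf 0x14dfc011) (.leaf 0x1d04000f)) (.node (.leaf 0xcba8013) (.leaf 0x1ee64011))) (.node (.node (.leaf 0x20d9400d) (.leaf 0x207ac013)) (.node (.leaf 0x23a24011) (.leaf 0x0))))) (.node (.node (.node (.node (.leaf 0x1def800d) (.leaf 0x1da68011)) (.node (.leaf 0x194c800f) (.leaf 0x1e3e800f))) (.node (.node (.leaf 0x1686800f) (.leaf 0x140fc011)) (.node (.leaf 0x1e08c00f) (.leaf 0x2297c011)))) (.node (.node (.node (.leaf 0x23a1400d) (.leaf 0x22d1c00f)) (.node (.leaf 0x1d37400f) (.leaf 0x2012000f))) (.node (.node (.leaf 0x1ea10013) (.leaf 0x1e320011)) (.node (.leaf 0xefd4011) (.leaf 0x0)))))) (.node (.node (.node (.node (.node (.leaf 0x20140013) (.leaf 0x1f278013)) (.node (.leaf 0x19f28013) (.leaf 0x1e8e0011))) (.node (.node (.leaf 0x19cb800f) (.leaf 0x2167400d)) (.node (.leaf 0x1ac6c011)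 (.leaf 0x22a0c011)))) (.node (.node (.node (.leaf 0x17700011) (.leaf 0x1b364013)) (.node (.leaf 0x1edc000d) (.leaf 0x1019400f))) (.node (.node (.leaf 0x14850011) (.leaf 0x20e4800f)) (.node (.leaf 0x1f820011) (.leaf 0x0))))) (.node (.node (.node (.node (.leaf 0x1831800d) (.leaf 0x18270013)) (.node (.leaf 0x1c1fc00f) (.leaf 0x1a0a0013))) (.node (.node (.leaf 0x1201000f) (.leaf 0x1909c011)) (.node (.leaf 0x142a8013) (.leaf 0x0)))) (.node (.node (.node (.leaf 0x2218c00d) (.leaf 0x20b88011)) (.node (.leaf 0x142fc00d) (.leaf 0x223cc011))) (.node (.node (.leaf 0x1a844013) (.leaf 0x220a4013)) (.node (.leaf 0x1596000f) (.leaf 0x0)))))))) (.node (.node (.node (.node (.node (.node (.node (.leaf 0x21fd4011) (.leaf 0x2084c00f)) (.node (.leaf 0x210b8011) (.leaf 0x1d200013))) (.node (.node (.leaf 0x1c424011) (.leaf 0x1cf80011)) (.node (.leaf 0x18f8400d) (.leaf 0x1a9c8013)))) (.node (.node (.node (.leaf 0x170cc00d) (.leaf 0x1db94013))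 (.node (.leaf 0x1bb2c011) (.leaf 0x22974011))) (.node (.node (.leaf 0x18a8c00f) (.leaf 0x19188013)) (.node (.leaf 0x1512c013) (.leaf 0x0))))) (.node (.node (.node (.node (.leaf 0x145cc00f) (.leaf 0x2269000f)) (.node (.leaf 0x2651c013) (.leaf 0xe65400d))) (.node (.node (.leaf 0x1067c013) (.leaf 0x206a8011)) (.node (.leaf 0x222ac013) (.leaf 0x12334013)))) (.node (.node (.node (.leaf 0x1a69400d) (.leaf 0x201ac00d)) (.node (.leaf 0x190a8013) (.leaf 0x22d9000d))) (.node (.node (.leaf 0x1f3a400f) (.leaf 0x19318013)) (.node (.leaf 0x124a4013) (.leaf 0x0)))))) (.node (.node (.node (.node (.node (.leaf 0x101a0011) (.leaf 0x1de9c013)) (.node (.leaf 0x1e96800f) (.leaf 0x22e3c00f))) (.node (.node (.leaf 0x1a90800d) (.leaf 0x1c05400f)) (.node (.leaf 0x1fac8011) (.leaf 0x1db04013)))) (.node (.node (.node (.leaf 0x1b6f4011) (.leaf 0x234cc011)) (.node (.leaf 0x1e6f8011) (.leaf 0x144a000f))) (.node (.node (.leaf 0x1f0b400f) (.leaf 0x1cb4400f))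 (.node (.leaf 0x1cdf000d) (.leaf 0x0))))) (.node (.node (.node (.node (.leaf 0x171a800d) (.leaf 0x23070013)) (.node (.leaf 0x1c15000f) (.leaf 0x2028c013))) (.node (.node (.leaf 0x214fc013) (.leaf 0x1ac8800d)) (.node (.leaf 0x116bc013) (.leaf 0x0)))) (.node (.node (.node (.leaf 0x1070c00f) (.leaf 0x15288013)) (.node (.leaf 0x21660013) (.leaf 0x1e470011))) (.node (.node (.leaf 0x1909c00f) (.leaf 0x2226400d)) (.node (.leaf 0x2274000f) (.leaf 0x0))))))) (.node (.node (.node (.node (.node (.node (.leaf 0x1f8e000f) (.leaf 0x14628011)) (.node (.leaf 0x1b838011) (.leaf 0x11b4800d))) (.node (.node (.leaf 0x15f8400f) (.leaf 0x1d88000d)) (.node (.leaf 0x1477400f) (.leaf 0x1e8ac011)))) (.node (.node (.node (.leaf 0x1d510013) (.leaf 0x1767c00d)) (.node (.leaf 0x1770000d) (.leaf 0x1fb3000f))) (.node (.node (.leaf 0x1cf44013) (.leaf 0x22444011)) (.node (.leaf 0x16bcc00f) (.leaf 0x0))))) (.node (.node (.node (.node (.leaf 0x15e8400d)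 (.leaf 0x24a68011)) (.node (.leaf 0x2166000f) (.leaf 0x1db1c013))) (.node (.node (.leaf 0x20c8400d) (.leaf 0x1b4e4013)) (.node (.leaf 0x1ed2400f) (.leaf 0x1db7000d)))) (.node (.node (.node (.leaf 0x9d1800d) (.leaf 0x1cb2400d)) (.node (.leaf 0x1474c00f) (.leaf 0x1e0fc011))) (.node (.node (.leaf 0x22fac00f) (.leaf 0x1d7d800f)) (.node (.leaf 0x1d40c011) (.leaf 0x0)))))) (.node (.node (.node (.node (.node (.leaf 0x1dce4013) (.leaf 0x187f800f)) (.node (.leaf 0x18bd4013) (.leaf 0x1ec5c00f))) (.node (.node (.leaf 0x1d29000d) (.leaf 0x2468000f)) (.node (.leaf 0x155bc011) (.leaf 0x1ded0011)))) (.node (.node (.node (.leaf 0x12cdc00f) (.leaf 0x21438013)) (.node (.leaf 0x204bc00f) (.leaf 0x1a85c011))) (.node (.node (.leaf 0x19c4c013) (.leaf 0xb08800f)) (.node (.leaf 0x19840011) (.leaf 0x0))))) (.node (.node (.node (.node (.leaf 0x1a908011) (.leaf 0x1f32c00f)) (.node (.leaf 0x1825000f) (.leaf 0x1f360011))) (.node (.node (.leaf 0x26d7000d)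 (.leaf 0x102ac011)) (.node (.leaf 0x1ef8400d) (.leaf 0x0)))) (.node (.node (.node (.leaf 0x1d88800f) (.leaf 0x20d14011)) (.node (.leaf 0x26e54011) (.leaf 0x2479c00f))) (.node (.node (.leaf 0x158a0011) (.leaf 0x22a0c00f)) (.node (.leaf 0x1b704011) (.leaf 0x0))))))))) (.node (.node (.node (.node (.node (.node (.node (.node (.leaf 0x11d48013) (.leaf 0x18bd400d)) (.node (.leaf 0x10b18011) (.leaf 0x1a9b000d))) (.node (.node (.leaf 0x2171c013) (.leaf 0x1cf7c011)) (.node (.leaf 0x210b4013) (.leaf 0x15ea0011)))) (.node (.node (.node (.leaf 0x1eed0011) (.leaf 0x1f1d0013)) (.node (.leaf 0x1dcf4011) (.leaf 0x19ec000f))) (.node (.node (.leaf 0x11060011) (.leaf 0x1eeb400d)) (.node (.leaf 0x1fb0400f) (.leaf 0x0))))) (.node (.node (.node (.node (.leaf 0x1eadc011) (.leaf 0x18bf4011)) (.node (.leaf 0x19cd8011) (.leaf 0x1de30011))) (.node (.node (.leaf 0x1c99400d) (.leaf 0x239a0013)) (.node (.leaf 0x194cc011) (.leaf 0x1e41400f)))) (.node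 (.node (.node (.leaf 0x12bd000d) (.leaf 0x22a5c00d)) (.node (.leaf 0x1a788011) (.leaf 0x14774013))) (.node (.node (.leaf 0x1473c011) (.leaf 0x22bec011)) (.node (.leaf 0x1b234013) (.leaf 0x0)))))) (.node (.node (.node (.node (.node (.leaf 0x1d72c00f) (.leaf 0x1b83400f)) (.node (.leaf 0x11884013) (.leaf 0x1f0a0011))) (.node (.node (.leaf 0x11020011) (.leaf 0x268d400d)) (.node (.leaf 0x15718011) (.leaf 0x18e54013)))) (.node (.node (.node (.leaf 0x1c87400f) (.leaf 0x2028800d)) (.node (.leaf 0x2397c011) (.leaf 0x1e134011))) (.node (.node (.leaf 0x1c9dc013) (.leaf 0x10af0013)) (.node (.leaf 0x8008013) (.leaf 0x0))))) (.node (.node (.node (.node (.leaf 0x11548013) (.leaf 0x1ab2c013)) (.node (.leaf 0x1f54000f) (.leaf 0x1a3ec00f))) (.node (.node (.leaf 0x1903c013) (.leaf 0x17700013)) (.node (.leaf 0x19d7800d) (.leaf 0x15d0400d)))) (.node (.node (.node (.leaf 0x1d85000d) (.leaf 0x2205800f)) (.node (.leaf 0x18808011) (.leaf 0x1ce5c013)))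 (.node (.node (.leaf 0x16158013) (.leaf 0x1eb4c013)) (.node (.leaf 0x19280011) (.leaf 0x0))))))) (.node (.node (.node (.node (.node (.node (.leaf 0x1b598011) (.leaf 0x26e54013)) (.node (.leaf 0x1d62c011) (.leaf 0x1c0d000f))) (.node (.node (.leaf 0x20c48011) (.leaf 0x18b4000d)) (.node (.leaf 0x1da5000d) (.leaf 0x22a1400d)))) (.node (.node (.node (.leaf 0x15aac00f) (.leaf 0x18c9c00d)) (.node (.leaf 0x218bc011) (.leaf 0x14f9c00d))) (.node (.node (.leaf 0x1ce5c011) (.leaf 0x22a64011)) (.node (.leaf 0x1f02c00d) (.leaf 0x0))))) (.node (.node (.node (.node (.leaf 0xefd400d) (.leaf 0x1f0e000f)) (.node (.leaf 0x137b400d) (.leaf 0x2265000d))) (.node (.node (.leaf 0x1f660011) (.leaf 0x16924013)) (.node (.leaf 0x10ab8011) (.leaf 0x22e8c00d)))) (.node (.node (.node (.leaf 0x15aac011) (.leaf 0x2194c011)) (.node (.leaf 0x1f49800d) (.leaf 0x21674013))) (.node (.node (.leaf 0x21de4013) (.leaf 0x21f80013)) (.node (.leaf 0x23818011) (.leaf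 0x0)))))) (.node (.node (.node (.node (.node (.leaf 0x1c294011) (.leaf 0x18ad4013)) (.node (.leaf 0x1c94800d) (.leaf 0x21b5c00d))) (.node (.node (.leaf 0x1eac8013) (.leaf 0x1aa84011)) (.node (.leaf 0x1eae4013) (.leaf 0x1a694013)))) (.node (.node (.node (.leaf 0x21278013) (.leaf 0x1d24000f)) (.node (.leaf 0x16f1c00f) (.leaf 0x1de74011))) (.node (.node (.leaf 0x1c86c011) (.leaf 0x165f8011)) (.node (.leaf 0x1f1d400f) (.leaf 0x0))))) (.node (.node (.node (.node (.leaf 0x17a5c00f) (.leaf 0x1b790013)) (.node (.leaf 0x19ac4011) (.leaf 0x1ed8800d))) (.node (.node (.leaf 0x1d470011) (.leaf 0x1781c013)) (.node (.leaf 0x102ac013) (.leaf 0x0)))) (.node (.node (.node (.leaf 0x1e0fc013) (.leaf 0x22d7c00d)) (.node (.leaf 0x1e034011) (.leaf 0x1f41400d))) (.node (.node (.leaf 0x1f95c011) (.leaf 0x1e69c013)) (.node (.leaf 0x1f594011) (.leaf 0x0)))))))) (.node (.node (.node (.node (.node (.node (.node (.leaf 0x1df4000f) (.leaf 0x1cb6800d))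 (.node (.leaf 0x2267000d) (.leaf 0x1add800d))) (.node (.node (.leaf 0x19e6c00d) (.leaf 0x18880013)) (.node (.leaf 0x1615800f) (.leaf 0x1ec3c00d)))) (.node (.node (.node (.leaf 0x1d6f8011) (.leaf 0x1953000f)) (.node (.leaf 0x14ba4013) (.leaf 0x1ef5800d))) (.node (.node (.leaf 0x1b30400d) (.leaf 0x15d0400f)) (.node (.leaf 0x21298011) (.leaf 0x0))))) (.node (.node (.node (.node (.leaf 0x193c400f) (.leaf 0x1ee5000f)) (.node (.leaf 0x205b0011) (.leaf 0x1e6fc00d))) (.node (.node (.leaf 0x1b4d800f) (.leaf 0x1c0f4011)) (.node (.leaf 0x14b0800d) (.leaf 0x213a800f)))) (.node (.node (.node (.leaf 0x2280400f) (.leaf 0x18e2400f)) (.node (.leaf 0x20d00013) (.leaf 0x219a400d))) (.node (.node (.leaf 0x1d44c00f) (.leaf 0x20d7800f)) (.node (.leaf 0x161bc00d) (.leaf 0x0)))))) (.node (.node (.node (.node (.node (.leaf 0x20144013) (.leaf 0x22818011)) (.node (.leaf 0x1d8e400f) (.leaf 0x1ca9400d))) (.node (.node (.leaf 0x21b88013) (.leaf 0x10dd000f))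 (.node (.leaf 0x1e030011) (.leaf 0x1848c00f)))) (.node (.node (.node (.leaf 0x202b4011) (.leaf 0x23b3c00d)) (.node (.leaf 0x19a7400d) (.leaf 0x1ccc000d))) (.node (.node (.leaf 0x1e95000f) (.leaf 0x2267c011)) (.node (.leaf 0x1f84c013) (.leaf 0x0))))) (.node (.node (.node (.node (.leaf 0x97f0011) (.leaf 0x1c3cc011)) (.node (.leaf 0x1b4e400f) (.leaf 0x1b364011))) (.node (.node (.leaf 0x1ed5000d) (.leaf 0x14750013)) (.node (.leaf 0x1cdc0013) (.leaf 0x0)))) (.node (.node (.node (.leaf 0x1f9b0011) (.leaf 0x214b000d)) (.node (.leaf 0x24d1c013) (.leaf 0x1e330013))) (.node (.node (.leaf 0x1de3800d) (.leaf 0x1cce000d)) (.node (.leaf 0x22b08013) (.leaf 0x0))))))) (.node (.node (.node (.node (.node (.node (.leaf 0x1a4dc013) (.leaf 0x1c790011)) (.node (.leaf 0x9d3800f) (.leaf 0x1412400f))) (.node (.node (.leaf 0x1f85c00f) (.leaf 0x2076c00f)) (.node (.leaf 0x1137c011) (.leaf 0x140fc00d)))) (.node (.node (.node (.leaf 0x1d448011) (.leaf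 0x1cb5c00d)) (.node (.leaf 0xc968013) (.leaf 0x1aa3c00f))) (.node (.node (.leaf 0x2226c00f) (.leaf 0x1f3c8011)) (.node (.leaf 0x201ac011) (.leaf 0x0))))) (.node (.node (.node (.node (.leaf 0x148a4011) (.leaf 0x1a900011)) (.node (.leaf 0x1c54c00d) (.leaf 0x1ad68011))) (.node (.node (.leaf 0x23898011) (.leaf 0x195f800f)) (.node (.leaf 0x181b8013) (.leaf 0x1a82800f)))) (.node (.node (.node (.leaf 0x199e8011) (.leaf 0x1cbe8011)) (.node (.leaf 0x1ae1800d) (.leaf 0x1eb4c011))) (.node (.node (.leaf 0x18c3c00f) (.leaf 0x226dc011)) (.node (.leaf 0x1a6a800f) (.leaf 0x0)))))) (.node (.node (.node (.node (.node (.leaf 0x213a400d) (.leaf 0x11050011)) (.node (.leaf 0x26a7000f) (.leaf 0x18d1000d))) (.node (.node (.leaf 0x1e0f4011) (.leaf 0x1e324013)) (.node (.leaf 0x1b6f400f) (.leaf 0x20cdc00d)))) (.node (.node (.node (.leaf 0x2275400d) (.leaf 0x1a0bc011)) (.node (.leaf 0x1eaf000d) (.leaf 0x1ef60011))) (.node (.node (.leaf 0x21d5800f)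 (.leaf 0x1ad3c011)) (.node (.leaf 0x1d408013) (.leaf 0x0))))) (.node (.node (.node (.node (.leaf 0x1835800d) (.leaf 0x14d58013)) (.node (.leaf 0x2024000f) (.leaf 0x1f97000f))) (.node (.node (.leaf 0x144d800f) (.leaf 0x1f1b000f)) (.node (.leaf 0x14dfc00f) (.leaf 0x0)))) (.node (.node (.node (.leaf 0xe3d0013) (.leaf 0x1f87c013)) (.node (.leaf 0x219ac00f) (.leaf 0x1e698013))) (.node (.node (.leaf 0x1d9dc013) (.leaf 0x229c400d)) (.node (.leaf 0x14ba400d) (.leaf 0x0))))))))))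

/-- packed table -/
noncomputable def cov1_rrr : BTree := (.node (.node (.node (.node (.node (.node (.node (.node (.node (.leaf 0x11d48011) (.leaf 0x22e14013)) (.node (.leaf 0x1e95800d) (.leaf 0x202d800d))) (.node (.node (.leaf 0x21c7c011) (.leaf 0x1c69000f)) (.node (.leaf 0x1cad000d) (.leaf 0x11ff800d)))) (.node (.node (.node (.leaf 0x1c3ec00d) (.leaf 0x180bc00f)) (.node (.leaf 0x1def0013) (.leaf 0x1d9e400f))) (.node (.node (.leaf 0x1c86000d) (.leaf 0x224e0011)) (.node (.leaf 0x15368013) (.leaf 0x0))))) (.node (.node (.node (.node (.leaf 0x20814011) (.leaf 0x2356c013)) (.node (.leaf 0x21cc4011) (.leaf 0x22a3800d))) (.node (.node (.leaf 0x1cf9000f) (.leaf 0x1e40000f)) (.node (.leaf 0x1735c00d) (.leaf 0x1f1bc00d)))) (.node (.node (.node (.leaf 0x220b8013) (.leaf 0x194cc00d)) (.node (.leaf 0x14f9c011) (.leaf 0x12010011))) (.node (.node (.leaf 0x119d400f) (.leaf 0x1e024011)) (.node (.leaf 0x1e928013) (.leaf 0x0)))))) (.node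 (.node (.node (.node (.node (.leaf 0x26f4c00d) (.leaf 0x16a5000d)) (.node (.leaf 0x156e800f) (.leaf 0x220a4011))) (.node (.node (.leaf 0x22d90011) (.leaf 0x16a50011)) (.node (.leaf 0x1cb2c00d) (.leaf 0x16dc4011)))) (.node (.node (.node (.leaf 0x1a8b8013) (.leaf 0x23338013)) (.node (.leaf 0x1d5d8013) (.leaf 0x1dfe0011))) (.node (.node (.leaf 0x227ec013) (.leaf 0x1f1a4011)) (.node (.leaf 0x1100400d) (.leaf 0x0))))) (.node (.node (.node (.node (.leaf 0x1973c00d) (.leaf 0x2081400f)) (.node (.leaf 0x1a5e400f) (.leaf 0x1f958013))) (.node (.node (.leaf 0x15104011) (.leaf 0x1eeb4013)) (.node (.leaf 0x1844c00d) (.leaf 0x1eb5800d)))) (.node (.node (.node (.leaf 0x1c94c011) (.leaf 0x15f1c00d)) (.node (.leaf 0x1cf4400f) (.leaf 0x1da2c00d))) (.node (.node (.leaf 0x1666800f) (.leaf 0x12790011)) (.node (.leaf 0x1324c013) (.leaf 0x0))))))) (.node (.node (.node (.node (.node (.node (.leaf 0x1ceec013) (.leaf 0x1f5cc00f)) (.node (.leaf 0x15658011)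 (.leaf 0x170cc013))) (.node (.node (.leaf 0x1f3b0011) (.leaf 0x1e0fc00d)) (.node (.leaf 0x11130011) (.leaf 0x138f800d)))) (.node (.node (.node (.leaf 0x1149400f) (.leaf 0x1957000d)) (.node (.leaf 0x12d4800f) (.leaf 0x23168011))) (.node (.node (.leaf 0x1596000d) (.leaf 0x184f800d)) (.node (.leaf 0x1c4a400d) (.leaf 0x0))))) (.node (.node (.node (.node (.leaf 0x14fb000f) (.leaf 0x15a78011)) (.node (.leaf 0x1e7c400f) (.leaf 0x1ee74013))) (.node (.node (.leaf 0x14c5400d) (.leaf 0x209a4011)) (.node (.leaf 0x182cc00d) (.leaf 0x1e9a4011)))) (.node (.node (.node (.leaf 0x1da9c011) (.leaf 0x1b82c00f)) (.node (.leaf 0x1cd5000f) (.leaf 0x1c30000f))) (.node (.node (.leaf 0x26f78011) (.leaf 0x22e84013)) (.node (.leaf 0x1880800f) (.leaf 0x0)))))) (.node (.node (.node (.node (.node (.leaf 0x20154013) (.leaf 0x1e094011)) (.node (.leaf 0x207e000d) (.leaf 0x24ae000d))) (.node (.node (.leaf 0x14ae400f) (.leaf 0x1ba94013)) (.node (.leaf 0x1aad4013)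 (.leaf 0x149f8013)))) (.node (.node (.node (.leaf 0x1b0f8011) (.leaf 0x2523800f)) (.node (.leaf 0x1da2c00f) (.leaf 0x1817800f))) (.node (.node (.leaf 0x22b8000f) (.leaf 0x2365000f)) (.node (.leaf 0x1db7400f) (.leaf 0x0))))) (.node (.node (.node (.node (.leaf 0x1e33000f) (.leaf 0x19bec011)) (.node (.leaf 0x22998013) (.leaf 0x227ec00f))) (.node (.node (.leaf 0x1e00000f) (.leaf 0x1d40c00f)) (.node (.leaf 0x1f12400f) (.leaf 0x0)))) (.node (.node (.node (.leaf 0x227b000f) (.leaf 0x1f54400d)) (.node (.leaf 0x18d30013) (.leaf 0xe3d0011))) (.node (.node (.leaf 0x12334011) (.leaf 0x27a50013)) (.node (.leaf 0x1b6f0011) (.leaf 0x0)))))))) (.node (.node (.node (.node (.node (.node (.node (.leaf 0x236c4011) (.leaf 0x1e61000d)) (.node (.leaf 0x1785000d) (.leaf 0x2030400d))) (.node (.node (.leaf 0x20434011) (.leaf 0x15568011)) (.node (.leaf 0x19a3800d) (.leaf 0x186ac00f)))) (.node (.node (.node (.leaf 0x196cc011) (.leaf 0x2215c00d))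 (.node (.leaf 0x1f32c011) (.leaf 0x2360400f))) (.node (.node (.leaf 0x272e000d) (.leaf 0x1a7d400f)) (.node (.leaf 0x1571800d) (.leaf 0x0))))) (.node (.node (.node (.node (.leaf 0x1477400d) (.leaf 0x1e02c011)) (.node (.leaf 0x1d734013) (.leaf 0x119f000f))) (.node (.node (.leaf 0x1761800f) (.leaf 0x1ec7000d)) (.node (.leaf 0x18c3c011) (.leaf 0x12cdc011)))) (.node (.node (.node (.leaf 0x18a14011) (.leaf 0x204e4011)) (.node (.leaf 0x1c6f400f) (.leaf 0x22be8011))) (.node (.node (.leaf 0x1b51400d) (.leaf 0x23370013)) (.node (.leaf 0x1f414013) (.leaf 0x0)))))) (.node (.node (.node (.node (.node (.leaf 0x1279800d) (.leaf 0x1f02c013)) (.node (.leaf 0x1a8b800d) (.leaf 0x19f8c011))) (.node (.node (.leaf 0x19030011) (.leaf 0x20e4c00f)) (.node (.leaf 0x24cc400f) (.leaf 0x1852800f)))) (.node (.node (.node (.leaf 0x1b4d0011) (.leaf 0x23ad800d)) (.node (.leaf 0x1f6dc011) (.leaf 0x19ec000d))) (.node (.node (.leaf 0x1d9dc00d) (.leaf 0x1ef20011))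 (.node (.leaf 0x1cdc000d) (.leaf 0x0))))) (.node (.node (.node (.node (.leaf 0x1d7fc011) (.leaf 0x1e320013)) (.node (.leaf 0x148a400d) (.leaf 0x1138400d))) (.node (.node (.leaf 0x1ad6800d) (.leaf 0x17a4c00d)) (.node (.leaf 0x1dd7c00d) (.leaf 0x0)))) (.node (.node (.node (.leaf 0x25e4400d) (.leaf 0x19e7800f)) (.node (.leaf 0x230ac011) (.leaf 0x1cee400d))) (.node (.node (.leaf 0x186d400f) (.leaf 0x102ac00d)) (.node (.leaf 0x1e18400d) (.leaf 0x0))))))) (.node (.node (.node (.node (.node (.node (.leaf 0x1a4cc013) (.leaf 0x1c7a0011)) (.node (.leaf 0x21078013) (.leaf 0x1f8bc00f))) (.node (.node (.leaf 0x1d490013) (.leaf 0x13198013)) (.node (.leaf 0x1723800f) (.leaf 0x1a4dc00f)))) (.node (.node (.node (.leaf 0x1ac8800f) (.leaf 0x14f98013)) (.node (.leaf 0x1c994013) (.leaf 0x1eaec011))) (.node (.node (.leaf 0x1d98c00d) (.leaf 0xe440011)) (.node (.leaf 0x116bc00d) (.leaf 0x0))))) (.node (.node (.node (.node (.leaf 0x2206c013) (.leaf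 0x2043400f)) (.node (.leaf 0x1ed58011) (.leaf 0x1f95c013))) (.node (.node (.leaf 0x1a29c011) (.leaf 0x199b0011)) (.node (.leaf 0x2746400f) (.leaf 0x1d64000d)))) (.node (.node (.node (.leaf 0x1cec800f) (.leaf 0x1cbb8011)) (.node (.leaf 0x1d68400d) (.leaf 0x1adc800f))) (.node (.node (.leaf 0x1faec00f) (.leaf 0x1b4e4011)) (.node (.leaf 0x1dbf000d) (.leaf 0x0)))))) (.node (.node (.node (.node (.node (.leaf 0x19e7800d) (.leaf 0x1a5f400d)) (.node (.leaf 0x21f9800f) (.leaf 0x1f744013))) (.node (.node (.leaf 0x18f7800d) (.leaf 0x1d230011)) (.node (.leaf 0x18704013) (.leaf 0x1565800f)))) (.node (.node (.node (.leaf 0x2776000f) (.leaf 0x1925400f)) (.node (.leaf 0x1eac800d) (.leaf 0x15a1400f))) (.node (.node (.leaf 0x1dc44013) (.leaf 0x2017000d)) (.node (.leaf 0x26e5400d) (.leaf 0x0))))) (.node (.node (.node (.node (.leaf 0x2037800d) (.leaf 0x1eabc00f)) (.node (.leaf 0x1ccb400d) (.leaf 0x142d400d))) (.node (.node (.leaf 0x1a78800d)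 (.leaf 0x1c2a0011)) (.node (.leaf 0x1c874013) (.leaf 0x0)))) (.node (.node (.node (.leaf 0x15c3800f) (.leaf 0x2287800f)) (.node (.leaf 0x403c011) (.leaf 0x1c58800f))) (.node (.node (.leaf 0x190c000f) (.leaf 0x1e7d000f)) (.node (.leaf 0x2597400f) (.leaf 0x0))))))))) (.node (.node (.node (.node (.node (.node (.node (.node (.leaf 0x1c) (.leaf 0x1b0d400f)) (.node (.leaf 0x164d800d) (.leaf 0x1d9e000f))) (.node (.node (.leaf 0x203fc011) (.leaf 0x1e07c013)) (.node (.leaf 0x20b4800d) (.leaf 0x21ec4011)))) (.node (.node (.node (.leaf 0x1825c011) (.leaf 0x1d50000d)) (.node (.leaf 0x1b91c00f) (.leaf 0x21ec400f))) (.node (.node (.leaf 0x16488011) (.leaf 0x1b134011)) (.node (.leaf 0x14de4011) (.leaf 0x0))))) (.node (.node (.node (.node (.leaf 0x1e10000f) (.leaf 0x1a410013)) (.node (.leaf 0x2013000d) (.leaf 0x199e800f))) (.node (.node (.leaf 0x1b79000d) (.leaf 0x1476800f)) (.node (.leaf 0x194c8011) (.leaf 0x1d640013)))) (.node (.node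 (.node (.leaf 0x23a90011) (.leaf 0x1f178013)) (.node (.leaf 0xd0c400d) (.leaf 0x1f540011))) (.node (.node (.leaf 0x186f000f) (.leaf 0x1ebf4011)) (.node (.leaf 0x1d6fc011) (.leaf 0x0)))))) (.node (.node (.node (.node (.node (.leaf 0x1e03c013) (.leaf 0x1e30400d)) (.node (.leaf 0x158a4013) (.leaf 0x202f000d))) (.node (.node (.leaf 0x1d1f800d) (.leaf 0x1e8bc00d)) (.node (.leaf 0x21d5c011) (.leaf 0x1d528013)))) (.node (.node (.node (.leaf 0x207d8013) (.leaf 0x2026000d)) (.node (.leaf 0x1c43c00d) (.leaf 0x1f748013))) (.node (.node (.leaf 0x21774011) (.leaf 0x171a8011)) (.node (.leaf 0x10b0000d) (.leaf 0x0))))) (.node (.node (.node (.node (.leaf 0x1f17800d) (.leaf 0x26c1c00d)) (.node (.leaf 0x2341c00f) (.leaf 0x17a4c013))) (.node (.node (.leaf 0x11d4000f) (.leaf 0x1f32400d)) (.node (.leaf 0x19a1c011) (.leaf 0x1f45800d)))) (.node (.node (.node (.leaf 0x1116000d) (.leaf 0x1f2b0013)) (.node (.leaf 0x14a9800d) (.leaf 0x202f000f)))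 (.node (.node (.leaf 0x19a3000f) (.leaf 0x1f55c013)) (.node (.leaf 0x1a76800f) (.leaf 0x0))))))) (.node (.node (.node (.node (.node (.node (.leaf 0x164d8013) (.leaf 0x165f800d)) (.node (.leaf 0x2575000f) (.leaf 0x18d6400d))) (.node (.node (.leaf 0x1148c013) (.leaf 0x184e800d)) (.node (.leaf 0x1cf6400d) (.leaf 0x1a71c013)))) (.node (.node (.node (.leaf 0x1d1f8011) (.leaf 0x1b938013)) (.node (.leaf 0x19a1c013) (.leaf 0x1e3e8011))) (.node (.node (.leaf 0x20e4c011) (.leaf 0x237d0013)) (.node (.leaf 0x151d0013) (.leaf 0x0))))) (.node (.node (.node (.node (.leaf 0x1df7400d) (.leaf 0x20a74011)) (.node (.leaf 0x1a248011) (.leaf 0x1a29000d))) (.node (.node (.leaf 0x1da9c013) (.leaf 0x18bec00f)) (.node (.leaf 0x253bc013) (.leaf 0x229c4013)))) (.node (.node (.node (.leaf 0x22a1400f) (.leaf 0x24cfc00d)) (.node (.leaf 0xdc28013) (.leaf 0x1f340011))) (.node (.node (.leaf 0x1c224011) (.leaf 0x2127800d)) (.node (.leaf 0x1ecb0011) (.leaf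 0x0)))))) (.node (.node (.node (.node (.node (.leaf 0x1dcf4013) (.leaf 0x13198011)) (.node (.leaf 0x1e23c00d) (.leaf 0x1b108011))) (.node (.node (.leaf 0x19620011) (.leaf 0x1c46400f)) (.node (.leaf 0x1536800d) (.leaf 0x25dc800d)))) (.node (.node (.node (.leaf 0x18870013) (.leaf 0x20d6c011)) (.node (.leaf 0x104b400f) (.leaf 0x11e8c011))) (.node (.node (.leaf 0x24864011) (.leaf 0x1f384013)) (.node (.leaf 0x21824011) (.leaf 0x0))))) (.node (.node (.node (.node (.leaf 0x1ab6c013) (.leaf 0x1c58800d)) (.node (.leaf 0x2014400d) (.leaf 0x22824011))) (.node (.node (.leaf 0x1e03c00f) (.leaf 0x1829c011)) (.node (.leaf 0x23170011) (.leaf 0x0)))) (.node (.node (.node (.leaf 0xc544011) (.leaf 0x23b00013)) (.node (.leaf 0x258f8013) (.leaf 0x1a920011))) (.node (.node (.leaf 0x1188400d) (.leaf 0x1b06800f)) (.node (.leaf 0x1db9400d) (.leaf 0x0)))))))) (.node (.node (.node (.node (.node (.node (.node (.leaf 0x19a60011) (.leaf 0x19a7c00d))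 (.node (.leaf 0x1b93800d) (.leaf 0x2006c00f))) (.node (.node (.leaf 0x1c35400f) (.leaf 0x1379c00f)) (.node (.leaf 0x1ee10011) (.leaf 0x1b8e800d)))) (.node (.node (.node (.leaf 0x210fc013) (.leaf 0x1c26c011)) (.node (.leaf 0x20be400f) (.leaf 0x1f0b4013))) (.node (.node (.leaf 0x1ca54013) (.leaf 0x1a4cc011)) (.node (.leaf 0x1e1d400f) (.leaf 0x0))))) (.node (.node (.node (.node (.leaf 0x2655000f) (.leaf 0x2304c00f)) (.node (.leaf 0x1cd68011) (.leaf 0x1508000f))) (.node (.node (.leaf 0x18c70011) (.leaf 0x1e16000f)) (.node (.leaf 0x14a4c00d) (.leaf 0x1df74013)))) (.node (.node (.node (.leaf 0xe440013) (.leaf 0x1c52000d)) (.node (.leaf 0x1e7e000f) (.leaf 0x12054011))) (.node (.node (.leaf 0x20db000f) (.leaf 0x1f59c011)) (.node (.leaf 0x1781c011) (.leaf 0x0)))))) (.node (.node (.node (.node (.node (.leaf 0x1474c011) (.leaf 0x1b714011)) (.node (.leaf 0x1ed9800f) (.leaf 0x2032400f))) (.node (.node (.leaf 0x1db54013) (.leaf 0x1c9c400f))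 (.node (.leaf 0x20620013) (.leaf 0x1e2e0011)))) (.node (.node (.node (.leaf 0x21be4013) (.leaf 0x18b1c00d)) (.node (.leaf 0x1a114013) (.leaf 0x1b60000f))) (.node (.node (.leaf 0x1b0ec011) (.leaf 0x1e69c011)) (.node (.leaf 0x1bb14013) (.leaf 0x0))))) (.node (.node (.node (.node (.leaf 0x2318c00d) (.leaf 0x1bb2c013)) (.node (.leaf 0xdc04011) (.leaf 0x1ab6c00d))) (.node (.node (.leaf 0x2201400f) (.leaf 0x1b09c013)) (.node (.leaf 0x19e7c00f) (.leaf 0x0)))) (.node (.node (.node (.leaf 0x1c8c400d) (.leaf 0x20bac011)) (.node (.leaf 0x20d2c013) (.leaf 0x12b9000f))) (.node (.node (.leaf 0x1b9c4011) (.leaf 0x19a1800f)) (.node (.leaf 0x26d8c011) (.leaf 0x0))))))) (.node (.node (.node (.node (.node (.node (.leaf 0x12338011) (.leaf 0x1ac7800d)) (.node (.leaf 0x1cb2c013) (.leaf 0x1eee0013))) (.node (.node (.leaf 0x2297800d) (.leaf 0x278ac011)) (.node (.leaf 0x1e7c4013) (.leaf 0x1a658011)))) (.node (.node (.node (.leaf 0x1e8b0013) (.leaf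 0x1b33c013)) (.node (.leaf 0x1f72800d) (.leaf 0x217d000d))) (.node (.node (.leaf 0x21588013) (.leaf 0x1c7a000f)) (.node (.leaf 0x19fec013) (.leaf 0x0))))) (.node (.node (.node (.node (.leaf 0x12078013) (.leaf 0x1de0c00f)) (.node (.leaf 0x1c5bc013) (.leaf 0x20c7c00f))) (.node (.node (.leaf 0x1319000f) (.leaf 0x2366400f)) (.node (.leaf 0x22b9c011) (.leaf 0x21d0c00d)))) (.node (.node (.node (.leaf 0x1da00011) (.leaf 0x1af08013)) (.node (.leaf 0x1825c00d) (.leaf 0x1cc4c013))) (.node (.node (.leaf 0x1c08c011) (.leaf 0x1e6e4011)) (.node (.leaf 0x11160011) (.leaf 0x0)))))) (.node (.node (.node (.node (.node (.leaf 0x18078013) (.leaf 0x1d850011)) (.node (.leaf 0x1f5cc011) (.leaf 0x1f0bc013))) (.node (.node (.leaf 0x213d4013) (.leaf 0x2069c00f)) (.node (.leaf 0x186f8013) (.leaf 0x1e07000d)))) (.node (.node (.node (.leaf 0x264b800d) (.leaf 0x21af8013)) (.node (.leaf 0x20fb4011) (.leaf 0x1f384011))) (.node (.node (.leaf 0x1070c011)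 (.leaf 0x228f400f)) (.node (.leaf 0x22cb400f) (.leaf 0x0))))) (.node (.node (.node (.node (.leaf 0x1d640011) (.leaf 0x1eeb4011)) (.node (.leaf 0x9ee0013) (.leaf 0x1b62c013))) (.node (.node (.leaf 0x1dfcc011) (.leaf 0x20f2800d)) (.node (.leaf 0x18a3400d) (.leaf 0x0)))) (.node (.node (.node (.leaf 0x1970c013) (.leaf 0x224e4011)) (.node (.leaf 0x1a11400f) (.leaf 0x161ec011))) (.node (.node (.leaf 0x211e000f) (.leaf 0x1e22c011)) (.node (.leaf 0x21ea8013) (.leaf 0x0))))))))))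

/-- packed table -/
noncomputable def cov1 : BTree := (.node (.node (.node cov1_lll cov1_llr) (.node cov1_lrl cov1_lrr)) (.node (.node cov1_rll cov1_rlr) (.node cov1_rrl cov1_rrr)))

theorem cov1_ok : okCover 1 cov1 = true := by decide +kernel

/-- straight-line program -/
def slp1 : List (Nat × Nat × Nat) :=
  [(0xbd0af3422dacdcc91ec902d030a844, 1, 1),
   (0x3a9834a2d40d4b07cc406dc867464b, 1, 2),
   (0x74a2b3a82268c8965670a00d7796c8, 3, 2),
   (0x8ce46aa6f65be8c405cd1160700c8a, 4, 2),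
   (0xb55e9080e2b8d50238b49311369971, 4, 3),
   (0x8d876c1d302e4933c82b4555a5d05, 6, 3),
   (0x71a13a20b56dde048d7215a2151c8c, 6, 4),
   (0xa22e508c04b1d4d62de998ab1349d0, 8, 4),
   (0xbbd155b62e29a6c802962492111d43, 9, 4),
   (0x38c81bd2c5626b0435425bc0e94e26, 9, 5),
   (0x72ccd0082489c69552534320fb54b7, 11, 5),
   (0x2dd346c9cbb4cc08a9f52410310587, 11, 6),
   (0x6ce0e10143930940a62b29cd7ad90f, 12, 6),
   (0x9c23201c4a70476614cd79177aa289, 14, 5),
   (0xb2517608ea7847004aa58928d5b8d3, 14, 5),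
   (0x9d408cdd263569858642985443ef5, 16, 5),
   (0x74e2db54af852e0408cb6264a20ce1, 16, 6),
   (0x5302292db13ba7435483440092ddf6, 17, 6),
   (0x7da951114c28c3239937881135b60e, 18, 6),
   (0x7a6e810483a00ee64ab6328b15c26d, 20, 5),
   (0x180e4939665366583c224c596ba2b4, 20, 6),
   (0xaa2cf6ce512b8c2831341aee709140, 21, 13),
   (0x50403aa1f715932a4d84594ed33a30, 22, 15),
   (0x33653ba13659684a8e1163dc20a8e0, 23, 0),
   (0x510ec719ab14e3485c60ac8364bca8, 24, 21),
   (0x1a82ca56c523ef34c4e25a00e69a50, 26, 0),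
   (0x999b0adcaf8a6c3a1dcb6224a10480, 26, 0),
   (0xa3ef672e464ce22812a56350351c20, 28, 10),
   (0x945b3b228573ea2b8ccb5260720181, 29, 16),
   (0x45ecf74272a196489ea51b52150980, 30, 0),
   (0x1d81b268f1150da994475c6b9c612, 31, 24),
   (0x105807366624a165d46aa44e57dd28, 32, 0),
   (0x20182a59f55212e2ace39dc32345b0, 33, 0),
   (0x8ca0ba95373228a7b1d31d9a409c40, 33, 0),
   (0xb3d342086743153036e5906b15ba06, 35, 21),
   (0x2a6958ae6e440c390acf236e762801, 35, 0),
   (0x9366bb95f4826a7411c655a2160c40, 37, 0),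
   (0x2bed79c5d2a1960806a8535271b044, 37, 37),
   (0x919d17de889d4a2481701d9a13b08a, 39, 0),
   (0x45697346707ae44688a93bac00b143, 40, 0),
   (0x82e71adde93150ab124d0d1c203067, 41, 0),
   (0x495f75c4cdaca037291604e84130e1, 42, 0),
   (0x6c8d12deb65a127a0e0e13e6a23020, 43, 0),
   (0xa16b61100ab84ed1cd0f8312672e51, 44, 32),
   (0xabee55c646b35c298d090428153087, 44, 0),
   (0x59a322dd1575a8479e0d126601b141, 46, 0),
   (0x2d6e89460ba3a6a30536235e23b060, 47, 0),
   (0x5b612508618900565e66a9dcf4da88, 47, 15),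
   (0x2d928190e0ba852645f5586866ba70, 49, 0),
   (0x796889c5d2b196481d37636a112860, 49, 0),
   (0x7a4b619d44a8592036e830a8e9c171, 50, 12),
   (0x3364e3846a5818815a30a92747a4b7, 52, 0),
   (0xad914080e32899023ae95a9f333651, 53, 0),
   (0xb95156c9d37ae008aad46192308887, 53, 0),
   (0x8ca0bb228f31522b8dd3655a701141, 55, 0),
   (0xba12574266ac9a489e8f62ec112860, 56, 0),
   (0x496b75c4d07cda4706963c9036080a, 56, 37),
   (0xa3ef661c2048c51536a57111382e46, 57, 0),
   (0xaa6c5839b2a4d6730aef5450303081, 58, 0),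
   (0x5b5d24d2c89bca1a92261de0713140, 60, 0),
   (0x93a0d2d2a95bd02b84d155a6c19c04, 60, 29),
   (0x228027d6f46250bb3427314709ba51, 61, 0),
   (0x89a4b4ded58510c289ae0be601a887, 62, 0),
   (0xbd5056c5cb4ce0c912d4019e238d41, 64, 0),
   (0x8ae12b5e856bd2c429d3154c409c60, 65, 0),
   (0x45eb609c604b09112df4728b26c0d3, 65, 25),
   (0x45ae56ba72a42275b135519e410023, 66, 0),
   (0x83a32b51e89a6e12b1ab1d4ca20807, 68, 0),
   (0x4d2e874cd07b620932c53aea351041, 69, 0),
   (0x6ce30a3ea935ae2431d2095671a880, 70, 0),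
   (0xaa6c553081a0ceb046ef80913339b2, 70, 42),
   (0x5b5d21b14099c2515e264920fad2c8, 72, 0),
   (0x2da883b06278412246f56a9265cdd0, 73, 0),
   (0x796a87426b4b64489ed711a8160d40, 73, 0),
   (0x4d1e59b8d1bb60490ac80aeaa18187, 74, 23),
   (0x6ccd27d2b78d92a411d00156338981, 76, 0),
   (0xb3ea834d71bb9a382a89148a709180, 77, 0),
   (0xa552f9c24bb44c269ca823ae01854c, 78, 70),
   (0x9ada67a50575ea4b0650552223806c, 79, 0),
   (0x796d533612a456a701091cee4088ec, 80, 0),
   (0x4bcb708804a9d865491498ed16add0, 80, 0),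
   (0xa25f66ae51bba01311151cca713140, 81, 0),
   (0x462bbe88658ad4b8ea9549381a2b, 83, 66),
   (0x9366bb26a8815e2a29c625e23004ec, 83, 0),
   (0x459e5735704c8c498e95546e71002c, 85, 0),
   (0x4152f50980a10311ceb731ece5c9b0, 85, 0),
   (0x43e8932e12ac5a798ef60b8aa61040, 86, 0),
   (0x349cbad9289dca3a0a0d3be2a0102c, 88, 7),
   (0xaa2855b9b07c6479913609ae31280c, 89, 0),
   (0xba2af6284049c8e1c685686d359a50, 89, 0),
   (0xb22e981972a3a2a99eaf134a360480, 90, 0),
   (0xad90f8c1ae2ca6a59d3761a8400c22, 92, 67),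
   (0xb95093804a7906663a96806b194dab, 92, 0),
   (0xb3d14749664c66182aa5036e720c4c, 93, 0),
   (0x2a51551181a1c6d01aef90ace8cd70, 94, 0),
   (0x7d1173460daba62906c922caa38d80, 95, 0),
   (0x89a0b2daf4955ec48a6e521a020467, 97, 87),
   (0xbd52593a3342ccc691f41c2c2500e1, 98, 0),
   (0x8adb2452ef816acb28d33a5c418820, 99, 0),
   (0xb96c884e264c96c70eaf0b68a39002, 100, 0),
   (0xb3ca800ce1a119054ee968aa67464b, 100, 0),
   (0x2a5e894dcdac60030ed412ee151c8c, 101, 0),
   (0x7d12820d42b9c120ccb55b2cd33a30, 102, 0),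
   (0x4d6888cccbb3a4468df7640a20a8e0, 103, 0),
   (0x99a2ea15156bee44a97265a0718402, 105, 76),
   (0x7d6f49ca0bb1a2a68ca86392138044, 106, 0),
   (0x32e337a125756e3b1e50651a00888a, 107, 0),
   (0xb0e34a28f55ed32b880854526ae26, 107, 0),
   (0x6c1d3a22a9358a37aa3205d64130e1, 108, 0),
   (0xb268f9c16daba4730ee8144aa23020, 110, 0),
   (0x4513694d6d29a04882b71b9ec3844a, 111, 49),
   (0x84dae43cb69552ab89713d0cc08083, 112, 0),
   (0x4bed481a4e42da3890b70ceac00947, 113, 0),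
   (0x699d34d514816c7baa5103d6c11061, 114, 0),
   (0xb568f6ae134c9c188d17118ac228e0, 115, 0),
   (0x3840c796d525d30a2c6a320528b66e, 115, 18),
   (0x804c349cb545a9994e3ac088bd9f4, 117, 0),
   (0x88caa2851decd7c8275a5508b8d3, 118, 0),
   (0x92e30ba2af9d8a2491ae650c03a823, 118, 0),
   (0x416e98c1667ba446aad464ea208c07, 120, 0),
   (0x84a2dba4b53510ab0dd363d6401c41, 121, 0),
   (0x4a2f68b64bace0371e8f618aa10480, 122, 0),
   (0x230e0b22e9195eba444a85432719b3, 122, 3),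
   (0x530227422d3c8c59dc834ac08a56cf, 124, 0),
   (0x1b004a26f60a2b27c547694509adc6, 125, 0),
   (0x9c251ad2c56a2e449cce13d601b141, 125, 0),
   (0x7a5175cdd2b422a686b4218a23b060, 127, 0),
   (0x50ce22dde9056d242c2c850868cdcd, 127, 110),
   (0x19c24944cd12dc88140c4cd55bbe96, 129, 0),
   (0x3840a45eb6216904c84c6bc6b89a6e, 130, 0),
   (0x80438456e54a696a08cb18e5bd5f4, 131, 0),
   (0x8874dcb41a1edb414c754328acd3, 132, 0),
   (0x111416c6533c0d67246ca2c08b96af, 133, 0),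
   (0x22860b5d0f0a6aea34ec994508c966, 134, 0),
   (0x89a722d9096d2eaa89d01bd6039181, 134, 0),
   (0xbd5e893a0db4e2359289398a20a980, 136, 0),
   (0x10c0a5c8d3242356d0ec7b836b9509, 136, 123),
   (0x5ce4661023880f7155d04a9a5b3d14, 137, 0),
   (0x60c81845b33c9d65dd40a184f2a515, 138, 0),
   (0x84e2d01c4371145658d2a85697d117, 139, 0),
   (0xce293973544cf81424bb5944d516, 140, 0),
   (0x94dcb2298331c2903db1b0a15a5d05, 141, 0),
   (0x20d4c89a130b9b4924472ac17ad90f, 142, 0),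
   (0x51c6cbd52f052d343481914515ba06, 144, 0),
   (0x33a70b5e89954a340a2d23d6762801, 144, 0),
   (0xad1e97466d42e47812f6518a160c40, 146, 0),
   (0xad12513087b280d0c51798dee5c0d2, 146, 64),
   (0xbd68f5c22e29a4269d161cd2a60024, 147, 0),
   (0xb5ea9600ea7848b1390598e86849b1, 148, 0),
   (0x2daf4849c64b62c5a90f1cea101047, 149, 0),
   (0x93a334a2956daec28e063bd6012881, 151, 0),
   (0x452ef6c26bb3a2c91d35098a220d40, 152, 0),
   (0x5ba1300827911895522d28ccfad917, 153, 99),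
   (0x2d12f110014298d1cef691ea65ba11, 154, 0),
   (0x94da62284080d963be2e405752d137, 155, 0),
   (0x20c418997204e05724ea435977d696, 155, 0),
   (0x8cd6d3858490c0f551c640a164dea5, 156, 0),
   (0x38d827361124e493554142c05a5aef, 157, 0),
   (0x9d84a593753d0daac60814529ba26, 159, 0),
   (0x6ba11a969632502bb27203d641a8e1, 159, 0),
   (0xb51375ca6eab6048b1e8118aa38c20, 161, 0),
   (0x2d11682dc64b660912ef3c6a262823, 161, 146),
   (0x7d50503141a0872246c971eeb819b3, 162, 0),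
   (0x4dd0f940cdaae6489cb453acc00443, 163, 0),
   (0x6c606426b6595eab86531d1cc10087, 165, 0),
   (0x11c01452e563d26b34839d5505ca2e, 165, 0),
   (0x2044084e32619b5759477ac692a2f4, 167, 0),
   (0x500824bee8656cba3861314ed94233, 168, 0),
   (0x34a2ba26c885cacaaa6d0bdc2200e3, 168, 0),
   (0x90ecad0a8059f0b98626a54b8c9d3, 169, 0),
   (0x6c5d0bd5e891520b066b150cc39143, 170, 0),
   (0xb5e898acd0449a2701e524eac0a867, 172, 0),
   (0x7466db96a9822c4a08d253d6c00ce1, 173, 0),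
   (0xa5df68c96d4c1ca992a8198ac11c20, 174, 0)]

/-- levels -/
def levels1 : List (Nat × List Nat) :=
  [(0, [176, 0, 1, 2, 3, 4, 5, 6, 7, 8, 9, 10, 11, 12, 13, 14, 15, 16, 17, 18, 19, 20, 21, 22]),
   (5, [176, 23, 25, 28, 29, 31, 35, 38, 44, 48, 51, 57, 61, 66, 71, 75]),
   (6, [176, 78, 83, 88, 92, 97, 105, 111]),
   (1, [176, 116, 123, 128, 137, 147, 153]),
   (2, [176, 162, 175])]

/-- stabilising facts -/
def gens1 : List Nat := [3, 4]

theorem chain1_ok : okChain 1 gens1 slp1 levels1 = true := by decide +kernel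

theorem chain1_size : chainSize levels1 = 64512 := by decide +kernel

end CfsgLib.Spor.J4.Index
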