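import Cfsg.Agent.Lib.Spor.J4.Index.Check

/-!
Coverage and stabiliser of node 10 (generated).
-/

set_option autoImplicit false
set_option linter.all false

namespace CfsgLib.Spor.J4.Index

open CfsgLib.PresCert

/-- packed table -/
noncomputable def cov10_lll : BTree := (.node (.node (.node (.node (.node (.node (.node (.node (.node (.leaf 0x1834) (.leaf 0xdc455a5)) (.node (.leaf 0xaa895a5) (.leaf 0x98395a5))) (.node (.node (.leaf 0x9e555c9) (.leaf 0xe8155a5)) (.node (.leaf 0xa7995c9) (.leaf 0xb7e560d)))) (.node (.node (.node (.leaf 0xd6a95c9) (.leaf 0x92a960d)) (.node (.leaf 0xe3215a5) (.leaf 0x80a560f))) (.node (.node (.leaf 0xb0dd60f) (.leaf 0x4add60f)) (.node (.leaf 0x42f960d) (.leaf 0x0))))) (.node (.node (.node (.node (.leaf 0x4c0d5c9) (.leaf 0x1738)) (.node (.leaf 0x45595a5) (.leaf 0x50e55c9))) (.node (.node (.leaf 0xc53160d) (.leaf 0xd80d60d)) (.node (.leaf 0x74ed60d) (.leaf 0x9a015a5))))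 (.node (.node (.node (.leaf 0xf29560d) (.leaf 0xb9c960d)) (.node (.leaf 0xe5595a5) (.leaf 0xc85160f))) (.node (.node (.leaf 0xb1f160d) (.leaf 0xc86960f)) (.node (.leaf 0x71955a5) (.leaf 0x0)))))) (.node (.node (.node (.node (.node (.leaf 0x1658) (.leaf 0xd1095a5)) (.node (.leaf 0x54255a5) (.leaf 0x8fd160f))) (.node (.node (.leaf 0x6f215a5) (.leaf 0x8ad95c9)) (.node (.leaf 0x8c2560d) (.leaf 0x41195a5)))) (.node (.node (.node (.leaf 0xab3960d) (.leaf 0xc2e55a5)) (.node (.leaf 0xea655c9) (.leaf 0xaead5a5))) (.node (.node (.leaf 0x52295c9) (.leaf 0x84515a5)) (.node (.leaf 0xa73960d) (.leaf 0x0))))) (.node (.node (.node (.node (.leaf 0x656960d) (.leaf 0x40fd5c9)) (.node (.leaf 0xa80560f) (.leaf 0xa41160d))) (.node (.node (.leaf 0xe1dd60d) (.leaf 0xd74960d)) (.node (.leaf 0xf64d60d) (.leaf 0xe73d5c9)))) (.node (.node (.node (.leaf 0x4d895c9) (.leaf 0xe3f560d)) (.node (.leaf 0xa89960d) (.leaf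 0x9bcd5c9))) (.node (.node (.leaf 0x834560d) (.leaf 0xf02960f)) (.node (.leaf 0x472560f) (.leaf 0x0))))))) (.node (.node (.node (.node (.node (.node (.leaf 0xd4f560d) (.leaf 0x48ed60f)) (.node (.leaf 0xa37d5c9) (.leaf 0x70755c9))) (.node (.node (.leaf 0x887160f) (.leaf 0x16fc)) (.node (.leaf 0x92815a5) (.leaf 0xc3295c9)))) (.node (.node (.node (.leaf 0x94e560f) (.leaf 0x49f160d)) (.node (.leaf 0x54915c9) (.leaf 0xb9015c9))) (.node (.node (.leaf 0x9c255a5) (.leaf 0xd5c560d)) (.node (.leaf 0x87ad60d) (.leaf 0x0))))) (.node (.node (.node (.node (.leaf 0x4fa560f) (.leaf 0xe38160d)) (.node (.leaf 0x6dd95c9) (.leaf 0xba415c9))) (.node (.node (.leaf 0x5d1960f) (.leaf 0x52e15c9)) (.node (.leaf 0x5b6960f) (.leaf 0xb2d960f)))) (.node (.node (.node (.leaf 0x8df160d) (.leaf 0xd6455c9)) (.node (.leaf 0xc1a55a5) (.leaf 0xb00960d))) (.node (.node (.leaf 0xc2fd60f) (.leaf 0xce3560d)) (.node (.leaf 0xa9bd60d)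 (.leaf 0x0)))))) (.node (.node (.node (.node (.node (.leaf 0x880560f) (.leaf 0xb08960d)) (.node (.leaf 0x96c960d) (.leaf 0x69c95c9))) (.node (.node (.leaf 0x6f415a5) (.leaf 0xac6160d)) (.node (.leaf 0x85b960d) (.leaf 0xaba560d)))) (.node (.node (.node (.leaf 0x9fb560d) (.leaf 0xe3fd60d)) (.node (.leaf 0xa4fd60f) (.leaf 0x559560f))) (.node (.node (.leaf 0x9ccd60d) (.leaf 0x93bd60d)) (.node (.leaf 0xba455c9) (.leaf 0x0))))) (.node (.node (.node (.node (.leaf 0x77e15c9) (.leaf 0x90995c9)) (.node (.leaf 0x870960d) (.leaf 0x8ae560d))) (.node (.node (.leaf 0x17ba) (.leaf 0x929160f)) (.node (.leaf 0xa2e960d) (.leaf 0x0)))) (.node (.node (.node (.leaf 0x1766) (.leaf 0x51d560f)) (.node (.leaf 0xb79d5a5) (.leaf 0xa4d560f))) (.node (.node (.leaf 0x494d5c9) (.leaf 0x6ac55a5)) (.node (.leaf 0xd67560d) (.leaf 0x0)))))))) (.node (.node (.node (.node (.node (.node (.node (.leaf 0x9b6d60f) (.leaf 0xf9115c9))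 (.node (.leaf 0x890160d) (.leaf 0x91b560d))) (.node (.node (.leaf 0x51d55c9) (.leaf 0x621560f)) (.node (.leaf 0xf3e960d) (.leaf 0x6d8d5a5)))) (.node (.node (.node (.leaf 0x895160d) (.leaf 0x18bc)) (.node (.leaf 0x84f560f) (.leaf 0x8ccd60f))) (.node (.node (.leaf 0xa3695a5) (.leaf 0x694160d)) (.node (.leaf 0x7a0d60f) (.leaf 0x0))))) (.node (.node (.node (.node (.leaf 0x96c15a5) (.leaf 0x96a160f)) (.node (.leaf 0x8ced5c9) (.leaf 0x90c55c9))) (.node (.node (.leaf 0x89515c9) (.leaf 0xe00d60f)) (.node (.leaf 0xc2ad5c9) (.leaf 0x41015a5)))) (.node (.node (.node (.leaf 0xd7555c9) (.leaf 0x6a2d60d)) (.node (.leaf 0x17e2) (.leaf 0x836560f))) (.node (.node (.leaf 0xa37d60f) (.leaf 0xc84d60f)) (.node (.leaf 0xed0d60d) (.leaf 0x0)))))) (.node (.node (.node (.node (.node (.leaf 0xbaa15a5) (.leaf 0x949560d)) (.node (.leaf 0xee195c9) (.leaf 0xa95d60d))) (.node (.node (.leaf 0x163e) (.leaf 0x1802)) (.node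 (.leaf 0x6cb960d) (.leaf 0xb2595c9)))) (.node (.node (.node (.leaf 0x4e855c9) (.leaf 0x6dd960f)) (.node (.leaf 0xc91160d) (.leaf 0x4bb560d))) (.node (.node (.leaf 0xdda160f) (.leaf 0xe97560d)) (.node (.leaf 0xca5160d) (.leaf 0x0))))) (.node (.node (.node (.node (.leaf 0x9c0560d) (.leaf 0x962960f)) (.node (.leaf 0x9f3960f) (.leaf 0xa64160d))) (.node (.node (.leaf 0x168c) (.leaf 0xbaa95c9)) (.node (.leaf 0xb8b560d) (.leaf 0x78315c9)))) (.node (.node (.node (.leaf 0x9f015c9) (.leaf 0xa75d60f)) (.node (.leaf 0xc8d55c9) (.leaf 0xa79960f))) (.node (.node (.leaf 0xa4995c9) (.leaf 0x1706)) (.node (.leaf 0x86e55c9) (.leaf 0x0))))))) (.node (.node (.node (.node (.node (.node (.leaf 0xe2fd5c9) (.leaf 0x4add5a5)) (.node (.leaf 0x6f2d60f) (.leaf 0xc4695c9))) (.node (.node (.leaf 0xf81160d) (.leaf 0xa9455c9)) (.node (.leaf 0xf0ed60d) (.leaf 0x8ed160f)))) (.node (.node (.node (.leaf 0x62715a5) (.leaf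 0xecd160d)) (.node (.leaf 0xf24960d) (.leaf 0x76d960d))) (.node (.node (.leaf 0x4a715a5) (.leaf 0x629960f)) (.node (.leaf 0xb54d60d) (.leaf 0x0))))) (.node (.node (.node (.node (.leaf 0xb1a15a5) (.leaf 0x4f2560d)) (.node (.leaf 0x9b6d5a5) (.leaf 0x8ed160d))) (.node (.node (.leaf 0x583d60f) (.leaf 0x867d5c9)) (.node (.leaf 0x9ad55a5) (.leaf 0xd9f95a5)))) (.node (.node (.node (.leaf 0xeae95c9) (.leaf 0x582960d)) (.node (.leaf 0x68715c9) (.leaf 0xd9555a5))) (.node (.node (.leaf 0xf66560d) (.leaf 0x8ecd5c9)) (.node (.leaf 0xd0d560f) (.leaf 0x0)))))) (.node (.node (.node (.node (.node (.leaf 0x9e1960d) (.leaf 0x8ed15c9)) (.node (.leaf 0xe10560d) (.leaf 0x917160d))) (.node (.node (.leaf 0x1726) (.leaf 0x95ed60f)) (.node (.leaf 0xb7fd5a5) (.leaf 0x16a0)))) (.node (.node (.node (.leaf 0xf55960d) (.leaf 0xbb355a5)) (.node (.leaf 0xddad5a5) (.leaf 0x414960f))) (.node (.node (.leaf 0xe05960d) (.leaf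 0xd89d5a5)) (.node (.leaf 0x88455a5) (.leaf 0x0))))) (.node (.node (.node (.node (.leaf 0xbaf160d) (.leaf 0x904d5c9)) (.node (.leaf 0xcb495c9) (.leaf 0xb6755a5))) (.node (.node (.leaf 0x920160d) (.leaf 0x1878)) (.node (.leaf 0xc3c160d) (.leaf 0x0)))) (.node (.node (.node (.leaf 0xab755c9) (.leaf 0x99c95a5)) (.node (.leaf 0xace560f) (.leaf 0x81d160d))) (.node (.node (.leaf 0x8fb95a5) (.leaf 0x6f3160d)) (.node (.leaf 0x9b895a5) (.leaf 0x0))))))))) (.node (.node (.node (.node (.node (.node (.node (.node (.leaf 0x66f960f) (.leaf 0xcc8160d)) (.node (.leaf 0xb39960f) (.leaf 0x923160d))) (.node (.node (.leaf 0xc18960d) (.leaf 0xd30560d)) (.node (.leaf 0xf1c15a5) (.leaf 0xa3315a5)))) (.node (.node (.node (.leaf 0xa22d5a5) (.leaf 0x881d60d)) (.node (.leaf 0x4a715c9) (.leaf 0x8f815a5))) (.node (.node (.leaf 0xe0055c9) (.leaf 0xe93560d)) (.node (.leaf 0x899d5a5) (.leaf 0x0))))) (.node (.node (.node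 (.node (.leaf 0x96c95a5) (.leaf 0xa84960d)) (.node (.leaf 0x79c15a5) (.leaf 0xa49d60d))) (.node (.node (.leaf 0xca3d60f) (.leaf 0xe6215c9)) (.node (.leaf 0xcbb160f) (.leaf 0xdc5960d)))) (.node (.node (.node (.leaf 0x17e8) (.leaf 0x93915a5)) (.node (.leaf 0x411d5a5) (.leaf 0x76d15c9))) (.node (.node (.leaf 0x617160f) (.leaf 0xe6fd60d)) (.node (.leaf 0x166a) (.leaf 0x0)))))) (.node (.node (.node (.node (.node (.leaf 0x15ea) (.leaf 0xa1395c9)) (.node (.leaf 0xab3160f) (.leaf 0xd33560f))) (.node (.node (.leaf 0x84495c9) (.leaf 0xaf8160d)) (.node (.leaf 0x6d515c9) (.leaf 0xc1355a5)))) (.node (.node (.node (.leaf 0xdcb560d) (.leaf 0xcc2960d)) (.node (.leaf 0x42f960f) (.leaf 0xc3695c9))) (.node (.node (.leaf 0xeebd5a5) (.leaf 0xa96960d)) (.node (.leaf 0x8a5d60d) (.leaf 0x0))))) (.node (.node (.node (.node (.leaf 0x4ee560f) (.leaf 0x962d60d)) (.node (.leaf 0xc0a160d) (.leaf 0xc48560f))) (.node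 (.node (.leaf 0xe1f960d) (.leaf 0x65a55c9)) (.node (.leaf 0xa9195a5) (.leaf 0x4d2d60f)))) (.node (.node (.node (.leaf 0x537160f) (.leaf 0x621560d)) (.node (.leaf 0x67195a5) (.leaf 0x6b055c9))) (.node (.node (.leaf 0xa4715c9) (.leaf 0x173e)) (.node (.leaf 0xb1a55a5) (.leaf 0x0))))))) (.node (.node (.node (.node (.node (.node (.leaf 0x8f755c9) (.leaf 0x9b255c9)) (.node (.leaf 0xa3855c9) (.leaf 0xc07d60f))) (.node (.node (.leaf 0x889160f) (.leaf 0x706d60d)) (.node (.leaf 0xa0b960d) (.leaf 0x830d5c9)))) (.node (.node (.node (.leaf 0xac615c9) (.leaf 0xccc960d)) (.node (.leaf 0xd40d60d) (.leaf 0xcc7560d))) (.node (.node (.leaf 0x962d60f) (.leaf 0xbaf15a5)) (.node (.leaf 0x4cf15a5) (.leaf 0x0))))) (.node (.node (.node (.node (.leaf 0x76d960f) (.leaf 0xc61560d)) (.node (.leaf 0xae595c9) (.leaf 0x427d5a5))) (.node (.node (.leaf 0x1822) (.leaf 0xc63d5a5)) (.node (.leaf 0x5a995a5) (.leaf 0x5b6960d))))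 (.node (.node (.node (.leaf 0xad5560f) (.leaf 0xa3ad60f)) (.node (.leaf 0x423d5a5) (.leaf 0x5e955c9))) (.node (.node (.leaf 0xea715c9) (.leaf 0x4fb55c9)) (.node (.leaf 0xafc160d) (.leaf 0x0)))))) (.node (.node (.node (.node (.node (.leaf 0x882560f) (.leaf 0xd78960d)) (.node (.leaf 0xf04560f) (.leaf 0x6f4160d))) (.node (.node (.leaf 0xa8495a5) (.leaf 0x66c55c9)) (.node (.leaf 0xd65160d) (.leaf 0x82315c9)))) (.node (.node (.node (.leaf 0xa2e95a5) (.leaf 0x87055a5)) (.node (.leaf 0xe7c560d) (.leaf 0xec955c9))) (.node (.node (.leaf 0xf86d5c9) (.leaf 0xeb2d60f)) (.node (.leaf 0xb6b95c9) (.leaf 0x0))))) (.node (.node (.node (.node (.leaf 0x9e9d5c9) (.leaf 0xcc3560d)) (.node (.leaf 0xcb655c9) (.leaf 0xd00d60d))) (.node (.node (.leaf 0xa8615a5) (.leaf 0x7a715c9)) (.node (.leaf 0x9afd5c9) (.leaf 0x0)))) (.node (.node (.node (.leaf 0x79c160d) (.leaf 0xd0015c9)) (.node (.leaf 0x66f95a5) (.leaf 0xb7a95a5)))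 (.node (.node (.leaf 0x4f995a5) (.leaf 0x64e560d)) (.node (.leaf 0xab315c9) (.leaf 0x0)))))))) (.node (.node (.node (.node (.node (.node (.node (.leaf 0xdc4d60f) (.leaf 0x8ac55a5)) (.node (.leaf 0x9fc960d) (.leaf 0x82995a5))) (.node (.node (.leaf 0x98f55c9) (.leaf 0x56ad5c9)) (.node (.leaf 0x96fd5a5) (.leaf 0xa73560f)))) (.node (.node (.node (.leaf 0xb7595c9) (.leaf 0x97195c9)) (.node (.leaf 0xdcbd60d) (.leaf 0x99ad5a5))) (.node (.node (.leaf 0x86755a5) (.leaf 0x58295a5)) (.node (.leaf 0xf2dd60d) (.leaf 0x0))))) (.node (.node (.node (.node (.leaf 0x8fc560f) (.leaf 0x96495c9)) (.node (.leaf 0x8ca95c9) (.leaf 0x885960f))) (.node (.node (.leaf 0x5d5d5a5) (.leaf 0xd5fd60d)) (.node (.leaf 0x1840) (.leaf 0x89a560d)))) (.node (.node (.node (.leaf 0x8d0160f) (.leaf 0xf3115a5)) (.node (.leaf 0xc1dd5a5) (.leaf 0x9fad5a5))) (.node (.node (.leaf 0x679d60f) (.leaf 0xeaad5a5)) (.node (.leaf 0x1818) (.leaf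 0x0)))))) (.node (.node (.node (.node (.node (.leaf 0x9aa160f) (.leaf 0x948160d)) (.node (.leaf 0x5e1160f) (.leaf 0x8cc160f))) (.node (.node (.leaf 0x6f315a5) (.leaf 0x835d5a5)) (.node (.leaf 0xe9615c9) (.leaf 0x81e95c9)))) (.node (.node (.node (.leaf 0xc9e960f) (.leaf 0xa4ed60d)) (.node (.leaf 0xbb3560d) (.leaf 0xf7f95a5))) (.node (.node (.leaf 0x6f1960d) (.leaf 0xaea160f)) (.node (.leaf 0x8a9960f) (.leaf 0x0))))) (.node (.node (.node (.node (.leaf 0xb8415c9) (.leaf 0x1812)) (.node (.leaf 0xc3ad60f) (.leaf 0xb1555c9))) (.node (.node (.leaf 0xa80d60d) (.leaf 0xe7d160d)) (.node (.leaf 0x72855a5) (.leaf 0x0)))) (.node (.node (.node (.leaf 0x845560d) (.leaf 0xa75d60d)) (.node (.leaf 0xec695c9) (.leaf 0x94455a5))) (.node (.node (.leaf 0xfa9d60d) (.leaf 0xa2b560f)) (.node (.leaf 0xd66960d) (.leaf 0x0))))))) (.node (.node (.node (.node (.node (.node (.leaf 0xcb8960d) (.leaf 0x519d60f)) (.node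 (.leaf 0xda315a5) (.leaf 0xcbed60d))) (.node (.node (.leaf 0x583d5a5) (.leaf 0xe8c160f)) (.node (.leaf 0xd22560d) (.leaf 0x928160f)))) (.node (.node (.node (.leaf 0xd0a560d) (.leaf 0xf13960d)) (.node (.leaf 0x849160d) (.leaf 0xc4d15c9))) (.node (.node (.leaf 0x5e9560f) (.leaf 0xaea560f)) (.node (.leaf 0xb20960d) (.leaf 0x0))))) (.node (.node (.node (.node (.leaf 0x17a8) (.leaf 0xdb7560f)) (.node (.leaf 0x183e) (.leaf 0x55d160d))) (.node (.node (.leaf 0xa9395a5) (.leaf 0x526d60d)) (.node (.leaf 0x91b55c9) (.leaf 0x41055c9)))) (.node (.node (.node (.leaf 0xea4d5a5) (.leaf 0xa7cd60f)) (.node (.leaf 0xa7215a5) (.leaf 0x84fd5c9))) (.node (.node (.leaf 0xd28960f) (.leaf 0x85e15c9)) (.node (.leaf 0xaded60f) (.leaf 0x0)))))) (.node (.node (.node (.node (.node (.leaf 0xfafd60d) (.leaf 0xb1f55a5)) (.node (.leaf 0x9d795a5) (.leaf 0x9b3d5c9))) (.node (.node (.leaf 0x855160d) (.leaf 0xd7f560d)) (.node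 (.leaf 0x95295a5) (.leaf 0x41015c9)))) (.node (.node (.node (.leaf 0x55d160f) (.leaf 0x85d95c9)) (.node (.leaf 0xd95160f) (.leaf 0x883560f))) (.node (.node (.leaf 0x9ca15c9) (.leaf 0xadd15a5)) (.node (.leaf 0xced560d) (.leaf 0x0))))) (.node (.node (.node (.node (.leaf 0x9bb160f) (.leaf 0x929160d)) (.node (.leaf 0xca0960d) (.leaf 0x84f55c9))) (.node (.node (.leaf 0xb4f960d) (.leaf 0xe3dd60d)) (.node (.leaf 0x880960d) (.leaf 0x0)))) (.node (.node (.node (.leaf 0x8e7d5a5) (.leaf 0x6b6d60f)) (.node (.leaf 0x883560d) (.leaf 0x17b2))) (.node (.node (.leaf 0xede160d) (.leaf 0x669560d)) (.node (.leaf 0x8d9d5c9) (.leaf 0x0))))))))))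

/-- packed table -/
noncomputable def cov10_llr : BTree := (.node (.node (.node (.node (.node (.node (.node (.node (.node (.leaf 0x76d15a5) (.leaf 0xcc3160d)) (.node (.leaf 0xd01d5a5) (.leaf 0xaa315a5))) (.node (.node (.leaf 0x87bd5a5) (.leaf 0x9b3d60f)) (.node (.leaf 0x885560d) (.leaf 0xa3255a5)))) (.node (.node (.node (.leaf 0x839d5c9) (.leaf 0x6f2560d)) (.node (.leaf 0x1730) (.leaf 0xd6f15a5))) (.node (.node (.leaf 0xd5c960d) (.leaf 0x4e8560f)) (.node (.leaf 0x8c7d5a5) (.leaf 0x0))))) (.node (.node (.node (.node (.leaf 0x66f95c9) (.leaf 0xc9a160d)) (.node (.leaf 0xf30560f) (.leaf 0x64ad60d))) (.node (.node (.leaf 0x9b615c9) (.leaf 0xe63d60f)) (.node (.leaf 0x82a15c9) (.leaf 0xb4c95c9)))) (.node (.node (.node (.leaf 0xdb4d60d) (.leaf 0xe51960d)) (.node (.leaf 0xa2895c9) (.leaf 0xa49960d))) (.node (.node (.leaf 0xf6ed60d) (.leaf 0x41195c9)) (.node (.leaf 0x1660) (.leaf 0x0)))))) (.node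 (.node (.node (.node (.node (.leaf 0x159a) (.leaf 0xd0655a5)) (.node (.leaf 0x99215a5) (.leaf 0xed1d5a5))) (.node (.node (.leaf 0x8f655c9) (.leaf 0x83215c9)) (.node (.leaf 0xa29d5a5) (.leaf 0xac355a5)))) (.node (.node (.node (.leaf 0xa80560d) (.leaf 0x56d55a5)) (.node (.leaf 0xe64d5c9) (.leaf 0xd3095c9))) (.node (.node (.leaf 0x411d60f) (.leaf 0xba4960d)) (.node (.leaf 0x9c2d60d) (.leaf 0x0))))) (.node (.node (.node (.node (.leaf 0xd77560d) (.leaf 0x44455c9)) (.node (.leaf 0xc80d5a5) (.leaf 0xb35960d))) (.node (.node (.leaf 0xe1f560d) (.leaf 0xb9895c9)) (.node (.leaf 0xb27160d) (.leaf 0x99ed60f)))) (.node (.node (.node (.leaf 0x938560f) (.leaf 0xd1b160d)) (.node (.leaf 0x994160d) (.leaf 0x793160f))) (.node (.node (.leaf 0x9ea95a5) (.leaf 0x8cc160d)) (.node (.leaf 0xb2095a5) (.leaf 0x0))))))) (.node (.node (.node (.node (.node (.node (.leaf 0x9a6960d) (.leaf 0xf16560d)) (.node (.leaf 0x9d7960f)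 (.leaf 0xfab960d))) (.node (.node (.leaf 0x53795a5) (.leaf 0x65bd60f)) (.node (.leaf 0xa0bd60f) (.leaf 0xcea95c9)))) (.node (.node (.node (.leaf 0x69415a5) (.leaf 0x9ea960f)) (.node (.leaf 0x184c) (.leaf 0xcc8560d))) (.node (.node (.leaf 0xc0b960d) (.leaf 0xf5955c9)) (.node (.leaf 0xb1e55c9) (.leaf 0x0))))) (.node (.node (.node (.node (.leaf 0x84b160f) (.leaf 0x5d5d60f)) (.node (.leaf 0x78295c9) (.leaf 0x49415c9))) (.node (.node (.leaf 0x8abd5a5) (.leaf 0x77e160d)) (.node (.leaf 0x41495c9) (.leaf 0x944d5c9)))) (.node (.node (.node (.leaf 0xaad95c9) (.leaf 0x542560d)) (.node (.leaf 0x749d5c9) (.leaf 0x8b7560f))) (.node (.node (.leaf 0xc8895c9) (.leaf 0x88655a5)) (.node (.leaf 0xa9cd60d) (.leaf 0x0)))))) (.node (.node (.node (.node (.node (.leaf 0x64dd5a5) (.leaf 0x8de560d)) (.node (.leaf 0xeaf960d) (.leaf 0x802d5a5))) (.node (.node (.leaf 0xe35560d) (.leaf 0x88e160d)) (.node (.leaf 0x89d560f)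 (.leaf 0x870160d)))) (.node (.node (.node (.leaf 0xdf9d60d) (.leaf 0x87f55a5)) (.node (.leaf 0x9fb15c9) (.leaf 0xe3b560d))) (.node (.node (.leaf 0xf18560f) (.leaf 0xf2395a5)) (.node (.leaf 0x494560f) (.leaf 0x0))))) (.node (.node (.node (.node (.leaf 0xf6d560f) (.leaf 0xd0a95c9)) (.node (.leaf 0x4b455c9) (.leaf 0x64155c9))) (.node (.node (.leaf 0xd87960f) (.leaf 0xafe160d)) (.node (.leaf 0xf59d5a5) (.leaf 0x0)))) (.node (.node (.node (.leaf 0x5c7160f) (.leaf 0x9e1960f)) (.node (.leaf 0xb2a160d) (.leaf 0x799d60f))) (.node (.node (.leaf 0x622560f) (.leaf 0xc5e560d)) (.node (.leaf 0x95215c9) (.leaf 0x0)))))))) (.node (.node (.node (.node (.node (.node (.node (.leaf 0x6bd160f) (.leaf 0xcddd60f)) (.node (.leaf 0xc31960f) (.leaf 0x89815c9))) (.node (.node (.leaf 0x99655c9) (.leaf 0x56d55c9)) (.node (.leaf 0x1ba2) (.leaf 0x9a8960d)))) (.node (.node (.node (.leaf 0x494560d) (.leaf 0x17da)) (.node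 (.leaf 0xa9b160f) (.leaf 0xa6555a5))) (.node (.node (.leaf 0xae555a5) (.leaf 0x9db160d)) (.node (.leaf 0xc8d160d) (.leaf 0x0))))) (.node (.node (.node (.node (.leaf 0x65795c9) (.leaf 0x969560f)) (.node (.leaf 0xddb55a5) (.leaf 0x89755c9))) (.node (.node (.leaf 0x9d7960d) (.leaf 0x962160d)) (.node (.leaf 0xbb3560f) (.leaf 0xeb1160d)))) (.node (.node (.node (.leaf 0xaad560d) (.leaf 0xdd4d60f)) (.node (.leaf 0xa33160d) (.leaf 0x9a0160d))) (.node (.node (.leaf 0xcc795c9) (.leaf 0x877960f)) (.node (.leaf 0x881d5c9) (.leaf 0x0)))))) (.node (.node (.node (.node (.node (.leaf 0x1880) (.leaf 0x549160f)) (.node (.leaf 0xb2115a5) (.leaf 0x40015a5))) (.node (.node (.leaf 0x6a2d5a5) (.leaf 0x9fb55c9)) (.node (.leaf 0xb4355c9) (.leaf 0xd42d5c9)))) (.node (.node (.node (.leaf 0x793160d) (.leaf 0xc44d5c9)) (.node (.leaf 0x507960d) (.leaf 0x59b960f))) (.node (.node (.leaf 0xd80560d) (.leaf 0x169e)) (.node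 (.leaf 0x56415c9) (.leaf 0x0))))) (.node (.node (.node (.node (.leaf 0xf92560d) (.leaf 0x7a0d5a5)) (.node (.leaf 0x4e8d60d) (.leaf 0x799d5a5))) (.node (.node (.leaf 0xa49560f) (.leaf 0x1692)) (.node (.leaf 0xcc4560d) (.leaf 0x0)))) (.node (.node (.node (.leaf 0xfa9960d) (.leaf 0x85a960d)) (.node (.leaf 0xab1960f) (.leaf 0x4d2d5a5))) (.node (.node (.leaf 0xec3d60d) (.leaf 0xa2b560d)) (.node (.leaf 0x69b95a5) (.leaf 0x0))))))) (.node (.node (.node (.node (.node (.node (.leaf 0xa9295a5) (.leaf 0xbacd5a5)) (.node (.leaf 0x9ea960d) (.leaf 0xa75d5c9))) (.node (.node (.leaf 0x90c15c9) (.leaf 0xa7355c9)) (.node (.leaf 0xeb4160d) (.leaf 0x6bc160d)))) (.node (.node (.node (.leaf 0xa3015a5) (.leaf 0xed9560d)) (.node (.leaf 0xd9c160d) (.leaf 0xd10d5c9))) (.node (.node (.leaf 0x9ad560d) (.leaf 0xa29d60d)) (.node (.leaf 0xbacd60d) (.leaf 0x0))))) (.node (.node (.node (.node (.leaf 0xdf6960d) (.leaf 0xc6cd60f))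 (.node (.leaf 0x82b960d) (.leaf 0x89c95c9))) (.node (.node (.leaf 0x189a) (.leaf 0xd27560d)) (.node (.leaf 0x79c15c9) (.leaf 0x15f6)))) (.node (.node (.node (.leaf 0xf18d60d) (.leaf 0x694160f)) (.node (.leaf 0x8b955a5) (.leaf 0x1784))) (.node (.node (.leaf 0x49c15a5) (.leaf 0x7a0d60d)) (.node (.leaf 0xa4bd60d) (.leaf 0x0)))))) (.node (.node (.node (.node (.node (.leaf 0x5e1560d) (.leaf 0x93b95a5)) (.node (.leaf 0xb50960f) (.leaf 0x5d9560f))) (.node (.node (.leaf 0x5a3960d) (.leaf 0x84d55c9)) (.node (.leaf 0x92ad60f) (.leaf 0xe21d60d)))) (.node (.node (.node (.leaf 0xe3d55a5) (.leaf 0x87fd60d)) (.node (.leaf 0x17e4) (.leaf 0xc16960f))) (.node (.node (.leaf 0xf2895c9) (.leaf 0x655560d)) (.node (.leaf 0x8c3d60d) (.leaf 0x0))))) (.node (.node (.node (.node (.leaf 0xa49560d) (.leaf 0xf40d5a5)) (.node (.leaf 0xb4d560d) (.leaf 0xb35160d))) (.node (.node (.leaf 0x4bb55c9) (.leaf 0x1676)) (.node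 (.leaf 0xc9655a5) (.leaf 0x0)))) (.node (.node (.node (.leaf 0x50555a5) (.leaf 0x95195a5)) (.node (.leaf 0x8bd960f) (.leaf 0xb2d95a5))) (.node (.node (.leaf 0x679d5c9) (.leaf 0xa6a560d)) (.node (.leaf 0x44e55a5) (.leaf 0x0))))))))) (.node (.node (.node (.node (.node (.node (.node (.node (.leaf 0x8fb160d) (.leaf 0xdf4560d)) (.node (.leaf 0xc7c160d) (.leaf 0xb20160f))) (.node (.node (.leaf 0xc19d60d) (.leaf 0xa22960f)) (.node (.leaf 0x89d560d) (.leaf 0x1a06)))) (.node (.node (.node (.leaf 0xa8995c9) (.leaf 0xb9155c9)) (.node (.leaf 0x69c960f) (.leaf 0xce1d60d))) (.node (.node (.leaf 0xb7255a5) (.leaf 0x92f55c9)) (.node (.leaf 0x4ee55c9) (.leaf 0x0))))) (.node (.node (.node (.node (.leaf 0x57a560f) (.leaf 0x4e395c9)) (.node (.leaf 0x4cf15c9) (.leaf 0xf7d95a5))) (.node (.node (.leaf 0x18a4) (.leaf 0x4ded60d)) (.node (.leaf 0x9e0160d) (.leaf 0xd2c15c9)))) (.node (.node (.node (.leaf 0x5acd60f)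 (.leaf 0xa6255a5)) (.node (.leaf 0xa32560d) (.leaf 0x1780))) (.node (.node (.leaf 0xaae160d) (.leaf 0x9d8960f)) (.node (.leaf 0xde1d5a5) (.leaf 0x0)))))) (.node (.node (.node (.node (.node (.leaf 0xdab15c9) (.leaf 0x82b95a5)) (.node (.leaf 0xc4bd60d) (.leaf 0x898d5c9))) (.node (.node (.leaf 0xc46160f) (.leaf 0xec3160f)) (.node (.leaf 0xb7755c9) (.leaf 0x16cc)))) (.node (.node (.node (.leaf 0x8db55a5) (.leaf 0x986960d)) (.node (.leaf 0xafe15a5) (.leaf 0x8bd160d))) (.node (.node (.leaf 0xe2b15a5) (.leaf 0x89d160d)) (.node (.leaf 0xcaf15c9) (.leaf 0x0))))) (.node (.node (.node (.node (.leaf 0xcf0d60f) (.leaf 0x596d5c9)) (.node (.leaf 0x1710) (.leaf 0x895160f))) (.node (.node (.leaf 0xe1e160d) (.leaf 0x74ed5a5)) (.node (.leaf 0x5a9960d) (.leaf 0x92c55c9)))) (.node (.node (.node (.leaf 0xdf2160d) (.leaf 0xaffd60f)) (.node (.leaf 0x64595c9) (.leaf 0xb76560f))) (.node (.node (.leaf 0x9b8960d)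 (.leaf 0x1804)) (.node (.leaf 0x1868) (.leaf 0x0))))))) (.node (.node (.node (.node (.node (.node (.leaf 0x99455a5) (.leaf 0xbae55a5)) (.node (.leaf 0xef3960d) (.leaf 0xfa1160d))) (.node (.node (.leaf 0x9c415c9) (.leaf 0xcc5560d)) (.node (.leaf 0xd93160f) (.leaf 0xa5155a5)))) (.node (.node (.node (.leaf 0x4fb55a5) (.leaf 0xc5cd60d)) (.node (.leaf 0xf2655c9) (.leaf 0xfa295c9))) (.node (.node (.leaf 0xad555a5) (.leaf 0xa89960f)) (.node (.leaf 0xf48d60d) (.leaf 0x0))))) (.node (.node (.node (.node (.leaf 0xb7b95a5) (.leaf 0xb6b960d)) (.node (.leaf 0xb7e55c9) (.leaf 0x49455c9))) (.node (.node (.leaf 0xa9bd5c9) (.leaf 0xc6f560d)) (.node (.leaf 0x9a915a5) (.leaf 0xc6ed60d)))) (.node (.node (.node (.leaf 0xaad55c9) (.leaf 0x583d60d)) (.node (.leaf 0xa25960d) (.leaf 0xb75160d))) (.node (.node (.leaf 0xa76560d) (.leaf 0xa49d60f)) (.node (.leaf 0xaed15a5) (.leaf 0x0)))))) (.node (.node (.node (.node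 (.node (.leaf 0x51d560d) (.leaf 0x97a160d)) (.node (.leaf 0xb2b95c9) (.leaf 0x4b4560f))) (.node (.node (.leaf 0xba4160f) (.leaf 0x4e8d5c9)) (.node (.leaf 0xfa955a5) (.leaf 0x418d60f)))) (.node (.node (.node (.leaf 0x6d5160f) (.leaf 0x66c560d)) (.node (.leaf 0xf7d15c9) (.leaf 0xb37560d))) (.node (.node (.leaf 0xcc4160d) (.leaf 0xdd9d60f)) (.node (.leaf 0x65bd60d) (.leaf 0x0))))) (.node (.node (.node (.node (.leaf 0x6a2960f) (.leaf 0x6f2160d)) (.node (.leaf 0xaea960f) (.leaf 0x821960d))) (.node (.node (.leaf 0x8b855c9) (.leaf 0x410d5a5)) (.node (.leaf 0x69b95c9) (.leaf 0x0)))) (.node (.node (.node (.leaf 0x9c8d60f) (.leaf 0xb29160d)) (.node (.leaf 0xc22d60d) (.leaf 0xc20d60d))) (.node (.node (.leaf 0x427d60d) (.leaf 0xf6615c9)) (.node (.leaf 0x76595a5) (.leaf 0x0)))))))) (.node (.node (.node (.node (.node (.node (.node (.leaf 0xaba160f) (.leaf 0xcde160f)) (.node (.leaf 0x4fa560d) (.leaf 0xea0d5a5)))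 (.node (.node (.leaf 0x4cc55c9) (.leaf 0x180a)) (.node (.leaf 0x655560f) (.leaf 0xcae15c9)))) (.node (.node (.node (.leaf 0x6f415c9) (.leaf 0x5db960f)) (.node (.leaf 0x94955c9) (.leaf 0x89b55c9))) (.node (.node (.leaf 0x9c0d5a5) (.leaf 0xab395a5)) (.node (.leaf 0x16f0) (.leaf 0x0))))) (.node (.node (.node (.node (.leaf 0x9a7160d) (.leaf 0x17c8)) (.node (.leaf 0xccb15c9) (.leaf 0x49795c9))) (.node (.node (.leaf 0x1748) (.leaf 0x84715a5)) (.node (.leaf 0x5a615c9) (.leaf 0x1654)))) (.node (.node (.node (.leaf 0x40f95c9) (.leaf 0xaded60d)) (.node (.leaf 0x81d15a5) (.leaf 0xed215a5))) (.node (.node (.leaf 0x9f5160f) (.leaf 0xddfd60f)) (.node (.leaf 0xcd8d60d) (.leaf 0x0)))))) (.node (.node (.node (.node (.node (.leaf 0xa92d60d) (.leaf 0x1750)) (.node (.leaf 0x54115a5) (.leaf 0xcda960d))) (.node (.node (.leaf 0x707560f) (.leaf 0xc93d5a5)) (.node (.leaf 0x1870) (.leaf 0xabb160d)))) (.node (.node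 (.node (.leaf 0xf6e160f) (.leaf 0x84cd5a5)) (.node (.leaf 0xd1155a5) (.leaf 0xb5895c9))) (.node (.node (.leaf 0xf22d60d) (.leaf 0xb2015a5)) (.node (.leaf 0xa6b160d) (.leaf 0x0))))) (.node (.node (.node (.node (.leaf 0xe9a560d) (.leaf 0xea8560d)) (.node (.leaf 0x15d4) (.leaf 0xae5960f))) (.node (.node (.leaf 0xee6d60d) (.leaf 0xa7d960d)) (.node (.leaf 0xa2cd60d) (.leaf 0x0)))) (.node (.node (.node (.leaf 0xfa1560d) (.leaf 0x5e2d60f)) (.node (.leaf 0xc32d5a5) (.leaf 0xdaf160d))) (.node (.node (.leaf 0xb0495c9) (.leaf 0xf33d60d)) (.node (.leaf 0xee915c9) (.leaf 0x0))))))) (.node (.node (.node (.node (.node (.node (.leaf 0x15d0) (.leaf 0xd1a560f)) (.node (.leaf 0xf1b95c9) (.leaf 0x89355c9))) (.node (.node (.leaf 0xd51560f) (.leaf 0x9fb560f)) (.node (.leaf 0xf68d60d) (.leaf 0xf46d5c9)))) (.node (.node (.node (.leaf 0x6cb960f) (.leaf 0xb72160d)) (.node (.leaf 0xc4ad60d) (.leaf 0xb35960f))) (.node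 (.node (.leaf 0x182e) (.leaf 0xc4415a5)) (.node (.leaf 0xf66960d) (.leaf 0x0))))) (.node (.node (.node (.node (.leaf 0x15be) (.leaf 0xd8a15a5)) (.node (.leaf 0x807960d) (.leaf 0xe41d60d))) (.node (.node (.leaf 0xaded5a5) (.leaf 0xd25960d)) (.node (.leaf 0xa7655a5) (.leaf 0x4ad15c9)))) (.node (.node (.node (.leaf 0xdf555c9) (.leaf 0xb90160d)) (.node (.leaf 0xa51160d) (.leaf 0x9b2560f))) (.node (.node (.leaf 0x5db95a5) (.leaf 0xdd295c9)) (.node (.leaf 0xa93960f) (.leaf 0x0)))))) (.node (.node (.node (.node (.node (.leaf 0xa47d60d) (.leaf 0x8b0960f)) (.node (.leaf 0x5e4d60d) (.leaf 0x6a295a5))) (.node (.node (.leaf 0x1c1c) (.leaf 0xaa095c9)) (.node (.leaf 0x42e15c9) (.leaf 0xa1095c9)))) (.node (.node (.node (.leaf 0xf05160f) (.leaf 0xa46d60f)) (.node (.leaf 0xaa4960f) (.leaf 0xca915c9))) (.node (.node (.leaf 0x607560d) (.leaf 0xf24160f)) (.node (.leaf 0xf0ad60d) (.leaf 0x0))))) (.node (.node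 (.node (.node (.leaf 0xb9e160d) (.leaf 0x92ad60d)) (.node (.leaf 0xcea560d) (.leaf 0x49c15c9))) (.node (.node (.leaf 0xf0d160f) (.leaf 0x53d560d)) (.node (.leaf 0x8fd960d) (.leaf 0x0)))) (.node (.node (.node (.leaf 0xd02960f) (.leaf 0xe59160d)) (.node (.leaf 0x883d60d) (.leaf 0xb76560d))) (.node (.node (.leaf 0xd52d60d) (.leaf 0x410d5c9)) (.node (.leaf 0x79315c9) (.leaf 0x0))))))))))

/-- packed table -/
noncomputable def cov10_lrl : BTree := (.node (.node (.node (.node (.node (.node (.node (.node (.node (.leaf 0xb3f15a5) (.leaf 0xb6955a5)) (.node (.leaf 0x48f560f) (.leaf 0x64e55a5))) (.node (.node (.leaf 0x418d60d) (.leaf 0xa80d5a5)) (.node (.leaf 0x886560d) (.leaf 0x5d9560d)))) (.node (.node (.node (.leaf 0xabbd5a5) (.leaf 0x929560d)) (.node (.leaf 0xc0c95a5) (.leaf 0x87ad60f))) (.node (.node (.leaf 0xe9215a5) (.leaf 0x854160f)) (.node (.leaf 0x48ed5c9) (.leaf 0x0))))) (.node (.node (.node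 (.node (.leaf 0x686d60d) (.leaf 0x8b9560f)) (.node (.leaf 0xeae560d) (.leaf 0x537160d))) (.node (.node (.leaf 0x854160d) (.leaf 0x411560f)) (.node (.leaf 0x5acd60d) (.leaf 0xc35560f)))) (.node (.node (.node (.leaf 0xf3f960d) (.leaf 0x898160d)) (.node (.leaf 0xe26d60d) (.leaf 0xb2b15a5))) (.node (.node (.leaf 0xb43560f) (.leaf 0x81595a5)) (.node (.leaf 0x4d0560d) (.leaf 0x0)))))) (.node (.node (.node (.node (.node (.leaf 0x42f160f) (.leaf 0x40f160f)) (.node (.leaf 0xb54960d) (.leaf 0x4e395a5))) (.node (.node (.leaf 0x6f195a5) (.leaf 0xc2b560d)) (.node (.leaf 0xeb4d60d) (.leaf 0x4e8d60f)))) (.node (.node (.node (.leaf 0x4b415a5) (.leaf 0xd59960d)) (.node (.leaf 0xa95d60f) (.leaf 0x47815c9))) (.node (.node (.leaf 0x867160d) (.leaf 0x846d5a5)) (.node (.leaf 0xe40960d) (.leaf 0x0))))) (.node (.node (.node (.node (.leaf 0x9c0960f) (.leaf 0x81ed5c9)) (.node (.leaf 0x87fd5a5) (.leaf 0x49f15a5)))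 (.node (.node (.leaf 0x53d55c9) (.leaf 0x574560d)) (.node (.leaf 0xa7495c9) (.leaf 0xeef960d)))) (.node (.node (.node (.leaf 0x47255a5) (.leaf 0xb5515c9)) (.node (.leaf 0x64515c9) (.leaf 0xf01960d))) (.node (.node (.leaf 0xb6215a5) (.leaf 0xf02160d)) (.node (.leaf 0xc70d60f) (.leaf 0x0))))))) (.node (.node (.node (.node (.node (.node (.leaf 0x87bd60f) (.leaf 0xc6515a5)) (.node (.leaf 0xf49960d) (.leaf 0x685d5a5))) (.node (.node (.leaf 0x93855a5) (.leaf 0x8e9560d)) (.node (.leaf 0xa0b960f) (.leaf 0x8e155c9)))) (.node (.node (.node (.leaf 0x93b55a5) (.leaf 0x9fc960f)) (.node (.leaf 0xe16160d) (.leaf 0x700d60f))) (.node (.node (.leaf 0x9c095a5) (.leaf 0x955560d)) (.node (.leaf 0xb2c95c9) (.leaf 0x0))))) (.node (.node (.node (.node (.leaf 0xf8395a5) (.leaf 0x522960f)) (.node (.leaf 0x89095c9) (.leaf 0x9b655a5))) (.node (.node (.leaf 0xe59d5a5) (.leaf 0x71955c9)) (.node (.leaf 0x414960d) (.leaf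 0xed0960d)))) (.node (.node (.node (.leaf 0xae5560d) (.leaf 0xd3fd60d)) (.node (.leaf 0xdf8560d) (.leaf 0xf87560f))) (.node (.node (.leaf 0x802d60f) (.leaf 0xb67560f)) (.node (.leaf 0x84f560d) (.leaf 0x0)))))) (.node (.node (.node (.node (.node (.leaf 0xa5755a5) (.leaf 0x825160f)) (.node (.leaf 0xf34960d) (.leaf 0x8d8560d))) (.node (.node (.leaf 0xe36560d) (.leaf 0xf1755a5)) (.node (.leaf 0xf4155c9) (.leaf 0x64e560f)))) (.node (.node (.node (.leaf 0xdf9160d) (.leaf 0x412160f)) (.node (.leaf 0xd1495a5) (.leaf 0x410d60f))) (.node (.node (.leaf 0x16ac) (.leaf 0x41295a5)) (.node (.leaf 0x70755a5) (.leaf 0x0))))) (.node (.node (.node (.node (.leaf 0x546d60d) (.leaf 0x97095a5)) (.node (.leaf 0xc8995a5) (.leaf 0x8ac560d))) (.node (.node (.leaf 0x9db15a5) (.leaf 0xb81560f)) (.node (.leaf 0x4f195c9) (.leaf 0x0)))) (.node (.node (.node (.leaf 0x9ca160f) (.leaf 0x5e3560f)) (.node (.leaf 0xb62160d)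 (.leaf 0x582960f))) (.node (.node (.leaf 0xc49d5c9) (.leaf 0xb69d60d)) (.node (.leaf 0xe5a95c9) (.leaf 0x0)))))))) (.node (.node (.node (.node (.node (.node (.node (.leaf 0xa2cd60f) (.leaf 0xf6b55c9)) (.node (.leaf 0xa8c960f) (.leaf 0x412960f))) (.node (.node (.leaf 0xd7ed60f) (.leaf 0x56d560d)) (.node (.leaf 0xac4160d) (.leaf 0x412560f)))) (.node (.node (.node (.leaf 0x6cfd5a5) (.leaf 0x57155c9)) (.node (.leaf 0x1798) (.leaf 0xb54d60f))) (.node (.node (.leaf 0x88555a5) (.leaf 0x86695a5)) (.node (.leaf 0xdb1160d) (.leaf 0x0))))) (.node (.node (.node (.node (.leaf 0xd7c960f) (.leaf 0x836560d)) (.node (.leaf 0xcca55c9) (.leaf 0xb7f55a5))) (.node (.node (.leaf 0xb1f15c9) (.leaf 0x73555c9)) (.node (.leaf 0xfb3160f) (.leaf 0x72855c9)))) (.node (.node (.node (.leaf 0x913960d) (.leaf 0x6a2960d)) (.node (.leaf 0x64155a5) (.leaf 0xf7ed5a5))) (.node (.node (.leaf 0xd9d960d) (.leaf 0xe16d60f)) (.node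 (.leaf 0xf87d60d) (.leaf 0x0)))))) (.node (.node (.node (.node (.node (.leaf 0x1728) (.leaf 0x549960d)) (.node (.leaf 0x84c160d) (.leaf 0xe2495a5))) (.node (.node (.leaf 0xc43960f) (.leaf 0xac3560f)) (.node (.leaf 0xb4cd5c9) (.leaf 0xed0160d)))) (.node (.node (.node (.leaf 0x49f160f) (.leaf 0x984d60d)) (.node (.leaf 0xe6395a5) (.leaf 0x40f15a5))) (.node (.node (.leaf 0xdcd960d) (.leaf 0xc14560f)) (.node (.leaf 0xca6560d) (.leaf 0x0))))) (.node (.node (.node (.node (.leaf 0xf5015c9) (.leaf 0x92915a5)) (.node (.leaf 0x932d5c9) (.leaf 0x939160d))) (.node (.node (.leaf 0xba495a5) (.leaf 0x56d560f)) (.node (.leaf 0xe3f160d) (.leaf 0xc8ad60d)))) (.node (.node (.node (.leaf 0xa8a160d) (.leaf 0x4b8160f)) (.node (.leaf 0xae3560d) (.leaf 0xb90160f))) (.node (.node (.leaf 0xbae560d) (.leaf 0x838160f)) (.node (.leaf 0x935160d) (.leaf 0x0))))))) (.node (.node (.node (.node (.node (.node (.leaf 0x9bcd60d)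 (.leaf 0xbae15a5)) (.node (.leaf 0x8b8560f) (.leaf 0xb79d60d))) (.node (.node (.leaf 0x86e960d) (.leaf 0x5b695a5)) (.node (.leaf 0xddd15a5) (.leaf 0xe5ad5c9)))) (.node (.node (.node (.leaf 0x86b55a5) (.leaf 0xae1160d)) (.node (.leaf 0xe7055c9) (.leaf 0x719560f))) (.node (.node (.leaf 0x92695c9) (.leaf 0x645960d)) (.node (.leaf 0xb8095a5) (.leaf 0x0))))) (.node (.node (.node (.node (.leaf 0xed5960d) (.leaf 0xf38d5c9)) (.node (.leaf 0x79b95a5) (.leaf 0x40f960f))) (.node (.node (.leaf 0xaa7d60d) (.leaf 0xcc5160d)) (.node (.leaf 0x5acd5a5) (.leaf 0xe2a560d)))) (.node (.node (.node (.leaf 0x4a7160f) (.leaf 0xdfe160f)) (.node (.leaf 0x685d5c9) (.leaf 0xf5ad5a5))) (.node (.node (.leaf 0x88595a5) (.leaf 0x90ed60d)) (.node (.leaf 0xd1fd5a5) (.leaf 0x0)))))) (.node (.node (.node (.node (.node (.leaf 0xc1c55c9) (.leaf 0xcf095c9)) (.node (.leaf 0xa0dd60d) (.leaf 0xa2315a5))) (.node (.node (.leaf 0x494d5a5)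 (.leaf 0x1b14)) (.node (.leaf 0x59b95c9) (.leaf 0x55d15c9)))) (.node (.node (.node (.leaf 0x687160d) (.leaf 0xdb215c9)) (.node (.leaf 0xb4895c9) (.leaf 0x849160f))) (.node (.node (.leaf 0x5c7160d) (.leaf 0xf0bd60f)) (.node (.leaf 0xc50160d) (.leaf 0x0))))) (.node (.node (.node (.node (.leaf 0x87d15c9) (.leaf 0xd56d5a5)) (.node (.leaf 0xb1f560d) (.leaf 0x40fd60f))) (.node (.node (.leaf 0x93bd5a5) (.leaf 0xc0c55a5)) (.node (.leaf 0xd77960d) (.leaf 0x0)))) (.node (.node (.node (.leaf 0x8d9560d) (.leaf 0x8e9d60d)) (.node (.leaf 0xb43d5c9) (.leaf 0x86715a5))) (.node (.node (.leaf 0xc49960d) (.leaf 0x57455c9)) (.node (.leaf 0x4f195a5) (.leaf 0x0))))))))) (.node (.node (.node (.node (.node (.node (.node (.node (.leaf 0x686d5a5) (.leaf 0x95cd60f)) (.node (.leaf 0xa7cd5c9) (.leaf 0x8f555c9))) (.node (.node (.leaf 0x169a) (.leaf 0x9a6960f)) (.node (.leaf 0x168a) (.leaf 0x15a8)))) (.node (.node (.node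 (.leaf 0x62995c9) (.leaf 0xab155c9)) (.node (.leaf 0xf6c55c9) (.leaf 0xb7f560d))) (.node (.node (.leaf 0xa2d55a5) (.leaf 0x8b0960d)) (.node (.leaf 0xc2d560d) (.leaf 0x0))))) (.node (.node (.node (.node (.leaf 0xa3055c9) (.leaf 0x62015c9)) (.node (.leaf 0x17dc) (.leaf 0xcf4160f))) (.node (.node (.leaf 0x83b15c9) (.leaf 0x19ea)) (.node (.leaf 0x9ded60d) (.leaf 0x920d5a5)))) (.node (.node (.node (.leaf 0xa3b960d) (.leaf 0x6a295c9)) (.node (.leaf 0x50555c9) (.leaf 0xa46d60d))) (.node (.node (.leaf 0xb36d60d) (.leaf 0xd2b160f)) (.node (.leaf 0x15b0) (.leaf 0x0)))))) (.node (.node (.node (.node (.node (.leaf 0x1620) (.leaf 0xaa8160f)) (.node (.leaf 0x84d560d) (.leaf 0xd56560f))) (.node (.node (.leaf 0xdbf15a5) (.leaf 0x765960d)) (.node (.leaf 0x411960f) (.leaf 0x8e255c9)))) (.node (.node (.node (.leaf 0xca1160f) (.leaf 0xd2a560f)) (.node (.leaf 0x48ed60d) (.leaf 0x8d3d60f))) (.node (.node (.leaf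 0xf88960d) (.leaf 0xe0d55c9)) (.node (.leaf 0xaa495a5) (.leaf 0x0))))) (.node (.node (.node (.node (.leaf 0x8fd15a5) (.leaf 0x962960d)) (.node (.leaf 0x9bb160d) (.leaf 0x8a6160f))) (.node (.node (.leaf 0xe1e560d) (.leaf 0xd73960d)) (.node (.leaf 0xea695a5) (.leaf 0x411160f)))) (.node (.node (.node (.leaf 0x537d60f) (.leaf 0xaffd5a5)) (.node (.leaf 0x645960f) (.leaf 0xaa595a5))) (.node (.node (.leaf 0xb30960d) (.leaf 0x917160f)) (.node (.leaf 0x870960f) (.leaf 0x0))))))) (.node (.node (.node (.node (.node (.node (.leaf 0x52f960f) (.leaf 0xd0a160d)) (.node (.leaf 0xaea15a5) (.leaf 0x97d560d))) (.node (.node (.leaf 0xc87960d) (.leaf 0x9d6d5c9)) (.node (.leaf 0xa0c560d) (.leaf 0xbaf160f)))) (.node (.node (.node (.leaf 0x9ad960d) (.leaf 0x85495c9)) (.node (.leaf 0xe3495c9) (.leaf 0xc5815a5))) (.node (.node (.leaf 0x6f2560f) (.leaf 0xa07d60f)) (.node (.leaf 0x9ed95c9) (.leaf 0x0))))) (.node (.node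 (.node (.node (.leaf 0xdbed60d) (.leaf 0x49bd5a5)) (.node (.leaf 0x49bd5c9) (.leaf 0xecf560d))) (.node (.node (.leaf 0xa4ed60f) (.leaf 0xade560d)) (.node (.leaf 0x9a895a5) (.leaf 0x410160f)))) (.node (.node (.node (.leaf 0xae3560f) (.leaf 0x6acd5a5)) (.node (.leaf 0x821d5a5) (.leaf 0xc4ed60d))) (.node (.node (.leaf 0xa2cd5a5) (.leaf 0x62715c9)) (.node (.leaf 0x76d95c9) (.leaf 0x0)))))) (.node (.node (.node (.node (.node (.leaf 0x96915a5) (.leaf 0x978560d)) (.node (.leaf 0x45595c9) (.leaf 0x8e215c9))) (.node (.node (.leaf 0xf45960f) (.leaf 0xa6bd5c9)) (.node (.leaf 0xf39560d) (.leaf 0x40f560f)))) (.node (.node (.node (.leaf 0x62255a5) (.leaf 0x886d5a5)) (.node (.leaf 0xfa5d60d) (.leaf 0x9bb15a5))) (.node (.node (.leaf 0x8a555a5) (.leaf 0xd53160d)) (.node (.leaf 0xaff160d) (.leaf 0x0))))) (.node (.node (.node (.node (.leaf 0xca595a5) (.leaf 0xcce560d)) (.node (.leaf 0x4b5d5c9) (.leaf 0x835960f)))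 (.node (.node (.leaf 0xe9815a5) (.leaf 0xf8b160d)) (.node (.leaf 0xc3d160d) (.leaf 0x0)))) (.node (.node (.node (.leaf 0x97595c9) (.leaf 0xadd160d)) (.node (.leaf 0x821d60d) (.leaf 0x64ad5c9))) (.node (.node (.leaf 0xc2415c9) (.leaf 0xfa7d60f)) (.node (.leaf 0x856960f) (.leaf 0x0)))))))) (.node (.node (.node (.node (.node (.node (.node (.leaf 0x9ded60f) (.leaf 0xba8d5c9)) (.node (.leaf 0xf28160f) (.leaf 0xa97d60d))) (.node (.node (.leaf 0x9e195c9) (.leaf 0xf1895a5)) (.node (.leaf 0x5db960d) (.leaf 0xdaa560d)))) (.node (.node (.node (.leaf 0xa97d5a5) (.leaf 0x571560d)) (.node (.leaf 0x94815a5) (.leaf 0xd21560f))) (.node (.node (.leaf 0x749d60f) (.leaf 0xa4d55a5)) (.node (.leaf 0xfa1d60f) (.leaf 0x0))))) (.node (.node (.node (.node (.leaf 0x4fb560f) (.leaf 0x850960f)) (.node (.leaf 0x6acd60f) (.leaf 0xc79d60f))) (.node (.node (.leaf 0x9d1560f) (.leaf 0x8f5560d)) (.node (.leaf 0x5e5d5a5) (.leaf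 0x6b0560d)))) (.node (.node (.node (.leaf 0x6ac55c9) (.leaf 0x802d60d)) (.node (.leaf 0x81b15a5) (.leaf 0x99ed60d))) (.node (.node (.leaf 0xe0b15c9) (.leaf 0xd7cd60d)) (.node (.leaf 0xa57560d) (.leaf 0x0)))))) (.node (.node (.node (.node (.node (.leaf 0x81915c9) (.leaf 0x546d60f)) (.node (.leaf 0xa64560d) (.leaf 0xe66960d))) (.node (.node (.leaf 0xef355a5) (.leaf 0x4b555a5)) (.node (.leaf 0xc3255a5) (.leaf 0x95ed5c9)))) (.node (.node (.node (.leaf 0x749d5a5) (.leaf 0x1740)) (.node (.leaf 0xd24160d) (.leaf 0xd5d960d))) (.node (.node (.leaf 0xf53160d) (.leaf 0xed7d60f)) (.node (.leaf 0x5f3160d) (.leaf 0x0))))) (.node (.node (.node (.node (.leaf 0xa8a55a5) (.leaf 0x40f560d)) (.node (.leaf 0x88715a5) (.leaf 0xb14d5c9))) (.node (.node (.leaf 0xb4195a5) (.leaf 0x519d60d)) (.node (.leaf 0x16dc) (.leaf 0x0)))) (.node (.node (.node (.leaf 0xe7b160d) (.leaf 0xa5115c9)) (.node (.leaf 0x9b4560d) (.leaf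 0x92955a5))) (.node (.node (.leaf 0xeac160d) (.leaf 0xb7fd60d)) (.node (.leaf 0x969160d) (.leaf 0x0))))))) (.node (.node (.node (.node (.node (.node (.leaf 0xcc9960f) (.leaf 0x91b560f)) (.node (.leaf 0xdeb960d) (.leaf 0x4c0d60d))) (.node (.node (.leaf 0xd53960f) (.leaf 0x9b315a5)) (.node (.leaf 0xcf7160d) (.leaf 0x8ef15c9)))) (.node (.node (.node (.leaf 0xe6f15a5) (.leaf 0xafc95a5)) (.node (.leaf 0x462160f) (.leaf 0x9c3d60f))) (.node (.node (.leaf 0x868560d) (.leaf 0xf89960d)) (.node (.leaf 0xf4a560d) (.leaf 0x0))))) (.node (.node (.node (.node (.leaf 0x65bd5a5) (.leaf 0x4f9960d)) (.node (.leaf 0x76315c9) (.leaf 0x93a960d))) (.node (.node (.leaf 0x8fd960f) (.leaf 0xa6a55a5)) (.node (.leaf 0xc63960d) (.leaf 0x1980)))) (.node (.node (.node (.leaf 0x5f315c9) (.leaf 0x596d60f)) (.node (.leaf 0xd55d60d) (.leaf 0xc5ed5a5))) (.node (.node (.leaf 0xf1c95c9) (.leaf 0x834d5c9)) (.node (.leaf 0xaff15a5)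 (.leaf 0x0)))))) (.node (.node (.node (.node (.node (.leaf 0x785d5a5) (.leaf 0xac015c9)) (.node (.leaf 0x74ed60f) (.leaf 0xa2595a5))) (.node (.node (.leaf 0x88f95c9) (.leaf 0xd7f960d)) (.node (.leaf 0x82e95c9) (.leaf 0x92a960f)))) (.node (.node (.node (.leaf 0x98715c9) (.leaf 0xa8a560d)) (.node (.leaf 0xd2a160f) (.leaf 0xb6a160d))) (.node (.node (.leaf 0xa4bd60f) (.leaf 0xe54560d)) (.node (.leaf 0xcc8d60d) (.leaf 0x0))))) (.node (.node (.node (.node (.leaf 0xf93d60d) (.leaf 0x927d60d)) (.node (.leaf 0x93b960d) (.leaf 0x93b560d))) (.node (.node (.leaf 0x629560f) (.leaf 0xa4fd60d)) (.node (.leaf 0x96a160d) (.leaf 0x0)))) (.node (.node (.node (.leaf 0xca9560d) (.leaf 0x902d5c9)) (.node (.leaf 0xa7815c9) (.leaf 0x837560d))) (.node (.node (.leaf 0xe7c15c9) (.leaf 0xe69960d)) (.node (.leaf 0x9bd95c9) (.leaf 0x0))))))))))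

/-- packed table -/
noncomputable def cov10_lrr : BTree := (.node (.node (.node (.node (.node (.node (.node (.node (.node (.leaf 0x4c0d60f) (.leaf 0xaa5960d)) (.node (.leaf 0xdd5560f) (.leaf 0x86b560d))) (.node (.node (.leaf 0xd2fd5a5) (.leaf 0xf1e160f)) (.node (.leaf 0xa6bd60f) (.leaf 0xab6960d)))) (.node (.node (.node (.leaf 0x67195c9) (.leaf 0xcf0560d)) (.node (.leaf 0xa4115a5) (.leaf 0x627160d))) (.node (.node (.leaf 0xaa1560f) (.leaf 0x410560f)) (.node (.leaf 0x82e960d) (.leaf 0x0))))) (.node (.node (.node (.node (.leaf 0x76d160d) (.leaf 0xe7615a5)) (.node (.leaf 0xe67960d) (.leaf 0xe4c960d))) (.node (.node (.leaf 0xb1b15c9) (.leaf 0x939160f)) (.node (.leaf 0x80ed60f) (.leaf 0x63615a5)))) (.node (.node (.node (.leaf 0xa14960d) (.leaf 0xecf960f)) (.node (.leaf 0x9e095a5) (.leaf 0xd94960f))) (.node (.node (.leaf 0xbb4160d) (.leaf 0xae115a5)) (.node (.leaf 0x5e2d5a5) (.leaf 0x0))))))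 (.node (.node (.node (.node (.node (.leaf 0x1626) (.leaf 0xd05d60f)) (.node (.leaf 0xcaad60d) (.leaf 0xe8fd60f))) (.node (.node (.leaf 0xef115a5) (.leaf 0x65bd5c9)) (.node (.leaf 0xf8bd60d) (.leaf 0xc5a160d)))) (.node (.node (.node (.leaf 0xdd9960f) (.leaf 0xb8b55a5)) (.node (.leaf 0x48f560d) (.leaf 0xe5e560d))) (.node (.node (.leaf 0xf1a960d) (.leaf 0x850960d)) (.node (.leaf 0x179c) (.leaf 0x0))))) (.node (.node (.node (.node (.leaf 0xba395c9) (.leaf 0xac8560d)) (.node (.leaf 0xc0b160d) (.leaf 0xc2b160d))) (.node (.node (.leaf 0xe1e960d) (.leaf 0x66d95a5)) (.node (.leaf 0x53d560f) (.leaf 0x944560f)))) (.node (.node (.node (.leaf 0x9efd60d) (.leaf 0x1888)) (.node (.leaf 0x62995a5) (.leaf 0xeaa560d))) (.node (.node (.leaf 0x17f6) (.leaf 0x15a2)) (.node (.leaf 0x4cc55a5) (.leaf 0x0))))))) (.node (.node (.node (.node (.node (.node (.leaf 0xc51160d) (.leaf 0x890160f)) (.node (.leaf 0x455960f)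 (.leaf 0xb2e160d))) (.node (.node (.leaf 0x889160d) (.leaf 0x57155a5)) (.node (.leaf 0x9b195c9) (.leaf 0x9bad60d)))) (.node (.node (.node (.leaf 0x8e9d5a5) (.leaf 0x40fd5a5)) (.node (.leaf 0x162c) (.leaf 0x899d60d))) (.node (.node (.leaf 0x95cd5c9) (.leaf 0xb5bd5a5)) (.node (.leaf 0x478160d) (.leaf 0x0))))) (.node (.node (.node (.node (.leaf 0x719560d) (.leaf 0x18b8)) (.node (.leaf 0x5d955c9) (.leaf 0x427d60f))) (.node (.node (.leaf 0x7a0d5c9) (.leaf 0x920d60f)) (.node (.leaf 0x17ec) (.leaf 0x9b6d60d)))) (.node (.node (.node (.leaf 0xe7d560d) (.leaf 0xaae15a5)) (.node (.leaf 0xa23160d) (.leaf 0xe9a960f))) (.node (.node (.leaf 0x9e0160f) (.leaf 0xf38960d)) (.node (.leaf 0xa9b160d) (.leaf 0x0)))))) (.node (.node (.node (.node (.node (.leaf 0x91f15a5) (.leaf 0xace560d)) (.node (.leaf 0xb5415a5) (.leaf 0xab195c9))) (.node (.node (.leaf 0xcf115c9) (.leaf 0xe6b95c9)) (.node (.leaf 0xdcb960d)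 (.leaf 0xb9a95c9)))) (.node (.node (.node (.leaf 0xdca960d) (.leaf 0x942160f)) (.node (.leaf 0x82cd60d) (.leaf 0xec995c9))) (.node (.node (.leaf 0xe26160f) (.leaf 0xc58d60d)) (.node (.leaf 0xb4395c9) (.leaf 0x0))))) (.node (.node (.node (.node (.leaf 0xfa3d60f) (.leaf 0xc57560d)) (.node (.leaf 0xe4a960d) (.leaf 0x56415a5))) (.node (.node (.leaf 0xa91960f) (.leaf 0xd5255a5)) (.node (.leaf 0x89015c9) (.leaf 0x0)))) (.node (.node (.node (.leaf 0xaf815c9) (.leaf 0x41155a5)) (.node (.leaf 0xcdd960d) (.leaf 0x5d5d5c9))) (.node (.node (.leaf 0x176a) (.leaf 0xd4e15a5)) (.node (.leaf 0xf65d5a5) (.leaf 0x0)))))))) (.node (.node (.node (.node (.node (.node (.node (.leaf 0x494160f) (.leaf 0xa3ad60d)) (.node (.leaf 0xb27160f) (.leaf 0x410560d))) (.node (.node (.leaf 0x5e155c9) (.leaf 0xce7560d)) (.node (.leaf 0x9d155a5) (.leaf 0x5b695c9)))) (.node (.node (.node (.leaf 0xf9ad5c9) (.leaf 0x1b54)) (.node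 (.leaf 0xe5a160d) (.leaf 0xb8d95c9))) (.node (.node (.leaf 0xae955a5) (.leaf 0xe1d95a5)) (.node (.leaf 0x9de55c9) (.leaf 0x0))))) (.node (.node (.node (.node (.leaf 0xf2215a5) (.leaf 0x657960d)) (.node (.leaf 0x8c9d5c9) (.leaf 0x49c160f))) (.node (.node (.leaf 0xb20560d) (.leaf 0x41215c9)) (.node (.leaf 0x778560d) (.leaf 0x181c)))) (.node (.node (.node (.leaf 0xccf960f) (.leaf 0xb15560f)) (.node (.leaf 0xa33160f) (.leaf 0x1b82))) (.node (.node (.leaf 0xa31160d) (.leaf 0x5d955a5)) (.node (.leaf 0x48295c9) (.leaf 0x0)))))) (.node (.node (.node (.node (.node (.leaf 0x5a995c9) (.leaf 0x946560d)) (.node (.leaf 0x84b160d) (.leaf 0xdd455a5))) (.node (.node (.leaf 0x59b960d) (.leaf 0xfa615a5)) (.node (.leaf 0x866960f) (.leaf 0x85a95c9)))) (.node (.node (.node (.leaf 0x16f8) (.leaf 0x8cd960d)) (.node (.leaf 0x86b560f) (.leaf 0x915d5c9))) (.node (.node (.leaf 0xdd655a5) (.leaf 0xaa955c9)) (.node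 (.leaf 0x8ab560f) (.leaf 0x0))))) (.node (.node (.node (.node (.leaf 0x63455c9) (.leaf 0xed715c9)) (.node (.leaf 0x93755c9) (.leaf 0x7a055a5))) (.node (.node (.leaf 0x920160f) (.leaf 0x92a95a5)) (.node (.leaf 0xa2c160d) (.leaf 0x0)))) (.node (.node (.node (.leaf 0xac8d60d) (.leaf 0xe76960f)) (.node (.leaf 0x6b0560f) (.leaf 0x4b5d5a5))) (.node (.node (.leaf 0xb1a560d) (.leaf 0x159c)) (.node (.leaf 0xd32960d) (.leaf 0x0))))))) (.node (.node (.node (.node (.node (.node (.leaf 0xf3f55c9) (.leaf 0x41055a5)) (.node (.leaf 0xef3d60f) (.leaf 0xe03960f))) (.node (.node (.leaf 0xe38d60d) (.leaf 0xa8c960d)) (.node (.leaf 0xfb4560d) (.leaf 0x65555a5)))) (.node (.node (.node (.leaf 0xf7a15c9) (.leaf 0x597160f)) (.node (.leaf 0xb7895c9) (.leaf 0x4ee560d))) (.node (.node (.leaf 0x5c715a5) (.leaf 0xa49d5c9)) (.node (.leaf 0xac3560d) (.leaf 0x0))))) (.node (.node (.node (.node (.leaf 0x9c3160f) (.leaf 0x9b6560f))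 (.node (.leaf 0xd91560d) (.leaf 0x6b515c9))) (.node (.node (.leaf 0x42ed5a5) (.leaf 0x507960f)) (.node (.leaf 0x462160d) (.leaf 0xabf160d)))) (.node (.node (.node (.leaf 0xfa9160d) (.leaf 0x1700)) (.node (.leaf 0xec4d5a5) (.leaf 0x1696))) (.node (.node (.leaf 0xb2b160f) (.leaf 0xa3bd5a5)) (.node (.leaf 0x42ed60f) (.leaf 0x0)))))) (.node (.node (.node (.node (.node (.leaf 0x5e2d60d) (.leaf 0xb77560d)) (.node (.leaf 0xf0f160d) (.leaf 0x7ae960d))) (.node (.node (.leaf 0x455960d) (.leaf 0xde7d60f)) (.node (.leaf 0x98695a5) (.leaf 0x895560f)))) (.node (.node (.node (.leaf 0x5a6160f) (.leaf 0xbb415a5)) (.node (.leaf 0xb36d5a5) (.leaf 0x622560d))) (.node (.node (.leaf 0xb0e95a5) (.leaf 0x15c6)) (.node (.leaf 0xce7960d) (.leaf 0x0))))) (.node (.node (.node (.node (.leaf 0xa07d5c9) (.leaf 0xb85960d)) (.node (.leaf 0xcb1d5c9) (.leaf 0xc2c560d))) (.node (.node (.leaf 0x68815a5) (.leaf 0xb8d960f))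 (.node (.leaf 0x79c160f) (.leaf 0x0)))) (.node (.node (.node (.leaf 0x839560d) (.leaf 0x505560d)) (.node (.leaf 0x825160d) (.leaf 0x89c960d))) (.node (.node (.leaf 0x55d15a5) (.leaf 0xa6a960d)) (.node (.leaf 0x95ad5a5) (.leaf 0x0))))))))) (.node (.node (.node (.node (.node (.node (.node (.node (.leaf 0x80215c9) (.leaf 0xa4bd5c9)) (.node (.leaf 0xe7e55c9) (.leaf 0x40f160d))) (.node (.node (.leaf 0x5e115c9) (.leaf 0xe20d60f)) (.node (.leaf 0x64e55c9) (.leaf 0xacdd60d)))) (.node (.node (.node (.leaf 0x9e015c9) (.leaf 0x8d0160d)) (.node (.leaf 0xa9bd60f) (.leaf 0x4ad55a5))) (.node (.node (.leaf 0xb6e55a5) (.leaf 0x870160f)) (.node (.leaf 0xb20160d) (.leaf 0x0))))) (.node (.node (.node (.node (.leaf 0x96955a5) (.leaf 0x56ad60f)) (.node (.leaf 0xba6960d) (.leaf 0x9fd160d))) (.node (.node (.leaf 0xca1d60d) (.leaf 0xe6315c9)) (.node (.leaf 0x17d0) (.leaf 0x4f255a5)))) (.node (.node (.node (.leaf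 0xa8955a5) (.leaf 0xaa1560d)) (.node (.leaf 0xb3915a5) (.leaf 0xe01960d))) (.node (.node (.leaf 0x1734) (.leaf 0x9d8960d)) (.node (.leaf 0x51d55a5) (.leaf 0x0)))))) (.node (.node (.node (.node (.node (.leaf 0xbaa160d) (.leaf 0x763160f)) (.node (.leaf 0x44e560d) (.leaf 0xab1d5c9))) (.node (.node (.leaf 0x8e615c9) (.leaf 0x5d855c9)) (.node (.leaf 0x91c560d) (.leaf 0x174e)))) (.node (.node (.node (.leaf 0x91c55a5) (.leaf 0x970560f)) (.node (.leaf 0x91015c9) (.leaf 0xcbe160d))) (.node (.node (.leaf 0xe88960d) (.leaf 0x8a815c9)) (.node (.leaf 0xf1915c9) (.leaf 0x0))))) (.node (.node (.node (.node (.leaf 0xcc3960d) (.leaf 0x78295a5)) (.node (.leaf 0xd34d5c9) (.leaf 0xa62560d))) (.node (.node (.leaf 0xe1ed60d) (.leaf 0x76595c9)) (.node (.leaf 0xf13160d) (.leaf 0x9a7560d)))) (.node (.node (.node (.leaf 0x537960f) (.leaf 0x4d2d60d)) (.node (.leaf 0x83455a5) (.leaf 0xabb160f))) (.node (.node (.leaf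 0xb4c15a5) (.leaf 0x896d5a5)) (.node (.leaf 0x69c95a5) (.leaf 0x0))))))) (.node (.node (.node (.node (.node (.node (.leaf 0xab095a5) (.leaf 0x4ef95a5)) (.node (.leaf 0xdeb560d) (.leaf 0x84d560f))) (.node (.node (.leaf 0xd1e15c9) (.leaf 0x8d3d60d)) (.node (.leaf 0xa0c560f) (.leaf 0x494d60f)))) (.node (.node (.node (.leaf 0xa6c15a5) (.leaf 0x81d560d)) (.node (.leaf 0xeb595c9) (.leaf 0xc3a160d))) (.node (.node (.leaf 0x6f1960f) (.leaf 0x1770)) (.node (.leaf 0xb7a55a5) (.leaf 0x0))))) (.node (.node (.node (.node (.leaf 0x52e160d) (.leaf 0xcfc160d)) (.node (.leaf 0x73ed5a5) (.leaf 0x4bb560f))) (.node (.node (.leaf 0x5d5d60d) (.leaf 0xad255a5)) (.node (.leaf 0x9b8960f) (.leaf 0xb2e15a5)))) (.node (.node (.node (.leaf 0x9f1960f) (.leaf 0xab215a5)) (.node (.leaf 0xf01d60f) (.leaf 0x4af55a5))) (.node (.node (.leaf 0xcc9560d) (.leaf 0xb4f95a5)) (.node (.leaf 0x838160d) (.leaf 0x0)))))) (.node (.node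 (.node (.node (.node (.leaf 0x5e2960d) (.leaf 0xe1b15a5)) (.node (.leaf 0x969560d) (.leaf 0x88415a5))) (.node (.node (.leaf 0xf57560d) (.leaf 0x184a)) (.node (.leaf 0x1686) (.leaf 0x1618)))) (.node (.node (.node (.leaf 0x5a6160d) (.leaf 0x9a7160f)) (.node (.leaf 0xf6095c9) (.leaf 0xed195a5))) (.node (.node (.leaf 0xdac560d) (.leaf 0xd8ad5a5)) (.node (.leaf 0x1682) (.leaf 0x0))))) (.node (.node (.node (.node (.leaf 0xa0ad5c9) (.leaf 0x4f1960d)) (.node (.leaf 0x4e8560d) (.leaf 0xf1055c9))) (.node (.node (.leaf 0xc3bd5a5) (.leaf 0xcc5d60d)) (.node (.leaf 0xc3f160d) (.leaf 0x0)))) (.node (.node (.node (.leaf 0xe58560d) (.leaf 0xc2c160d)) (.node (.leaf 0x822560d) (.leaf 0x6f2d60d))) (.node (.node (.leaf 0x428d60d) (.leaf 0x8d5d60f)) (.node (.leaf 0x8ef55c9) (.leaf 0x0)))))))) (.node (.node (.node (.node (.node (.node (.node (.leaf 0x64dd5c9) (.leaf 0x478160f)) (.node (.leaf 0x1c22) (.leaf 0x81b160d)))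 (.node (.node (.leaf 0x887160d) (.leaf 0xd6c55c9)) (.node (.leaf 0x988d5c9) (.leaf 0xab3960f)))) (.node (.node (.node (.leaf 0x541160d) (.leaf 0xd1e560d)) (.node (.leaf 0xdbc560d) (.leaf 0xf55d5a5))) (.node (.node (.leaf 0x9c315a5) (.leaf 0x835d60d)) (.node (.leaf 0x8d015a5) (.leaf 0x0))))) (.node (.node (.node (.node (.leaf 0x992160d) (.leaf 0xb6f960f)) (.node (.leaf 0xaad560f) (.leaf 0x907160d))) (.node (.node (.leaf 0xf90560d) (.leaf 0xcf3960d)) (.node (.leaf 0xc36160f) (.leaf 0x6f5960f)))) (.node (.node (.node (.leaf 0xea9d5c9) (.leaf 0x86855a5)) (.node (.leaf 0x41155c9) (.leaf 0xee0560d))) (.node (.node (.leaf 0xafc960d) (.leaf 0xce6560d)) (.node (.leaf 0xde895a5) (.leaf 0x0)))))) (.node (.node (.node (.node (.node (.leaf 0xcd6560d) (.leaf 0x821d60f)) (.node (.leaf 0xa8a15a5) (.leaf 0x4d8960d))) (.node (.node (.leaf 0x171e) (.leaf 0x94e560d)) (.node (.leaf 0x9a9160d) (.leaf 0xf9815a5))))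 (.node (.node (.node (.leaf 0x9fb160d) (.leaf 0x17b4)) (.node (.leaf 0x923160f) (.leaf 0x7a7160d))) (.node (.node (.leaf 0xcd0960d) (.leaf 0xb7d55a5)) (.node (.leaf 0x7a055c9) (.leaf 0x0))))) (.node (.node (.node (.node (.leaf 0xcf8d60d) (.leaf 0x898160f)) (.node (.leaf 0x185a) (.leaf 0x4add60d))) (.node (.node (.leaf 0xe32960d) (.leaf 0xc9dd60d)) (.node (.leaf 0x95515a5) (.leaf 0x0)))) (.node (.node (.node (.leaf 0x76315a5) (.leaf 0x996560f)) (.node (.leaf 0xb3bd5c9) (.leaf 0xdb555c9))) (.node (.node (.leaf 0xf8015a5) (.leaf 0x9cd55a5)) (.node (.leaf 0xd68560d) (.leaf 0x0))))))) (.node (.node (.node (.node (.node (.node (.leaf 0x15d8) (.leaf 0x412960d)) (.node (.leaf 0xf2fd60d) (.leaf 0xd08160f))) (.node (.node (.leaf 0x6f255a5) (.leaf 0xdfa560f)) (.node (.leaf 0xb30960f) (.leaf 0x85b15c9)))) (.node (.node (.node (.leaf 0xe5f960d) (.leaf 0x65a560d)) (.node (.leaf 0xafa15a5) (.leaf 0x40f15c9)))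 (.node (.node (.leaf 0x92215c9) (.leaf 0xa2b55c9)) (.node (.leaf 0x870560d) (.leaf 0x0))))) (.node (.node (.node (.node (.leaf 0x17be) (.leaf 0xc0d55a5)) (.node (.leaf 0x16f6) (.leaf 0x84c160f))) (.node (.node (.leaf 0x656960f) (.leaf 0x84795a5)) (.node (.leaf 0xb77560f) (.leaf 0xe5c15c9)))) (.node (.node (.node (.leaf 0x9d8d60f) (.leaf 0x16da)) (.node (.leaf 0x8b9560d) (.leaf 0x6f255c9))) (.node (.node (.leaf 0x1650) (.leaf 0xb50960d)) (.node (.leaf 0x929960f) (.leaf 0x0)))))) (.node (.node (.node (.node (.node (.leaf 0xb3f160f) (.leaf 0xb1d95a5)) (.node (.leaf 0xdf0560f) (.leaf 0xc97d60d))) (.node (.node (.leaf 0xc53960d) (.leaf 0xd7fd60d)) (.node (.leaf 0x95cd60d) (.leaf 0xb6cd60d)))) (.node (.node (.node (.leaf 0xaa8960f) (.leaf 0xac855a5)) (.node (.leaf 0xec495c9) (.leaf 0x8bd160f))) (.node (.node (.leaf 0xb43d60f) (.leaf 0xdf4160d)) (.node (.leaf 0xb3d55a5) (.leaf 0x0))))) (.node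 (.node (.node (.node (.leaf 0xdb9960f) (.leaf 0xb1d15c9)) (.node (.leaf 0xdcd160d) (.leaf 0x9d915c9))) (.node (.node (.leaf 0xc8fd5a5) (.leaf 0x7add60f)) (.node (.leaf 0xb9c960f) (.leaf 0x0)))) (.node (.node (.node (.leaf 0xc19960d) (.leaf 0x8e7d60d)) (.node (.leaf 0x886d60d) (.leaf 0xa2a960d))) (.node (.node (.leaf 0x89c960f) (.leaf 0xdda960d)) (.node (.leaf 0xd3a560f) (.leaf 0x0))))))))))

/-- packed table -/
noncomputable def cov10_rll : BTree := (.node (.node (.node (.node (.node (.node (.node (.node (.node (.leaf 0x400d5c9) (.leaf 0xb69d5a5)) (.node (.leaf 0xc7e160d) (.leaf 0xf7dd60d))) (.node (.node (.leaf 0x5e4d5c9) (.leaf 0x79395c9)) (.node (.leaf 0xa76d5c9) (.leaf 0x411160d)))) (.node (.node (.node (.leaf 0xebc55c9) (.leaf 0xb5555c9)) (.node (.leaf 0x669560f) (.leaf 0x40f95a5))) (.node (.node (.leaf 0x9b6560d) (.leaf 0xbad560f)) (.node (.leaf 0x42e160d) (.leaf 0x0))))) (.node (.node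 (.node (.node (.leaf 0xb15160d) (.leaf 0x4b815a5)) (.node (.leaf 0xf4fd60f) (.leaf 0x73555a5))) (.node (.node (.leaf 0xc54d60d) (.leaf 0xd7dd60d)) (.node (.leaf 0x765960f) (.leaf 0x16a4)))) (.node (.node (.node (.leaf 0xf23560d) (.leaf 0xf4215c9)) (.node (.leaf 0xaa5960f) (.leaf 0x8d6160d))) (.node (.node (.leaf 0xa69160d) (.leaf 0xa4f95a5)) (.node (.leaf 0x9a1560f) (.leaf 0x0)))))) (.node (.node (.node (.node (.node (.leaf 0x15ee) (.leaf 0xb7d560d)) (.node (.leaf 0x970960f) (.leaf 0x8e455a5))) (.node (.node (.leaf 0xdac15c9) (.leaf 0x9fad60f)) (.node (.leaf 0xac6160f) (.leaf 0xb7a960d)))) (.node (.node (.node (.leaf 0xebed60d) (.leaf 0x95ad60d)) (.node (.leaf 0xe95160f) (.leaf 0xcf4560f))) (.node (.node (.leaf 0x17f8) (.leaf 0xc4655a5)) (.node (.leaf 0xf2e960d) (.leaf 0x0))))) (.node (.node (.node (.node (.leaf 0x9ac960d) (.leaf 0x4e3960f)) (.node (.leaf 0x88095a5) (.leaf 0x87ad5c9)))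 (.node (.node (.leaf 0xe1d160d) (.leaf 0x172c)) (.node (.leaf 0x778560f) (.leaf 0x92315a5)))) (.node (.node (.node (.leaf 0x597d60d) (.leaf 0x92ad5a5)) (.node (.leaf 0x58515c9) (.leaf 0xc3d960f))) (.node (.node (.leaf 0xbaa55c9) (.leaf 0xf64560f)) (.node (.leaf 0x87095c9) (.leaf 0x0))))))) (.node (.node (.node (.node (.node (.node (.leaf 0x8ecd60d) (.leaf 0x8c255a5)) (.node (.leaf 0xb6cd5a5) (.leaf 0xa94d5c9))) (.node (.node (.leaf 0x53715a5) (.leaf 0x8e9560f)) (.node (.leaf 0xa0c160f) (.leaf 0xc79960f)))) (.node (.node (.node (.leaf 0x88e15c9) (.leaf 0xb62160f)) (.node (.leaf 0xe15560d) (.leaf 0x8a7d60f))) (.node (.node (.leaf 0x9c2d5a5) (.leaf 0x679d60d)) (.node (.leaf 0xb69560f) (.leaf 0x0))))) (.node (.node (.node (.node (.leaf 0xd9115c9) (.leaf 0xcf295a5)) (.node (.leaf 0xa3395c9) (.leaf 0x1776))) (.node (.node (.leaf 0xeaf560d) (.leaf 0x89d15a5)) (.node (.leaf 0xc15d60d) (.leaf 0xb4b560f))))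 (.node (.node (.node (.leaf 0x735560d) (.leaf 0x942160d)) (.node (.leaf 0x81d55a5) (.leaf 0xf1415a5))) (.node (.node (.leaf 0x15f8) (.leaf 0xce5560d)) (.node (.leaf 0xf7615c9) (.leaf 0x0)))))) (.node (.node (.node (.node (.node (.leaf 0x89f560d) (.leaf 0xb3dd5a5)) (.node (.leaf 0x884160f) (.leaf 0xa9695c9))) (.node (.node (.leaf 0x920d60d) (.leaf 0xa6d15c9)) (.node (.leaf 0x886d60f) (.leaf 0x983960f)))) (.node (.node (.node (.leaf 0xf70160f) (.leaf 0xb69560d)) (.node (.leaf 0xfa0160d) (.leaf 0xf6815a5))) (.node (.node (.leaf 0x57a55a5) (.leaf 0x688160d)) (.node (.leaf 0x1758) (.leaf 0x0))))) (.node (.node (.node (.node (.leaf 0xb85960f) (.leaf 0x542560f)) (.node (.leaf 0x53795c9) (.leaf 0xcacd60d))) (.node (.node (.leaf 0x49795a5) (.leaf 0xa7cd60d)) (.node (.leaf 0xa2d560d) (.leaf 0x0)))) (.node (.node (.node (.leaf 0xf5e960d) (.leaf 0xddc160d)) (.node (.leaf 0x49c160d) (.leaf 0x1ae4)))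 (.node (.node (.leaf 0xc9cd60f) (.leaf 0xc4c95c9)) (.node (.leaf 0x967960d) (.leaf 0x0)))))))) (.node (.node (.node (.node (.node (.node (.node (.leaf 0x7ad160f) (.leaf 0xe0d15c9)) (.node (.leaf 0x69b960d) (.leaf 0x85095c9))) (.node (.node (.leaf 0x749d60d) (.leaf 0xd6dd60d)) (.node (.leaf 0xf7e960d) (.leaf 0x412560d)))) (.node (.node (.node (.leaf 0x178a) (.leaf 0x970560d)) (.node (.leaf 0x597d5c9) (.leaf 0xe5d95c9))) (.node (.node (.leaf 0xa0f95a5) (.leaf 0xa93960d)) (.node (.leaf 0x9c8d60d) (.leaf 0x0))))) (.node (.node (.node (.node (.leaf 0x96b55a5) (.leaf 0x96b560f)) (.node (.leaf 0x8cb95c9) (.leaf 0xd8315a5))) (.node (.node (.leaf 0xca4160f) (.leaf 0xd61d60d)) (.node (.leaf 0xa91960d) (.leaf 0x4ad15a5)))) (.node (.node (.node (.leaf 0xe50560d) (.leaf 0x4b4560d)) (.node (.leaf 0x916d5a5) (.leaf 0x96215c9))) (.node (.node (.leaf 0x49f15c9) (.leaf 0x685d60d)) (.node (.leaf 0x91f160d)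 (.leaf 0x0)))))) (.node (.node (.node (.node (.node (.leaf 0x9aa15c9) (.leaf 0x948160f)) (.node (.leaf 0x886560f) (.leaf 0xda6560f))) (.node (.node (.leaf 0x177a) (.leaf 0x41495a5)) (.node (.leaf 0x482960d) (.leaf 0xe90160f)))) (.node (.node (.node (.leaf 0x89f560f) (.leaf 0xb8d55a5)) (.node (.leaf 0xf9a160d) (.leaf 0xad895c9))) (.node (.node (.leaf 0xec4560d) (.leaf 0xa9a160d)) (.node (.leaf 0x8a7d60d) (.leaf 0x0))))) (.node (.node (.node (.node (.leaf 0x597160d) (.leaf 0x1866)) (.node (.leaf 0x5f3160f) (.leaf 0xe5955c9))) (.node (.node (.leaf 0x16b2) (.leaf 0xe7295c9)) (.node (.leaf 0x7a5960d) (.leaf 0xb8495c9)))) (.node (.node (.node (.leaf 0xb5d560d) (.leaf 0xe75560d)) (.node (.leaf 0x1708) (.leaf 0x9a7560f))) (.node (.node (.leaf 0xa46d5c9) (.leaf 0xc77d5c9)) (.node (.leaf 0xa9cd5a5) (.leaf 0x0))))))) (.node (.node (.node (.node (.node (.node (.leaf 0x8ef160d) (.leaf 0x7ae95a5)) (.node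 (.leaf 0x5a395a5) (.leaf 0x938560d))) (.node (.node (.leaf 0xf25160f) (.leaf 0xb8595a5)) (.node (.leaf 0xf9f160d) (.leaf 0x65a560f)))) (.node (.node (.node (.leaf 0xef7960d) (.leaf 0xcb6960d)) (.node (.leaf 0xcc4d60d) (.leaf 0xe6095a5))) (.node (.node (.leaf 0x1608) (.leaf 0xd7a960d)) (.node (.leaf 0xdee95c9) (.leaf 0x0))))) (.node (.node (.node (.node (.leaf 0xb3d560d) (.leaf 0x4ad160d)) (.node (.leaf 0x706d5a5) (.leaf 0xceb560d))) (.node (.node (.leaf 0x700d5c9) (.leaf 0x1790)) (.node (.leaf 0x9ad95a5) (.leaf 0xb80960d)))) (.node (.node (.node (.leaf 0x9b2560d) (.leaf 0x1862)) (.node (.leaf 0x82515a5) (.leaf 0x8ccd5a5))) (.node (.node (.leaf 0xb54160d) (.leaf 0xcbc15a5)) (.node (.leaf 0xf06160d) (.leaf 0x0)))))) (.node (.node (.node (.node (.node (.leaf 0x96795a5) (.leaf 0xd78160d)) (.node (.leaf 0x4b4160d) (.leaf 0xd17960d))) (.node (.node (.leaf 0xf21560d) (.leaf 0xd43560d)) (.node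 (.leaf 0xcc5960d) (.leaf 0x423d5c9)))) (.node (.node (.node (.leaf 0xaea55c9) (.leaf 0xe8a960d)) (.node (.leaf 0xb3755a5) (.leaf 0x9e595a5))) (.node (.node (.leaf 0xa05d60d) (.leaf 0xe42d60f)) (.node (.leaf 0xdd7d60d) (.leaf 0x0))))) (.node (.node (.node (.node (.leaf 0xdba560f) (.leaf 0x9f5160d)) (.node (.leaf 0xb8d15a5) (.leaf 0xf8a160d))) (.node (.node (.leaf 0xb54960f) (.leaf 0x97055a5)) (.node (.leaf 0x83895a5) (.leaf 0x0)))) (.node (.node (.node (.leaf 0xd24d60d) (.leaf 0x8f8160d)) (.node (.leaf 0x802960f) (.leaf 0x928d60f))) (.node (.node (.leaf 0x4fa55a5) (.leaf 0x952960d)) (.node (.leaf 0xc6b160f) (.leaf 0x0))))))))) (.node (.node (.node (.node (.node (.node (.node (.node (.leaf 0x80195c9) (.leaf 0xeca15c9)) (.node (.leaf 0x87f560d) (.leaf 0x6ac560f))) (.node (.node (.leaf 0x5e615c9) (.leaf 0x8ecd60f)) (.node (.leaf 0x66c560f) (.leaf 0xd17560f)))) (.node (.node (.node (.leaf 0xcf6d5c9)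 (.leaf 0x728560d)) (.node (.leaf 0x175e) (.leaf 0xe7b560d))) (.node (.node (.leaf 0x6acd60d) (.leaf 0x93bd60f)) (.node (.leaf 0x42ed60d) (.leaf 0x0))))) (.node (.node (.node (.node (.leaf 0x56ad5a5) (.leaf 0x165e)) (.node (.leaf 0x8d115c9) (.leaf 0x87795c9))) (.node (.node (.leaf 0xca1960d) (.leaf 0xa62560f)) (.node (.leaf 0xc8b160d) (.leaf 0x9d895c9)))) (.node (.node (.node (.leaf 0xcf3160d) (.leaf 0x6a2d5c9)) (.node (.leaf 0xc8115c9) (.leaf 0x94e55c9))) (.node (.node (.leaf 0x5d8560f) (.leaf 0x66f960d)) (.node (.leaf 0x856960d) (.leaf 0x0)))))) (.node (.node (.node (.node (.node (.leaf 0x1640) (.leaf 0xf29d5a5)) (.node (.leaf 0xaead60f) (.leaf 0xd29d60f))) (.node (.node (.leaf 0x847160f) (.leaf 0xcf4d60d)) (.node (.leaf 0xb6e560d) (.leaf 0xac415a5)))) (.node (.node (.node (.leaf 0xd97960d) (.leaf 0x8f8160f)) (.node (.leaf 0x88f960d) (.leaf 0x6d8d60f))) (.node (.node (.leaf 0xc6c55a5)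 (.leaf 0x522960d)) (.node (.leaf 0x4a7160d) (.leaf 0x0))))) (.node (.node (.node (.node (.leaf 0x9c3d60d) (.leaf 0x564160d)) (.node (.leaf 0x597d5a5) (.leaf 0xd56160d))) (.node (.node (.leaf 0xd5b560d) (.leaf 0x835d60f)) (.node (.leaf 0x526d5a5) (.leaf 0x4b5d60f)))) (.node (.node (.node (.leaf 0x1718) (.leaf 0xf41d60f)) (.node (.leaf 0x645160f) (.leaf 0x40f960d))) (.node (.node (.leaf 0x1ab4) (.leaf 0x17ca)) (.node (.leaf 0x87395c9) (.leaf 0x0))))))) (.node (.node (.node (.node (.node (.node (.leaf 0x79395a5) (.leaf 0x88f960f)) (.node (.leaf 0x85d55a5) (.leaf 0xf89d60d))) (.node (.node (.leaf 0x888560d) (.leaf 0x41255c9)) (.node (.leaf 0x92b560d) (.leaf 0xc69160d)))) (.node (.node (.node (.leaf 0xd6155a5) (.leaf 0xdfd95c9)) (.node (.leaf 0xd8815c9) (.leaf 0x8c7d60d))) (.node (.node (.leaf 0xae355a5) (.leaf 0xeed960d)) (.node (.leaf 0xee395a5) (.leaf 0x0))))) (.node (.node (.node (.node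 (.leaf 0x9a155c9) (.leaf 0xb42d5c9)) (.node (.leaf 0xa2a95c9) (.leaf 0x537d60d))) (.node (.node (.leaf 0x8a995a5) (.leaf 0x868d5c9)) (.node (.leaf 0x81655c9) (.leaf 0x4f2560f)))) (.node (.node (.node (.leaf 0xeb8d60d) (.leaf 0x6cfd5c9)) (.node (.leaf 0x824d5a5) (.leaf 0x9ca160d))) (.node (.node (.leaf 0xbae160d) (.leaf 0x428d5a5)) (.node (.leaf 0xb7b960d) (.leaf 0x0)))))) (.node (.node (.node (.node (.node (.leaf 0x9e3960d) (.leaf 0xd79560d)) (.node (.leaf 0x92015c9) (.leaf 0x537960d))) (.node (.node (.leaf 0x66c55a5) (.leaf 0x9b455a5)) (.node (.leaf 0xc3b960f) (.leaf 0x94e95c9)))) (.node (.node (.node (.leaf 0xc51d5a5) (.leaf 0x1860)) (.node (.leaf 0xe40560d) (.leaf 0xa3b160d))) (.node (.node (.leaf 0x9f3960d) (.leaf 0xeedd60d)) (.node (.leaf 0xe0615c9) (.leaf 0x0))))) (.node (.node (.node (.node (.leaf 0x883d5a5) (.leaf 0x992160f)) (.node (.leaf 0x8b755c9) (.leaf 0xd28560f))) (.node (.node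 (.leaf 0xe3e960d) (.leaf 0x55955a5)) (.node (.leaf 0x92c95c9) (.leaf 0x0)))) (.node (.node (.node (.leaf 0xdc9160f) (.leaf 0xefd160d)) (.node (.leaf 0x1850) (.leaf 0x5d1960d))) (.node (.node (.leaf 0x16bc) (.leaf 0xe4f160d)) (.node (.leaf 0x9ac95c9) (.leaf 0x0)))))))) (.node (.node (.node (.node (.node (.node (.node (.leaf 0x7a7160f) (.leaf 0xf75d5c9)) (.node (.leaf 0x92c960d) (.leaf 0x88915c9))) (.node (.node (.leaf 0x5e215c9) (.leaf 0x8de55a5)) (.node (.leaf 0x92bd5c9) (.leaf 0xda8d60d)))) (.node (.node (.node (.leaf 0x895560d) (.leaf 0x973160d)) (.node (.leaf 0x54995a5) (.leaf 0x87915c9))) (.node (.node (.leaf 0xdc195a5) (.leaf 0xa86160d)) (.node (.leaf 0xdc1d60d) (.leaf 0x0))))) (.node (.node (.node (.node (.leaf 0x8fa160f) (.leaf 0xae2d60f)) (.node (.leaf 0x955160d) (.leaf 0x928d5a5))) (.node (.node (.leaf 0x83b55c9) (.leaf 0xb7215a5)) (.node (.leaf 0x9a755c9) (.leaf 0xeb0d60d))))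 (.node (.node (.node (.leaf 0xcd7560d) (.leaf 0xe71560f)) (.node (.leaf 0x81ad5a5) (.leaf 0x99d560d))) (.node (.node (.leaf 0xa30160d) (.leaf 0xef5d60f)) (.node (.leaf 0xaed560d) (.leaf 0x0)))))) (.node (.node (.node (.node (.node (.leaf 0x5a9960f) (.leaf 0xa15d5a5)) (.node (.leaf 0xb10960d) (.leaf 0x9d255a5))) (.node (.node (.leaf 0xa35160d) (.leaf 0xd4ed60d)) (.node (.leaf 0x5e155a5) (.leaf 0x88355a5)))) (.node (.node (.node (.leaf 0xdfb960d) (.leaf 0xd25d5a5)) (.node (.leaf 0x977d5c9) (.leaf 0xef515a5))) (.node (.node (.leaf 0xa92d5a5) (.leaf 0x9f1d60f)) (.node (.leaf 0x897560d) (.leaf 0x0))))) (.node (.node (.node (.node (.leaf 0x65795a5) (.leaf 0xaa8160d)) (.node (.leaf 0xf06560f) (.leaf 0xd91d60f))) (.node (.node (.leaf 0xb6f95a5) (.leaf 0xeb855a5)) (.node (.leaf 0x6f215c9) (.leaf 0x0)))) (.node (.node (.node (.leaf 0xb57960d) (.leaf 0x4b8160d)) (.node (.leaf 0xec7960d) (.leaf 0x41115a5)))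 (.node (.node (.leaf 0x526d60f) (.leaf 0xf48160f)) (.node (.leaf 0xf8e55c9) (.leaf 0x0))))))) (.node (.node (.node (.node (.node (.node (.leaf 0x899d60f) (.leaf 0xe43160d)) (.node (.leaf 0x17ce) (.leaf 0x8df15a5))) (.node (.node (.leaf 0xf08d60f) (.leaf 0xf8555a5)) (.node (.leaf 0xe3ed60d) (.leaf 0x88395a5)))) (.node (.node (.node (.leaf 0x183a) (.leaf 0x18a8)) (.node (.leaf 0x59715a5) (.leaf 0xdbdd5c9))) (.node (.node (.leaf 0x9c995a5) (.leaf 0x68715a5)) (.node (.leaf 0xa61560d) (.leaf 0x0))))) (.node (.node (.node (.node (.leaf 0xab3160d) (.leaf 0x9b6160f)) (.node (.leaf 0x7a715a5) (.leaf 0xf19960f))) (.node (.node (.leaf 0x54495a5) (.leaf 0xa6915a5)) (.node (.leaf 0x95ad60f) (.leaf 0x4ef95c9)))) (.node (.node (.node (.leaf 0x597d60f) (.leaf 0xa42560d)) (.node (.leaf 0xa84d5c9) (.leaf 0x40fd60d))) (.node (.node (.leaf 0x177e) (.leaf 0xb6dd60d)) (.node (.leaf 0xc59d60d) (.leaf 0x0))))))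 (.node (.node (.node (.node (.node (.leaf 0xb15160f) (.leaf 0xb5d55a5)) (.node (.leaf 0x99f160d) (.leaf 0x41215a5))) (.node (.node (.leaf 0xc52d60d) (.leaf 0xd7e560d)) (.node (.leaf 0x42f95c9) (.leaf 0xedf560f)))) (.node (.node (.node (.leaf 0x98355c9) (.leaf 0x85b95a5)) (.node (.leaf 0xa03560d) (.leaf 0x807960f))) (.node (.node (.leaf 0x57a560d) (.leaf 0x5c715c9)) (.node (.leaf 0x5a3960f) (.leaf 0x0))))) (.node (.node (.node (.node (.leaf 0xa4255a5) (.leaf 0x928d60d)) (.node (.leaf 0xb1d960d) (.leaf 0x46215c9))) (.node (.node (.leaf 0xfa6d5a5) (.leaf 0x8dc960d)) (.node (.leaf 0x92c960f) (.leaf 0x0)))) (.node (.node (.node (.leaf 0x951960d) (.leaf 0x83595a5)) (.node (.leaf 0x883960d) (.leaf 0x6f595a5))) (.node (.node (.leaf 0x9ccd60f) (.leaf 0xd35960d)) (.node (.leaf 0xad7560d) (.leaf 0x0))))))))))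

/-- packed table -/
noncomputable def cov10_rlr : BTree := (.node (.node (.node (.node (.node (.node (.node (.node (.node (.leaf 0xf96160f) (.leaf 0xf6a55a5)) (.node (.leaf 0xb39160f) (.leaf 0xc02560d))) (.node (.node (.leaf 0xc18560d) (.leaf 0x92f560d)) (.node (.leaf 0xf9a560d) (.leaf 0x63455a5)))) (.node (.node (.node (.leaf 0xa52d5a5) (.leaf 0x1762)) (.node (.leaf 0xa6a560f) (.leaf 0xa9a15a5))) (.node (.node (.leaf 0xe1855c9) (.leaf 0xbacd60f)) (.node (.leaf 0x830160d) (.leaf 0x0))))) (.node (.node (.node (.node (.leaf 0xd9b560d) (.leaf 0x188c)) (.node (.leaf 0x8cd95c9) (.leaf 0x91395a5))) (.node (.node (.leaf 0x8a4d60f) (.leaf 0x4ded5a5)) (.node (.leaf 0x50e55a5) (.leaf 0xb4bd5c9)))) (.node (.node (.node (.leaf 0x99c960d) (.leaf 0x4b5d60d)) (.node (.leaf 0xa6bd60d) (.leaf 0xa48160d))) (.node (.node (.leaf 0x4ad560f) (.leaf 0xe70960d)) (.node (.leaf 0x1664) (.leaf 0x0)))))) (.node (.node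 (.node (.node (.node (.leaf 0x1632) (.leaf 0xd86560f)) (.node (.leaf 0xb0dd60d) (.leaf 0xe71d60f))) (.node (.node (.leaf 0xe08560d) (.leaf 0xdfa160f)) (.node (.leaf 0x92e960d) (.leaf 0x4b4160f)))) (.node (.node (.node (.leaf 0xe98560d) (.leaf 0x559560d)) (.node (.leaf 0x91715c9) (.leaf 0xe5e960d))) (.node (.node (.leaf 0xf92960d) (.leaf 0xb41960d)) (.node (.leaf 0x6dcd5c9) (.leaf 0x0))))) (.node (.node (.node (.node (.leaf 0x4ef960f) (.leaf 0x8e4560f)) (.node (.leaf 0xf2ed5c9) (.leaf 0xe9915a5))) (.node (.node (.leaf 0x6bc160f) (.leaf 0x4b5560f)) (.node (.leaf 0xa6c160d) (.leaf 0x5a5d60f)))) (.node (.node (.node (.leaf 0x9f1960d) (.leaf 0xb3515c9)) (.node (.leaf 0x18a0) (.leaf 0xea515a5))) (.node (.node (.leaf 0xf6115a5) (.leaf 0x8cd560d)) (.node (.leaf 0xb2a55a5) (.leaf 0x0))))))) (.node (.node (.node (.node (.node (.node (.leaf 0x92f560f) (.leaf 0xf08560d)) (.node (.leaf 0xd2ed5c9) (.leaf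 0xdfe960d))) (.node (.node (.leaf 0xc89d60d) (.leaf 0x6d8d60d)) (.node (.leaf 0xa0d960f) (.leaf 0xb5bd60f)))) (.node (.node (.node (.leaf 0xf0015c9) (.leaf 0x4f255c9)) (.node (.leaf 0x546d5a5) (.leaf 0xc5795a5))) (.node (.node (.leaf 0x9c015a5) (.leaf 0xb9e15a5)) (.node (.leaf 0xb69d60f) (.leaf 0x0))))) (.node (.node (.node (.node (.leaf 0xe2dd5a5) (.leaf 0x1894)) (.node (.leaf 0x41115c9) (.leaf 0x80595c9))) (.node (.node (.leaf 0xa32d5c9) (.leaf 0x636160f)) (.node (.leaf 0x41515c9) (.leaf 0x9b6160d)))) (.node (.node (.node (.leaf 0xe8f560d) (.leaf 0x1838)) (.node (.leaf 0x68815c9) (.leaf 0x411d5c9))) (.node (.node (.leaf 0x61715c9) (.leaf 0x411960d)) (.node (.leaf 0x1634) (.leaf 0x0)))))) (.node (.node (.node (.node (.node (.leaf 0x87fd60f) (.leaf 0x822560f)) (.node (.leaf 0xaa7d5a5) (.leaf 0x16e2))) (.node (.node (.leaf 0xa36960d) (.leaf 0xafc960f)) (.node (.leaf 0x9b3160d) (.leaf 0xc4895c9))))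 (.node (.node (.node (.leaf 0xea755c9) (.leaf 0x8a4d5a5)) (.node (.leaf 0x18ac) (.leaf 0x9bad5a5))) (.node (.node (.leaf 0x641560d) (.leaf 0xb3e560d)) (.node (.leaf 0x15c0) (.leaf 0x0))))) (.node (.node (.node (.node (.leaf 0x519d5a5) (.leaf 0x896d60d)) (.node (.leaf 0x91a960d) (.leaf 0xa6e95c9))) (.node (.node (.leaf 0x4b815c9) (.leaf 0xccd160d)) (.node (.leaf 0xc3dd60d) (.leaf 0x0)))) (.node (.node (.node (.leaf 0xef8960d) (.leaf 0x98f560f)) (.node (.leaf 0x8a755c9) (.leaf 0xb20560f))) (.node (.node (.leaf 0xedfd5c9) (.leaf 0xb3e560f)) (.node (.leaf 0xe91160d) (.leaf 0x0)))))))) (.node (.node (.node (.node (.node (.node (.node (.leaf 0x73ed60f) (.leaf 0x4ded60f)) (.node (.leaf 0x17f2) (.leaf 0xf35d60f))) (.node (.node (.leaf 0x411560d) (.leaf 0xa8515a5)) (.node (.leaf 0xe44560d) (.leaf 0x9aa160d)))) (.node (.node (.node (.leaf 0x494160d) (.leaf 0x166c)) (.node (.leaf 0xe3c55a5) (.leaf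 0xc5e960d))) (.node (.node (.leaf 0xb8455a5) (.leaf 0x497960d)) (.node (.leaf 0xddf95c9) (.leaf 0x0))))) (.node (.node (.node (.node (.leaf 0x83655c9) (.leaf 0x96c160f)) (.node (.leaf 0x8cc15c9) (.leaf 0x5e4d60f))) (.node (.node (.leaf 0x799d60d) (.leaf 0x95555a5)) (.node (.leaf 0x82e960f) (.leaf 0xc80160d)))) (.node (.node (.node (.leaf 0xb5cd60d) (.leaf 0x6dcd60d)) (.node (.leaf 0xa0e15c9) (.leaf 0xd9dd60d))) (.node (.node (.leaf 0x800560d) (.leaf 0x411d60d)) (.node (.leaf 0x64dd60f) (.leaf 0x0)))))) (.node (.node (.node (.node (.node (.leaf 0xb5dd5a5) (.leaf 0xa1495a5)) (.node (.leaf 0xded15a5) (.leaf 0x5d195a5))) (.node (.node (.leaf 0x6b515a5) (.leaf 0xd4d960d)) (.node (.leaf 0xb43960d) (.leaf 0x80795a5)))) (.node (.node (.node (.leaf 0xf47160d) (.leaf 0x16b6)) (.node (.leaf 0x6ac560d) (.leaf 0x49bd60f))) (.node (.node (.leaf 0xb39960d) (.leaf 0x54255c9)) (.node (.leaf 0xb3995c9) (.leaf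 0x0))))) (.node (.node (.node (.node (.leaf 0xba195c9) (.leaf 0xaa8960d)) (.node (.leaf 0xd3695c9) (.leaf 0x16e6))) (.node (.node (.leaf 0x167c) (.leaf 0xa5b160d)) (.node (.leaf 0xb2715a5) (.leaf 0x0)))) (.node (.node (.node (.leaf 0xa3bd60d) (.leaf 0xab495c9)) (.node (.leaf 0xb3e55a5) (.leaf 0x99ed5a5))) (.node (.node (.leaf 0x60755a5) (.leaf 0xc03960d)) (.node (.leaf 0xa9b15a5) (.leaf 0x0))))))) (.node (.node (.node (.node (.node (.node (.leaf 0x84fd60d) (.leaf 0x85415a5)) (.node (.leaf 0x9c8d5c9) (.leaf 0x8c1d60d))) (.node (.node (.leaf 0xa4ed5a5) (.leaf 0xe8e960d)) (.node (.leaf 0xf57160d) (.leaf 0x6bd160d)))) (.node (.node (.node (.leaf 0x4e8d5a5) (.leaf 0x58295c9)) (.node (.leaf 0xa96960f) (.leaf 0x4ef960d))) (.node (.node (.leaf 0x6cfd60d) (.leaf 0xb2a160f)) (.node (.leaf 0x700d60d) (.leaf 0x0))))) (.node (.node (.node (.node (.leaf 0x9a055c9) (.leaf 0x410160d)) (.node (.leaf 0xb2915a5)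 (.leaf 0x99c960f))) (.node (.node (.leaf 0x16aa) (.leaf 0x66955a5)) (.node (.leaf 0x66955c9) (.leaf 0x7ae95c9)))) (.node (.node (.node (.leaf 0xf99160d) (.leaf 0x837560f)) (.node (.leaf 0x186c) (.leaf 0xa0b95c9))) (.node (.node (.leaf 0x8abd60d) (.leaf 0x418d5a5)) (.node (.leaf 0x9ccd5c9) (.leaf 0x0)))))) (.node (.node (.node (.node (.node (.leaf 0x5e2160d) (.leaf 0xac115c9)) (.node (.leaf 0x1638) (.leaf 0x82115a5))) (.node (.node (.leaf 0x65a55a5) (.leaf 0x944560d)) (.node (.leaf 0x42ed5c9) (.leaf 0x84c15c9)))) (.node (.node (.node (.leaf 0x6d5160d) (.leaf 0xa89560d)) (.node (.leaf 0xf3815a5) (.leaf 0x7ad160d))) (.node (.node (.leaf 0xe06960d) (.leaf 0xade55a5)) (.node (.leaf 0xa37d60d) (.leaf 0x0))))) (.node (.node (.node (.node (.leaf 0xe8d95a5) (.leaf 0x8fc560d)) (.node (.leaf 0x17a0) (.leaf 0x40f55c9))) (.node (.node (.leaf 0xf54560f) (.leaf 0xdfed60d)) (.node (.leaf 0xd9e160d) (.leaf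 0x0)))) (.node (.node (.node (.leaf 0xdb5d60d) (.leaf 0x90095c9)) (.node (.leaf 0x423d60d) (.leaf 0x41295c9))) (.node (.node (.leaf 0xce5960d) (.leaf 0xe68560d)) (.node (.leaf 0x94055c9) (.leaf 0x0))))))))) (.node (.node (.node (.node (.node (.node (.node (.node (.leaf 0x80115c9) (.leaf 0x410d60d)) (.node (.leaf 0x519d5c9) (.leaf 0xc2395c9))) (.node (.node (.leaf 0x5e295c9) (.leaf 0xd6e560d)) (.node (.leaf 0x66d960f) (.leaf 0xacdd60f)))) (.node (.node (.node (.leaf 0xacc95a5) (.leaf 0xaea95a5)) (.node (.leaf 0xb1795a5) (.leaf 0x5d855a5))) (.node (.node (.leaf 0xb0395a5) (.leaf 0x4ad55c9)) (.node (.leaf 0xfa2560f) (.leaf 0x0))))) (.node (.node (.node (.node (.leaf 0x8d8560f) (.leaf 0xef7560d)) (.node (.leaf 0xcc6160d) (.leaf 0xb2d960d))) (.node (.node (.leaf 0x8a4d60d) (.leaf 0xf01160d)) (.node (.leaf 0x9e0960d) (.leaf 0xc5b560d)))) (.node (.node (.node (.leaf 0x629560d) (.leaf 0xa6415a5))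 (.node (.leaf 0xa33960d) (.leaf 0xbad560d))) (.node (.node (.leaf 0xa2c15a5) (.leaf 0x54115c9)) (.node (.leaf 0x1ac4) (.leaf 0x0)))))) (.node (.node (.node (.node (.node (.leaf 0xa94560d) (.leaf 0xf57d5a5)) (.node (.leaf 0xa49960f) (.leaf 0xb4b560d))) (.node (.node (.leaf 0x444560f) (.leaf 0x826d5c9)) (.node (.leaf 0xb4d960d) (.leaf 0xed6d5a5)))) (.node (.node (.node (.leaf 0xa4955a5) (.leaf 0xd87d60d)) (.node (.leaf 0xa3ad5a5) (.leaf 0x89d960d))) (.node (.node (.leaf 0xe0a160f) (.leaf 0x81d960d)) (.node (.leaf 0x8a5560d) (.leaf 0x0))))) (.node (.node (.node (.node (.leaf 0xd1655a5) (.leaf 0x817d5a5)) (.node (.leaf 0x93255c9) (.leaf 0xb1f160f))) (.node (.node (.leaf 0xe1cd60d) (.leaf 0xa4f960d)) (.node (.leaf 0x92e560f) (.leaf 0x4aa15c9)))) (.node (.node (.node (.leaf 0xdf2560d) (.leaf 0x41515a5)) (.node (.leaf 0xab2160f) (.leaf 0xb1e560f))) (.node (.node (.leaf 0x82195a5) (.leaf 0x90c560d))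 (.node (.leaf 0xd34960d) (.leaf 0x0))))))) (.node (.node (.node (.node (.node (.node (.leaf 0x884560d) (.leaf 0x988d60d)) (.node (.leaf 0x6f3160f) (.leaf 0xb43d60d))) (.node (.node (.leaf 0xc7cd5c9) (.leaf 0x927d60f)) (.node (.leaf 0xa0ad60d) (.leaf 0x6b5160d)))) (.node (.node (.node (.leaf 0xd80960d) (.leaf 0xf22560f)) (.node (.leaf 0xcafd5c9) (.leaf 0x77e15a5))) (.node (.node (.leaf 0xdb7960d) (.leaf 0x671960f)) (.node (.leaf 0xac755a5) (.leaf 0x0))))) (.node (.node (.node (.node (.leaf 0xafc15a5) (.leaf 0x59b95a5)) (.node (.leaf 0x7ad15a5) (.leaf 0xcead60d))) (.node (.node (.leaf 0x4aa15a5) (.leaf 0xf0e560d)) (.node (.leaf 0x549960f) (.leaf 0xac7560d)))) (.node (.node (.node (.leaf 0x6acd5c9) (.leaf 0x93b560f)) (.node (.leaf 0x686d5c9) (.leaf 0xb54d5a5))) (.node (.node (.leaf 0xb7115c9) (.leaf 0x911d60d)) (.node (.leaf 0xb08160d) (.leaf 0x0)))))) (.node (.node (.node (.node (.node (.leaf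 0x5e3560d) (.leaf 0xc2455c9)) (.node (.leaf 0x62955a5) (.leaf 0xc2215c9))) (.node (.node (.leaf 0x627160f) (.leaf 0xdf4d5a5)) (.node (.leaf 0x821160d) (.leaf 0xcaa55c9)))) (.node (.node (.node (.leaf 0x90715a5) (.leaf 0x815960f)) (.node (.leaf 0xb3795a5) (.leaf 0xe7fd5c9))) (.node (.node (.leaf 0x4b5560d) (.leaf 0xee5d60f)) (.node (.leaf 0x8d5d60d) (.leaf 0x0))))) (.node (.node (.node (.node (.leaf 0x735560f) (.leaf 0xac555a5)) (.node (.leaf 0x4b555c9) (.leaf 0xb4c160d))) (.node (.node (.leaf 0x17a4) (.leaf 0xe6cd60d)) (.node (.leaf 0xc3e560d) (.leaf 0x0)))) (.node (.node (.node (.leaf 0x8b7560d) (.leaf 0x8ffd5c9)) (.node (.leaf 0xc22960d) (.leaf 0xded560f))) (.node (.node (.leaf 0x16ca) (.leaf 0xdfcd60d)) (.node (.leaf 0x57455a5) (.leaf 0x0)))))))) (.node (.node (.node (.node (.node (.node (.node (.leaf 0x877960d) (.leaf 0x1846)) (.node (.leaf 0xf27d60f) (.leaf 0x16ee))) (.node (.node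 (.leaf 0xd09d5c9) (.leaf 0xf1e960d)) (.node (.leaf 0xc92d5a5) (.leaf 0x84915c9)))) (.node (.node (.node (.leaf 0xc2f560d) (.leaf 0x84fd60f)) (.node (.leaf 0x94655c9) (.leaf 0x82695c9))) (.node (.node (.leaf 0x9c055a5) (.leaf 0x5d8560d)) (.node (.leaf 0x87a160d) (.leaf 0x0))))) (.node (.node (.node (.node (.leaf 0x96c160d) (.leaf 0xde5160f)) (.node (.leaf 0x9c0960d) (.leaf 0x80555c9))) (.node (.node (.leaf 0x400160f) (.leaf 0x80ed5a5)) (.node (.leaf 0x41255a5) (.leaf 0xc0ad5a5)))) (.node (.node (.node (.leaf 0x412160d) (.leaf 0xd15160d)) (.node (.leaf 0x81d95a5) (.leaf 0x59715c9))) (.node (.node (.leaf 0xa05d5a5) (.leaf 0xa3b95a5)) (.node (.leaf 0xb9095c9) (.leaf 0x0)))))) (.node (.node (.node (.node (.node (.leaf 0x881d60f) (.leaf 0x8bd960d)) (.node (.leaf 0x962d5c9) (.leaf 0x8d9d60d))) (.node (.node (.leaf 0x6f2d5a5) (.leaf 0xb8c55c9)) (.node (.leaf 0x9d2560d) (.leaf 0xaba160d)))) (.node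 (.node (.node (.leaf 0x91e95c9) (.leaf 0x5e6160d)) (.node (.leaf 0x9cd560d) (.leaf 0xb5815c9))) (.node (.node (.leaf 0x85515a5) (.leaf 0x62955c9)) (.node (.leaf 0xe56160d) (.leaf 0x0))))) (.node (.node (.node (.node (.leaf 0x7a595c9) (.leaf 0xaa9160d)) (.node (.leaf 0x4cc560f) (.leaf 0x4ad560d))) (.node (.node (.leaf 0x52295a5) (.leaf 0x782960f)) (.node (.leaf 0x8fc55c9) (.leaf 0x0)))) (.node (.node (.node (.leaf 0xe57160d) (.leaf 0x5e2160f)) (.node (.leaf 0xb6dd5a5) (.leaf 0x53d55a5))) (.node (.node (.leaf 0x5e6160f) (.leaf 0xb3dd60d)) (.node (.leaf 0xd67160d) (.leaf 0x0))))))) (.node (.node (.node (.node (.node (.node (.leaf 0x1648) (.leaf 0xf7bd5c9)) (.node (.leaf 0xeec160f) (.leaf 0xf3c15c9))) (.node (.node (.leaf 0x17c6) (.leaf 0xa0815c9)) (.node (.leaf 0x5e215a5) (.leaf 0xc5c560f)))) (.node (.node (.node (.leaf 0x4d895a5) (.leaf 0x98255c9)) (.node (.leaf 0x9e3d5a5) (.leaf 0xecd960f)))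 (.node (.node (.leaf 0xdc815a5) (.leaf 0x84555a5)) (.node (.leaf 0xbb2d60d) (.leaf 0x0))))) (.node (.node (.node (.node (.leaf 0x99fd5c9) (.leaf 0xc5355c9)) (.node (.leaf 0x48295a5) (.leaf 0xe43960d))) (.node (.node (.leaf 0x17ac) (.leaf 0x86c95c9)) (.node (.leaf 0x87d160f) (.leaf 0x8f5560f)))) (.node (.node (.node (.leaf 0xb5cd5a5) (.leaf 0xf1d55c9)) (.node (.leaf 0xe8555c9) (.leaf 0xc5fd60d))) (.node (.node (.leaf 0x42e160f) (.leaf 0xc98560d)) (.node (.leaf 0xeee160d) (.leaf 0x0)))))) (.node (.node (.node (.node (.node (.leaf 0xa47d60f) (.leaf 0x83155c9)) (.node (.leaf 0xf8f960d) (.leaf 0x7add60d))) (.node (.node (.leaf 0x52f95c9) (.leaf 0xd7f160d)) (.node (.leaf 0xe9ed60d) (.leaf 0x85d560d)))) (.node (.node (.node (.leaf 0x93a960f) (.leaf 0xe63560d)) (.node (.leaf 0xf9ed60d) (.leaf 0xc0855a5))) (.node (.node (.leaf 0xccdd60d) (.leaf 0x89a55c9)) (.node (.leaf 0xf1355a5) (.leaf 0x0)))))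 (.node (.node (.node (.node (.leaf 0x9bad60f) (.leaf 0xba795c9)) (.node (.leaf 0xb05960d) (.leaf 0x99d55a5))) (.node (.node (.leaf 0xedd55c9) (.leaf 0xd3c560d)) (.node (.leaf 0x922160f) (.leaf 0x0)))) (.node (.node (.node (.leaf 0x596d60d) (.leaf 0xc3c960f)) (.node (.leaf 0x885960d) (.leaf 0x49bd60d))) (.node (.node (.leaf 0x6a2d60f) (.leaf 0xf9cd60d)) (.node (.leaf 0xea5560d) (.leaf 0x0))))))))))

/-- packed table -/
noncomputable def cov10_rrl : BTree := (.node (.node (.node (.node (.node (.node (.node (.node (.node (.leaf 0x170e) (.leaf 0xb0dd5c9)) (.node (.leaf 0x87bd60d) (.leaf 0x1714))) (.node (.node (.leaf 0x819160d) (.leaf 0x52f960d)) (.node (.leaf 0xa7755c9) (.leaf 0xe33d5a5)))) (.node (.node (.node (.leaf 0x6cb95a5) (.leaf 0xf52d5c9)) (.node (.leaf 0x8d615a5) (.leaf 0xba4160d))) (.node (.node (.leaf 0x15ae) (.leaf 0x7ae960f)) (.node (.leaf 0x5db95c9) (.leaf 0x0))))) (.node (.node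 (.node (.node (.leaf 0xb3f160d) (.leaf 0xa2055c9)) (.node (.leaf 0x4d055c9) (.leaf 0xd1295a5))) (.node (.node (.leaf 0xf9d560f) (.leaf 0xae2d60d)) (.node (.leaf 0x8abd60f) (.leaf 0x16d0)))) (.node (.node (.node (.leaf 0xf33960d) (.leaf 0xa97d60f)) (.node (.leaf 0xf7c95c9) (.leaf 0x99f160f))) (.node (.node (.leaf 0xef0d60d) (.leaf 0xb7e560f)) (.node (.leaf 0xde255a5) (.leaf 0x0)))))) (.node (.node (.node (.node (.node (.leaf 0x15ce) (.leaf 0xf94d60f)) (.node (.leaf 0xa3115a5) (.leaf 0xe89d60f))) (.node (.node (.leaf 0x9efd5a5) (.leaf 0x9fb160f)) (.node (.leaf 0xde9960d) (.leaf 0x994560d)))) (.node (.node (.node (.leaf 0x9e5960f) (.leaf 0xe4355c9)) (.node (.leaf 0xc90d60d) (.leaf 0xe5cd60d))) (.node (.node (.leaf 0x867560d) (.leaf 0x80a95c9)) (.node (.leaf 0xb80560d) (.leaf 0x0))))) (.node (.node (.node (.node (.leaf 0x4f1960f) (.leaf 0xb67560d)) (.node (.leaf 0xc08d60d) (.leaf 0x86e95a5)))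 (.node (.node (.leaf 0xe1d560d) (.leaf 0xa6b15a5)) (.node (.leaf 0x56ad60d) (.leaf 0x929560f)))) (.node (.node (.node (.leaf 0x9f195c9) (.leaf 0xb3fd60f)) (.node (.leaf 0x585160f) (.leaf 0xeab960d))) (.node (.node (.leaf 0xb3095c9) (.leaf 0x8ccd60d)) (.node (.leaf 0xf0c560d) (.leaf 0x0))))))) (.node (.node (.node (.node (.node (.node (.leaf 0xb2555c9) (.leaf 0x890960f)) (.node (.leaf 0x9c9960d) (.leaf 0xa3515c9))) (.node (.node (.leaf 0x537d5a5) (.leaf 0xacdd5c9)) (.node (.leaf 0x6bc15a5) (.leaf 0xb9e160f)))) (.node (.node (.node (.leaf 0xd4fd60f) (.leaf 0xf62560f)) (.node (.leaf 0xd4695c9) (.leaf 0x8af95c9))) (.node (.node (.leaf 0x80ed60d) (.leaf 0x73ed60d)) (.node (.leaf 0x4d055a5) (.leaf 0x0))))) (.node (.node (.node (.node (.leaf 0x1884) (.leaf 0xb81560d)) (.node (.leaf 0x6f195c9) (.leaf 0x4a315c9))) (.node (.node (.leaf 0x9d5160d) (.leaf 0xa35160f)) (.node (.leaf 0x815960d) (.leaf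 0x4ad160f)))) (.node (.node (.node (.leaf 0x4d0560f) (.leaf 0xcc895c9)) (.node (.leaf 0x81b55a5) (.leaf 0xa5895c9))) (.node (.node (.leaf 0x16d6) (.leaf 0xf36960d)) (.node (.leaf 0x69c960d) (.leaf 0x0)))))) (.node (.node (.node (.node (.node (.leaf 0x1864) (.leaf 0xc25560f)) (.node (.leaf 0x89715c9) (.leaf 0x93515a5))) (.node (.node (.leaf 0x77e160f) (.leaf 0x819160f)) (.node (.leaf 0x82cd60f) (.leaf 0x9e8d60d)))) (.node (.node (.node (.leaf 0x86315c9) (.leaf 0xd0d160d)) (.node (.leaf 0xed4560d) (.leaf 0xe3c160d))) (.node (.node (.leaf 0x984d5a5) (.leaf 0x1746)) (.node (.leaf 0x54495c9) (.leaf 0x0))))) (.node (.node (.node (.node (.leaf 0xbae560f) (.leaf 0x8a5d5a5)) (.node (.leaf 0x964960f) (.leaf 0x96295a5))) (.node (.node (.leaf 0xdba160d) (.leaf 0xb6f960d)) (.node (.leaf 0xc3ed60d) (.leaf 0x0)))) (.node (.node (.node (.leaf 0xdc9d60f) (.leaf 0xcc4960d)) (.node (.leaf 0x96b560d) (.leaf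 0x7a0560f))) (.node (.node (.leaf 0xaa915a5) (.leaf 0xa4d560d)) (.node (.leaf 0xcf2160d) (.leaf 0x0)))))))) (.node (.node (.node (.node (.node (.node (.node (.leaf 0x706d60f) (.leaf 0xd0415a5)) (.node (.leaf 0x728560f) (.leaf 0xde7560d))) (.node (.node (.leaf 0x9e395c9) (.leaf 0x620160f)) (.node (.leaf 0x533160d) (.leaf 0xa94560f)))) (.node (.node (.node (.leaf 0xa4fd5a5) (.leaf 0x97215c9)) (.node (.leaf 0x69b960f) (.leaf 0x53315a5))) (.node (.node (.leaf 0xb8055a5) (.leaf 0xa20560d)) (.node (.leaf 0x9ded5c9) (.leaf 0x0))))) (.node (.node (.node (.node (.leaf 0x617160d) (.leaf 0xe23d5c9)) (.node (.leaf 0x916d60d) (.leaf 0x845160d))) (.node (.node (.leaf 0x4ded5c9) (.leaf 0x95ed60d)) (.node (.leaf 0xa46960d) (.leaf 0xab0960d)))) (.node (.node (.node (.leaf 0x9ac960f) (.leaf 0x94215a5)) (.node (.leaf 0x634560d) (.leaf 0xa8915c9))) (.node (.node (.leaf 0xdfc15c9) (.leaf 0x882560d)) (.node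 (.leaf 0x1814) (.leaf 0x0)))))) (.node (.node (.node (.node (.node (.leaf 0x9a9160f) (.leaf 0xd47160f)) (.node (.leaf 0x84cd60d) (.leaf 0x64ad60f))) (.node (.node (.leaf 0x1720) (.leaf 0x541160f)) (.node (.leaf 0xb17960d) (.leaf 0x92b55c9)))) (.node (.node (.node (.leaf 0xa6155a5) (.leaf 0xade560f)) (.node (.leaf 0xf46560d) (.leaf 0x4af55c9))) (.node (.node (.leaf 0xd6f960d) (.leaf 0x880560d)) (.node (.leaf 0xb3595c9) (.leaf 0x0))))) (.node (.node (.node (.node (.leaf 0x423d60f) (.leaf 0x497960f)) (.node (.leaf 0x9d8d5a5) (.leaf 0xa2915c9))) (.node (.node (.leaf 0xb39160d) (.leaf 0xaea960d)) (.node (.leaf 0xb8b95c9) (.leaf 0x0)))) (.node (.node (.node (.leaf 0xb8d560d) (.leaf 0x62155a5)) (.node (.leaf 0xb0095c9) (.leaf 0x5a5d5a5))) (.node (.node (.leaf 0x9c3160d) (.leaf 0x99295c9)) (.node (.leaf 0x932560d) (.leaf 0x0))))))) (.node (.node (.node (.node (.node (.node (.leaf 0x8c7d60f) (.leaf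 0xbad55a5)) (.node (.leaf 0xda295a5) (.leaf 0x8ab55c9))) (.node (.node (.leaf 0xe8ad5a5) (.leaf 0x81e960d)) (.node (.leaf 0xdc8960d) (.leaf 0xcc715c9)))) (.node (.node (.node (.leaf 0x763160d) (.leaf 0xe42960d)) (.node (.leaf 0xdcc960d) (.leaf 0x679d5a5))) (.node (.node (.leaf 0x526d5c9) (.leaf 0xf47560d)) (.node (.leaf 0x49455a5) (.leaf 0x0))))) (.node (.node (.node (.node (.leaf 0x5a395c9) (.leaf 0x73ed5c9)) (.node (.leaf 0xaba15a5) (.leaf 0x92dd5c9))) (.node (.node (.leaf 0xb2b160d) (.leaf 0x1aa6)) (.node (.leaf 0x15e2) (.leaf 0x4add5c9)))) (.node (.node (.node (.leaf 0x9f515c9) (.leaf 0x983960d)) (.node (.leaf 0xdb0960d) (.leaf 0x444560d))) (.node (.node (.leaf 0x5e4d5a5) (.leaf 0xe7bd60f)) (.node (.leaf 0xba4560f) (.leaf 0x0)))))) (.node (.node (.node (.node (.node (.leaf 0x98f560d) (.leaf 0xb4d55a5)) (.node (.leaf 0xa0f960d) (.leaf 0xe12160d))) (.node (.node (.leaf 0x89555c9) (.leaf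 0x544960d)) (.node (.leaf 0xae9560d) (.leaf 0xaffd60d)))) (.node (.node (.node (.leaf 0x911d5a5) (.leaf 0xbb2d5a5)) (.node (.leaf 0x65695a5) (.leaf 0x5e9560d))) (.node (.node (.leaf 0xa06d60d) (.leaf 0x16e8)) (.node (.leaf 0xdc215c9) (.leaf 0x0))))) (.node (.node (.node (.node (.leaf 0xdb9d60f) (.leaf 0xf3ad5a5)) (.node (.leaf 0xcf4960d) (.leaf 0x94315c9))) (.node (.node (.leaf 0xcbc95c9) (.leaf 0xd43d60f)) (.node (.leaf 0x48ed5a5) (.leaf 0x0)))) (.node (.node (.node (.leaf 0x9d515a5) (.leaf 0x596d5a5)) (.node (.leaf 0xb13d5c9) (.leaf 0xee4d60d))) (.node (.node (.leaf 0xb1a160d) (.leaf 0x99e560f)) (.node (.leaf 0x9a095a5) (.leaf 0x0))))))))) (.node (.node (.node (.node (.node (.node (.node (.node (.leaf 0x40015c9) (.leaf 0xcd815a5)) (.node (.leaf 0x641560f) (.leaf 0xb7d560f))) (.node (.node (.leaf 0x793960f) (.leaf 0xa20560f)) (.node (.leaf 0xa4d95c9) (.leaf 0xb74d60d)))) (.node (.node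 (.node (.leaf 0x91dd5a5) (.leaf 0xa0bd5c9)) (.node (.leaf 0xb6a15a5) (.leaf 0x4af560f))) (.node (.node (.leaf 0xb0595a5) (.leaf 0xa92960d)) (.node (.leaf 0x42f160d) (.leaf 0x0))))) (.node (.node (.node (.node (.leaf 0x969d5a5) (.leaf 0x645560d)) (.node (.leaf 0x8ce15c9) (.leaf 0x97855a5))) (.node (.node (.leaf 0xca3560d) (.leaf 0x1756)) (.node (.leaf 0xdddd60d) (.leaf 0xde6d60d)))) (.node (.node (.node (.leaf 0x9ad560f) (.leaf 0xb32d60f)) (.node (.leaf 0x48f55a5) (.leaf 0xd31d5c9))) (.node (.node (.leaf 0xdcc160d) (.leaf 0x4b455a5)) (.node (.leaf 0x1670) (.leaf 0x0)))))) (.node (.node (.node (.node (.node (.leaf 0xb5dd60d) (.leaf 0xeb9d60f)) (.node (.leaf 0xa6a960f) (.leaf 0xa8a560f))) (.node (.node (.leaf 0xb8d960d) (.leaf 0x793960d)) (.node (.leaf 0xf91d60f) (.leaf 0xeeed5a5)))) (.node (.node (.node (.leaf 0xa6455a5) (.leaf 0x585160d)) (.node (.leaf 0xa5ed5c9) (.leaf 0x91a95a5))) (.node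 (.node (.leaf 0x1678) (.leaf 0xe88d60f)) (.node (.leaf 0x8a6160d) (.leaf 0x0))))) (.node (.node (.node (.node (.leaf 0x801160d) (.leaf 0x564160f)) (.node (.leaf 0x4d8960f) (.leaf 0x4a315a5))) (.node (.node (.leaf 0xcc2d60d) (.leaf 0x9fd15c9)) (.node (.leaf 0x973160f) (.leaf 0x5a5d60d)))) (.node (.node (.node (.leaf 0xc7155a5) (.leaf 0xa51560d)) (.node (.leaf 0x99415a5) (.leaf 0x962160f))) (.node (.node (.leaf 0xe9795a5) (.leaf 0x17d6)) (.node (.leaf 0xf96960f) (.leaf 0x0))))))) (.node (.node (.node (.node (.node (.node (.leaf 0x9b3d60d) (.leaf 0x7add5a5)) (.node (.leaf 0xb03960d) (.leaf 0x847160d))) (.node (.node (.leaf 0xa06d5a5) (.leaf 0x8ab560d)) (.node (.leaf 0xa0c160d) (.leaf 0xa2a960f)))) (.node (.node (.node (.leaf 0xa5b15a5) (.leaf 0x16c6)) (.node (.leaf 0xfb3d5c9) (.leaf 0xb3d560f))) (.node (.node (.leaf 0x9bcd60f) (.leaf 0xe46560d)) (.node (.leaf 0xe60160d) (.leaf 0x0))))) (.node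 (.node (.node (.node (.leaf 0xb0815a5) (.leaf 0xe40160d)) (.node (.leaf 0x6f595c9) (.leaf 0x99d560f))) (.node (.node (.leaf 0xb78d5c9) (.leaf 0xb1e560d)) (.node (.leaf 0xc14160d) (.leaf 0xaff160f)))) (.node (.node (.node (.leaf 0x99e55a5) (.leaf 0xd82d60d)) (.node (.leaf 0x1890) (.leaf 0x783160d))) (.node (.node (.leaf 0x882d5c9) (.leaf 0x63615c9)) (.node (.leaf 0xe13160d) (.leaf 0x0)))))) (.node (.node (.node (.node (.node (.leaf 0x5e1160d) (.leaf 0x427d5c9)) (.node (.leaf 0xdc3960d) (.leaf 0xd19560d))) (.node (.node (.leaf 0xec715c9) (.leaf 0xf5a95c9)) (.node (.leaf 0x6dd960d) (.leaf 0xb9c95a5)))) (.node (.node (.node (.leaf 0xd1595a5) (.leaf 0x82cd5a5)) (.node (.leaf 0x44e55c9) (.leaf 0xb43560d))) (.node (.node (.leaf 0xe86560d) (.leaf 0xcb3d5a5)) (.node (.leaf 0x8ad960d) (.leaf 0x0))))) (.node (.node (.node (.node (.leaf 0x88855c9) (.leaf 0x50795c9)) (.node (.leaf 0xe80960d) (.leaf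 0xba3960d))) (.node (.node (.leaf 0xec2960d) (.leaf 0xafa160d)) (.node (.leaf 0x4fa55c9) (.leaf 0x0)))) (.node (.node (.node (.leaf 0x79315a5) (.leaf 0xcfdd5c9)) (.node (.leaf 0xb08960f) (.leaf 0xed4d60d))) (.node (.node (.leaf 0xc27160d) (.leaf 0x8ad960f)) (.node (.leaf 0x65695c9) (.leaf 0x0)))))))) (.node (.node (.node (.node (.node (.node (.node (.leaf 0xb29160f) (.leaf 0x4aa160d)) (.node (.leaf 0xdd8160f) (.leaf 0x164c))) (.node (.node (.leaf 0x5e2d5c9) (.leaf 0x1854)) (.node (.leaf 0x883960f) (.leaf 0x87015a5)))) (.node (.node (.node (.leaf 0x494d60d) (.leaf 0x44455a5)) (.node (.leaf 0x180e) (.leaf 0x92e95a5))) (.node (.node (.leaf 0xc0d160d) (.leaf 0xf3e160f)) (.node (.leaf 0xb6a160f) (.leaf 0x0))))) (.node (.node (.node (.node (.leaf 0x4f9960f) (.leaf 0x9ff160d)) (.node (.leaf 0x185e) (.leaf 0x904560d))) (.node (.node (.leaf 0xc2055a5) (.leaf 0xac5560d)) (.node (.leaf 0xbb4160f)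 (.leaf 0xad8960d)))) (.node (.node (.node (.leaf 0x8cd960f) (.leaf 0x8ab960d)) (.node (.leaf 0xc1cd5a5) (.leaf 0x88e160f))) (.node (.node (.leaf 0xda1160d) (.leaf 0x8e4560d)) (.node (.leaf 0x90455a5) (.leaf 0x0)))))) (.node (.node (.node (.node (.node (.leaf 0x482960f) (.leaf 0xb1095c9)) (.node (.leaf 0x48f55c9) (.leaf 0x8dbd60d))) (.node (.node (.leaf 0x636160d) (.leaf 0xd4f960d)) (.node (.leaf 0x1826) (.leaf 0xf9715a5)))) (.node (.node (.node (.leaf 0xf8e960f) (.leaf 0x821160f)) (.node (.leaf 0xba4560d) (.leaf 0xd74d60f))) (.node (.node (.leaf 0xf27560d) (.leaf 0xb3fd60d)) (.node (.leaf 0x4aa160f) (.leaf 0x0))))) (.node (.node (.node (.node (.leaf 0xd7d960d) (.leaf 0x897560f)) (.node (.leaf 0xc74160d) (.leaf 0x4af560d))) (.node (.node (.leaf 0xd39d5c9) (.leaf 0x15e6)) (.node (.leaf 0x79b95c9) (.leaf 0x0)))) (.node (.node (.node (.leaf 0xf97560d) (.leaf 0x5e1560f)) (.node (.leaf 0xe1c160f)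 (.leaf 0xd9e960f))) (.node (.node (.leaf 0x97315a5) (.leaf 0xfb055c9)) (.node (.leaf 0x967960f) (.leaf 0x0))))))) (.node (.node (.node (.node (.node (.node (.leaf 0x6f315c9) (.leaf 0xb3fd5c9)) (.node (.leaf 0x472560d) (.leaf 0xb3c95c9))) (.node (.node (.leaf 0x176c) (.leaf 0x8d5d5c9)) (.node (.leaf 0xef4d60d) (.leaf 0xa30160f)))) (.node (.node (.node (.leaf 0xb0255c9) (.leaf 0x583d5c9)) (.node (.leaf 0x8ac15c9) (.leaf 0x1794))) (.node (.node (.leaf 0x607560f) (.leaf 0x829960d)) (.node (.leaf 0x9a0960d) (.leaf 0x0))))) (.node (.node (.node (.node (.leaf 0x178e) (.leaf 0xd0615a5)) (.node (.leaf 0x88055a5) (.leaf 0x89f55a5))) (.node (.node (.leaf 0xf37d60f) (.leaf 0xd24560d)) (.node (.leaf 0xb8d160d) (.leaf 0x8ac560f)))) (.node (.node (.node (.leaf 0x9d8d60d) (.leaf 0xae1160f)) (.node (.leaf 0xa85160f) (.leaf 0xad5560d))) (.node (.node (.leaf 0xb4cd60f) (.leaf 0xb40560d)) (.node (.leaf 0xb6b960f)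 (.leaf 0x0)))))) (.node (.node (.node (.node (.node (.leaf 0x76d160f) (.leaf 0xac0d5c9)) (.node (.leaf 0xb4f960f) (.leaf 0xdffd60d))) (.node (.node (.leaf 0xba3960f) (.leaf 0x8c695c9)) (.node (.leaf 0x42f15c9) (.leaf 0xa0795c9)))) (.node (.node (.node (.leaf 0xb4cd60d) (.leaf 0x6cfd60f)) (.node (.leaf 0x5e955a5) (.leaf 0x867160f))) (.node (.node (.leaf 0x182a) (.leaf 0x5d195c9)) (.node (.leaf 0x52e15a5) (.leaf 0x0))))) (.node (.node (.node (.node (.leaf 0xa34d5c9) (.leaf 0xbb295c9)) (.node (.leaf 0xb37960d) (.leaf 0x1614))) (.node (.node (.leaf 0xa2c55a5) (.leaf 0xabf15a5)) (.node (.leaf 0x8a9960d) (.leaf 0x0)))) (.node (.node (.node (.leaf 0xcb4d60d) (.leaf 0xe3e160d)) (.node (.leaf 0x85695c9) (.leaf 0xae5960d))) (.node (.node (.leaf 0x92dd60f) (.leaf 0xd2cd5c9)) (.node (.leaf 0x8dc95a5) (.leaf 0x0))))))))))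

/-- packed table -/
noncomputable def cov10_rrr : BTree := (.node (.node (.node (.node (.node (.node (.node (.node (.node (.leaf 0xc0095c9) (.leaf 0xed3960d)) (.node (.leaf 0x87d160d) (.leaf 0x8d855c9))) (.node (.node (.leaf 0x52f95a5) (.leaf 0xd2f160d)) (.node (.leaf 0xe4e95c9) (.leaf 0xf8215c9)))) (.node (.node (.node (.leaf 0x840d60d) (.leaf 0xbb255c9)) (.node (.leaf 0xa3b15a5) (.leaf 0xaba55c9))) (.node (.node (.leaf 0x4cf160d) (.leaf 0x840d5c9)) (.node (.leaf 0x90b55c9) (.leaf 0x0))))) (.node (.node (.node (.node (.leaf 0x64555c9) (.leaf 0xa85160d)) (.node (.leaf 0xb40560f) (.leaf 0xa29d60f))) (.node (.node (.leaf 0x8ff55c9) (.leaf 0xb28d5a5)) (.node (.leaf 0x8dbd60f) (.leaf 0xb4b55c9)))) (.node (.node (.node (.leaf 0x9ad160f) (.leaf 0xaa3160d)) (.node (.leaf 0x9ad160d) (.leaf 0xd69960d))) (.node (.node (.leaf 0xa7395a5) (.leaf 0xae255a5)) (.node (.leaf 0xa79960d) (.leaf 0x0))))))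 (.node (.node (.node (.node (.node (.leaf 0x1646) (.leaf 0xf2cd60f)) (.node (.leaf 0x4fb560d) (.leaf 0xf7f15a5))) (.node (.node (.leaf 0x9c0160d) (.leaf 0xec1d60f)) (.node (.leaf 0x8a7d5c9) (.leaf 0x80a55c9)))) (.node (.node (.node (.leaf 0x8fa160d) (.leaf 0xa9a160f)) (.node (.leaf 0x890960d) (.leaf 0xe5e160d))) (.node (.node (.leaf 0xa64960d) (.leaf 0xb75960d)) (.node (.leaf 0xd25560f) (.leaf 0x0))))) (.node (.node (.node (.node (.leaf 0x8ef160f) (.leaf 0x83955c9)) (.node (.leaf 0x88255a5) (.leaf 0xaed160d))) (.node (.node (.leaf 0x8b095a5) (.leaf 0x7a5960f)) (.node (.leaf 0xef8d60d) (.leaf 0x820160f)))) (.node (.node (.node (.leaf 0x9f1d60d) (.leaf 0xb7515c9)) (.node (.leaf 0x645560f) (.leaf 0xdabd5c9))) (.node (.node (.leaf 0xb10960f) (.leaf 0x910160f)) (.node (.leaf 0x47255c9) (.leaf 0x0))))))) (.node (.node (.node (.node (.node (.node (.leaf 0xe4215a5) (.leaf 0xc92160f)) (.node (.leaf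 0x9f1d5a5) (.leaf 0x800560f))) (.node (.node (.leaf 0x90ed5a5) (.leaf 0xb74d5c9)) (.node (.leaf 0xa0d960d) (.leaf 0x803d5c9)))) (.node (.node (.node (.leaf 0x83755a5) (.leaf 0x6d515a5)) (.node (.leaf 0xf9655c9) (.leaf 0x1606))) (.node (.node (.leaf 0x6f2160f) (.leaf 0xee7560d)) (.node (.leaf 0xb2055c9) (.leaf 0x0))))) (.node (.node (.node (.node (.leaf 0xd61960d) (.leaf 0x428d5c9)) (.node (.leaf 0xb7655c9) (.leaf 0x92dd60d))) (.node (.node (.leaf 0x9d1560d) (.leaf 0xb5095a5)) (.node (.leaf 0xc15560d) (.leaf 0x82815c9)))) (.node (.node (.node (.leaf 0xcc0560d) (.leaf 0xd41960d)) (.node (.leaf 0x4e3960d) (.leaf 0x60755c9))) (.node (.node (.leaf 0x66d960d) (.leaf 0x92e960f)) (.node (.leaf 0x50e560f) (.leaf 0x0)))))) (.node (.node (.node (.node (.node (.leaf 0x816d5c9) (.leaf 0xe1bd5a5)) (.node (.leaf 0x187e) (.leaf 0xe0c95c9))) (.node (.node (.leaf 0x74ed5c9) (.leaf 0xb00960f)) (.node (.leaf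 0x96c960f) (.leaf 0x189c)))) (.node (.node (.node (.leaf 0x9fad60d) (.leaf 0xb15560d)) (.node (.leaf 0xf94160d) (.leaf 0x92b960d))) (.node (.node (.leaf 0x46215a5) (.leaf 0xad755a5)) (.node (.leaf 0xa0c15c9) (.leaf 0x0))))) (.node (.node (.node (.node (.leaf 0x571560f) (.leaf 0xa31160f)) (.node (.leaf 0x9ff15a5) (.leaf 0xd6355a5))) (.node (.node (.leaf 0xc4a160f) (.leaf 0x92e55c9)) (.node (.leaf 0x9fc95c9) (.leaf 0x0)))) (.node (.node (.node (.leaf 0xb4055c9) (.leaf 0x182c)) (.node (.leaf 0xee1d60d) (.leaf 0x400160d))) (.node (.node (.leaf 0xc27960d) (.leaf 0xe4f560d)) (.node (.leaf 0x81095c9) (.leaf 0x0)))))))) (.node (.node (.node (.node (.node (.node (.node (.leaf 0xc0755a5) (.leaf 0x620160d)) (.node (.leaf 0x92b95c9) (.leaf 0xd6a560d))) (.node (.node (.leaf 0xd80160f) (.leaf 0x1832)) (.node (.leaf 0xeaa960d) (.leaf 0x1602)))) (.node (.node (.node (.leaf 0x895960d) (.leaf 0xd72d60d))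 (.node (.leaf 0xe9d160f) (.leaf 0x92bd60d))) (.node (.node (.leaf 0xa0355a5) (.leaf 0x9a595a5)) (.node (.leaf 0xba1960f) (.leaf 0x0))))) (.node (.node (.node (.node (.leaf 0xb5d960d) (.leaf 0xba4960f)) (.node (.leaf 0x844960d) (.leaf 0xe0ed60f))) (.node (.node (.leaf 0x7a0560d) (.leaf 0xd61160d)) (.node (.leaf 0x15fe) (.leaf 0xab2160d)))) (.node (.node (.node (.leaf 0xba695a5) (.leaf 0xb21160d)) (.node (.leaf 0xc1c15a5) (.leaf 0x896160d))) (.node (.node (.leaf 0xe30960d) (.leaf 0xa0c55c9)) (.node (.leaf 0x16ba) (.leaf 0x0)))))) (.node (.node (.node (.node (.node (.leaf 0x9a815c9) (.leaf 0x549160d)) (.node (.leaf 0x428d60f) (.leaf 0xe67160d))) (.node (.node (.leaf 0x844960f) (.leaf 0x7a595a5)) (.node (.leaf 0xd59160f) (.leaf 0x9e3d60d)))) (.node (.node (.node (.leaf 0xc7b55a5) (.leaf 0xad2560d)) (.node (.leaf 0xa22960d) (.leaf 0xaea560d))) (.node (.node (.leaf 0x42f95a5) (.leaf 0xd39560d))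 (.node (.leaf 0x1b5a) (.leaf 0x0))))) (.node (.node (.node (.node (.leaf 0x69415c9) (.leaf 0x896160f)) (.node (.leaf 0xc71d60d) (.leaf 0xb1515c9))) (.node (.node (.leaf 0x15b8) (.leaf 0xe7e960d)) (.node (.leaf 0xa7d95a5) (.leaf 0x0)))) (.node (.node (.node (.leaf 0xdb7160d) (.leaf 0x62015a5)) (.node (.leaf 0x89a560f) (.leaf 0x82015a5))) (.node (.node (.leaf 0xee095c9) (.leaf 0x97a15c9)) (.node (.leaf 0xc3a55c9) (.leaf 0x0))))))) (.node (.node (.node (.node (.node (.node (.leaf 0xf7555c9) (.leaf 0x50e560d)) (.node (.leaf 0x6f4160f) (.leaf 0x47815a5))) (.node (.node (.leaf 0x8a615c9) (.leaf 0xe8bd60d)) (.node (.leaf 0xe9f160d) (.leaf 0xebe960d)))) (.node (.node (.node (.leaf 0x8fb960d) (.leaf 0x15de)) (.node (.leaf 0x847960d) (.leaf 0x801160f))) (.node (.node (.leaf 0x866960d) (.leaf 0x5a615a5)) (.node (.leaf 0xe9d560d) (.leaf 0x0))))) (.node (.node (.node (.node (.leaf 0x9c0d60f) (.leaf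 0x8b8560d)) (.node (.leaf 0x49415a5) (.leaf 0x90dd5c9))) (.node (.node (.leaf 0x1610) (.leaf 0xd26160d)) (.node (.leaf 0x44e560f) (.leaf 0x162a)))) (.node (.node (.node (.leaf 0xb44d60d) (.leaf 0xed1160d)) (.node (.leaf 0xb5d95a5) (.leaf 0x400d60d))) (.node (.node (.leaf 0xb72560d) (.leaf 0x87a15a5)) (.node (.leaf 0x544960f) (.leaf 0x0)))))) (.node (.node (.node (.node (.node (.leaf 0x996560d) (.leaf 0xac195c9)) (.node (.leaf 0x645160d) (.leaf 0xe0095c9))) (.node (.node (.leaf 0x8d955a5) (.leaf 0xd7e960d)) (.node (.leaf 0xb4d95a5) (.leaf 0xf2d160f)))) (.node (.node (.node (.leaf 0xf6295a5) (.leaf 0xfb395a5)) (.node (.leaf 0xf36160f) (.leaf 0x785d60d))) (.node (.node (.leaf 0xa6a95c9) (.leaf 0x533160f)) (.node (.leaf 0xaead60d) (.leaf 0x0))))) (.node (.node (.node (.node (.leaf 0xb5bd60d) (.leaf 0x928160d)) (.node (.leaf 0xf63560d) (.leaf 0x57a55c9))) (.node (.node (.leaf 0xc2a560f) (.leaf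 0xca9d60d)) (.node (.leaf 0x80055a5) (.leaf 0x0)))) (.node (.node (.node (.leaf 0x835960d) (.leaf 0xcd555a5)) (.node (.leaf 0x884160d) (.leaf 0xb5795a5))) (.node (.node (.leaf 0x93a95a5) (.leaf 0xd51d5a5)) (.node (.leaf 0xb84160d) (.leaf 0x0))))))))) (.node (.node (.node (.node (.node (.node (.node (.node (.leaf 0x79b960f) (.leaf 0xe3f960d)) (.node (.leaf 0x916d60f) (.leaf 0xd19960d))) (.node (.node (.leaf 0x5e355c9) (.leaf 0xd6d15c9)) (.node (.leaf 0x17c0) (.leaf 0x5e5d60d)))) (.node (.node (.node (.leaf 0xc93960d) (.leaf 0x970960d)) (.node (.leaf 0xb44d5c9) (.leaf 0x61715a5))) (.node (.node (.leaf 0x42f15a5) (.leaf 0x8fd160d)) (.node (.leaf 0x76d95a5) (.leaf 0x0))))) (.node (.node (.node (.node (.leaf 0x1876) (.leaf 0x8e955a5)) (.node (.leaf 0xaf8160f) (.leaf 0xaba560f))) (.node (.node (.leaf 0xae2d5c9) (.leaf 0x9ff160f)) (.node (.leaf 0xc2bd5c9) (.leaf 0xa8c95c9)))) (.node (.node (.node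 (.leaf 0x922160d) (.leaf 0xaa155c9)) (.node (.leaf 0xa33960f) (.leaf 0xae2560d))) (.node (.node (.leaf 0xe30d60d) (.leaf 0x92c560d)) (.node (.leaf 0x64dd60d) (.leaf 0x0)))))) (.node (.node (.node (.node (.node (.leaf 0xe3d960d) (.leaf 0xd47560f)) (.node (.leaf 0xc4b960d) (.leaf 0x657960f))) (.node (.node (.leaf 0xab1960d) (.leaf 0xed8160d)) (.node (.leaf 0xdaa960d) (.leaf 0xac8d5a5)))) (.node (.node (.node (.leaf 0xd6395c9) (.leaf 0x6dcd60f)) (.node (.leaf 0xefd95a5) (.leaf 0xed795c9))) (.node (.node (.leaf 0x78315a5) (.leaf 0x932560f)) (.node (.leaf 0xb7a960f) (.leaf 0x0))))) (.node (.node (.node (.node (.leaf 0xd08560d) (.leaf 0x964960d)) (.node (.leaf 0xd22d60d) (.leaf 0xa0555c9))) (.node (.node (.leaf 0xa0bd60d) (.leaf 0x846d60d)) (.node (.leaf 0x5e615a5) (.leaf 0x927d5a5)))) (.node (.node (.node (.leaf 0xdf1160d) (.leaf 0xa2295a5)) (.node (.leaf 0x8db560d) (.leaf 0xad8960f))) (.node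 (.node (.leaf 0xa47d5c9) (.leaf 0x8dbd5c9)) (.node (.leaf 0x8ae560f) (.leaf 0x0))))))) (.node (.node (.node (.node (.node (.node (.leaf 0xc6ad5c9) (.leaf 0x4e855a5)) (.node (.leaf 0xdeb160d) (.leaf 0xa0d95c9))) (.node (.node (.leaf 0xd8595c9) (.leaf 0xb5c15c9)) (.node (.leaf 0xf99960d) (.leaf 0x9add5c9)))) (.node (.node (.node (.leaf 0xa4815a5) (.leaf 0x700d5a5)) (.node (.leaf 0xf7695c9) (.leaf 0x52e160f))) (.node (.node (.leaf 0xe8ed60f) (.leaf 0xe43d60d)) (.node (.leaf 0x9edd5c9) (.leaf 0x0))))) (.node (.node (.node (.node (.leaf 0x83815a5) (.leaf 0xd5355c9)) (.node (.leaf 0x6bd15a5) (.leaf 0x92b960f))) (.node (.node (.leaf 0x6f2d5c9) (.leaf 0xb72160f)) (.node (.leaf 0x9ad15a5) (.leaf 0xb7a560d)))) (.node (.node (.node (.leaf 0xe3e560d) (.leaf 0x6b055a5)) (.node (.leaf 0xb3dd60f) (.leaf 0xf0b55a5))) (.node (.node (.leaf 0x9d5160f) (.leaf 0x910160d)) (.node (.leaf 0x90c560f) (.leaf 0x0))))))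 (.node (.node (.node (.node (.node (.leaf 0xc1a95c9) (.leaf 0x977d60d)) (.node (.leaf 0xeeb95c9) (.leaf 0xd18d60d))) (.node (.node (.leaf 0x15b6) (.leaf 0x5f315a5)) (.node (.leaf 0x97a160f) (.leaf 0xcf3d60f)))) (.node (.node (.node (.leaf 0xb2a15c9) (.leaf 0x17fc)) (.node (.leaf 0xb08160f) (.leaf 0x4f995c9))) (.node (.node (.leaf 0x40f55a5) (.leaf 0xd8a95a5)) (.node (.leaf 0xdc115c9) (.leaf 0x0))))) (.node (.node (.node (.node (.leaf 0x9a1560d) (.leaf 0x79b960d)) (.node (.leaf 0x4b415c9) (.leaf 0x400d60f))) (.node (.node (.leaf 0x839560f) (.leaf 0x644160d)) (.node (.leaf 0xe8c55c9) (.leaf 0x0)))) (.node (.node (.node (.leaf 0x6b6d5c9) (.leaf 0x8fd95c9)) (.node (.leaf 0x824d60d) (.leaf 0x8bd15a5))) (.node (.node (.leaf 0xd1115c9) (.leaf 0x8c3d60f)) (.node (.leaf 0xc3055a5) (.leaf 0x0)))))))) (.node (.node (.node (.node (.node (.node (.node (.leaf 0xaed55c9) (.leaf 0x50795a5)) (.node (.leaf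 0x9e3960f) (.leaf 0x969d60d))) (.node (.node (.leaf 0xd3815a5) (.leaf 0x96a15c9)) (.node (.leaf 0x9c0d60d) (.leaf 0x9e5960d)))) (.node (.node (.node (.leaf 0xf9555c9) (.leaf 0x400d5a5)) (.node (.leaf 0x838960d) (.leaf 0xc86160f))) (.node (.node (.leaf 0x5acd5c9) (.leaf 0xf5c55c9)) (.node (.leaf 0xc7a960d) (.leaf 0x0))))) (.node (.node (.node (.node (.leaf 0x18b0) (.leaf 0xb75960f)) (.node (.leaf 0x77855c9) (.leaf 0x8fa15c9))) (.node (.node (.leaf 0x64ad5a5) (.leaf 0x707560d)) (.node (.leaf 0x785d60f) (.leaf 0xa95d5c9)))) (.node (.node (.node (.leaf 0x4cf160f) (.leaf 0xd41d60d)) (.node (.leaf 0x81b95a5) (.leaf 0xf06960d))) (.node (.node (.leaf 0x782960d) (.leaf 0xc03560f)) (.node (.leaf 0x8ae55c9) (.leaf 0x0)))))) (.node (.node (.node (.node (.node (.leaf 0x6b6d60d) (.leaf 0x802960d)) (.node (.leaf 0xa23160f) (.leaf 0xf16d5a5))) (.node (.node (.leaf 0xa0dd5a5) (.leaf 0x66d95c9)) (.node (.leaf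 0x15f2) (.leaf 0x80655c9)))) (.node (.node (.node (.leaf 0xda4560d) (.leaf 0xe0cd5c9)) (.node (.leaf 0xa51160f) (.leaf 0x92e560d))) (.node (.node (.leaf 0x9c2560d) (.leaf 0xb5495c9)) (.node (.leaf 0x83015a5) (.leaf 0x0))))) (.node (.node (.node (.node (.leaf 0xb84560d) (.leaf 0x42e15a5)) (.node (.leaf 0x18b4) (.leaf 0xabb15c9))) (.node (.node (.leaf 0xd89960d) (.leaf 0xca8d60d)) (.node (.leaf 0xa2c560d) (.leaf 0x0)))) (.node (.node (.node (.leaf 0xaa815a5) (.leaf 0x5e2960f)) (.node (.leaf 0x4c0d5a5) (.leaf 0x82255c9))) (.node (.node (.leaf 0xf97d60d) (.leaf 0x977d60f)) (.node (.leaf 0xcec95c9) (.leaf 0x0))))))) (.node (.node (.node (.node (.node (.node (.leaf 0x161c) (.leaf 0x91a960f)) (.node (.leaf 0xddd55a5) (.leaf 0xcf3560d))) (.node (.node (.leaf 0xa07d60d) (.leaf 0x8c3d5c9)) (.node (.leaf 0xf9fd60d) (.leaf 0x9fd160f)))) (.node (.node (.node (.leaf 0x4ee55a5) (.leaf 0x65555c9)) (.node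 (.leaf 0x89d55c9) (.leaf 0x84b15c9))) (.node (.node (.leaf 0xc65d60d) (.leaf 0x16c2)) (.node (.leaf 0xb0e960d) (.leaf 0x0))))) (.node (.node (.node (.node (.leaf 0x89615c9) (.leaf 0x99f15a5)) (.node (.leaf 0x80a560d) (.leaf 0x89d95a5))) (.node (.node (.leaf 0x92995a5) (.leaf 0x8d9d60f)) (.node (.leaf 0x505560f) (.leaf 0x820160d)))) (.node (.node (.node (.leaf 0x9f395c9) (.leaf 0x89595a5)) (.node (.leaf 0x64415c9) (.leaf 0xdfd560d))) (.node (.node (.leaf 0xc1f15a5) (.leaf 0xf7295c9)) (.node (.leaf 0x4cc560d) (.leaf 0x0)))))) (.node (.node (.node (.node (.node (.leaf 0xb2995c9) (.leaf 0xf95960f)) (.node (.leaf 0xba1960d) (.leaf 0x883d60f))) (.node (.node (.leaf 0xdc795c9) (.leaf 0xd7e160d)) (.node (.leaf 0x574560f) (.leaf 0xaea160d)))) (.node (.node (.node (.leaf 0x8cd55a5) (.leaf 0xd2d55c9)) (.node (.leaf 0x8c1d5a5) (.leaf 0xf2c15a5))) (.node (.node (.leaf 0xb43960f) (.leaf 0x9a715a5)) (.node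 (.leaf 0x9c3d5c9) (.leaf 0x0))))) (.node (.node (.node (.node (.leaf 0xe3895c9) (.leaf 0x929960d)) (.node (.leaf 0x99e560d) (.leaf 0x4bb55a5))) (.node (.node (.leaf 0xf0cd60f) (.leaf 0xbae160f)) (.node (.leaf 0x969160f) (.leaf 0x0)))) (.node (.node (.node (.leaf 0x5e5d5c9) (.leaf 0xa8055a5)) (.node (.leaf 0xa7715c9) (.leaf 0x6f5960d))) (.node (.node (.leaf 0x6b5160f) (.leaf 0x55955c9)) (.node (.leaf 0xaa4960d) (.leaf 0x0))))))))))

/-- packed table -/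
noncomputable def cov10 : BTree := (.node (.node (.node cov10_lll cov10_llr) (.node cov10_lrl cov10_lrr)) (.node (.node cov10_rll cov10_rlr) (.node cov10_rrl cov10_rrr)))

theorem cov10_ok : okCover 10 cov10 = true := by decide +kernel

/-- straight-line program -/
def slp10 : List (Nat × Nat × Nat) :=
  [(0x90af1324956ba745960838061b298f, 1, 2),
   (0x90a008d677a2c2d729283b2cf28cc4, 1, 3),
   (0xbd926a41b562c8f70a483846051671, 4, 2),
   (0x9092c05c306b9f458ea8398a455a33, 3, 3),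
   (0x90aa6641e9a2c8d75ae83c55319401, 6, 2),
   (0x8164f8de7522d867292838460159b4, 6, 2),
   (0x4aa44040379b8d158ea83becc1168d, 6, 3)]

/-- levels -/
def levels10 : List (Nat × List Nat) :=
  [(0, [10, 0, 2, 3, 4, 5, 6, 7, 8, 9]),
   (2, [10, 1])]

/-- stabilising facts -/
def gens10 : List Nat := [1385, 1394, 1411]

theorem chain10_ok : okChain 10 gens10 slp10 levels10 = true := by decide +kernel

theorem chain10_size : chainSize levels10 = 20 := by decide +kernel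

end CfsgLib.Spor.J4.Index
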