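import Cfsg.Agent.Lib.Spor.J4.Index.Check

/-!
Coverage and stabiliser of node 12 (generated).
-/

set_option autoImplicit false
set_option linter.all false

namespace CfsgLib.Spor.J4.Index

open CfsgLib.PresCert

/-- packed table -/
noncomputable def cov12_lll : BTree := (.node (.node (.node (.node (.node (.node (.node (.node (.node (.leaf 0x46cd945) (.leaf 0x1288194d)) (.node (.leaf 0x9a19945) (.leaf 0xe751941))) (.node (.node (.leaf 0x7979945) (.leaf 0xc16d96b)) (.node (.leaf 0x109b1969) (.leaf 0xf9bd94d)))) (.node (.node (.node (.leaf 0xd42d94d) (.leaf 0xeb1194d)) (.node (.leaf 0xcc9d969) (.leaf 0xb20d969))) (.node (.node (.leaf 0x555594d) (.leaf 0x10be596b)) (.node (.leaf 0xcb59947) (.leaf 0x0))))) (.node (.node (.node (.node (.leaf 0x13181969) (.leaf 0x111b5969)) (.node (.leaf 0xc421969) (.leaf 0xec7d947))) (.node (.node (.leaf 0xc8dd947) (.leaf 0xe7a9947)) (.node (.leaf 0xdc2196b) (.leaf 0x19e4)))) (.node (.node (.node (.leaf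 0xc055945) (.leaf 0x109a996b)) (.node (.leaf 0xc109969) (.leaf 0x62a1941))) (.node (.node (.leaf 0xd0f1969) (.leaf 0x1211596b)) (.node (.leaf 0xe54d96b) (.leaf 0x0)))))) (.node (.node (.node (.node (.node (.leaf 0xd28994d) (.leaf 0x8045969)) (.node (.leaf 0x9369945) (.leaf 0xe515945))) (.node (.node (.leaf 0x1178194d) (.leaf 0xdab9969)) (.node (.leaf 0xf08d96b) (.leaf 0xb885941)))) (.node (.node (.node (.leaf 0xdcd196b) (.leaf 0xe4d194d)) (.node (.leaf 0x848d947) (.leaf 0xa761969))) (.node (.node (.leaf 0x10d0994d) (.leaf 0x11fc1969)) (.node (.leaf 0xd06d94d) (.leaf 0x0))))) (.node (.node (.node (.node (.leaf 0x1036d94d) (.leaf 0xc089945)) (.node (.leaf 0xd761969) (.leaf 0x123ed969))) (.node (.node (.leaf 0x4439947) (.leaf 0xa7a196b)) (.node (.leaf 0x5185947) (.leaf 0x5ca9947)))) (.node (.node (.node (.leaf 0x9d19969) (.leaf 0x12975945)) (.node (.leaf 0xf12996b) (.leaf 0xbb25945))) (.node (.node (.leaf 0xf665945) (.leaf 0xedc1969))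 (.node (.leaf 0x19cc) (.leaf 0x0))))))) (.node (.node (.node (.node (.node (.node (.leaf 0xa49996b) (.leaf 0xd5f9969)) (.node (.leaf 0x865994d) (.leaf 0x120b1969))) (.node (.node (.leaf 0x666196b) (.leaf 0xeaa9947)) (.node (.leaf 0xe3ad947) (.leaf 0x100d196b)))) (.node (.node (.node (.leaf 0xd4a994d) (.leaf 0xe10194d)) (.node (.leaf 0x5f0196b) (.leaf 0x109a9969))) (.node (.node (.leaf 0xf2d9947) (.leaf 0x123b996b)) (.node (.leaf 0x10d0996b) (.leaf 0x0))))) (.node (.node (.node (.node (.leaf 0x8655969) (.leaf 0xc075969)) (.node (.leaf 0xe951945) (.leaf 0x1059996b))) (.node (.node (.leaf 0x11ad9947) (.leaf 0xe775947)) (.node (.leaf 0xdf65969) (.leaf 0x1116d96b)))) (.node (.node (.node (.leaf 0x8e59969) (.leaf 0x8a1d96b)) (.node (.leaf 0xd9c996b) (.leaf 0x43f596b))) (.node (.node (.leaf 0x8835947) (.leaf 0x1313594d)) (.node (.leaf 0xedd996b) (.leaf 0x0)))))) (.node (.node (.node (.node (.node (.leaf 0x4105945) (.leaf 0xd9a996b))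 (.node (.leaf 0x1023596b) (.leaf 0xf5ad94d))) (.node (.node (.leaf 0xd00d945) (.leaf 0xf575969)) (.node (.leaf 0xe0dd947) (.leaf 0xc389969)))) (.node (.node (.node (.leaf 0xe825945) (.leaf 0xddc994d)) (.node (.leaf 0x10535941) (.leaf 0xa98d96b))) (.node (.node (.leaf 0xf8d9969) (.leaf 0x133b594d)) (.node (.leaf 0xd1b1969) (.leaf 0x0))))) (.node (.node (.node (.node (.leaf 0xe825947) (.leaf 0xde2d945)) (.node (.leaf 0x537994d) (.leaf 0xd845945))) (.node (.node (.leaf 0xdac1941) (.leaf 0x1331d96b)) (.node (.leaf 0x9d4196b) (.leaf 0x0)))) (.node (.node (.node (.leaf 0x878594d) (.leaf 0xc561969)) (.node (.leaf 0xcd71969) (.leaf 0xf531969))) (.node (.node (.leaf 0xd259947) (.leaf 0x1238196b)) (.node (.leaf 0x1280d94d) (.leaf 0x0)))))))) (.node (.node (.node (.node (.node (.node (.node (.leaf 0x6c61945) (.leaf 0xe5b9969)) (.node (.leaf 0xcea5969) (.leaf 0x10c7d96b))) (.node (.node (.leaf 0xba25945) (.leaf 0xaea196b)) (.node (.leaf 0x84dd96b)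 (.leaf 0x12015969)))) (.node (.node (.node (.leaf 0x10479969) (.leaf 0x9f3994d)) (.node (.leaf 0x81cd969) (.leaf 0x9f41969))) (.node (.node (.leaf 0x119ad941) (.leaf 0xf4f9945)) (.node (.leaf 0xd8c1945) (.leaf 0x0))))) (.node (.node (.node (.node (.leaf 0x1172196b) (.leaf 0x10581969)) (.node (.leaf 0x1310996b) (.leaf 0x9f1d969))) (.node (.node (.leaf 0xd255947) (.leaf 0x141c596b)) (.node (.leaf 0x8b1d94d) (.leaf 0x62a1945)))) (.node (.node (.node (.leaf 0x109f196b) (.leaf 0x9f39945)) (.node (.leaf 0xc345941) (.leaf 0x10165969))) (.node (.node (.leaf 0xed79969) (.leaf 0x6541941)) (.node (.leaf 0xeb85945) (.leaf 0x0)))))) (.node (.node (.node (.node (.node (.leaf 0xd98d945) (.leaf 0xd1b196b)) (.node (.leaf 0x1972) (.leaf 0xd9a5969))) (.node (.node (.leaf 0x99d996b) (.leaf 0x8881947)) (.node (.leaf 0xda8d945) (.leaf 0x11e5d969)))) (.node (.node (.node (.leaf 0x9afd94d) (.leaf 0x197a)) (.node (.leaf 0xf1d9969) (.leaf 0xed95947)))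 (.node (.node (.leaf 0x1015194d) (.leaf 0xc54596b)) (.node (.leaf 0x46f1945) (.leaf 0x0))))) (.node (.node (.node (.node (.leaf 0x9bdd94d) (.leaf 0x1260594d)) (.node (.leaf 0xcde994d) (.leaf 0xe379969))) (.node (.node (.leaf 0x443d94d) (.leaf 0x9449969)) (.node (.leaf 0x9b4994d) (.leaf 0xfaa9941)))) (.node (.node (.node (.leaf 0xdb4196b) (.leaf 0xdf5d941)) (.node (.leaf 0x788996b) (.leaf 0x12d9d969))) (.node (.node (.leaf 0x1058d96b) (.leaf 0x12b19969)) (.node (.leaf 0x6121969) (.leaf 0x0))))))) (.node (.node (.node (.node (.node (.node (.leaf 0xf86d969) (.leaf 0x11e5d94d)) (.node (.leaf 0xf0b5947) (.leaf 0xc55d96b))) (.node (.node (.leaf 0x10d05969) (.leaf 0x5f0194d)) (.node (.leaf 0x99d9945) (.leaf 0x11e5d96b)))) (.node (.node (.node (.leaf 0xd25194d) (.leaf 0x16c51941)) (.node (.leaf 0xdc45945) (.leaf 0x134d994d))) (.node (.node (.leaf 0xd5e194d) (.leaf 0xf14d94d)) (.node (.leaf 0xdea1969) (.leaf 0x0))))) (.node (.node (.node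 (.node (.leaf 0x5269947) (.leaf 0xe51d945)) (.node (.leaf 0x13115969) (.leaf 0x1323194d))) (.node (.node (.leaf 0x1023d94d) (.leaf 0xc2b596b)) (.node (.leaf 0x804994d) (.leaf 0x61b1947)))) (.node (.node (.node (.leaf 0x10a7596b) (.leaf 0xc085945)) (.node (.leaf 0x911996b) (.leaf 0xb9f996b))) (.node (.node (.leaf 0x105cd969) (.leaf 0xa16996b)) (.node (.leaf 0x14d3196b) (.leaf 0x0)))))) (.node (.node (.node (.node (.node (.leaf 0xf9b9945) (.leaf 0x61b194d)) (.node (.leaf 0x14a65969) (.leaf 0x12391941))) (.node (.node (.leaf 0xc8dd945) (.leaf 0xebb9969)) (.node (.leaf 0x82c194d) (.leaf 0x1380994d)))) (.node (.node (.node (.leaf 0x11ea5969) (.leaf 0xeaa994d)) (.node (.leaf 0x11dad96b) (.leaf 0x1317994d))) (.node (.node (.leaf 0x4259945) (.leaf 0xb53594d)) (.node (.leaf 0x1325d969) (.leaf 0x0))))) (.node (.node (.node (.node (.leaf 0xce79969) (.leaf 0x199a)) (.node (.leaf 0xe885969) (.leaf 0xd99d969))) (.node (.node (.leaf 0xeb55947)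 (.leaf 0x1229594d)) (.node (.leaf 0x11ffd96b) (.leaf 0x0)))) (.node (.node (.node (.leaf 0xf2f996b) (.leaf 0x130cd941)) (.node (.leaf 0x12b3d96b) (.leaf 0xf53196b))) (.node (.node (.leaf 0xc88d94d) (.leaf 0x12639941)) (.node (.leaf 0xdf4d947) (.leaf 0x0))))))))) (.node (.node (.node (.node (.node (.node (.node (.node (.leaf 0x9b5d96b) (.leaf 0x1345596b)) (.node (.leaf 0xdc2d94d) (.leaf 0x1262196b))) (.node (.node (.leaf 0x8669969) (.leaf 0x1310d941)) (.node (.leaf 0xa435969) (.leaf 0xd545969)))) (.node (.node (.node (.leaf 0x945594d) (.leaf 0x171b596b)) (.node (.leaf 0x803d96b) (.leaf 0x6e0d96b))) (.node (.node (.leaf 0x1366196b) (.leaf 0x12a59945)) (.node (.leaf 0x903194d) (.leaf 0x0))))) (.node (.node (.node (.node (.leaf 0xe971945) (.leaf 0x14d4996b)) (.node (.leaf 0x10c1596b) (.leaf 0xb20d94d))) (.node (.node (.leaf 0xdcb194d) (.leaf 0xd9a596b)) (.node (.leaf 0x8b1994d) (.leaf 0x8869947)))) (.node (.node (.node (.leaf 0xf90196b)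 (.leaf 0xdf4d945)) (.node (.leaf 0xdea196b) (.leaf 0xb161969))) (.node (.node (.leaf 0x537996b) (.leaf 0xed9194d)) (.node (.leaf 0xf621969) (.leaf 0x0)))))) (.node (.node (.node (.node (.node (.leaf 0x14a6996b) (.leaf 0x19d8)) (.node (.leaf 0xd36d941) (.leaf 0xd82d945))) (.node (.node (.leaf 0x13561945) (.leaf 0x10f15969)) (.node (.leaf 0x806d969) (.leaf 0xf6a194d)))) (.node (.node (.node (.leaf 0xf4d596b) (.leaf 0x124e194d)) (.node (.leaf 0xdcd1969) (.leaf 0xeef594d))) (.node (.node (.leaf 0x1292d945) (.leaf 0xd9a1969)) (.node (.leaf 0x46d1945) (.leaf 0x0))))) (.node (.node (.node (.node (.leaf 0x9bd994d) (.leaf 0xe5ed94d)) (.node (.leaf 0xde3996b) (.leaf 0xc54996b))) (.node (.node (.leaf 0xcb59969) (.leaf 0x13455941)) (.node (.leaf 0x6691947) (.leaf 0xa9e9969)))) (.node (.node (.node (.leaf 0x5b2996b) (.leaf 0x721d96b)) (.node (.leaf 0xc069945) (.leaf 0xa359969))) (.node (.node (.leaf 0xf0b5945) (.leaf 0xf155947)) (.node (.leaf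 0xe63d96b) (.leaf 0x0))))))) (.node (.node (.node (.node (.node (.node (.leaf 0xc59194d) (.leaf 0xdaf9969)) (.node (.leaf 0xc68194d) (.leaf 0xa7e5947))) (.node (.node (.leaf 0x8e5996b) (.leaf 0xd9a196b)) (.node (.leaf 0xd8d596b) (.leaf 0xbac194d)))) (.node (.node (.node (.leaf 0x8979969) (.leaf 0x111c9969)) (.node (.leaf 0x10fd5969) (.leaf 0xe3c5941))) (.node (.node (.leaf 0xe895969) (.leaf 0xf3f5947)) (.node (.leaf 0x1201996b) (.leaf 0x0))))) (.node (.node (.node (.node (.leaf 0x6c61947) (.leaf 0x197c)) (.node (.leaf 0x109f1969) (.leaf 0xe619945))) (.node (.node (.leaf 0x1186d947) (.leaf 0xdab1969)) (.node (.leaf 0xdaa994d) (.leaf 0xd74d96b)))) (.node (.node (.node (.leaf 0x12e7d96b) (.leaf 0x829d96b)) (.node (.leaf 0xd0f196b) (.leaf 0xb261945))) (.node (.node (.leaf 0x8871945) (.leaf 0x719194d)) (.node (.leaf 0x80bd945) (.leaf 0x0)))))) (.node (.node (.node (.node (.node (.leaf 0xa25d96b) (.leaf 0xe979947)) (.node (.leaf 0xe0dd969)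 (.leaf 0xeadd945))) (.node (.node (.leaf 0xe049947) (.leaf 0x13215941)) (.node (.leaf 0x829994d) (.leaf 0xf82d94d)))) (.node (.node (.node (.leaf 0x4271945) (.leaf 0xe50d969)) (.node (.leaf 0x10551941) (.leaf 0xf33194d))) (.node (.node (.leaf 0x12519969) (.leaf 0x19ac)) (.node (.leaf 0x9b09969) (.leaf 0x0))))) (.node (.node (.node (.node (.leaf 0x13825969) (.leaf 0x128a594d)) (.node (.leaf 0xc3b1969) (.leaf 0xf241945))) (.node (.node (.leaf 0xced994d) (.leaf 0x127f194d)) (.node (.leaf 0x103a996b) (.leaf 0x0)))) (.node (.node (.node (.leaf 0x10565969) (.leaf 0x79f5945)) (.node (.leaf 0xdef5945) (.leaf 0x8a25945))) (.node (.node (.leaf 0x888594d) (.leaf 0xe8cd941)) (.node (.leaf 0x1964) (.leaf 0x0)))))))) (.node (.node (.node (.node (.node (.node (.node (.leaf 0x1172596b) (.leaf 0x123ed96b)) (.node (.leaf 0x12019969) (.leaf 0x1305994d))) (.node (.node (.leaf 0x15805941) (.leaf 0x13555969)) (.node (.leaf 0x4105969) (.leaf 0x613d969))))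 (.node (.node (.node (.leaf 0xda2196b) (.leaf 0x16d8d941)) (.node (.leaf 0x6da1969) (.leaf 0xdab996b))) (.node (.node (.leaf 0x119b9941) (.leaf 0x19be)) (.node (.leaf 0xdc21969) (.leaf 0x0))))) (.node (.node (.node (.node (.leaf 0x19a8) (.leaf 0xc61d945)) (.node (.leaf 0x6da196b) (.leaf 0x61b1941))) (.node (.node (.leaf 0x1170594d) (.leaf 0xdf11945)) (.node (.leaf 0xe27d969) (.leaf 0x12ab196b)))) (.node (.node (.node (.leaf 0x60f1969) (.leaf 0x1990)) (.node (.leaf 0x110b994d) (.leaf 0xceed947))) (.node (.node (.leaf 0x9265947) (.leaf 0x12bf5969)) (.node (.leaf 0x1359d969) (.leaf 0x0)))))) (.node (.node (.node (.node (.node (.leaf 0xdf15969) (.leaf 0x14d2d96b)) (.node (.leaf 0xe4a5947) (.leaf 0x6121941))) (.node (.node (.leaf 0x4439941) (.leaf 0xf1e1945)) (.node (.leaf 0xd94594d) (.leaf 0xb7cd969)))) (.node (.node (.node (.leaf 0x9b0594d) (.leaf 0xddb994d)) (.node (.leaf 0xcc2594d) (.leaf 0xdac196b))) (.node (.node (.leaf 0x9861969)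 (.leaf 0x196e)) (.node (.leaf 0x10585969) (.leaf 0x0))))) (.node (.node (.node (.node (.leaf 0xc5d1945) (.leaf 0x6ce1941)) (.node (.leaf 0x110f5941) (.leaf 0x1229596b))) (.node (.node (.leaf 0x9031969) (.leaf 0x11e1594d)) (.node (.leaf 0x801d969) (.leaf 0x0)))) (.node (.node (.node (.leaf 0x1230d96b) (.leaf 0x6fed941)) (.node (.leaf 0x8649941) (.leaf 0xf8a1941))) (.node (.node (.leaf 0x13a0d969) (.leaf 0xf63594d)) (.node (.leaf 0x11471969) (.leaf 0x0))))))) (.node (.node (.node (.node (.node (.node (.leaf 0xcd7194d) (.leaf 0xc639945)) (.node (.leaf 0xd799945) (.leaf 0x12a4596b))) (.node (.node (.leaf 0x130ad969) (.leaf 0xb53596b)) (.node (.leaf 0xcfdd96b) (.leaf 0x14d5596b)))) (.node (.node (.node (.leaf 0x926594d) (.leaf 0xe37996b)) (.node (.leaf 0x15885941) (.leaf 0xf4b194d))) (.node (.node (.leaf 0xf8d9945) (.leaf 0x1974)) (.node (.leaf 0x11f71969) (.leaf 0x0))))) (.node (.node (.node (.node (.leaf 0x1035594d) (.leaf 0x1345d969))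 (.node (.leaf 0xc899945) (.leaf 0x125f1969))) (.node (.node (.leaf 0xe97196b) (.leaf 0x7191947)) (.node (.leaf 0x14ba5941) (.leaf 0xb67d941)))) (.node (.node (.node (.leaf 0x401596b) (.leaf 0x12a7594d)) (.node (.leaf 0xd15594d) (.leaf 0x12ab1969))) (.node (.node (.leaf 0x12a95969) (.leaf 0xec5994d)) (.node (.leaf 0x11ef194d) (.leaf 0x0)))))) (.node (.node (.node (.node (.node (.leaf 0x10e8d969) (.leaf 0x11e15969)) (.node (.leaf 0x122a596b) (.leaf 0xadad969))) (.node (.node (.leaf 0xe885945) (.leaf 0xf57596b)) (.node (.leaf 0x443d941) (.leaf 0x1342996b)))) (.node (.node (.node (.leaf 0xe265947) (.leaf 0xbaad969)) (.node (.leaf 0x9b01969) (.leaf 0x1265596b))) (.node (.node (.leaf 0x8de5969) (.leaf 0xe725945)) (.node (.leaf 0xe7a994d) (.leaf 0x0))))) (.node (.node (.node (.node (.leaf 0xa805945) (.leaf 0x8a2596b)) (.node (.leaf 0x128e5969) (.leaf 0xed5594d))) (.node (.node (.leaf 0xd729945) (.leaf 0x125fd96b)) (.node (.leaf 0x6661945)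 (.leaf 0x0)))) (.node (.node (.node (.leaf 0xdadd96b) (.leaf 0x121b596b)) (.node (.leaf 0x880194d) (.leaf 0xb9ed969))) (.node (.node (.leaf 0x98dd969) (.leaf 0x10f29969)) (.node (.leaf 0xc8a5947) (.leaf 0x0))))))))))

/-- packed table -/
noncomputable def cov12_llr : BTree := (.node (.node (.node (.node (.node (.node (.node (.node (.node (.leaf 0x9d19941) (.leaf 0xa87994d)) (.node (.leaf 0x4445945) (.leaf 0x16b6196b))) (.node (.node (.leaf 0xd7ed94d) (.leaf 0x109e5969)) (.node (.leaf 0xa8c196b) (.leaf 0xc38996b)))) (.node (.node (.node (.leaf 0xd44194d) (.leaf 0xdf9194d)) (.node (.leaf 0xc529969) (.leaf 0xdf99947))) (.node (.node (.leaf 0xc08d945) (.leaf 0xc4e996b)) (.node (.leaf 0x901d94d) (.leaf 0x0))))) (.node (.node (.node (.node (.leaf 0x14ab1969) (.leaf 0xf8a1969)) (.node (.leaf 0x122a5969) (.leaf 0x721d94d))) (.node (.node (.leaf 0xefd5947) (.leaf 0x81b596b)) (.node (.leaf 0x8b0594d) (.leaf 0xb65194d)))) (.node (.node (.node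 (.leaf 0xbaed969) (.leaf 0x12c95941)) (.node (.leaf 0xd61994d) (.leaf 0xdf55941))) (.node (.node (.leaf 0x936596b) (.leaf 0xbac596b)) (.node (.leaf 0x12b5d94d) (.leaf 0x0)))))) (.node (.node (.node (.node (.node (.leaf 0x7799969) (.leaf 0x1234d94d)) (.node (.leaf 0x911994d) (.leaf 0x9275947))) (.node (.node (.leaf 0xd79994d) (.leaf 0x11fcd94d)) (.node (.leaf 0x130ad96b) (.leaf 0xf6a994d)))) (.node (.node (.node (.leaf 0x10f4996b) (.leaf 0xf89d969)) (.node (.leaf 0x135d5969) (.leaf 0xdf05947))) (.node (.node (.leaf 0x126b5969) (.leaf 0xdaf596b)) (.node (.leaf 0x1318196b) (.leaf 0x0))))) (.node (.node (.node (.node (.leaf 0xdbc994d) (.leaf 0xc059969)) (.node (.leaf 0xc55996b) (.leaf 0xc05d96b))) (.node (.node (.leaf 0x11a1594d) (.leaf 0xa3d9969)) (.node (.leaf 0x9455969) (.leaf 0x76f994d)))) (.node (.node (.node (.leaf 0x19dc) (.leaf 0x1321596b)) (.node (.leaf 0xcf0996b) (.leaf 0x613d96b))) (.node (.node (.leaf 0x148fd96b) (.leaf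 0xb161947)) (.node (.leaf 0xb16196b) (.leaf 0x0))))))) (.node (.node (.node (.node (.node (.node (.leaf 0x864996b) (.leaf 0x120a194d)) (.node (.leaf 0x866d94d) (.leaf 0xf58194d))) (.node (.node (.leaf 0xa36196b) (.leaf 0x12c95969)) (.node (.leaf 0xd4d5941) (.leaf 0xbac594d)))) (.node (.node (.node (.leaf 0x10959941) (.leaf 0xdbcd96b)) (.node (.leaf 0x10195941) (.leaf 0xa761947))) (.node (.node (.leaf 0xc8a1947) (.leaf 0x12d1d969)) (.node (.leaf 0xc59196b) (.leaf 0x0))))) (.node (.node (.node (.node (.leaf 0x828d941) (.leaf 0x12211947)) (.node (.leaf 0x410594d) (.leaf 0x925d947))) (.node (.node (.leaf 0x12781947) (.leaf 0xe78d947)) (.node (.leaf 0x95c9941) (.leaf 0x100d1969)))) (.node (.node (.node (.leaf 0x10e89969) (.leaf 0x1982)) (.node (.leaf 0x110d194d) (.leaf 0x134d9969))) (.node (.node (.leaf 0xd42194d) (.leaf 0xe831947)) (.node (.leaf 0xb3fd947) (.leaf 0x0)))))) (.node (.node (.node (.node (.node (.leaf 0x109ed96b) (.leaf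 0x82a196b)) (.node (.leaf 0xbb0996b) (.leaf 0x19f0))) (.node (.node (.leaf 0x9031945) (.leaf 0x109e9969)) (.node (.leaf 0x8885947) (.leaf 0xf83994d)))) (.node (.node (.node (.leaf 0x9455947) (.leaf 0x80bd947)) (.node (.leaf 0xc53d941) (.leaf 0x887d945))) (.node (.node (.leaf 0x12fe596b) (.leaf 0xba39969)) (.node (.leaf 0x10c81969) (.leaf 0x0))))) (.node (.node (.node (.node (.leaf 0xa25d945) (.leaf 0xe8ad94d)) (.node (.leaf 0x120a1969) (.leaf 0xe5b996b))) (.node (.node (.leaf 0x11ac5941) (.leaf 0xa7cd94d)) (.node (.leaf 0x12e7d969) (.leaf 0x0)))) (.node (.node (.node (.leaf 0xc0f1969) (.leaf 0x9bdd96b)) (.node (.leaf 0x806d945) (.leaf 0x10d51969))) (.node (.node (.leaf 0x887994d) (.leaf 0x133a196b)) (.node (.leaf 0xb959945) (.leaf 0x0)))))))) (.node (.node (.node (.node (.node (.node (.node (.leaf 0x81cd945) (.leaf 0xe97d941)) (.node (.leaf 0xe409969) (.leaf 0x148f596b))) (.node (.node (.leaf 0xe49d969) (.leaf 0xeadd94d)) (.node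 (.leaf 0xfad1969) (.leaf 0xb86194d)))) (.node (.node (.node (.leaf 0x5029947) (.leaf 0x6da1941)) (.node (.leaf 0x5269969) (.leaf 0x804196b))) (.node (.node (.leaf 0xd9c1941) (.leaf 0x12ee594d)) (.node (.leaf 0xdc09969) (.leaf 0x0))))) (.node (.node (.node (.node (.leaf 0xe12596b) (.leaf 0xa8bd947)) (.node (.leaf 0xb38996b) (.leaf 0x148ed96b))) (.node (.node (.leaf 0x1021d94d) (.leaf 0x1036996b)) (.node (.leaf 0x12c3d969) (.leaf 0x1278596b)))) (.node (.node (.node (.leaf 0xe28d947) (.leaf 0x125d1947)) (.node (.leaf 0xd2d594d) (.leaf 0x7979941))) (.node (.node (.leaf 0x13231969) (.leaf 0x169d5941)) (.node (.leaf 0xf1d596b) (.leaf 0x0)))))) (.node (.node (.node (.node (.node (.leaf 0xd791969) (.leaf 0xf891969)) (.node (.leaf 0xcddd947) (.leaf 0xf5c596b))) (.node (.node (.leaf 0x94e5947) (.leaf 0x9741945)) (.node (.leaf 0xd825947) (.leaf 0xb95994d)))) (.node (.node (.node (.leaf 0xdb1594d) (.leaf 0xe72594d)) (.node (.leaf 0x13981969)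 (.leaf 0xe1ad969))) (.node (.node (.leaf 0xe4d1945) (.leaf 0x1230d941)) (.node (.leaf 0xc0b9947) (.leaf 0x0))))) (.node (.node (.node (.node (.leaf 0xf38d945) (.leaf 0x12151947)) (.node (.leaf 0xd155969) (.leaf 0xf581945))) (.node (.node (.leaf 0x845194d) (.leaf 0x8665945)) (.node (.leaf 0x9b45945) (.leaf 0x0)))) (.node (.node (.node (.leaf 0x130cd969) (.leaf 0xa76194d)) (.node (.leaf 0xe809945) (.leaf 0xf88d941))) (.node (.node (.leaf 0xebe5947) (.leaf 0xd245947)) (.node (.leaf 0x1245994d) (.leaf 0x0))))))) (.node (.node (.node (.node (.node (.node (.leaf 0xe28d945) (.leaf 0xe8f1945)) (.node (.leaf 0xe6a1945) (.leaf 0xf0a196b))) (.node (.node (.leaf 0x10c8d969) (.leaf 0xeb05947)) (.node (.leaf 0xc93d94d) (.leaf 0x8111969)))) (.node (.node (.node (.leaf 0x927594d) (.leaf 0x9a99969)) (.node (.leaf 0x99e1947) (.leaf 0x12041969))) (.node (.node (.leaf 0xd5cd94d) (.leaf 0xba31969)) (.node (.leaf 0x866d947) (.leaf 0x0))))) (.node (.node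 (.node (.node (.leaf 0x1034994d) (.leaf 0x12f49941)) (.node (.leaf 0xed55969) (.leaf 0xb60194d))) (.node (.node (.leaf 0x1239d96b) (.leaf 0x1282d94d)) (.node (.leaf 0xc07594d) (.leaf 0x8869945)))) (.node (.node (.node (.leaf 0x19fc) (.leaf 0x129f994d)) (.node (.leaf 0xd6f5969) (.leaf 0x12785969))) (.node (.node (.leaf 0xdbe5945) (.leaf 0x14d45969)) (.node (.leaf 0xd199969) (.leaf 0x0)))))) (.node (.node (.node (.node (.node (.leaf 0xcfa196b) (.leaf 0xeaf5945)) (.node (.leaf 0x10e95969) (.leaf 0xe969947))) (.node (.node (.leaf 0xf055945) (.leaf 0x12ba9969)) (.node (.leaf 0xc2b594d) (.leaf 0x12cc196b)))) (.node (.node (.node (.leaf 0x9b0196b) (.leaf 0xf88d969)) (.node (.leaf 0xdab1941) (.leaf 0xec7d94d))) (.node (.node (.leaf 0x5141945) (.leaf 0x9279947)) (.node (.leaf 0xb265969) (.leaf 0x0))))) (.node (.node (.node (.node (.leaf 0x13a2996b) (.leaf 0x63c194d)) (.node (.leaf 0x1306d96b) (.leaf 0xc07596b))) (.node (.node (.leaf 0xf579945)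 (.leaf 0xe2b594d)) (.node (.leaf 0xa4b1945) (.leaf 0x0)))) (.node (.node (.node (.leaf 0xd80996b) (.leaf 0xc615945)) (.node (.leaf 0x14d3596b) (.leaf 0xb95596b))) (.node (.node (.leaf 0xc96594d) (.leaf 0x9261947)) (.node (.leaf 0xe91594d) (.leaf 0x0))))))))) (.node (.node (.node (.node (.node (.node (.node (.node (.leaf 0x9b79945) (.leaf 0xe5f5947)) (.node (.leaf 0x4465945) (.leaf 0x14d49969))) (.node (.node (.leaf 0xf9b9947) (.leaf 0xae4196b)) (.node (.leaf 0xb3cd96b) (.leaf 0xb601947)))) (.node (.node (.node (.leaf 0x944994d) (.leaf 0xe17d945)) (.node (.leaf 0xb369969) (.leaf 0x129f9969))) (.node (.node (.leaf 0xd9a5941) (.leaf 0xf501947)) (.node (.leaf 0xcb75947) (.leaf 0x0))))) (.node (.node (.node (.node (.leaf 0xd875945) (.leaf 0xe8dd947)) (.node (.leaf 0x11a7194d) (.leaf 0xc2c9969))) (.node (.node (.leaf 0x122f596b) (.leaf 0x82a596b)) (.node (.leaf 0x8b3194d) (.leaf 0x63c1945)))) (.node (.node (.node (.leaf 0x85b9969) (.leaf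 0x1221d94d)) (.node (.leaf 0x10311941) (.leaf 0xdda5941))) (.node (.node (.leaf 0x9125969) (.leaf 0xb3fd94d)) (.node (.leaf 0xac0d969) (.leaf 0x0)))))) (.node (.node (.node (.node (.node (.leaf 0xf591945) (.leaf 0xef1196b)) (.node (.leaf 0xcded945) (.leaf 0x148f196b))) (.node (.node (.leaf 0x99e196b) (.leaf 0x1036596b)) (.node (.leaf 0xd54d941) (.leaf 0xe641969)))) (.node (.node (.node (.leaf 0xdaed94d) (.leaf 0xeb85947)) (.node (.leaf 0x10f49969) (.leaf 0xaafd947))) (.node (.node (.leaf 0x1016594d) (.leaf 0xd431945)) (.node (.leaf 0xc6dd96b) (.leaf 0x0))))) (.node (.node (.node (.node (.leaf 0xdbed94d) (.leaf 0x1288d969)) (.node (.leaf 0x9145969) (.leaf 0xa01d945))) (.node (.node (.leaf 0x4465947) (.leaf 0xd73d945)) (.node (.leaf 0x5b29941) (.leaf 0xd2b1969)))) (.node (.node (.node (.leaf 0x9b45969) (.leaf 0xf22196b)) (.node (.leaf 0xed71945) (.leaf 0x13429969))) (.node (.node (.leaf 0xcccd945) (.leaf 0xeb11969)) (.node (.leaf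 0xe44594d) (.leaf 0x0))))))) (.node (.node (.node (.node (.node (.node (.leaf 0xb3cd969) (.leaf 0xde2d947)) (.node (.leaf 0xc67594d) (.leaf 0x14d31969))) (.node (.node (.leaf 0xf08d969) (.leaf 0x1239594d)) (.node (.leaf 0xd8cd96b) (.leaf 0x12a0196b)))) (.node (.node (.node (.leaf 0x887194d) (.leaf 0x6c61941)) (.node (.leaf 0x848d94d) (.leaf 0x9de5945))) (.node (.node (.leaf 0x884d96b) (.leaf 0x1316994d)) (.node (.leaf 0xbb09945) (.leaf 0x0))))) (.node (.node (.node (.node (.leaf 0xb309947) (.leaf 0xe599969)) (.node (.leaf 0x811194d) (.leaf 0xd249947))) (.node (.node (.leaf 0x1024d94d) (.leaf 0xe5e194d)) (.node (.leaf 0x9a9994d) (.leaf 0xed91969)))) (.node (.node (.node (.leaf 0x11ffd969) (.leaf 0x12511947)) (.node (.leaf 0x912596b) (.leaf 0x79f596b))) (.node (.node (.leaf 0xddd5969) (.leaf 0xbab996b)) (.node (.leaf 0x1059d969) (.leaf 0x0)))))) (.node (.node (.node (.node (.node (.leaf 0xa80596b) (.leaf 0x1988)) (.node (.leaf 0x886994d)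 (.leaf 0xe59996b))) (.node (.node (.leaf 0xc3b1947) (.leaf 0xf331945)) (.node (.leaf 0xc2ad94d) (.leaf 0xf7ed94d)))) (.node (.node (.node (.leaf 0xded5969) (.leaf 0x8879947)) (.node (.leaf 0xc549941) (.leaf 0x7191969))) (.node (.node (.leaf 0x14d35969) (.leaf 0xae1d945)) (.node (.leaf 0xf259969) (.leaf 0x0))))) (.node (.node (.node (.node (.leaf 0x9afd969) (.leaf 0xdde9941)) (.node (.leaf 0x1996) (.leaf 0xd07d969))) (.node (.node (.leaf 0x11acd941) (.leaf 0x1694d969)) (.node (.leaf 0xd841945) (.leaf 0x0)))) (.node (.node (.node (.leaf 0x148e9969) (.leaf 0xc075945)) (.node (.leaf 0x13209969) (.leaf 0xf5b596b))) (.node (.node (.leaf 0xc8a194d) (.leaf 0xf621945)) (.node (.leaf 0xa721945) (.leaf 0x0)))))))) (.node (.node (.node (.node (.node (.node (.node (.leaf 0xb3c9945) (.leaf 0xe3f996b)) (.node (.leaf 0xc2c5969) (.leaf 0xeb9196b))) (.node (.node (.leaf 0x427996b) (.leaf 0xe1d9945)) (.node (.leaf 0xd87994d) (.leaf 0xf86d94d))))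 (.node (.node (.node (.leaf 0xcb5994d) (.leaf 0xdcb196b)) (.node (.leaf 0xf7ed947) (.leaf 0x16341941))) (.node (.node (.leaf 0xdebd945) (.leaf 0x16919941)) (.node (.leaf 0xe40996b) (.leaf 0x0))))) (.node (.node (.node (.node (.leaf 0x194a) (.leaf 0xc07d945)) (.node (.leaf 0x53b196b) (.leaf 0x14d2d969))) (.node (.node (.leaf 0x12d21947) (.leaf 0xf4b1945)) (.node (.leaf 0xdbed96b) (.leaf 0x1116196b)))) (.node (.node (.node (.leaf 0xa4b1969) (.leaf 0xdf09969)) (.node (.leaf 0x110c594d) (.leaf 0xd7f9945))) (.node (.node (.leaf 0x8dc194d) (.leaf 0x9461945)) (.node (.leaf 0x11e7994d) (.leaf 0x0)))))) (.node (.node (.node (.node (.node (.leaf 0xd46d941) (.leaf 0xeef5945)) (.node (.leaf 0x4105941) (.leaf 0xea09969))) (.node (.node (.leaf 0x9a19969) (.leaf 0x8661945)) (.node (.leaf 0xfad196b) (.leaf 0xc3b9969)))) (.node (.node (.node (.leaf 0xec55947) (.leaf 0xddd594d)) (.node (.leaf 0xc051969) (.leaf 0xe99d96b))) (.node (.node (.leaf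 0x9bd9945) (.leaf 0x9445945)) (.node (.leaf 0x8875947) (.leaf 0x0))))) (.node (.node (.node (.node (.leaf 0x1036d969) (.leaf 0xe12594d)) (.node (.leaf 0x9125941) (.leaf 0xd089969))) (.node (.node (.leaf 0x9011969) (.leaf 0x9445969)) (.node (.leaf 0x9d1996b) (.leaf 0x0)))) (.node (.node (.node (.leaf 0x1091996b) (.leaf 0xede9969)) (.node (.leaf 0xee65969) (.leaf 0xf275969))) (.node (.node (.leaf 0xba25969) (.leaf 0x1638596b)) (.node (.leaf 0xe82594d) (.leaf 0x0))))))) (.node (.node (.node (.node (.node (.node (.leaf 0x883594d) (.leaf 0x1962)) (.node (.leaf 0x9385945) (.leaf 0xd251947))) (.node (.node (.leaf 0x1176d94d) (.leaf 0xb49d96b)) (.node (.leaf 0xcfcd96b) (.leaf 0xd5e9945)))) (.node (.node (.node (.leaf 0x1305996b) (.leaf 0xa415945)) (.node (.leaf 0x8b05969) (.leaf 0x804996b))) (.node (.node (.leaf 0xc5f5969) (.leaf 0xdf0996b)) (.node (.leaf 0x115d596b) (.leaf 0x0))))) (.node (.node (.node (.node (.leaf 0x1038194d) (.leaf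 0x151cd96b)) (.node (.leaf 0xefd9969) (.leaf 0xe3f9969))) (.node (.node (.leaf 0x11bf196b) (.leaf 0xf1a9947)) (.node (.leaf 0xa451947) (.leaf 0xc5e996b)))) (.node (.node (.node (.leaf 0x1a10) (.leaf 0xc081945)) (.node (.leaf 0x514194d) (.leaf 0xe595969))) (.node (.node (.leaf 0xb651945) (.leaf 0xde31969)) (.node (.leaf 0xdaf1969) (.leaf 0x0)))))) (.node (.node (.node (.node (.node (.leaf 0x11f7196b) (.leaf 0x1299994d)) (.node (.leaf 0x12ee9969) (.leaf 0x1694d96b))) (.node (.node (.leaf 0xd5e1945) (.leaf 0xe4d5945)) (.node (.leaf 0xd50594d) (.leaf 0xf6b9969)))) (.node (.node (.node (.leaf 0x8181945) (.leaf 0xe5e1947)) (.node (.leaf 0xba7d945) (.leaf 0xc88d945))) (.node (.node (.leaf 0xcdc9969) (.leaf 0x148f996b)) (.node (.leaf 0x1255196b) (.leaf 0x0))))) (.node (.node (.node (.node (.leaf 0xd441947) (.leaf 0x12055969)) (.node (.leaf 0x14ab596b) (.leaf 0xae4194d))) (.node (.node (.leaf 0x10395941) (.leaf 0xa3d196b)) (.node (.leaf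 0xc679945) (.leaf 0x0)))) (.node (.node (.node (.leaf 0xdf29969) (.leaf 0xdbc996b)) (.node (.leaf 0x555596b) (.leaf 0xfa11941))) (.node (.node (.leaf 0x9a2d945) (.leaf 0xa7f996b)) (.node (.leaf 0xe5e1945) (.leaf 0x0))))))))))

/-- packed table -/
noncomputable def cov12_lrl : BTree := (.node (.node (.node (.node (.node (.node (.node (.node (.node (.leaf 0xc6ed969) (.leaf 0xea69969)) (.node (.leaf 0x11c0194d) (.leaf 0x109dd96b))) (.node (.node (.leaf 0xe19d969) (.leaf 0x8a25969)) (.node (.leaf 0x8865941) (.leaf 0xd7f9947)))) (.node (.node (.node (.leaf 0xd43994d) (.leaf 0x945d947)) (.node (.leaf 0x85a1969) (.leaf 0x12e3994d))) (.node (.node (.leaf 0x957594d) (.leaf 0xedc196b)) (.node (.leaf 0x901194d) (.leaf 0x0))))) (.node (.node (.node (.node (.leaf 0xc0a5947) (.leaf 0xf14d945)) (.node (.leaf 0x131e9969) (.leaf 0xf4f194d))) (.node (.node (.leaf 0xc685947) (.leaf 0xa6cd969)) (.node (.leaf 0xd4ed94d) (.leaf 0xf951941)))) (.node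 (.node (.node (.leaf 0xcfa596b) (.leaf 0x1234594d)) (.node (.leaf 0x11d7d96b) (.leaf 0xeb11945))) (.node (.node (.leaf 0x935596b) (.leaf 0x121dd941)) (.node (.leaf 0x1652d96b) (.leaf 0x0)))))) (.node (.node (.node (.node (.node (.leaf 0x9749945) (.leaf 0xf36d941)) (.node (.leaf 0x1a08) (.leaf 0xf38d94d))) (.node (.node (.leaf 0x13461945) (.leaf 0xef75945)) (.node (.leaf 0x10d0596b) (.leaf 0xd2ad96b)))) (.node (.node (.node (.leaf 0xf1d996b) (.leaf 0xf701969)) (.node (.leaf 0x903d96b) (.leaf 0x11ff196b))) (.node (.node (.leaf 0xd43d947) (.leaf 0x8659969)) (.node (.leaf 0x14ab196b) (.leaf 0x0))))) (.node (.node (.node (.node (.leaf 0x1036994d) (.leaf 0x1037d96b)) (.node (.leaf 0xdf2996b) (.leaf 0x6661941))) (.node (.node (.leaf 0xcb71969) (.leaf 0xd195947)) (.node (.leaf 0x5fa1947) (.leaf 0x5ca9945)))) (.node (.node (.node (.leaf 0x870d945) (.leaf 0xf32d96b)) (.node (.leaf 0xee8596b) (.leaf 0xbb1d945))) (.node (.node (.leaf 0x9bd5945)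 (.leaf 0xf50d94d)) (.node (.leaf 0xa8bd94d) (.leaf 0x0))))))) (.node (.node (.node (.node (.node (.node (.leaf 0xa67596b) (.leaf 0xd195945)) (.node (.leaf 0x866194d) (.leaf 0xeb9d96b))) (.node (.node (.leaf 0x518596b) (.leaf 0x13239941)) (.node (.leaf 0xd4dd941) (.leaf 0x19c8)))) (.node (.node (.node (.leaf 0xd4ad94d) (.leaf 0xd42d969)) (.node (.leaf 0x110c5969) (.leaf 0xf47994d))) (.node (.node (.leaf 0x1058d969) (.leaf 0xe3c996b)) (.node (.leaf 0x11da996b) (.leaf 0x0))))) (.node (.node (.node (.node (.leaf 0xc27d94d) (.leaf 0x14ac1969)) (.node (.leaf 0xb8fd969) (.leaf 0xe01196b))) (.node (.node (.leaf 0x13585947) (.leaf 0xa799947)) (.node (.leaf 0x1208996b) (.leaf 0x145e5969)))) (.node (.node (.node (.leaf 0xa2fd969) (.leaf 0x8d7d945)) (.node (.leaf 0x110d994d) (.leaf 0x103f996b))) (.node (.node (.leaf 0xd42994d) (.leaf 0x109e196b)) (.node (.leaf 0xde9194d) (.leaf 0x0)))))) (.node (.node (.node (.node (.node (.leaf 0xfad1945)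 (.leaf 0xe9a5969)) (.node (.leaf 0xcfa5969) (.leaf 0xb5b194d))) (.node (.node (.leaf 0x901d945) (.leaf 0xeeb1947)) (.node (.leaf 0xc54196b) (.leaf 0xd54596b)))) (.node (.node (.node (.leaf 0x10c85969) (.leaf 0x15e7196b)) (.node (.leaf 0x10531941) (.leaf 0x126ad969))) (.node (.node (.leaf 0x1306596b) (.leaf 0x865d969)) (.node (.leaf 0xdab196b) (.leaf 0x0))))) (.node (.node (.node (.node (.leaf 0xa25d947) (.leaf 0xb7cd945)) (.node (.leaf 0x8e19969) (.leaf 0x60f1941))) (.node (.node (.leaf 0xdab5941) (.leaf 0x16cb1941)) (.node (.leaf 0x9d2196b) (.leaf 0x0)))) (.node (.node (.node (.leaf 0xc709969) (.leaf 0xb421947)) (.node (.leaf 0xe6a5945) (.leaf 0x13319969))) (.node (.node (.leaf 0xb67d96b) (.leaf 0x8665969)) (.node (.leaf 0x14a5996b) (.leaf 0x0)))))))) (.node (.node (.node (.node (.node (.node (.node (.leaf 0x6d61945) (.leaf 0x9b21969)) (.node (.leaf 0xdf85969) (.leaf 0x1223d941))) (.node (.node (.leaf 0x993d96b) (.leaf 0x9f1d96b))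 (.node (.leaf 0xaed596b) (.leaf 0x126d5969)))) (.node (.node (.node (.leaf 0x104ad969) (.leaf 0x613d941)) (.node (.leaf 0x6d61969) (.leaf 0xecd194d))) (.node (.node (.leaf 0x119cd941) (.leaf 0xe17d94d)) (.node (.leaf 0xd89594d) (.leaf 0x0))))) (.node (.node (.node (.node (.leaf 0xdb0d969) (.leaf 0x12a6594d)) (.node (.leaf 0xb3c996b) (.leaf 0xc341969))) (.node (.node (.leaf 0xe591969) (.leaf 0xdefd945)) (.node (.leaf 0x1209d969) (.leaf 0x6541945)))) (.node (.node (.node (.leaf 0x518594d) (.leaf 0xf1e1969)) (.node (.leaf 0x112e194d) (.leaf 0xc345969))) (.node (.node (.leaf 0x10c1d969) (.leaf 0xe1bd945)) (.node (.leaf 0xc1dd969) (.leaf 0x0)))))) (.node (.node (.node (.node (.node (.leaf 0xe125969) (.leaf 0xee11947)) (.node (.leaf 0xcdc9945) (.leaf 0xc095947))) (.node (.node (.leaf 0xd8e994d) (.leaf 0x9b1d969)) (.node (.leaf 0x13661969) (.leaf 0xe4f1969)))) (.node (.node (.node (.leaf 0x9b2194d) (.leaf 0xe619947)) (.node (.leaf 0x13975969)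 (.leaf 0xadad94d))) (.node (.node (.leaf 0x1014994d) (.leaf 0xc689969)) (.node (.leaf 0x46d196b) (.leaf 0x0))))) (.node (.node (.node (.node (.leaf 0xd425947) (.leaf 0xb20d945)) (.node (.leaf 0x8dd994d) (.leaf 0xf59194d))) (.node (.node (.leaf 0xcb3596b) (.leaf 0x10be996b)) (.node (.leaf 0x5b4d945) (.leaf 0xd289969)))) (.node (.node (.node (.leaf 0x1312d969) (.leaf 0xf0ed945)) (.node (.leaf 0x4cb5969) (.leaf 0x13329969))) (.node (.node (.leaf 0xc681947) (.leaf 0xf49194d)) (.node (.leaf 0x13315969) (.leaf 0x0))))))) (.node (.node (.node (.node (.node (.node (.leaf 0x9291941) (.leaf 0xde31947)) (.node (.leaf 0xcccd947) (.leaf 0xdbd1945))) (.node (.node (.leaf 0x12d31969) (.leaf 0xb861969)) (.node (.leaf 0xc93194d) (.leaf 0xeabd96b)))) (.node (.node (.node (.leaf 0xd25594d) (.leaf 0xd439947)) (.node (.leaf 0x849994d) (.leaf 0x124e9969))) (.node (.node (.leaf 0xc2ad96b) (.leaf 0xc68d969)) (.node (.leaf 0xc321969) (.leaf 0x0))))) (.node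 (.node (.node (.node (.leaf 0xb389947) (.leaf 0x13455969)) (.node (.leaf 0xd955969) (.leaf 0xa6cd947))) (.node (.node (.leaf 0x12a2d96b) (.leaf 0x125d594d)) (.node (.leaf 0xc05594d) (.leaf 0xf1cd969)))) (.node (.node (.node (.leaf 0x11d5d969) (.leaf 0xf2c996b)) (.node (.leaf 0x510996b) (.leaf 0xb9ed96b))) (.node (.node (.leaf 0x12281969) (.leaf 0x1331194d)) (.node (.leaf 0xb3cd941) (.leaf 0x0)))))) (.node (.node (.node (.node (.node (.leaf 0x1177d969) (.leaf 0x14a6196b)) (.node (.leaf 0xf665947) (.leaf 0xc0b1947))) (.node (.node (.leaf 0xc685945) (.leaf 0xeb9d969)) (.node (.leaf 0x82b994d) (.leaf 0x8801945)))) (.node (.node (.node (.leaf 0xc5d194d) (.leaf 0xeeb1945)) (.node (.leaf 0x4cb594d) (.leaf 0xc56196b))) (.node (.node (.leaf 0x9145945) (.leaf 0x10bcd969)) (.node (.leaf 0xa76196b) (.leaf 0x0))))) (.node (.node (.node (.node (.leaf 0x13a0d96b) (.leaf 0xa7f9945)) (.node (.leaf 0x1310d96b) (.leaf 0x6691941))) (.node (.node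 (.leaf 0xdaa9947) (.leaf 0xe28d94d)) (.node (.leaf 0xa2fd945) (.leaf 0x0)))) (.node (.node (.node (.leaf 0xefd996b) (.leaf 0xee31969)) (.node (.leaf 0x111f9969) (.leaf 0x12fb996b))) (.node (.node (.leaf 0x896194d) (.leaf 0x10369969)) (.node (.leaf 0xe8f194d) (.leaf 0x0))))))))) (.node (.node (.node (.node (.node (.node (.node (.node (.leaf 0xc6f5969) (.leaf 0xe59194d)) (.node (.leaf 0x1a6c) (.leaf 0x12e3596b))) (.node (.node (.leaf 0x14a6596b) (.leaf 0x148f5969)) (.node (.leaf 0x8649969) (.leaf 0xcef1945)))) (.node (.node (.node (.leaf 0x945194d) (.leaf 0x12295969)) (.node (.leaf 0x8295969) (.leaf 0xf1cd94d))) (.node (.node (.leaf 0xc529941) (.leaf 0xee11945)) (.node (.leaf 0x502994d) (.leaf 0x0))))) (.node (.node (.node (.node (.leaf 0xe27d945) (.leaf 0x1310196b)) (.node (.leaf 0x131e996b) (.leaf 0x110c196b))) (.node (.node (.leaf 0x9975945) (.leaf 0xea3194d)) (.node (.leaf 0x4445969) (.leaf 0xf66594d)))) (.node (.node (.node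 (.leaf 0xdea1945) (.leaf 0xe1fd94d)) (.node (.leaf 0x1031d941) (.leaf 0x124f5969))) (.node (.node (.leaf 0x9119969) (.leaf 0x1331596b)) (.node (.leaf 0xeb8594d) (.leaf 0x0)))))) (.node (.node (.node (.node (.node (.leaf 0xf7a1969) (.leaf 0xebf1945)) (.node (.leaf 0x19c0) (.leaf 0x9bdd945))) (.node (.node (.leaf 0xd8c194d) (.leaf 0xd5cd96b)) (.node (.leaf 0x1316d96b) (.leaf 0xf6a594d)))) (.node (.node (.node (.leaf 0x829594d) (.leaf 0xf0fd947)) (.node (.leaf 0xf635969) (.leaf 0xf1d5969))) (.node (.node (.leaf 0x103e9945) (.leaf 0x12339969)) (.node (.leaf 0x4015941) (.leaf 0x0))))) (.node (.node (.node (.node (.leaf 0x9bf994d) (.leaf 0xf18d945)) (.node (.leaf 0x914596b) (.leaf 0xeeb194d))) (.node (.node (.leaf 0x8979945) (.leaf 0xdbd196b)) (.node (.leaf 0x1a14) (.leaf 0x76f9947)))) (.node (.node (.node (.leaf 0x9b49969) (.leaf 0xe55594d)) (.node (.leaf 0x82b9969) (.leaf 0xf715947))) (.node (.node (.leaf 0xf335945) (.leaf 0x10381969))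 (.node (.leaf 0xae15941) (.leaf 0x0))))))) (.node (.node (.node (.node (.node (.node (.leaf 0xc429969) (.leaf 0xed75941)) (.node (.leaf 0xc67994d) (.leaf 0xf479947))) (.node (.node (.leaf 0xa45196b) (.leaf 0x1233996b)) (.node (.leaf 0xd4f5941) (.leaf 0xf765941)))) (.node (.node (.node (.leaf 0x444596b) (.leaf 0x9741947)) (.node (.leaf 0x99d9947) (.leaf 0xf4f5945))) (.node (.node (.leaf 0x127d196b) (.leaf 0x125fd941)) (.node (.leaf 0x19e8) (.leaf 0x0))))) (.node (.node (.node (.node (.leaf 0x81cd947) (.leaf 0xe725947)) (.node (.leaf 0x100e1941) (.leaf 0xba49945))) (.node (.node (.leaf 0x1025194d) (.leaf 0xb601969)) (.node (.leaf 0x9bd996b) (.leaf 0xb8fd94d)))) (.node (.node (.node (.leaf 0x10cc1969) (.leaf 0x669194d)) (.node (.leaf 0x9365969) (.leaf 0xae41945))) (.node (.node (.leaf 0xd425969) (.leaf 0xf19594d)) (.node (.leaf 0x8869969) (.leaf 0x0)))))) (.node (.node (.node (.node (.node (.leaf 0x122c5969) (.leaf 0x1355596b)) (.node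 (.leaf 0x884d94d) (.leaf 0xaae196b))) (.node (.node (.leaf 0xdda1947) (.leaf 0x148f9969)) (.node (.leaf 0x82a194d) (.leaf 0x13911941)))) (.node (.node (.node (.leaf 0x11dad969) (.leaf 0x1204594d)) (.node (.leaf 0x10555941) (.leaf 0xf33594d))) (.node (.node (.leaf 0x1051994d) (.leaf 0x6e0d94d)) (.node (.leaf 0xd431947) (.leaf 0x0))))) (.node (.node (.node (.node (.leaf 0xc3b194d) (.leaf 0xdf8d96b)) (.node (.leaf 0xe049969) (.leaf 0xf0ed94d))) (.node (.node (.leaf 0xdadd941) (.leaf 0xeb11947)) (.node (.leaf 0x1259d96b) (.leaf 0x0)))) (.node (.node (.node (.leaf 0x10349969) (.leaf 0xae41969)) (.node (.leaf 0x12fe5969) (.leaf 0x14d55969))) (.node (.node (.leaf 0xc8a594d) (.leaf 0xc675969)) (.node (.leaf 0x163a1969) (.leaf 0x0)))))))) (.node (.node (.node (.node (.node (.node (.node (.leaf 0x9451945) (.leaf 0xd439969)) (.node (.leaf 0x10be1969) (.leaf 0x109e596b))) (.node (.node (.leaf 0x5f01969) (.leaf 0xbb29969)) (.node (.leaf 0x43f5941)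 (.leaf 0xa35996b)))) (.node (.node (.node (.leaf 0xcb6194d) (.leaf 0x133a1969)) (.node (.leaf 0xb681945) (.leaf 0xdfb1945))) (.node (.node (.leaf 0xe4f9945) (.leaf 0x10365969)) (.node (.leaf 0xd89d94d) (.leaf 0x0))))) (.node (.node (.node (.node (.leaf 0x826d94d) (.leaf 0x10f0196b)) (.node (.leaf 0x195e) (.leaf 0x110b596b))) (.node (.node (.leaf 0x1170d94d) (.leaf 0x9f1d945)) (.node (.leaf 0x110dd969) (.leaf 0x11f1996b)))) (.node (.node (.node (.leaf 0x51bd969) (.leaf 0x135d1969)) (.node (.leaf 0x110bd94d) (.leaf 0x8bf5969))) (.node (.node (.leaf 0x12f59969) (.leaf 0x1307594d)) (.node (.leaf 0x14abd969) (.leaf 0x0)))))) (.node (.node (.node (.node (.node (.leaf 0x826d969) (.leaf 0x6e0d947)) (.node (.leaf 0x12b2d947) (.leaf 0xdbcd945))) (.node (.node (.leaf 0x9a29969) (.leaf 0xaae1969)) (.node (.leaf 0x137fd969) (.leaf 0xb9f9941)))) (.node (.node (.node (.leaf 0xf40d947) (.leaf 0xdcb1969)) (.node (.leaf 0xcc1994d) (.leaf 0x12ad596b)))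 (.node (.node (.leaf 0xf7a196b) (.leaf 0x10be9969)) (.node (.leaf 0x8049945) (.leaf 0x0))))) (.node (.node (.node (.node (.leaf 0xe101947) (.leaf 0xe165947)) (.node (.leaf 0x5105941) (.leaf 0x5fa1941))) (.node (.node (.leaf 0x445d94d) (.leaf 0xf84d969)) (.node (.leaf 0x4015945) (.leaf 0x0)))) (.node (.node (.node (.leaf 0x1165196b) (.leaf 0x148ed969)) (.node (.leaf 0xc5f994d) (.leaf 0xba3194d))) (.node (.node (.leaf 0xd1ad969) (.leaf 0xc671969)) (.node (.leaf 0xd5f196b) (.leaf 0x0))))))) (.node (.node (.node (.node (.node (.node (.leaf 0xa37d947) (.leaf 0xd179945)) (.node (.leaf 0xea31945) (.leaf 0x9be1945))) (.node (.node (.leaf 0x1012d94d) (.leaf 0xeab996b)) (.node (.leaf 0x99fd945) (.leaf 0x10d5996b)))) (.node (.node (.node (.leaf 0x926194d) (.leaf 0xea09947)) (.node (.leaf 0xd9e994d) (.leaf 0xf1e1947))) (.node (.node (.leaf 0x5ca9941) (.leaf 0x1341596b)) (.node (.leaf 0x12481969) (.leaf 0x0))))) (.node (.node (.node (.node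 (.leaf 0x1036194d) (.leaf 0x16f39941)) (.node (.leaf 0xf0b5969) (.leaf 0x135f194d))) (.node (.node (.leaf 0x10595969) (.leaf 0xf75996b)) (.node (.leaf 0xc05d94d) (.leaf 0xc185947)))) (.node (.node (.node (.leaf 0xc00596b) (.leaf 0xf6f5969)) (.node (.leaf 0x515d94d) (.leaf 0x124dd969))) (.node (.node (.leaf 0xe985969) (.leaf 0xec5594d)) (.node (.leaf 0xdef594d) (.leaf 0x0)))))) (.node (.node (.node (.node (.node (.leaf 0x1248196b) (.leaf 0x110c1969)) (.node (.leaf 0x105c9969) (.leaf 0xf40d94d))) (.node (.node (.leaf 0xe949945) (.leaf 0x76f9969)) (.node (.leaf 0x98dd947) (.leaf 0x1332996b)))) (.node (.node (.node (.leaf 0x974194d) (.leaf 0xd42d947)) (.node (.leaf 0xb8fd945) (.leaf 0xd849945))) (.node (.node (.leaf 0x8dd1969) (.leaf 0xba41945)) (.node (.leaf 0xa7a194d) (.leaf 0x0))))) (.node (.node (.node (.node (.leaf 0xc32596b) (.leaf 0xecd1945)) (.node (.leaf 0x10bdd94d) (.leaf 0xed5994d))) (.node (.node (.leaf 0xf2d9945) (.leaf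 0x62a194d)) (.node (.leaf 0x10159969) (.leaf 0x0)))) (.node (.node (.node (.leaf 0xc4e1969) (.leaf 0x12ad5969)) (.node (.leaf 0xe79d96b) (.leaf 0xe899947))) (.node (.node (.leaf 0xd4a996b) (.leaf 0x8661969)) (.node (.leaf 0x164fd96b) (.leaf 0x0))))))))))

/-- packed table -/
noncomputable def cov12_lrr : BTree := (.node (.node (.node (.node (.node (.node (.node (.node (.node (.leaf 0x5d25941) (.leaf 0xd435947)) (.node (.leaf 0xdc0d94d) (.leaf 0xee3196b))) (.node (.node (.leaf 0xf9bd947) (.leaf 0x11f7d94d)) (.node (.leaf 0xa6a9969) (.leaf 0x9575969)))) (.node (.node (.node (.leaf 0x945d94d) (.leaf 0xdf9994d)) (.node (.leaf 0xcea194d) (.leaf 0xe859941))) (.node (.node (.leaf 0x9bd596b) (.leaf 0x126c5969)) (.node (.leaf 0x903d94d) (.leaf 0x0))))) (.node (.node (.node (.node (.leaf 0x133e1969) (.leaf 0xf549941)) (.node (.leaf 0x12a29969) (.leaf 0x14a55969))) (.node (.node (.leaf 0x5ca994d) (.leaf 0x8ce996b)) (.node (.leaf 0x443d969)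 (.leaf 0x137f9941)))) (.node (.node (.node (.leaf 0x4271969) (.leaf 0xb2cd96b)) (.node (.leaf 0x8889945) (.leaf 0xf835969))) (.node (.node (.leaf 0x5109969) (.leaf 0xeda594d)) (.node (.leaf 0x11d85941) (.leaf 0x0)))))) (.node (.node (.node (.node (.node (.leaf 0x5185941) (.leaf 0x12c05945)) (.node (.leaf 0x5379945) (.leaf 0x14a59969))) (.node (.node (.leaf 0xd79194d) (.leaf 0x11fd994d)) (.node (.leaf 0x10c8d96b) (.leaf 0xf69d94d)))) (.node (.node (.node (.leaf 0xdb15969) (.leaf 0xe4f994d)) (.node (.leaf 0x131f5969) (.leaf 0xdf11947))) (.node (.node (.leaf 0x11d65945) (.leaf 0x131bd94d)) (.node (.leaf 0x46d194d) (.leaf 0x0))))) (.node (.node (.node (.node (.leaf 0xdbcd94d) (.leaf 0xd24d945)) (.node (.leaf 0xc42d96b) (.leaf 0xeaa9945))) (.node (.node (.leaf 0x445d947) (.leaf 0xe3c9969)) (.node (.leaf 0xc679947) (.leaf 0xf6f5941)))) (.node (.node (.node (.leaf 0x5b2596b) (.leaf 0xa1d5969)) (.node (.leaf 0xf08d945) (.leaf 0xdefd96b)))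 (.node (.node (.leaf 0x1381d947) (.leaf 0xe445945)) (.node (.leaf 0xe8dd94d) (.leaf 0x0))))))) (.node (.node (.node (.node (.node (.node (.leaf 0xaed5969) (.leaf 0xd435969)) (.node (.leaf 0xc68d94d) (.leaf 0x1357d94d))) (.node (.node (.leaf 0x889596b) (.leaf 0xa9ad969)) (.node (.leaf 0xdc4594d) (.leaf 0xf769941)))) (.node (.node (.node (.leaf 0x446596b) (.leaf 0x60f194d)) (.node (.leaf 0xeb35969) (.leaf 0x123d5941))) (.node (.node (.leaf 0xf579947) (.leaf 0xe8ad96b)) (.node (.leaf 0xc2c596b) (.leaf 0x0))))) (.node (.node (.node (.node (.leaf 0x6d61947) (.leaf 0xa1a5969)) (.node (.leaf 0xea19947) (.leaf 0x13089945))) (.node (.node (.leaf 0x12a7d947) (.leaf 0xdf99945)) (.node (.leaf 0x7889945) (.leaf 0x100c1969)))) (.node (.node (.node (.leaf 0x133bd96b) (.leaf 0xe6a194d)) (.node (.leaf 0x9355969) (.leaf 0x13619969))) (.node (.node (.leaf 0x8655945) (.leaf 0xa6cd96b)) (.node (.leaf 0x12579969) (.leaf 0x0)))))) (.node (.node (.node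 (.node (.node (.leaf 0xd48d941) (.leaf 0xe99d969)) (.node (.leaf 0xb651947) (.leaf 0xf549969))) (.node (.node (.leaf 0xcb39947) (.leaf 0xf69d945)) (.node (.leaf 0xe0dd945) (.leaf 0x13921941)))) (.node (.node (.node (.leaf 0xe101945) (.leaf 0xa01d94d)) (.node (.leaf 0xc55d941) (.leaf 0xf82d969))) (.node (.node (.leaf 0x11569969) (.leaf 0xeab9969)) (.node (.leaf 0xd815947) (.leaf 0x0))))) (.node (.node (.node (.node (.leaf 0x8c01941) (.leaf 0xeaa9969)) (.node (.leaf 0x12739969) (.leaf 0xe7a9945))) (.node (.node (.leaf 0x11ae9941) (.leaf 0xd2ad945)) (.node (.leaf 0x135fd969) (.leaf 0x0)))) (.node (.node (.node (.leaf 0xc1a5969) (.leaf 0x719196b)) (.node (.leaf 0x82b996b) (.leaf 0x19fa))) (.node (.node (.leaf 0x888194d) (.leaf 0xf6a196b)) (.node (.leaf 0xb60196b) (.leaf 0x0)))))))) (.node (.node (.node (.node (.node (.node (.node (.leaf 0xb369945) (.leaf 0x1205594d)) (.node (.leaf 0x103f1969) (.leaf 0xc68d947))) (.node (.node (.leaf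 0x10f2d96b) (.leaf 0xaae194d)) (.node (.leaf 0x1380996b) (.leaf 0xf865947)))) (.node (.node (.node (.leaf 0xcb7594d) (.leaf 0xe225945)) (.node (.leaf 0xdbe596b) (.leaf 0xf29d94d))) (.node (.node (.leaf 0x8e5994d) (.leaf 0x8659947)) (.node (.leaf 0xd8cd945) (.leaf 0x0))))) (.node (.node (.node (.node (.leaf 0x1954) (.leaf 0x14aa9969)) (.node (.leaf 0x81cd96b) (.leaf 0xa1c1941))) (.node (.node (.leaf 0x1170194d) (.leaf 0xf76996b)) (.node (.leaf 0xd875969) (.leaf 0x124dd96b)))) (.node (.node (.node (.leaf 0x6661969) (.leaf 0xd945947)) (.node (.leaf 0xc329941) (.leaf 0xfa2194d))) (.node (.node (.leaf 0x53b1941) (.leaf 0xa721947)) (.node (.leaf 0x120d194d) (.leaf 0x0)))))) (.node (.node (.node (.node (.node (.leaf 0xd2d5969) (.leaf 0xe011969)) (.node (.leaf 0xd349969) (.leaf 0xe139941))) (.node (.node (.leaf 0xd8d594d) (.leaf 0xbb1196b)) (.node (.leaf 0xc2a996b) (.leaf 0x7a01941)))) (.node (.node (.node (.leaf 0x95a5941) (.leaf 0xdfed96b))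 (.node (.leaf 0x929196b) (.leaf 0xe1bd969))) (.node (.node (.leaf 0xe4a5945) (.leaf 0x8875945)) (.node (.leaf 0xc1dd96b) (.leaf 0x0))))) (.node (.node (.node (.node (.leaf 0xeed9945) (.leaf 0x613d947)) (.node (.leaf 0xd69596b) (.leaf 0x131bd969))) (.node (.node (.leaf 0x903d969) (.leaf 0x16d2d941)) (.node (.leaf 0xc005945) (.leaf 0x0)))) (.node (.node (.node (.leaf 0x10195969) (.leaf 0xddb9969)) (.node (.leaf 0x110c9969) (.leaf 0xba4194d))) (.node (.node (.leaf 0x13a29969) (.leaf 0xc2b1969)) (.node (.leaf 0xa879969) (.leaf 0x0))))))) (.node (.node (.node (.node (.node (.node (.leaf 0x10f3196b) (.leaf 0x12961969)) (.node (.leaf 0xd06d945) (.leaf 0xe54d969))) (.node (.node (.leaf 0xc069969) (.leaf 0x9461969)) (.node (.leaf 0xd00196b) (.leaf 0x8ce9945)))) (.node (.node (.node (.leaf 0x927194d) (.leaf 0xbb2596b)) (.node (.leaf 0xcb35969) (.leaf 0xf831969))) (.node (.node (.leaf 0xce7d96b) (.leaf 0xea69945)) (.node (.leaf 0x11d7d969)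 (.leaf 0x0))))) (.node (.node (.node (.node (.leaf 0x1034d94d) (.leaf 0x1290996b)) (.node (.leaf 0x1126d969) (.leaf 0x8299969))) (.node (.node (.leaf 0xdccd96b) (.leaf 0xe83194d)) (.node (.leaf 0xd9c1969) (.leaf 0x997d969)))) (.node (.node (.node (.leaf 0x9d21945) (.leaf 0xd251945)) (.node (.leaf 0x96f196b) (.leaf 0x11f19969))) (.node (.node (.leaf 0x9265945) (.leaf 0x9b0996b)) (.node (.leaf 0x5ca9969) (.leaf 0x0)))))) (.node (.node (.node (.node (.node (.leaf 0xf9bd945) (.leaf 0xa72d96b)) (.node (.leaf 0x12c3596b) (.leaf 0x865d947))) (.node (.node (.leaf 0xd421947) (.leaf 0xf581947)) (.node (.leaf 0x4445941) (.leaf 0x12e2196b)))) (.node (.node (.node (.leaf 0x10cbd941) (.leaf 0xd819947)) (.node (.leaf 0xd829947) (.leaf 0x12c8994d))) (.node (.node (.leaf 0x515d945) (.leaf 0xb56594d)) (.node (.leaf 0x1324d969) (.leaf 0x0))))) (.node (.node (.node (.node (.leaf 0x9171969) (.leaf 0x6fed947)) (.node (.leaf 0x100e196b) (.leaf 0x14ac196b)))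 (.node (.node (.leaf 0xdc95945) (.leaf 0xf29d945)) (.node (.leaf 0x5185945) (.leaf 0x0)))) (.node (.node (.node (.leaf 0xde39969) (.leaf 0xa1c196b)) (.node (.leaf 0x11eb996b) (.leaf 0xb9f9969))) (.node (.node (.leaf 0x8b41941) (.leaf 0xa499941)) (.node (.leaf 0xf6a9945) (.leaf 0x0))))))))) (.node (.node (.node (.node (.node (.node (.node (.node (.leaf 0xc6dd969) (.leaf 0xe5b994d)) (.node (.leaf 0xd505969) (.leaf 0xe45d969))) (.node (.node (.leaf 0xd19994d) (.leaf 0x12ad594d)) (.node (.leaf 0x95a596b) (.leaf 0xb261947)))) (.node (.node (.node (.leaf 0x19c4) (.leaf 0x15e1196b)) (.node (.leaf 0xb309969) (.leaf 0xf839969))) (.node (.node (.leaf 0xd9a1941) (.leaf 0xeff1945)) (.node (.leaf 0xdbfd969) (.leaf 0x0))))) (.node (.node (.node (.node (.leaf 0xdf1596b) (.leaf 0x12a4594d)) (.node (.leaf 0x10911969) (.leaf 0xf2c994d))) (.node (.node (.leaf 0xdcd194d) (.leaf 0x148f1969)) (.node (.leaf 0x897996b) (.leaf 0x61b1945)))) (.node (.node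 (.node (.leaf 0xa37d945) (.leaf 0xe22594d)) (.node (.leaf 0xc321941) (.leaf 0x14aa596b))) (.node (.node (.leaf 0xf139969) (.leaf 0xc8a5945)) (.node (.leaf 0xb42d941) (.leaf 0x0)))))) (.node (.node (.node (.node (.node (.leaf 0xed59945) (.leaf 0xa36194d)) (.node (.leaf 0xcde9947) (.leaf 0x82a5969))) (.node (.node (.leaf 0xd8cd94d) (.leaf 0xd821947)) (.node (.leaf 0xd545941) (.leaf 0x1221d969)))) (.node (.node (.node (.leaf 0xdaf994d) (.leaf 0xe2bd96b)) (.node (.leaf 0x11b19969) (.leaf 0x14aa996b))) (.node (.node (.leaf 0xc09d947) (.leaf 0xc05996b)) (.node (.leaf 0x46f196b) (.leaf 0x0))))) (.node (.node (.node (.node (.leaf 0x11651941) (.leaf 0xe61994d)) (.node (.leaf 0xd6d5947) (.leaf 0x1359d94d))) (.node (.node (.leaf 0x8b4d969) (.leaf 0x141c5969)) (.node (.leaf 0xdb5194d) (.leaf 0xd2ad969)))) (.node (.node (.node (.leaf 0x9b35969) (.leaf 0xdaed969)) (.node (.leaf 0x1387196b) (.leaf 0x12ea5969))) (.node (.node (.leaf 0xe191947)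 (.leaf 0x134a994d)) (.node (.leaf 0x61b1969) (.leaf 0x0))))))) (.node (.node (.node (.node (.node (.node (.leaf 0xb885969) (.leaf 0xdf2d941)) (.node (.leaf 0xf335947) (.leaf 0xe285941))) (.node (.node (.leaf 0xed71969) (.leaf 0xdaf5969)) (.node (.leaf 0xd4a9969) (.leaf 0xe64196b)))) (.node (.node (.node (.leaf 0xd24594d) (.leaf 0x10bd196b)) (.node (.leaf 0xcfcd969) (.leaf 0x134e994d))) (.node (.node (.leaf 0xe4a5969) (.leaf 0xf69d96b)) (.node (.leaf 0xc10996b) (.leaf 0x0))))) (.node (.node (.node (.node (.leaf 0x53b1947) (.leaf 0x1243196b)) (.node (.leaf 0x12c75969) (.leaf 0xf24194d))) (.node (.node (.leaf 0x14d3d941) (.leaf 0xa879945)) (.node (.leaf 0x804194d) (.leaf 0x6541947)))) (.node (.node (.node (.leaf 0x117c596b) (.leaf 0xbb2996b)) (.node (.leaf 0x5379969) (.leaf 0xb959969))) (.node (.node (.leaf 0xe915969) (.leaf 0x125dd947)) (.node (.leaf 0xeb5594d) (.leaf 0x0)))))) (.node (.node (.node (.node (.node (.leaf 0x97f1947)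 (.leaf 0x109dd969)) (.node (.leaf 0x1023196b) (.leaf 0x12431969))) (.node (.node (.leaf 0xefd5945) (.leaf 0x12ae9945)) (.node (.leaf 0xc2cd94d) (.leaf 0x8bf596b)))) (.node (.node (.node (.leaf 0x4cb5941) (.leaf 0xb5a5945)) (.node (.leaf 0xded596b) (.leaf 0xada996b))) (.node (.node (.leaf 0x12b3d969) (.leaf 0xa7cd945)) (.node (.leaf 0xb261969) (.leaf 0x0))))) (.node (.node (.node (.node (.leaf 0x83a594d) (.leaf 0xf1cd947)) (.node (.leaf 0x10519969) (.leaf 0xa6a9941))) (.node (.node (.leaf 0xe791947) (.leaf 0xa7e594d)) (.node (.leaf 0x10a75969) (.leaf 0x0)))) (.node (.node (.node (.leaf 0x14a51969) (.leaf 0x12e35969)) (.node (.leaf 0x1156996b) (.leaf 0x12f1996b))) (.node (.node (.leaf 0xc89994d) (.leaf 0xddb9945)) (.node (.leaf 0xf34d941) (.leaf 0x0)))))))) (.node (.node (.node (.node (.node (.node (.node (.leaf 0x828d969) (.leaf 0xecf9941)) (.node (.leaf 0x125e9969) (.leaf 0x12ba996b))) (.node (.node (.leaf 0x60f196b) (.leaf 0x6e0d969))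 (.node (.leaf 0x8669947) (.leaf 0xd74d969)))) (.node (.node (.node (.leaf 0xc96d969) (.leaf 0xd191947)) (.node (.leaf 0x993d969) (.leaf 0xb2cd969))) (.node (.node (.leaf 0xdaa9945) (.leaf 0xe3c596b)) (.node (.leaf 0xe58596b) (.leaf 0x0))))) (.node (.node (.node (.node (.leaf 0x193e) (.leaf 0x1231994d)) (.node (.leaf 0x6d6196b) (.leaf 0xa36d96b))) (.node (.node (.leaf 0x102f5947) (.leaf 0xf709969)) (.node (.leaf 0xeb51969) (.leaf 0xc5e9969)))) (.node (.node (.node (.leaf 0x8895969) (.leaf 0x135e5969)) (.node (.leaf 0x110e594d) (.leaf 0x1398194d))) (.node (.node (.leaf 0x8619947) (.leaf 0x14a5d969)) (.node (.leaf 0xede996b) (.leaf 0x0)))))) (.node (.node (.node (.node (.node (.leaf 0xfad5945) (.leaf 0xb7d5947)) (.node (.leaf 0xbb0196b) (.leaf 0xf6a596b))) (.node (.node (.leaf 0x5029945) (.leaf 0xba4196b)) (.node (.leaf 0xcef996b) (.leaf 0x19d6)))) (.node (.node (.node (.leaf 0xd56d947) (.leaf 0xf401945)) (.node (.leaf 0x1382596b)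 (.leaf 0x82a1969))) (.node (.node (.leaf 0x14a69969) (.leaf 0x829d969)) (.node (.leaf 0xaed5941) (.leaf 0x0))))) (.node (.node (.node (.node (.leaf 0x9455945) (.leaf 0xadad945)) (.node (.leaf 0x1b44) (.leaf 0xc675947))) (.node (.node (.leaf 0xc30d941) (.leaf 0xeda596b)) (.node (.leaf 0x46f1941) (.leaf 0x0)))) (.node (.node (.node (.leaf 0x1294596b) (.leaf 0xbb1d96b)) (.node (.leaf 0xf129969) (.leaf 0x12fb9969))) (.node (.node (.leaf 0xc325969) (.leaf 0xa435941)) (.node (.leaf 0x110bd969) (.leaf 0x0))))))) (.node (.node (.node (.node (.node (.node (.leaf 0xe85d945) (.leaf 0x1249194d)) (.node (.leaf 0x9385947) (.leaf 0xe50d945))) (.node (.node (.leaf 0x1177594d) (.leaf 0x8d7d947)) (.node (.leaf 0xf1ad96b) (.leaf 0x10651969)))) (.node (.node (.node (.leaf 0x135d596b) (.leaf 0x9bf996b)) (.node (.leaf 0x903196b) (.leaf 0xb26596b))) (.node (.node (.leaf 0x11ff9969) (.leaf 0xb30994d)) (.node (.leaf 0x133e196b) (.leaf 0x0))))) (.node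 (.node (.node (.node (.leaf 0x1037594d) (.leaf 0x1226194d)) (.node (.leaf 0xf2f9969) (.leaf 0xa675941))) (.node (.node (.leaf 0xe6fd96b) (.leaf 0x887d947)) (.node (.leaf 0xa361947) (.leaf 0x1116d969)))) (.node (.node (.node (.leaf 0x9d3d969) (.leaf 0x12a9994d)) (.node (.leaf 0x932d947) (.leaf 0x1a02))) (.node (.node (.leaf 0x817d947) (.leaf 0x126c596b)) (.node (.leaf 0x14a5d96b) (.leaf 0x0)))))) (.node (.node (.node (.node (.node (.leaf 0x115d5969) (.leaf 0x14a5596b)) (.node (.leaf 0xc8dd94d) (.leaf 0xf50194d))) (.node (.node (.leaf 0xf055947) (.leaf 0xf241947)) (.node (.leaf 0xdc1196b) (.leaf 0x7a0194d)))) (.node (.node (.node (.leaf 0xba7d96b) (.leaf 0x43f5947)) (.node (.leaf 0xba7d947) (.leaf 0x12b1d947))) (.node (.node (.leaf 0x1a1c) (.leaf 0x12189969)) (.node (.leaf 0x12a45969) (.leaf 0x0))))) (.node (.node (.node (.node (.leaf 0xe985947) (.leaf 0xa7e5945)) (.node (.leaf 0x12371969) (.leaf 0xf221969))) (.node (.node (.leaf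 0x1038d941) (.leaf 0x613d945)) (.node (.leaf 0x60f1945) (.leaf 0x0)))) (.node (.node (.node (.leaf 0xc0b594d) (.leaf 0x721d945)) (.node (.leaf 0xa25d969) (.leaf 0xf9c994d))) (.node (.node (.leaf 0x8b69941) (.leaf 0x14a61969)) (.node (.leaf 0xe85d94d) (.leaf 0x0))))))))))

/-- packed table -/
noncomputable def cov12_rll : BTree := (.node (.node (.node (.node (.node (.node (.node (.node (.node (.leaf 0x9b5d945) (.leaf 0xf189969)) (.node (.leaf 0x4439945) (.leaf 0x9f39969))) (.node (.node (.leaf 0x11ed1969) (.leaf 0x43f5945)) (.node (.leaf 0x1081d94d) (.leaf 0x9481945)))) (.node (.node (.node (.leaf 0xd43194d) (.leaf 0x12b1994d)) (.node (.leaf 0xcc9d96b) (.leaf 0x12955969))) (.node (.node (.leaf 0xccb1945) (.leaf 0xf75596b)) (.node (.leaf 0xda11941) (.leaf 0x0))))) (.node (.node (.node (.node (.leaf 0x106b596b) (.leaf 0x13215969)) (.node (.leaf 0x12c65969) (.leaf 0xf4f594d))) (.node (.node (.leaf 0x9271945) (.leaf 0xc071969)) (.node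 (.leaf 0xdc0996b) (.leaf 0xa7a1945)))) (.node (.node (.node (.leaf 0x866d969) (.leaf 0xf6a1945)) (.node (.leaf 0x12925969) (.leaf 0xb2cd94d))) (.node (.node (.leaf 0x96c9945) (.leaf 0x109e996b)) (.node (.leaf 0xf0a1969) (.leaf 0x0)))))) (.node (.node (.node (.node (.node (.leaf 0x19e2) (.leaf 0x9461947)) (.node (.leaf 0x1a24) (.leaf 0xf88d96b))) (.node (.node (.leaf 0x12fdd945) (.leaf 0xf49196b)) (.node (.leaf 0x103ed96b) (.leaf 0xd2b196b)))) (.node (.node (.node (.leaf 0xd87996b) (.leaf 0xf0ed947)) (.node (.leaf 0x8b1d969) (.leaf 0x131f594d))) (.node (.node (.leaf 0xd43d945) (.leaf 0x135d196b)) (.node (.leaf 0x10fb5969) (.leaf 0x0))))) (.node (.node (.node (.node (.leaf 0x1036594d) (.leaf 0xc545969)) (.node (.leaf 0xdd7996b) (.leaf 0x123e9969))) (.node (.node (.leaf 0x4445947) (.leaf 0xa3d1969)) (.node (.leaf 0x60f1947) (.leaf 0x145e596b)))) (.node (.node (.node (.leaf 0x9d15969) (.leaf 0xf82d96b)) (.node (.leaf 0xee6596b) (.leaf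 0xbb11941))) (.node (.node (.leaf 0xd441969) (.leaf 0x10be5969)) (.node (.leaf 0xb26196b) (.leaf 0x0))))))) (.node (.node (.node (.node (.node (.node (.leaf 0xa6a996b) (.leaf 0xe31d941)) (.node (.leaf 0x866594d) (.leaf 0xebb996b))) (.node (.node (.leaf 0x51bd96b) (.leaf 0x9b05969)) (.node (.leaf 0x11c3594d) (.leaf 0x788994d)))) (.node (.node (.node (.leaf 0x10929941) (.leaf 0xe10594d)) (.node (.leaf 0x10f2d969) (.leaf 0x1347594d))) (.node (.node (.leaf 0xdc95947) (.leaf 0x135d594d)) (.node (.leaf 0x125e996b) (.leaf 0x0))))) (.node (.node (.node (.node (.leaf 0x10289941) (.leaf 0xa2fd94d)) (.node (.leaf 0xf901969) (.leaf 0xf89196b))) (.node (.node (.leaf 0x13141947) (.leaf 0xf4bd945)) (.node (.leaf 0xe89596b) (.leaf 0xc5fd969)))) (.node (.node (.node (.leaf 0x806596b) (.leaf 0xc841969)) (.node (.leaf 0x14d4196b) (.leaf 0xc3e196b))) (.node (.node (.leaf 0x8835945) (.leaf 0x9bf9945)) (.node (.leaf 0x12bf596b) (.leaf 0x0)))))) (.node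 (.node (.node (.node (.node (.leaf 0xa8c1969) (.leaf 0x126ad96b)) (.node (.leaf 0x195a) (.leaf 0xf5b594d))) (.node (.node (.leaf 0xda21969) (.leaf 0x81b5969)) (.node (.leaf 0x103f194d) (.leaf 0xc1b1945)))) (.node (.node (.node (.leaf 0xddd5945) (.leaf 0x9449947)) (.node (.leaf 0x1052d941) (.leaf 0xd9a9969))) (.node (.node (.leaf 0x10e91969) (.leaf 0xc0ad947)) (.node (.leaf 0xe49d94d) (.leaf 0x0))))) (.node (.node (.node (.node (.leaf 0x10bed941) (.leaf 0x1288d94d)) (.node (.leaf 0x5109941) (.leaf 0x1337994d))) (.node (.node (.leaf 0xdab9941) (.leaf 0xba3196b)) (.node (.leaf 0x801d94d) (.leaf 0x0)))) (.node (.node (.node (.leaf 0x4259969) (.leaf 0xe97994d)) (.node (.leaf 0xe2b5945) (.leaf 0x13399969))) (.node (.node (.leaf 0xd259945) (.leaf 0x163a196b)) (.node (.leaf 0x9445947) (.leaf 0x0)))))))) (.node (.node (.node (.node (.node (.node (.node (.leaf 0x6da1945) (.leaf 0xe831945)) (.node (.leaf 0xe585969) (.leaf 0xf8a196b))) (.node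 (.node (.leaf 0xd7e1941) (.leaf 0xeaf594d)) (.node (.leaf 0xae1596b) (.leaf 0x12465969)))) (.node (.node (.node (.leaf 0x19a4) (.leaf 0xb49d969)) (.node (.leaf 0x6ce1969) (.leaf 0x12cd994d))) (.node (.node (.leaf 0x119d1941) (.leaf 0xe7a5969)) (.node (.leaf 0x98dd945) (.leaf 0x0))))) (.node (.node (.node (.node (.leaf 0xd79196b) (.leaf 0xe8e1947)) (.node (.leaf 0xb30996b) (.leaf 0x132b594d))) (.node (.node (.leaf 0xd255945) (.leaf 0xecd1947)) (.node (.leaf 0x1239d969) (.leaf 0xe5e1969)))) (.node (.node (.node (.leaf 0x1575d941) (.leaf 0xc435969)) (.node (.leaf 0x10331941) (.leaf 0x1058596b))) (.node (.node (.leaf 0xf2d9969) (.leaf 0xc099947)) (.node (.leaf 0xf25996b) (.leaf 0x0)))))) (.node (.node (.node (.node (.node (.leaf 0xd619945) (.leaf 0xa1c1969)) (.node (.leaf 0x5141941) (.leaf 0x110b996b))) (.node (.node (.leaf 0xd4f1947) (.leaf 0xdd6994d)) (.node (.leaf 0xb651969) (.leaf 0xeabd969)))) (.node (.node (.node (.leaf 0x9b1d94d)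 (.leaf 0xb565947)) (.node (.leaf 0x8bf594d) (.leaf 0x1058196b))) (.node (.node (.leaf 0x1014d94d) (.leaf 0x1037d969)) (.node (.leaf 0x9b5d969) (.leaf 0x0))))) (.node (.node (.node (.node (.leaf 0x9be194d) (.leaf 0xe8ad969)) (.node (.leaf 0x515d969) (.leaf 0xee99947))) (.node (.node (.leaf 0x10fd5941) (.leaf 0x11ec594d)) (.node (.leaf 0x5b4d941) (.leaf 0x1065196b)))) (.node (.node (.node (.leaf 0x10289969) (.leaf 0x1274994d)) (.node (.leaf 0xc62d941) (.leaf 0x133a9969))) (.node (.node (.leaf 0xd799947) (.leaf 0xaafd969)) (.node (.leaf 0xe7d9945) (.leaf 0x0))))))) (.node (.node (.node (.node (.node (.node (.leaf 0x13871969) (.leaf 0x1038196b)) (.node (.leaf 0xd955947) (.leaf 0x12d3994d))) (.node (.node (.leaf 0x103ed969) (.leaf 0xdf0594d)) (.node (.leaf 0x10fd596b) (.leaf 0xec1596b)))) (.node (.node (.node (.leaf 0xd25994d) (.leaf 0xc431969)) (.node (.leaf 0x99fd947) (.leaf 0xf4d594d))) (.node (.node (.leaf 0x115dd94d) (.leaf 0xf15594d))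 (.node (.leaf 0x10a4594d) (.leaf 0x0))))) (.node (.node (.node (.node (.leaf 0x9451947) (.leaf 0xcef1969)) (.node (.leaf 0xcccd969) (.leaf 0xf22d94d))) (.node (.node (.leaf 0xce9996b) (.leaf 0xe5cd94d)) (.node (.leaf 0xc05194d) (.leaf 0x63c1947)))) (.node (.node (.node (.leaf 0x1259d969) (.leaf 0xe515947)) (.node (.leaf 0x9385969) (.leaf 0xeb8d947))) (.node (.node (.leaf 0x12a05969) (.leaf 0xf89d96b)) (.node (.leaf 0xd245945) (.leaf 0x0)))))) (.node (.node (.node (.node (.node (.leaf 0x1149594d) (.leaf 0xa7e5969)) (.node (.leaf 0xd08d96b) (.leaf 0xa415969))) (.node (.node (.leaf 0x10c8596b) (.leaf 0x120b196b)) (.node (.leaf 0xcc59941) (.leaf 0xd945969)))) (.node (.node (.node (.leaf 0xc091945) (.leaf 0xf70996b)) (.node (.leaf 0x818196b) (.leaf 0xa879947))) (.node (.node (.leaf 0x5129945) (.leaf 0xf53194d)) (.node (.leaf 0xe58594d) (.leaf 0x0))))) (.node (.node (.node (.node (.leaf 0xfa2196b) (.leaf 0xa3d994d)) (.node (.leaf 0x130cd96b)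 (.leaf 0x10f1d969))) (.node (.node (.leaf 0xcc19947) (.leaf 0xe5ed96b)) (.node (.leaf 0xa361945) (.leaf 0x0)))) (.node (.node (.node (.leaf 0xf3b996b) (.leaf 0x12c3196b)) (.node (.leaf 0xdc9594d) (.leaf 0x1331996b))) (.node (.node (.leaf 0xc89194d) (.leaf 0x1652196b)) (.node (.leaf 0xb6b1947) (.leaf 0x0))))))))) (.node (.node (.node (.node (.node (.node (.node (.node (.leaf 0x46f1969) (.leaf 0xf6f596b)) (.node (.leaf 0x8b4d96b) (.leaf 0x12e4996b))) (.node (.node (.leaf 0xd08d969) (.leaf 0x804d969)) (.node (.leaf 0x8865969) (.leaf 0xcee5945)))) (.node (.node (.node (.leaf 0x1145994d) (.leaf 0xd431969)) (.node (.leaf 0x803d969) (.leaf 0xf1d994d))) (.node (.node (.leaf 0xb65196b) (.leaf 0x8a1d969)) (.node (.leaf 0x8b55947) (.leaf 0x0))))) (.node (.node (.node (.node (.leaf 0xeb51945) (.leaf 0xb161945)) (.node (.leaf 0x12c6596b) (.leaf 0xba31945))) (.node (.node (.leaf 0x7799945) (.leaf 0x110b9969)) (.node (.leaf 0xc96596b) (.leaf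 0x43f5969)))) (.node (.node (.node (.leaf 0x1116d94d) (.leaf 0x1220994d)) (.node (.leaf 0x10319941) (.leaf 0x12f9994d))) (.node (.node (.leaf 0x911d969) (.leaf 0xdbc5945)) (.node (.leaf 0x17445941) (.leaf 0x0)))))) (.node (.node (.node (.node (.node (.leaf 0xf8dd96b) (.leaf 0x8045945)) (.node (.leaf 0x510994d) (.leaf 0x110bd96b))) (.node (.node (.leaf 0x4439969) (.leaf 0xd289947)) (.node (.leaf 0x12d3196b) (.leaf 0x13991941)))) (.node (.node (.node (.leaf 0xf63596b) (.leaf 0xd249945)) (.node (.leaf 0xf4d5969) (.leaf 0x10c9596b))) (.node (.node (.leaf 0x1160d945) (.leaf 0x12329969)) (.node (.leaf 0x1a28) (.leaf 0x0))))) (.node (.node (.node (.node (.leaf 0x9bd594d) (.leaf 0xed1596b)) (.node (.leaf 0x514196b) (.leaf 0xb5b1947))) (.node (.node (.leaf 0xcb51969) (.leaf 0x123d5969)) (.node (.leaf 0x1a18) (.leaf 0x76f9945)))) (.node (.node (.node (.leaf 0x5b4d969) (.leaf 0xb20d96b)) (.node (.leaf 0xc379945) (.leaf 0xa449969))) (.node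 (.node (.leaf 0xed55945) (.leaf 0xf27594d)) (.node (.leaf 0xf83596b) (.leaf 0x0))))))) (.node (.node (.node (.node (.node (.node (.leaf 0x84dd969) (.leaf 0xd07d96b)) (.node (.leaf 0xcfbd941) (.leaf 0xa865969))) (.node (.node (.leaf 0xa4b196b) (.leaf 0xe34996b)) (.node (.leaf 0x8499945) (.leaf 0xf759941)))) (.node (.node (.node (.leaf 0x94e5945) (.leaf 0x9aad969)) (.node (.leaf 0xcfe5969) (.leaf 0x10f21969))) (.node (.node (.leaf 0x12089969) (.leaf 0xba39945)) (.node (.leaf 0x8a1d94d) (.leaf 0x0))))) (.node (.node (.node (.node (.leaf 0x6da1947) (.leaf 0xebe594d)) (.node (.leaf 0x811994d) (.leaf 0xf45194d))) (.node (.node (.leaf 0x1025594d) (.leaf 0x125c994d)) (.node (.leaf 0xc2ad969) (.leaf 0x80bd969)))) (.node (.node (.node (.leaf 0x103a9969) (.leaf 0x9275945)) (.node (.leaf 0x510596b) (.leaf 0xb601945))) (.node (.node (.leaf 0x8655947) (.leaf 0xf18d94d)) (.node (.leaf 0xd5e9969) (.leaf 0x0)))))) (.node (.node (.node (.node (.node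 (.leaf 0x861994d) (.leaf 0x7a01945)) (.node (.leaf 0xe67d96b) (.leaf 0x12e8d94d))) (.node (.node (.leaf 0xe949947) (.leaf 0xa761945)) (.node (.leaf 0x82a594d) (.leaf 0x13929941)))) (.node (.node (.node (.leaf 0x12b0996b) (.leaf 0xeadd947)) (.node (.leaf 0x53b194d) (.leaf 0x7191945))) (.node (.node (.leaf 0x11eb9969) (.leaf 0xb535945)) (.node (.leaf 0xa4b194d) (.leaf 0x0))))) (.node (.node (.node (.node (.leaf 0x797996b) (.leaf 0xef75969)) (.node (.leaf 0xe949969) (.leaf 0xf32596b))) (.node (.node (.leaf 0x10ed194d) (.leaf 0xf6a5945)) (.node (.leaf 0x11d5d96b) (.leaf 0x0)))) (.node (.node (.node (.leaf 0x1034996b) (.leaf 0x9de594d)) (.node (.leaf 0x132a5969) (.leaf 0x10d59969))) (.node (.node (.leaf 0x888994d) (.leaf 0x12cc596b)) (.node (.leaf 0x12381969) (.leaf 0x0)))))))) (.node (.node (.node (.node (.node (.node (.node (.leaf 0x53b1945) (.leaf 0x123e996b)) (.node (.leaf 0xc591969) (.leaf 0xf05594d))) (.node (.node (.leaf 0x51bd94d)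 (.leaf 0x6541969)) (.node (.leaf 0xe3ad945) (.leaf 0xabf996b)))) (.node (.node (.node (.leaf 0x199c) (.leaf 0xf6a1969)) (.node (.leaf 0x10175941) (.leaf 0x122c196b))) (.node (.node (.leaf 0xeb55945) (.leaf 0xeed994d)) (.node (.leaf 0xdc19969) (.leaf 0x0))))) (.node (.node (.node (.node (.leaf 0xc269941) (.leaf 0x9a9996b)) (.node (.leaf 0x526996b) (.leaf 0x6fed94d))) (.node (.node (.leaf 0x1171194d) (.leaf 0xdf05945)) (.node (.leaf 0x1059596b) (.leaf 0x11e2996b)))) (.node (.node (.node (.leaf 0x5fa1969) (.leaf 0x11fc196b)) (.node (.leaf 0x110c194d) (.leaf 0x8bfd969))) (.node (.node (.leaf 0xdc95969) (.leaf 0x9bf5945)) (.node (.leaf 0xf621947) (.leaf 0x0)))))) (.node (.node (.node (.node (.node (.leaf 0xdd69969) (.leaf 0xa36d969)) (.node (.leaf 0xc61d94d) (.leaf 0x1211d941))) (.node (.node (.leaf 0x9011945) (.leaf 0xf76596b)) (.node (.leaf 0x13809969) (.leaf 0xb7d5969)))) (.node (.node (.node (.leaf 0xd425945) (.leaf 0xe5ed969))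 (.node (.leaf 0x10c1d94d) (.leaf 0x6fed96b))) (.node (.node (.leaf 0xf8dd969) (.leaf 0x133d194d)) (.node (.leaf 0xc34596b) (.leaf 0x0))))) (.node (.node (.node (.node (.leaf 0xe915947) (.leaf 0xe145947)) (.node (.leaf 0x5105945) (.leaf 0x171b5969))) (.node (.node (.leaf 0x446594d) (.leaf 0x10851969)) (.node (.leaf 0x5d2596b) (.leaf 0x0)))) (.node (.node (.node (.leaf 0x1237196b) (.leaf 0xeff5941)) (.node (.leaf 0xea19945) (.leaf 0xba4994d))) (.node (.node (.leaf 0xfa21969) (.leaf 0x10bd1969)) (.node (.leaf 0x8111947) (.leaf 0x0))))))) (.node (.node (.node (.node (.node (.node (.leaf 0xd2a5941) (.leaf 0x9575947)) (.node (.leaf 0xe191945) (.leaf 0x130a996b))) (.node (.node (.leaf 0x12ead969) (.leaf 0xdf1594d)) (.node (.leaf 0xc94d94d) (.leaf 0xbaed941)))) (.node (.node (.node (.leaf 0x925d94d) (.leaf 0x1252594d)) (.node (.leaf 0x502996b) (.leaf 0xe50d96b))) (.node (.node (.leaf 0xdca5941) (.leaf 0xeda5969)) (.node (.leaf 0x11fd1969)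 (.leaf 0x0))))) (.node (.node (.node (.node (.leaf 0x1035d94d) (.leaf 0xd08196b)) (.node (.leaf 0xf5ad969) (.leaf 0x1348996b))) (.node (.node (.leaf 0xeb5196b) (.leaf 0xd81d947)) (.node (.leaf 0xc05994d) (.leaf 0xc1a1947)))) (.node (.node (.node (.leaf 0x5d25945) (.leaf 0x12965945)) (.node (.leaf 0x96e9969) (.leaf 0x12455969))) (.node (.node (.leaf 0xa805969) (.leaf 0xdbc9945)) (.node (.leaf 0x109e1969) (.leaf 0x0)))))) (.node (.node (.node (.node (.node (.leaf 0x11fd196b) (.leaf 0xb3fd969)) (.node (.leaf 0x10c15969) (.leaf 0xe969969))) (.node (.node (.leaf 0xe049945) (.leaf 0xe4f1945)) (.node (.leaf 0x94e594d) (.leaf 0x1344996b)))) (.node (.node (.node (.leaf 0x1173594d) (.leaf 0x12ac596b)) (.node (.leaf 0xda95941) (.leaf 0xf501945))) (.node (.node (.leaf 0x515d947) (.leaf 0xeb9d941)) (.node (.leaf 0x654196b) (.leaf 0x0))))) (.node (.node (.node (.node (.leaf 0xd98d94d) (.leaf 0xa1d596b)) (.node (.leaf 0x11651969) (.leaf 0x10c9996b)))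 (.node (.node (.leaf 0xed79945) (.leaf 0x829996b)) (.node (.leaf 0x8e59945) (.leaf 0x0)))) (.node (.node (.node (.leaf 0xc559969) (.leaf 0x6fed969)) (.node (.leaf 0xb681947) (.leaf 0xfa05969))) (.node (.node (.leaf 0x9a29945) (.leaf 0xefd594d)) (.node (.leaf 0x12f7d947) (.leaf 0x0))))))))))

/-- packed table -/
noncomputable def cov12_rlr : BTree := (.node (.node (.node (.node (.node (.node (.node (.node (.node (.leaf 0x1a20) (.leaf 0xf6a9969)) (.node (.leaf 0xd4f1969) (.leaf 0x12c31969))) (.node (.node (.leaf 0x13989945) (.leaf 0xdf8594d)) (.node (.leaf 0xa675969) (.leaf 0xfad594d)))) (.node (.node (.node (.leaf 0xd43d94d) (.leaf 0x62a1969)) (.node (.leaf 0xcea594d) (.leaf 0xf1e194d))) (.node (.node (.leaf 0xd56d94d) (.leaf 0xaafd945)) (.node (.leaf 0xda41941) (.leaf 0x0))))) (.node (.node (.node (.node (.leaf 0x135a9969) (.leaf 0xe155969)) (.node (.leaf 0x12c35969) (.leaf 0xf22594d))) (.node (.node (.leaf 0xce7d969) (.leaf 0xd945945))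 (.node (.leaf 0xc96d96b) (.leaf 0xc1a1945)))) (.node (.node (.node (.leaf 0xbb01969) (.leaf 0xd08596b)) (.node (.leaf 0x8889947) (.leaf 0xe63d969))) (.node (.node (.leaf 0x938596b) (.leaf 0x6da194d)) (.node (.leaf 0xf225969) (.leaf 0x0)))))) (.node (.node (.node (.node (.node (.leaf 0x11781969) (.leaf 0xec15945)) (.node (.leaf 0x5379941) (.leaf 0xdbc5969))) (.node (.node (.leaf 0x10c4d945) (.leaf 0x8041969)) (.node (.leaf 0xc37996b) (.leaf 0x139a1941)))) (.node (.node (.node (.leaf 0x10375969) (.leaf 0xa169969)) (.node (.leaf 0x13059969) (.leaf 0x14abd96b))) (.node (.node (.leaf 0x1283d945) (.leaf 0xabe9941)) (.node (.leaf 0x46d1947) (.leaf 0x0))))) (.node (.node (.node (.node (.leaf 0xdbc594d) (.leaf 0xc419969)) (.node (.leaf 0xc4e196b) (.leaf 0xeec194d))) (.node (.node (.leaf 0x9a1d94d) (.leaf 0x123b9969)) (.node (.leaf 0x8895947) (.leaf 0xf709945)))) (.node (.node (.node (.leaf 0x5b29969) (.leaf 0xf22596b)) (.node (.leaf 0xee71945)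 (.leaf 0xabf9969))) (.node (.node (.leaf 0xf669945) (.leaf 0xc41d96b)) (.node (.leaf 0x804d945) (.leaf 0x0))))))) (.node (.node (.node (.node (.node (.node (.leaf 0xae15969) (.leaf 0xd99d96b)) (.node (.leaf 0xc68994d) (.leaf 0xdfed969))) (.node (.node (.leaf 0x5269941) (.leaf 0xa37d94d)) (.node (.leaf 0x98dd96b) (.leaf 0xf755941)))) (.node (.node (.node (.leaf 0xd4d194d) (.leaf 0xd08996b)) (.node (.leaf 0xe49d96b) (.leaf 0xa3d1941))) (.node (.node (.leaf 0xf139947) (.leaf 0xeca594d)) (.node (.leaf 0x82c1969) (.leaf 0x0))))) (.node (.node (.node (.node (.leaf 0x4279947) (.leaf 0xed91947)) (.node (.leaf 0xec25947) (.leaf 0x1345d94d))) (.node (.node (.leaf 0x12305947) (.leaf 0xc05d969)) (.node (.leaf 0x9aad94d) (.leaf 0x138f194d)))) (.node (.node (.node (.leaf 0x135fd96b) (.leaf 0xe6a594d)) (.node (.leaf 0x8e19945) (.leaf 0x13599969))) (.node (.node (.leaf 0xd41d94d) (.leaf 0xe44d969)) (.node (.leaf 0xe44196b) (.leaf 0x0)))))) (.node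 (.node (.node (.node (.node (.leaf 0xcf0994d) (.leaf 0xf3f1941)) (.node (.leaf 0xba7d969) (.leaf 0x8879945))) (.node (.node (.leaf 0xda11969) (.leaf 0xf221941)) (.node (.leaf 0xf7ed969) (.leaf 0x13919941)))) (.node (.node (.node (.leaf 0xc89d945) (.leaf 0xbb25969)) (.node (.leaf 0xc561941) (.leaf 0xf32d969))) (.node (.node (.leaf 0x132a596b) (.leaf 0xb535969)) (.node (.leaf 0x124c994d) (.leaf 0x0))))) (.node (.node (.node (.node (.leaf 0xc39194d) (.leaf 0xec7d945)) (.node (.leaf 0x11ef1969) (.leaf 0x1211d969))) (.node (.node (.leaf 0x11ae5941) (.leaf 0xf14d947)) (.node (.leaf 0x133bd969) (.leaf 0x0)))) (.node (.node (.node (.leaf 0xc1a596b) (.leaf 0x9de5947)) (.node (.leaf 0xca05945) (.leaf 0xbb0194d))) (.node (.node (.leaf 0x887594d) (.leaf 0xe22596b)) (.node (.leaf 0x117dd969) (.leaf 0x0)))))))) (.node (.node (.node (.node (.node (.node (.node (.leaf 0x8119945) (.leaf 0xf2a9969)) (.node (.leaf 0x10d09969) (.leaf 0x804d96b)))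 (.node (.node (.leaf 0xeb3596b) (.leaf 0xa01d947)) (.node (.leaf 0x137fd96b) (.leaf 0xe10d969)))) (.node (.node (.node (.leaf 0xcb7194d) (.leaf 0xdf4d94d)) (.node (.leaf 0x53b1969) (.leaf 0xf2a994d))) (.node (.node (.leaf 0xd9c9941) (.leaf 0x9b1d96b)) (.node (.leaf 0xdc11969) (.leaf 0x0))))) (.node (.node (.node (.node (.leaf 0xe27596b) (.leaf 0xed95969)) (.node (.leaf 0x811996b) (.leaf 0xf501969))) (.node (.node (.leaf 0x116fd94d) (.leaf 0xedc1941)) (.node (.leaf 0xdccd969) (.leaf 0x1245596b)))) (.node (.node (.node (.leaf 0x4279969) (.leaf 0xeabd945)) (.node (.leaf 0xc32d941) (.leaf 0x13a1594d))) (.node (.node (.leaf 0x1362d969) (.leaf 0xe441969)) (.node (.leaf 0x1327d941) (.leaf 0x0)))))) (.node (.node (.node (.node (.node (.leaf 0xdbed945) (.leaf 0xac0d94d)) (.node (.leaf 0x8dd9945) (.leaf 0xac0d96b))) (.node (.node (.leaf 0x98dd94d) (.leaf 0xf1cd945)) (.node (.leaf 0x9bd5969) (.leaf 0x79f5941)))) (.node (.node (.node (.leaf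 0xdb0d94d) (.leaf 0x925d945)) (.node (.leaf 0x1b50) (.leaf 0xede994d))) (.node (.node (.leaf 0x100c194d) (.leaf 0x9bf5969)) (.node (.leaf 0x1292594d) (.leaf 0x0))))) (.node (.node (.node (.node (.leaf 0xf40d945) (.leaf 0xedb9945)) (.node (.leaf 0x5109947) (.leaf 0x15e11969))) (.node (.node (.leaf 0x5029969) (.leaf 0x9bf596b)) (.node (.leaf 0xc6dd941) (.leaf 0x0)))) (.node (.node (.node (.leaf 0x1310d969) (.leaf 0x110b5969)) (.node (.leaf 0x10f31969) (.leaf 0xba3994d))) (.node (.node (.leaf 0xce7996b) (.leaf 0xc43196b)) (.node (.leaf 0xa45194d) (.leaf 0x0))))))) (.node (.node (.node (.node (.node (.node (.leaf 0x8d7d94d) (.leaf 0xc41d969)) (.node (.leaf 0x10bd996b) (.leaf 0x1652d969))) (.node (.node (.leaf 0xc379969) (.leaf 0x12ce5969)) (.node (.leaf 0x99e1945) (.leaf 0x10d5196b)))) (.node (.node (.node (.leaf 0xd839945) (.leaf 0xabe996b)) (.node (.leaf 0x99d994d) (.leaf 0x8661947))) (.node (.node (.leaf 0xe4d1969) (.leaf 0xa36d941))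 (.node (.leaf 0x1292596b) (.leaf 0x0))))) (.node (.node (.node (.node (.leaf 0x1035194d) (.leaf 0xe445969)) (.node (.leaf 0x8065945) (.leaf 0x125fd969))) (.node (.node (.leaf 0x1209d96b) (.leaf 0xf18d947)) (.node (.leaf 0x806d94d) (.leaf 0x986996b)))) (.node (.node (.node (.leaf 0x9d1594d) (.leaf 0xf6a5969)) (.node (.leaf 0x96f1969) (.leaf 0x11e29969))) (.node (.node (.leaf 0xd921969) (.leaf 0x6c6194d)) (.node (.leaf 0x9ed994d) (.leaf 0x0)))))) (.node (.node (.node (.node (.node (.leaf 0x148fd969) (.leaf 0x79f5947)) (.node (.leaf 0x12a2996b) (.leaf 0xb42194d))) (.node (.node (.leaf 0xf4f1945) (.leaf 0x129bd94d)) (.node (.leaf 0x10945969) (.leaf 0x12d9d96b)))) (.node (.node (.node (.leaf 0x1282d969) (.leaf 0xeec1945)) (.node (.leaf 0xcccd94d) (.leaf 0xc671947))) (.node (.node (.leaf 0x5141947) (.leaf 0x15e71969)) (.node (.leaf 0x8049969) (.leaf 0x0))))) (.node (.node (.node (.node (.leaf 0xd1ad96b) (.leaf 0xe3c994d)) (.node (.leaf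 0x1019596b) (.leaf 0x8881945))) (.node (.node (.leaf 0x10bd9969) (.leaf 0x13489969)) (.node (.leaf 0x51bd945) (.leaf 0x0)))) (.node (.node (.node (.leaf 0xd76196b) (.leaf 0xa1a596b)) (.node (.leaf 0x1251996b) (.leaf 0x79f5969))) (.node (.node (.leaf 0xc96d94d) (.leaf 0x804596b)) (.node (.leaf 0xddc9945) (.leaf 0x0))))))))) (.node (.node (.node (.node (.node (.node (.node (.node (.leaf 0xc6d9969) (.leaf 0xe849945)) (.node (.leaf 0x8b6596b) (.leaf 0xe8f1947))) (.node (.node (.leaf 0x427196b) (.leaf 0xbb11969)) (.node (.leaf 0x10f4994d) (.leaf 0xb49d947)))) (.node (.node (.node (.leaf 0x944594d) (.leaf 0x5fa194d)) (.node (.leaf 0xb3c9969) (.leaf 0xef11969))) (.node (.node (.leaf 0xd99d941) (.leaf 0xe19194d)) (.node (.leaf 0xd8d5945) (.leaf 0x0))))) (.node (.node (.node (.node (.leaf 0xdccd945) (.leaf 0x10f01969)) (.node (.leaf 0xc42196b) (.leaf 0x132bd94d))) (.node (.node (.leaf 0x126b596b) (.leaf 0x12a1d94d)) (.node (.leaf 0x8b55945)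 (.leaf 0xdf4d969)))) (.node (.node (.node (.leaf 0xd19594d) (.leaf 0x10bcd96b)) (.node (.leaf 0xc325941) (.leaf 0x8665947))) (.node (.node (.leaf 0xd429969) (.leaf 0xf40194d)) (.node (.leaf 0xf5c5969) (.leaf 0x0)))))) (.node (.node (.node (.node (.node (.leaf 0xf3d5945) (.leaf 0xf83996b)) (.node (.leaf 0xcded947) (.leaf 0xc8a9945))) (.node (.node (.leaf 0xd509947) (.leaf 0x945d969)) (.node (.leaf 0xf669969) (.leaf 0x12a01969)))) (.node (.node (.node (.leaf 0xdaf594d) (.leaf 0xd5f996b)) (.node (.leaf 0xdb1596b) (.leaf 0x6121945))) (.node (.node (.leaf 0x1015994d) (.leaf 0xc41996b)) (.node (.leaf 0xc6f596b) (.leaf 0x0))))) (.node (.node (.node (.node (.leaf 0xd9c196b) (.leaf 0x17485941)) (.node (.leaf 0x10df594d) (.leaf 0x9bf9969))) (.node (.node (.leaf 0x9a2994d) (.leaf 0xa8c1941)) (.node (.leaf 0x5b4d94d) (.leaf 0x17a95941)))) (.node (.node (.node (.leaf 0xdb41969) (.leaf 0xb21196b)) (.node (.leaf 0xf86d96b) (.leaf 0x12e21969)))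 (.node (.node (.leaf 0xea31947) (.leaf 0xb49d94d)) (.node (.leaf 0xd7f9969) (.leaf 0x0))))))) (.node (.node (.node (.node (.node (.node (.leaf 0x826d96b) (.leaf 0xf495969)) (.node (.leaf 0xed55947) (.leaf 0x9be1969))) (.node (.node (.leaf 0xee71969) (.leaf 0xf2d1941)) (.node (.leaf 0x84a9945) (.leaf 0xe4f196b)))) (.node (.node (.node (.leaf 0xd24994d) (.leaf 0x11da994d)) (.node (.leaf 0x84a994d) (.leaf 0xc2b5969))) (.node (.node (.leaf 0x1b96) (.leaf 0xb16194d)) (.node (.leaf 0xc3d9945) (.leaf 0x0))))) (.node (.node (.node (.node (.leaf 0xb3c9947) (.leaf 0x9279945)) (.node (.leaf 0x13375969) (.leaf 0xf6a996b))) (.node (.node (.leaf 0x1024594d) (.leaf 0x124e996b)) (.node (.leaf 0x804594d) (.leaf 0xf18d969)))) (.node (.node (.node (.leaf 0xd92194d) (.leaf 0xd289945)) (.node (.leaf 0xd375969) (.leaf 0xfa0596b))) (.node (.node (.leaf 0xe101969) (.leaf 0xe5cd947)) (.node (.leaf 0xc55d969) (.leaf 0x0)))))) (.node (.node (.node (.node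 (.node (.leaf 0x7979947) (.leaf 0xe1bd94d)) (.node (.leaf 0xf669947) (.leaf 0x12d1d94d))) (.node (.node (.leaf 0xd5e1947) (.leaf 0x1147196b)) (.node (.leaf 0xc2c994d) (.leaf 0xf80594d)))) (.node (.node (.node (.leaf 0x8181969) (.leaf 0xf83196b)) (.node (.leaf 0xe70d96b) (.leaf 0xa865947))) (.node (.node (.leaf 0x1109d96b) (.leaf 0xc43596b)) (.node (.leaf 0xb6ad945) (.leaf 0x0))))) (.node (.node (.node (.node (.leaf 0xc05196b) (.leaf 0x123b994d)) (.node (.leaf 0xc899947) (.leaf 0xc891945))) (.node (.node (.leaf 0xdebd947) (.leaf 0xc88d947)) (.node (.leaf 0xc4d996b) (.leaf 0x0)))) (.node (.node (.node (.leaf 0xc3fd969) (.leaf 0x12e49969)) (.node (.leaf 0x11aa196b) (.leaf 0x1339996b))) (.node (.node (.leaf 0xc89d94d) (.leaf 0x12009969)) (.node (.leaf 0x1360996b) (.leaf 0x0)))))))) (.node (.node (.node (.node (.node (.node (.node (.leaf 0xb309945) (.leaf 0xe3dd96b)) (.node (.leaf 0x11da9969) (.leaf 0xe17d947))) (.node (.node (.leaf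 0x5fa196b) (.leaf 0x1201994d)) (.node (.leaf 0x8669945) (.leaf 0x11751969)))) (.node (.node (.node (.leaf 0x443996b) (.leaf 0xcef196b)) (.node (.leaf 0x9171945) (.leaf 0xe9a5945))) (.node (.node (.leaf 0xcc19945) (.leaf 0xdbd1969)) (.node (.leaf 0xdf8596b) (.leaf 0x0))))) (.node (.node (.node (.node (.leaf 0x1012d969) (.leaf 0x8041945)) (.node (.leaf 0x6ce196b) (.leaf 0x9f39947))) (.node (.node (.leaf 0xd72994d) (.leaf 0xd5e996b)) (.node (.leaf 0xe971969) (.leaf 0xba7d94d)))) (.node (.node (.node (.leaf 0xa451969) (.leaf 0x666194d)) (.node (.leaf 0x110e994d) (.leaf 0xd811945))) (.node (.node (.leaf 0x8785945) (.leaf 0xdaf196b)) (.node (.leaf 0x12321941) (.leaf 0x0)))))) (.node (.node (.node (.node (.node (.leaf 0xcef194d) (.leaf 0x12c2994d)) (.node (.leaf 0x80cd947) (.leaf 0xf5c594d))) (.node (.node (.leaf 0xcfe194d) (.leaf 0xf54996b)) (.node (.leaf 0x410596b) (.leaf 0xc391969)))) (.node (.node (.node (.leaf 0xf38d947) (.leaf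 0x13205941)) (.node (.leaf 0x7979969) (.leaf 0xa72d941))) (.node (.node (.leaf 0xd09196b) (.leaf 0xb3c994d)) (.node (.leaf 0x14aa5969) (.leaf 0x0))))) (.node (.node (.node (.node (.leaf 0xc89d947) (.leaf 0xf69d969)) (.node (.leaf 0x9119945) (.leaf 0xdbcd969))) (.node (.node (.leaf 0x8b0596b) (.leaf 0x13415969)) (.node (.leaf 0xc031945) (.leaf 0x0)))) (.node (.node (.node (.leaf 0x14ab5969) (.leaf 0xa72d969)) (.node (.leaf 0xf0e9969) (.leaf 0x12f19969))) (.node (.node (.leaf 0xea11947) (.leaf 0xb3fd945)) (.node (.leaf 0xdabd969) (.leaf 0x0))))))) (.node (.node (.node (.node (.node (.node (.leaf 0x11d89945) (.leaf 0xdab5969)) (.node (.leaf 0xd0f194d) (.leaf 0xebfd96b))) (.node (.node (.leaf 0x1177994d) (.leaf 0xe2bd969)) (.node (.leaf 0xed7196b) (.leaf 0x1129596b)))) (.node (.node (.node (.leaf 0x131f596b) (.leaf 0xe51594d)) (.node (.leaf 0x99fd94d) (.leaf 0xa98d945))) (.node (.node (.leaf 0xe59196b) (.leaf 0x175d996b)) (.node (.leaf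 0x135a996b) (.leaf 0x0))))) (.node (.node (.node (.node (.leaf 0xd9c9969) (.leaf 0xe26594d)) (.node (.leaf 0xf3b9969) (.leaf 0xe3dd969))) (.node (.node (.leaf 0xdbed969) (.leaf 0xba4996b)) (.node (.leaf 0xa2fd947) (.leaf 0xd195969)))) (.node (.node (.node (.leaf 0x9d41945) (.leaf 0xf50d96b)) (.node (.leaf 0x96f1941) (.leaf 0xbb2594d))) (.node (.node (.leaf 0x818194d) (.leaf 0xa8bd945)) (.node (.leaf 0x9261945) (.leaf 0x0)))))) (.node (.node (.node (.node (.node (.leaf 0x1194d969) (.leaf 0xf401969)) (.node (.leaf 0x11d0196b) (.leaf 0xc689947))) (.node (.node (.leaf 0xf4f1947) (.leaf 0x126d994d)) (.node (.leaf 0x445d941) (.leaf 0x19ec)))) (.node (.node (.node (.leaf 0x9749947) (.leaf 0xabe9969)) (.node (.leaf 0x8a19941) (.leaf 0xef7596b))) (.node (.node (.leaf 0xcdc996b) (.leaf 0x161f1941)) (.node (.leaf 0x130a9969) (.leaf 0x0))))) (.node (.node (.node (.node (.leaf 0x1a04) (.leaf 0x12b2994d)) (.node (.leaf 0x1230d969) (.leaf 0xb211969)))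 (.node (.node (.leaf 0x5f01945) (.leaf 0xed91945)) (.node (.leaf 0x5fa1945) (.leaf 0x0)))) (.node (.node (.node (.leaf 0xdd79969) (.leaf 0x12ba594d)) (.node (.leaf 0x11d8596b) (.leaf 0x997d96b))) (.node (.node (.leaf 0x9a1d945) (.leaf 0xb26194d)) (.node (.leaf 0xbb1d969) (.leaf 0x0))))))))))

/-- packed table -/
noncomputable def cov12_rrl : BTree := (.node (.node (.node (.node (.node (.node (.node (.node (.node (.leaf 0x9b5d947) (.leaf 0xe5cd945)) (.node (.leaf 0x8b4196b) (.leaf 0x15dfd941))) (.node (.node (.leaf 0x97f1945) (.leaf 0xc071945)) (.node (.leaf 0xf805945) (.leaf 0xc39196b)))) (.node (.node (.node (.leaf 0xd43594d) (.leaf 0xc84196b)) (.node (.leaf 0xc30d969) (.leaf 0x9b0596b))) (.node (.node (.leaf 0xf64d96b) (.leaf 0x6121947)) (.node (.leaf 0x99f5969) (.leaf 0x0))))) (.node (.node (.node (.node (.leaf 0x10fb596b) (.leaf 0x10c7d969)) (.node (.leaf 0x12699969) (.leaf 0x6fed945))) (.node (.node (.leaf 0xf451947) (.leaf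 0xea1994d)) (.node (.leaf 0xdc09941) (.leaf 0xf66994d)))) (.node (.node (.node (.leaf 0x14901969) (.leaf 0x132dd96b)) (.node (.leaf 0xc32196b) (.leaf 0xf241969))) (.node (.node (.leaf 0x5105969) (.leaf 0x19ba)) (.node (.leaf 0x12629941) (.leaf 0x0)))))) (.node (.node (.node (.node (.node (.leaf 0xf8d996b) (.leaf 0xabf9945)) (.node (.leaf 0xd6c5969) (.leaf 0xf12994d))) (.node (.node (.leaf 0x107e1945) (.leaf 0x11fd594d)) (.node (.leaf 0x12ead96b) (.leaf 0x1398d941)))) (.node (.node (.node (.leaf 0xec5996b) (.leaf 0xa6cd945)) (.node (.leaf 0x13379969) (.leaf 0x9f1d947))) (.node (.node (.leaf 0x122f5969) (.leaf 0x12345969)) (.node (.leaf 0x12d3d96b) (.leaf 0x0))))) (.node (.node (.node (.node (.leaf 0x803d94d) (.leaf 0xe27594d)) (.node (.leaf 0xdadd969) (.leaf 0x124ed941))) (.node (.node (.leaf 0x8b41969) (.leaf 0xe40994d)) (.node (.leaf 0x8e59947) (.leaf 0xf70194d)))) (.node (.node (.node (.leaf 0x4261969) (.leaf 0x8111945)) (.node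 (.leaf 0xcd7196b) (.leaf 0xe10d96b))) (.node (.node (.leaf 0xcfa1969) (.leaf 0x1296196b)) (.node (.leaf 0x124f596b) (.leaf 0x0))))))) (.node (.node (.node (.node (.node (.node (.leaf 0x886596b) (.leaf 0x10f1d96b)) (.node (.leaf 0x866994d) (.leaf 0x945d945))) (.node (.node (.leaf 0xa2fd96b) (.leaf 0xeca5969)) (.node (.leaf 0xd4b5969) (.leaf 0xbab994d)))) (.node (.node (.node (.leaf 0x445d96b) (.leaf 0xc8a9947)) (.node (.leaf 0x81cd94d) (.leaf 0xd081969))) (.node (.node (.leaf 0xd729947) (.leaf 0xcf9596b)) (.node (.leaf 0x10be196b) (.leaf 0x0))))) (.node (.node (.node (.node (.leaf 0x427994d) (.leaf 0x8ce9969)) (.node (.leaf 0x85b996b) (.leaf 0x1605996b))) (.node (.node (.leaf 0x11eb5947) (.leaf 0xf32d941)) (.node (.leaf 0x884d969) (.leaf 0xc0d5969)))) (.node (.node (.node (.leaf 0xa361969) (.leaf 0x109a196b)) (.node (.leaf 0x110cd94d) (.leaf 0x13439969))) (.node (.node (.leaf 0xd42594d) (.leaf 0xc07196b)) (.node (.leaf 0x1306d941)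 (.leaf 0x0)))))) (.node (.node (.node (.node (.node (.leaf 0x109b196b) (.leaf 0x12c3194d)) (.node (.leaf 0x1490196b) (.leaf 0xba41969))) (.node (.node (.leaf 0xda31969) (.leaf 0x721d941)) (.node (.leaf 0x8885945) (.leaf 0xf83194d)))) (.node (.node (.node (.leaf 0xd921945) (.leaf 0xeaf5947)) (.node (.leaf 0xc541941) (.leaf 0x1334194d))) (.node (.node (.leaf 0x1320996b) (.leaf 0x12e2594d)) (.node (.leaf 0x1172d96b) (.leaf 0x0))))) (.node (.node (.node (.node (.leaf 0xc38994d) (.leaf 0x128b994d)) (.node (.leaf 0x128b9969) (.leaf 0x9b2196b))) (.node (.node (.leaf 0x11ac9941) (.leaf 0xa9ad96b)) (.node (.leaf 0x1309d969) (.leaf 0x0)))) (.node (.node (.node (.leaf 0xc0f196b) (.leaf 0xada9969)) (.node (.leaf 0xced9945) (.leaf 0xcd4d969))) (.node (.node (.leaf 0x997d941) (.leaf 0x128e5941)) (.node (.leaf 0xa41594d) (.leaf 0x0)))))))) (.node (.node (.node (.node (.node (.node (.node (.leaf 0x6ce1945) (.leaf 0x83a5947)) (.node (.leaf 0xe105969)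 (.leaf 0x15f81941))) (.node (.node (.leaf 0x4105947) (.leaf 0xc2c996b)) (.node (.leaf 0x1380196b) (.leaf 0xb861945)))) (.node (.node (.node (.leaf 0x8b5594d) (.leaf 0xada9941)) (.node (.leaf 0x9451969) (.leaf 0x132a194d))) (.node (.node (.leaf 0xdad596b) (.leaf 0xc4cd969)) (.node (.leaf 0xd8b594d) (.leaf 0x0))))) (.node (.node (.node (.node (.leaf 0xd2d596b) (.leaf 0x134e996b)) (.node (.leaf 0xb36996b) (.leaf 0xf4f5969))) (.node (.node (.leaf 0x11ff996b) (.leaf 0x16521969)) (.node (.leaf 0x12a2d969) (.leaf 0x1284596b)))) (.node (.node (.node (.leaf 0xe681947) (.leaf 0xb955947)) (.node (.leaf 0x1033d941) (.leaf 0xba2594d))) (.node (.node (.leaf 0x11aa5969) (.leaf 0x1257996b)) (.node (.leaf 0x10c95969) (.leaf 0x0)))))) (.node (.node (.node (.node (.node (.leaf 0xe275969) (.leaf 0x10599969)) (.node (.leaf 0x8dd1945) (.leaf 0xbac196b))) (.node (.node (.leaf 0x99fd96b) (.leaf 0x1277194d)) (.node (.leaf 0xd95594d) (.leaf 0xb9ed941))))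 (.node (.node (.node (.leaf 0x11b1994d) (.leaf 0xa72194d)) (.node (.leaf 0x8bfd94d) (.leaf 0xdbc9969))) (.node (.node (.leaf 0x80bd94d) (.leaf 0xc4e5969)) (.node (.leaf 0x16111941) (.leaf 0x0))))) (.node (.node (.node (.node (.leaf 0xec55945) (.leaf 0xc391945)) (.node (.leaf 0x8de594d) (.leaf 0xb36994d))) (.node (.node (.leaf 0x444594d) (.leaf 0xc4e596b)) (.node (.leaf 0x19b6) (.leaf 0x0)))) (.node (.node (.node (.leaf 0x1306d969) (.leaf 0x1275d94d)) (.node (.leaf 0x9ed9947) (.leaf 0xf89d941))) (.node (.node (.leaf 0xe6a1947) (.leaf 0x12945941)) (.node (.leaf 0xbac5969) (.leaf 0x0))))))) (.node (.node (.node (.node (.node (.node (.leaf 0x4cb596b) (.leaf 0x13435969)) (.node (.leaf 0xebe5945) (.leaf 0xf0e994d))) (.node (.node (.leaf 0x1316d969) (.leaf 0x9f1d94d)) (.node (.leaf 0x99f5945) (.leaf 0xcd4d96b)))) (.node (.node (.node (.leaf 0x927994d) (.leaf 0xf2a996b)) (.node (.leaf 0x10ffd969) (.leaf 0xf4bd94d))) (.node (.node (.leaf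 0x9bd9969) (.leaf 0x12371941)) (.node (.leaf 0x866d945) (.leaf 0x0))))) (.node (.node (.node (.node (.leaf 0xb369947) (.leaf 0x10f2196b)) (.node (.leaf 0xf335969) (.leaf 0x721d947))) (.node (.node (.leaf 0x12c3d96b) (.leaf 0x76f996b)) (.node (.leaf 0xc07194d) (.leaf 0x1380d94d)))) (.node (.node (.node (.leaf 0x1a0c) (.leaf 0x7191941)) (.node (.leaf 0xd6f596b) (.leaf 0x12845969))) (.node (.node (.leaf 0xc89d969) (.leaf 0xd24d947)) (.node (.leaf 0x83a5945) (.leaf 0x0)))))) (.node (.node (.node (.node (.node (.leaf 0x51bd941) (.leaf 0xd19996b)) (.node (.leaf 0x1085194d) (.leaf 0xba49969))) (.node (.node (.leaf 0x9271947) (.leaf 0xeb91969)) (.node (.leaf 0xc2b194d) (.leaf 0x12ea596b)))) (.node (.node (.node (.leaf 0xc055969) (.leaf 0xb5a596b)) (.node (.leaf 0xb8fd947) (.leaf 0x164fd969))) (.node (.node (.leaf 0x9145947) (.leaf 0xde91969)) (.node (.leaf 0x13555941) (.leaf 0x0))))) (.node (.node (.node (.node (.leaf 0x13671969) (.leaf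 0xcf99969)) (.node (.leaf 0x1312d96b) (.leaf 0x6d6194d))) (.node (.node (.leaf 0xf139945) (.leaf 0x125f196b)) (.node (.leaf 0xa451945) (.leaf 0x0)))) (.node (.node (.node (.leaf 0xef7996b) (.leaf 0x61b196b)) (.node (.leaf 0x1109d969) (.leaf 0x7a01969))) (.node (.node (.leaf 0x8b4d941) (.leaf 0xcf9196b)) (.node (.leaf 0xe1bd947) (.leaf 0x0))))))))) (.node (.node (.node (.node (.node (.node (.node (.node (.leaf 0x9b79947) (.leaf 0xc32996b)) (.node (.leaf 0xcb5196b) (.leaf 0x13101969))) (.node (.node (.leaf 0xd7f994d) (.leaf 0xd5cd969)) (.node (.leaf 0xb42d96b) (.leaf 0xae41947)))) (.node (.node (.node (.leaf 0x84dd941) (.leaf 0x131bd96b)) (.node (.leaf 0xb389969) (.leaf 0x6ce194d))) (.node (.node (.leaf 0xd9a9941) (.leaf 0xe7a9969)) (.node (.leaf 0x99d9969) (.leaf 0x0))))) (.node (.node (.node (.node (.leaf 0xe6fd945) (.leaf 0xf721969)) (.node (.leaf 0x11d01969) (.leaf 0xa415947))) (.node (.node (.leaf 0xc5f596b) (.leaf 0xc675945))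 (.node (.leaf 0x4465969) (.leaf 0xe51d969)))) (.node (.node (.node (.leaf 0x917194d) (.leaf 0x1758d96b)) (.node (.leaf 0x10315941) (.leaf 0xc2cd969))) (.node (.node (.leaf 0xce1594d) (.leaf 0xe7a596b)) (.node (.leaf 0xbac1969) (.leaf 0x0)))))) (.node (.node (.node (.node (.node (.leaf 0xc27d969) (.leaf 0x129f996b)) (.node (.leaf 0xce71969) (.leaf 0xee8594d))) (.node (.node (.leaf 0x10481941) (.leaf 0xc32d96b)) (.node (.leaf 0xf665969) (.leaf 0xec15969)))) (.node (.node (.node (.leaf 0xdaf194d) (.leaf 0x1271594d)) (.node (.leaf 0x1037596b) (.leaf 0x134e9969))) (.node (.node (.leaf 0x1016194d) (.leaf 0x130c994d)) (.node (.leaf 0xc6d996b) (.leaf 0x0))))) (.node (.node (.node (.node (.leaf 0x9bf594d) (.leaf 0x10f2596b)) (.node (.leaf 0x5141969) (.leaf 0xb5a594d))) (.node (.node (.leaf 0x8b65969) (.leaf 0xda95969)) (.node (.leaf 0x5b25941) (.leaf 0x1062996b)))) (.node (.node (.node (.leaf 0x8725945) (.leaf 0x654194d)) (.node (.leaf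 0xf1ad945) (.leaf 0x13449969))) (.node (.node (.leaf 0xd955945) (.leaf 0xcf9996b)) (.node (.leaf 0xa44994d) (.leaf 0x0))))))) (.node (.node (.node (.node (.node (.node (.leaf 0xb42d969) (.leaf 0x111c996b)) (.node (.leaf 0xc67194d) (.leaf 0xd439945))) (.node (.node (.leaf 0xce99969) (.leaf 0xa98d947)) (.node (.leaf 0x848d945) (.leaf 0x1288196b)))) (.node (.node (.node (.leaf 0xc965969) (.leaf 0xdda194d)) (.node (.leaf 0x99f5947) (.leaf 0xf41d945))) (.node (.node (.leaf 0xdf6596b) (.leaf 0x13341969)) (.node (.leaf 0x8a2594d) (.leaf 0x0))))) (.node (.node (.node (.node (.leaf 0x8119947) (.leaf 0x12731945)) (.node (.leaf 0x9ed9945) (.leaf 0xf0fd945))) (.node (.node (.leaf 0x1024994d) (.leaf 0x125e994d)) (.node (.leaf 0x7889947) (.leaf 0x62a1947)))) (.node (.node (.node (.leaf 0x124ad969) (.leaf 0xe51d947)) (.node (.leaf 0x96c994d) (.leaf 0x7a0196b))) (.node (.node (.leaf 0xe825969) (.leaf 0xd435945)) (.node (.leaf 0x1171996b) (.leaf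 0x0)))))) (.node (.node (.node (.node (.node (.leaf 0xa5f996b) (.leaf 0xb265941)) (.node (.leaf 0x817d945) (.leaf 0x9449945))) (.node (.node (.leaf 0xe885947) (.leaf 0x7a01947)) (.node (.leaf 0xc2a994d) (.leaf 0xc1ad947)))) (.node (.node (.node (.leaf 0xe70d969) (.leaf 0x1203594d)) (.node (.leaf 0xc545941) (.leaf 0x9bdd969))) (.node (.node (.leaf 0x111f996b) (.leaf 0x6e0d945)) (.node (.leaf 0xc5fd947) (.leaf 0x0))))) (.node (.node (.node (.node (.leaf 0x103b594d) (.leaf 0x880196b)) (.node (.leaf 0x10249969) (.leaf 0xdaf996b))) (.node (.node (.leaf 0x11ad1941) (.leaf 0x13075969)) (.node (.leaf 0x117c5969) (.leaf 0x0)))) (.node (.node (.node (.leaf 0xc4b1969) (.leaf 0x12621969)) (.node (.leaf 0x13065969) (.leaf 0xf22d96b))) (.node (.node (.leaf 0xc8a994d) (.leaf 0xc4d1969)) (.node (.leaf 0x16385969) (.leaf 0x0)))))))) (.node (.node (.node (.node (.node (.node (.node (.leaf 0x5269945) (.leaf 0x1640596b)) (.node (.leaf 0x82c196b)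 (.leaf 0xee6594d))) (.node (.node (.leaf 0x111b594d) (.leaf 0xb5b1945)) (.node (.leaf 0xc541969) (.leaf 0x9a99945)))) (.node (.node (.node (.leaf 0xda4196b) (.leaf 0xcc25947)) (.node (.leaf 0x81b594d) (.leaf 0xd085969))) (.node (.node (.leaf 0xe791945) (.leaf 0x123d596b)) (.node (.leaf 0xe10596b) (.leaf 0x0))))) (.node (.node (.node (.node (.leaf 0x4271941) (.leaf 0x10c99969)) (.node (.leaf 0xdbe5969) (.leaf 0xe515969))) (.node (.node (.leaf 0x133c1947) (.leaf 0xed15969)) (.node (.leaf 0x11bf1969) (.leaf 0xf79d941)))) (.node (.node (.node (.leaf 0x5185969) (.leaf 0x175d9969)) (.node (.leaf 0x110c994d) (.leaf 0x9481947))) (.node (.node (.leaf 0x134b5969) (.leaf 0x16a35941)) (.node (.leaf 0xc16d969) (.leaf 0x0)))))) (.node (.node (.node (.node (.node (.leaf 0xba25947) (.leaf 0xc5f9945)) (.node (.leaf 0xe4d1947) (.leaf 0xd42d945))) (.node (.node (.leaf 0x903d945) (.leaf 0xb5b1969)) (.node (.leaf 0x13801969) (.leaf 0xd54d96b)))) (.node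 (.node (.node (.leaf 0xeed9947) (.leaf 0x12771969)) (.node (.leaf 0x9afd96b) (.leaf 0xf0a194d))) (.node (.node (.leaf 0xd43d969) (.leaf 0xcf9d96b)) (.node (.leaf 0xc2cd96b) (.leaf 0x0))))) (.node (.node (.node (.node (.leaf 0xd921947) (.leaf 0x612194d)) (.node (.leaf 0x938594d) (.leaf 0xb38994d))) (.node (.node (.leaf 0x9a1d947) (.leaf 0xde2d94d)) (.node (.leaf 0x9d1596b) (.leaf 0x0)))) (.node (.node (.node (.leaf 0xca0594d) (.leaf 0xe95194d)) (.node (.leaf 0xee85969) (.leaf 0xf22d969))) (.node (.node (.leaf 0x917196b) (.leaf 0x13609969)) (.node (.leaf 0x11779969) (.leaf 0x0))))))) (.node (.node (.node (.node (.node (.node (.leaf 0xe3e1945) (.leaf 0x10f2996b)) (.node (.leaf 0x4df9969) (.leaf 0xbaad96b))) (.node (.node (.leaf 0x1177194d) (.leaf 0xf49596b)) (.node (.leaf 0xc94194d) (.leaf 0x13871941)))) (.node (.node (.node (.leaf 0xcea596b) (.leaf 0xe50d94d)) (.node (.leaf 0x901196b) (.leaf 0x167f5941))) (.node (.node (.leaf 0x9861945)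 (.leaf 0x135e596b)) (.node (.leaf 0x1194d96b) (.leaf 0x0))))) (.node (.node (.node (.node (.leaf 0x1037d94d) (.leaf 0xa25d94d)) (.node (.leaf 0xef79969) (.leaf 0x16405969))) (.node (.node (.leaf 0x110dd96b) (.leaf 0xe84994d)) (.node (.leaf 0xa4b1947) (.leaf 0x779994d)))) (.node (.node (.node (.leaf 0x9d21969) (.leaf 0xf0fd969)) (.node (.leaf 0x914594d) (.leaf 0xbb1d947))) (.node (.node (.leaf 0xa5f9969) (.leaf 0xc4e9969)) (.node (.leaf 0x1312d941) (.leaf 0x0)))))) (.node (.node (.node (.node (.node (.leaf 0x1257196b) (.leaf 0xa98d94d)) (.node (.leaf 0x13109969) (.leaf 0x1307596b))) (.node (.node (.leaf 0xc3b1945) (.leaf 0xa6cd94d)) (.node (.leaf 0xdc1996b) (.leaf 0x79f594d)))) (.node (.node (.node (.leaf 0xe85d947) (.leaf 0xb959947)) (.node (.leaf 0x10a21941) (.leaf 0xdf8d969))) (.node (.node (.leaf 0x8dd196b) (.leaf 0xe1ed941)) (.node (.leaf 0x11775969) (.leaf 0x0))))) (.node (.node (.node (.node (.leaf 0xd441945) (.leaf 0xf479945))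 (.node (.leaf 0x10919969) (.leaf 0xdaed96b))) (.node (.node (.leaf 0xcc9d94d) (.leaf 0x10f1596b)) (.node (.leaf 0x8895945) (.leaf 0x0)))) (.node (.node (.node (.leaf 0xc42d969) (.leaf 0xe1ad96b)) (.node (.leaf 0x9171947) (.leaf 0x9869969))) (.node (.node (.leaf 0x8b65941) (.leaf 0x19b2)) (.node (.leaf 0xa86594d) (.leaf 0x0))))))))))

/-- packed table -/
noncomputable def cov12_rrr : BTree := (.node (.node (.node (.node (.node (.node (.node (.node (.node (.leaf 0x46d1969) (.leaf 0x62a196b)) (.node (.leaf 0x445d945) (.leaf 0x1022996b))) (.node (.node (.leaf 0xc051945) (.leaf 0xc891947)) (.node (.leaf 0xa499969) (.leaf 0xd54d969)))) (.node (.node (.node (.leaf 0x946194d) (.leaf 0xdfb194d)) (.node (.leaf 0x829596b) (.leaf 0xa799945))) (.node (.node (.leaf 0xc2a9969) (.leaf 0xa7a1969)) (.node (.leaf 0x99fd969) (.leaf 0x0))))) (.node (.node (.node (.node (.leaf 0xc27d96b) (.leaf 0xe445947)) (.node (.leaf 0x105c996b) (.leaf 0x19d2)))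 (.node (.node (.leaf 0x7799947) (.leaf 0xc05d945)) (.node (.leaf 0x445d969) (.leaf 0xc3e1969)))) (.node (.node (.node (.leaf 0xb8fd96b) (.leaf 0x151cd969)) (.node (.leaf 0x1250196b) (.leaf 0x10161969))) (.node (.node (.leaf 0xd37596b) (.leaf 0x612196b)) (.node (.leaf 0x1171596b) (.leaf 0x0)))))) (.node (.node (.node (.node (.node (.leaf 0xd091969) (.leaf 0xe37994d)) (.node (.leaf 0x5379947) (.leaf 0xdabd96b))) (.node (.node (.leaf 0x1311d945) (.leaf 0x1018996b)) (.node (.leaf 0xc06996b) (.leaf 0x1399d941)))) (.node (.node (.node (.leaf 0x11b1996b) (.leaf 0xbab9969)) (.node (.leaf 0xd879969) (.leaf 0xe155941))) (.node (.node (.leaf 0x1202d945) (.leaf 0xe349969)) (.node (.leaf 0xc6d994d) (.leaf 0x0))))) (.node (.node (.node (.node (.leaf 0xdbd194d) (.leaf 0xa5f994d)) (.node (.leaf 0xdec996b) (.leaf 0xeab9945))) (.node (.node (.leaf 0x443d947) (.leaf 0xe3c5969)) (.node (.leaf 0x6661947) (.leaf 0x76f9941)))) (.node (.node (.node (.leaf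 0x5b25969) (.leaf 0x1295596b)) (.node (.leaf 0x10151969) (.leaf 0xb711945))) (.node (.node (.leaf 0xf5ad945) (.leaf 0xebfd941)) (.node (.leaf 0x6e0d941) (.leaf 0x0))))))) (.node (.node (.node (.node (.node (.node (.leaf 0x95a5969) (.leaf 0xc68d945)) (.node (.leaf 0xc68594d) (.leaf 0xf57994d))) (.node (.node (.leaf 0x8065969) (.leaf 0x1232996b)) (.node (.leaf 0x847d945) (.leaf 0xbaad94d)))) (.node (.node (.node (.leaf 0xd4c594d) (.leaf 0x8bf5945)) (.node (.leaf 0x847d94d) (.leaf 0x63c1941))) (.node (.node (.leaf 0x826d945) (.leaf 0x10f25969)) (.node (.leaf 0x124c996b) (.leaf 0x0))))) (.node (.node (.node (.node (.leaf 0x6ce1947) (.leaf 0xf605941)) (.node (.leaf 0x109b5969) (.leaf 0xb565945))) (.node (.node (.leaf 0x10a3d947) (.leaf 0xf70196b)) (.node (.leaf 0x11aa594d) (.leaf 0x1175196b)))) (.node (.node (.node (.leaf 0x1309d96b) (.leaf 0xcf9d969)) (.node (.leaf 0x935d969) (.leaf 0xb49d945))) (.node (.node (.leaf 0x8871947) (.leaf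 0xe849947)) (.node (.leaf 0x111b596b) (.leaf 0x0)))))) (.node (.node (.node (.node (.node (.leaf 0x11d85969) (.leaf 0x9869945)) (.node (.leaf 0xe19d96b) (.leaf 0xf765969))) (.node (.node (.leaf 0xd421945) (.leaf 0xb211941)) (.node (.leaf 0x829d94d) (.leaf 0xf83594d)))) (.node (.node (.node (.leaf 0xe915945) (.leaf 0xe04994d)) (.node (.leaf 0xdad5969) (.leaf 0xf50d969))) (.node (.node (.leaf 0x11aa1969) (.leaf 0xee1194d)) (.node (.leaf 0x14d4596b) (.leaf 0x0))))) (.node (.node (.node (.node (.leaf 0x9291969) (.leaf 0xc689945)) (.node (.leaf 0xd5e1969) (.leaf 0xc329969))) (.node (.node (.leaf 0xdad5941) (.leaf 0xa7f994d)) (.node (.leaf 0x10cc196b) (.leaf 0x0)))) (.node (.node (.node (.leaf 0x1056596b) (.leaf 0x9575945)) (.node (.leaf 0xe555945) (.leaf 0xbb0994d))) (.node (.node (.leaf 0x887d94d) (.leaf 0x1361994d)) (.node (.leaf 0xf60596b) (.leaf 0x0)))))))) (.node (.node (.node (.node (.node (.node (.node (.leaf 0xb389945) (.leaf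 0x1240196b)) (.node (.leaf 0x124c9969) (.leaf 0x1022d96b))) (.node (.node (.leaf 0x110c596b) (.leaf 0x9aad96b)) (.node (.leaf 0xcef9969) (.leaf 0xa44996b)))) (.node (.node (.node (.leaf 0x1986) (.leaf 0x9f4194d)) (.node (.leaf 0x6c61969) (.leaf 0xf491969))) (.node (.node (.leaf 0x119b5941) (.leaf 0xc32d969)) (.node (.leaf 0xd8e9945) (.leaf 0x0))))) (.node (.node (.node (.node (.leaf 0x425994d) (.leaf 0x5f01941)) (.node (.leaf 0x6c6196b) (.leaf 0xeff194d))) (.node (.node (.leaf 0x1170994d) (.leaf 0xc4d196b)) (.node (.leaf 0xe6fd969) (.leaf 0x12b6d96b)))) (.node (.node (.node (.leaf 0x6691969) (.leaf 0x11fcd96b)) (.node (.leaf 0x110b594d) (.leaf 0xcc09969))) (.node (.node (.leaf 0xd729969) (.leaf 0xedd9969)) (.node (.leaf 0xddb9947) (.leaf 0x0)))))) (.node (.node (.node (.node (.node (.leaf 0xdb0d96b) (.leaf 0xa7cd947)) (.node (.leaf 0x198c) (.leaf 0x12cb994d))) (.node (.node (.leaf 0x10495941) (.leaf 0xe79194d)) (.node (.leaf 0xf64d969)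 (.leaf 0xb95594d)))) (.node (.node (.node (.leaf 0x9b0994d) (.leaf 0xe8dd945)) (.node (.leaf 0xf97d969) (.leaf 0x121b5969))) (.node (.node (.leaf 0x80cd945) (.leaf 0xf3d594d)) (.node (.leaf 0xe94994d) (.leaf 0x0))))) (.node (.node (.node (.node (.leaf 0xd56d945) (.leaf 0x1285196b)) (.node (.leaf 0x5109945) (.leaf 0x1335194d))) (.node (.node (.leaf 0x8b1d96b) (.leaf 0xeca596b)) (.node (.leaf 0x46d1941) (.leaf 0x0)))) (.node (.node (.node (.leaf 0x100e1969) (.leaf 0xf4f596b)) (.node (.leaf 0x1060194d) (.leaf 0xf891941))) (.node (.node (.leaf 0x1367196b) (.leaf 0x1362d94d)) (.node (.leaf 0xa80594d) (.leaf 0x0))))))) (.node (.node (.node (.node (.node (.node (.leaf 0x110c996b) (.leaf 0x8801969)) (.node (.leaf 0xc681945) (.leaf 0x12551969))) (.node (.node (.leaf 0x806d96b) (.leaf 0xba3996b)) (.node (.leaf 0x5029941) (.leaf 0x8ce9947)))) (.node (.node (.node (.leaf 0x526994d) (.leaf 0xe51d94d)) (.node (.leaf 0x99e194d) (.leaf 0x134b594d)))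 (.node (.node (.leaf 0xdcad941) (.leaf 0x1343994d)) (.node (.leaf 0x12571969) (.leaf 0x0))))) (.node (.node (.node (.node (.leaf 0x1035994d) (.leaf 0xef35941)) (.node (.leaf 0x10af5969) (.leaf 0xe3f9945))) (.node (.node (.leaf 0xd87596b) (.leaf 0xadad96b)) (.node (.leaf 0x806594d) (.leaf 0x1382994d)))) (.node (.node (.node (.leaf 0x9d2194d) (.leaf 0xe979945)) (.node (.leaf 0x9345945) (.leaf 0x12b6d969))) (.node (.node (.leaf 0x12311969) (.leaf 0x10c8196b)) (.node (.leaf 0x1176d969) (.leaf 0x0)))))) (.node (.node (.node (.node (.node (.leaf 0x948194d) (.leaf 0xe9a594d)) (.node (.leaf 0x1269996b) (.leaf 0xf759969))) (.node (.node (.leaf 0xdda1945) (.leaf 0xda9596b)) (.node (.leaf 0x11c0196b) (.leaf 0x133a996b)))) (.node (.node (.node (.leaf 0xc16994d) (.leaf 0xebfd969)) (.node (.leaf 0xc05596b) (.leaf 0xeff1947))) (.node (.node (.leaf 0x8dd9969) (.leaf 0xd831945)) (.node (.leaf 0xcc25945) (.leaf 0x0))))) (.node (.node (.node (.node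 (.leaf 0xb67d969) (.leaf 0xaafd94d)) (.node (.leaf 0x12945969) (.leaf 0x1014d969))) (.node (.node (.leaf 0xc8a1945) (.leaf 0xf479969)) (.node (.leaf 0x6691945) (.leaf 0x0)))) (.node (.node (.node (.leaf 0xdec9969) (.leaf 0xdac1969)) (.node (.leaf 0xf7ed945) (.leaf 0xb95996b))) (.node (.node (.leaf 0x897994d) (.leaf 0xdab596b)) (.node (.leaf 0xddd1947) (.leaf 0x0))))))))) (.node (.node (.node (.node (.node (.node (.node (.node (.leaf 0x4279945) (.leaf 0x1211d96b)) (.node (.leaf 0x443d945) (.leaf 0xe15596b))) (.node (.node (.leaf 0xfad5947) (.leaf 0xc34196b)) (.node (.leaf 0xc42996b) (.leaf 0x12375969)))) (.node (.node (.node (.leaf 0x19a2) (.leaf 0xe2ed941)) (.node (.leaf 0x8119969) (.leaf 0x10149969))) (.node (.node (.leaf 0x119b1941) (.leaf 0xc671945)) (.node (.leaf 0xdc2d969) (.leaf 0x0))))) (.node (.node (.node (.node (.leaf 0xdd6996b) (.leaf 0xea6994d)) (.node (.leaf 0x12ee996b) (.leaf 0xaea1969))) (.node (.node (.leaf 0xc53d969)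 (.leaf 0x12c9596b)) (.node (.leaf 0xdc19941) (.leaf 0xde2d969)))) (.node (.node (.node (.leaf 0x109b596b) (.leaf 0x9f41945)) (.node (.leaf 0xc341941) (.leaf 0x12f5994d))) (.node (.node (.leaf 0xf579969) (.leaf 0xddc9947)) (.node (.leaf 0xf725969) (.leaf 0x0)))))) (.node (.node (.node (.node (.node (.leaf 0xf195945) (.leaf 0x19f4)) (.node (.leaf 0xcde9945) (.leaf 0x1022196b))) (.node (.node (.leaf 0x99f596b) (.leaf 0xc4cd96b)) (.node (.leaf 0x5555941) (.leaf 0x12881969)))) (.node (.node (.node (.leaf 0x9b0194d) (.leaf 0x1273994d)) (.node (.leaf 0xec59969) (.leaf 0xedb994d))) (.node (.node (.leaf 0x1015594d) (.leaf 0xf0b594d)) (.node (.leaf 0x46f1947) (.leaf 0x0))))) (.node (.node (.node (.node (.leaf 0xdbe594d) (.leaf 0xcf95969)) (.node (.leaf 0xcded94d) (.leaf 0x1359994d))) (.node (.node (.leaf 0x443994d) (.leaf 0xdebd94d)) (.node (.leaf 0x9b4594d) (.leaf 0x11295969)))) (.node (.node (.node (.leaf 0x9b3596b) (.leaf 0xe38996b))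 (.node (.leaf 0xb88596b) (.leaf 0x12cc1969))) (.node (.node (.leaf 0xd06d947) (.leaf 0x109a5969)) (.node (.leaf 0x1173196b) (.leaf 0x0))))))) (.node (.node (.node (.node (.node (.node (.leaf 0x7889969) (.leaf 0x12f09941)) (.node (.leaf 0xf5ad947) (.leaf 0x1059d96b))) (.node (.node (.leaf 0xf1ad969) (.leaf 0x63c196b)) (.node (.leaf 0x118b9969) (.leaf 0x1221d96b)))) (.node (.node (.node (.leaf 0xd24d94d) (.leaf 0xc2b196b)) (.node (.leaf 0xcfdd969) (.leaf 0xb421945))) (.node (.node (.leaf 0xd5e994d) (.leaf 0x12851969)) (.node (.leaf 0x12501969) (.leaf 0x0))))) (.node (.node (.node (.node (.leaf 0xc681969) (.leaf 0xb955945)) (.node (.leaf 0x1354d969) (.leaf 0xea6996b))) (.node (.node (.leaf 0x1023994d) (.leaf 0xa865945)) (.node (.leaf 0x804d94d) (.leaf 0xecd1969)))) (.node (.node (.node (.leaf 0xc4d9969) (.leaf 0x12a0194d)) (.node (.leaf 0x911d96b) (.leaf 0xb955969))) (.node (.node (.leaf 0x11571969) (.leaf 0x125a1969)) (.node (.leaf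 0x9be196b) (.leaf 0x0)))))) (.node (.node (.node (.node (.node (.leaf 0xd47594d) (.leaf 0xa7f9969)) (.node (.leaf 0x1950) (.leaf 0xf401947))) (.node (.node (.leaf 0xf451945) (.leaf 0xc059945)) (.node (.leaf 0xc2c594d) (.leaf 0x8bfd96b)))) (.node (.node (.node (.leaf 0x10cd1941) (.leaf 0xc61d947)) (.node (.leaf 0x12b09969) (.leaf 0xe9ed941))) (.node (.node (.leaf 0x1295d969) (.leaf 0x1758d969)) (.node (.leaf 0x11ff1969) (.leaf 0x0))))) (.node (.node (.node (.node (.leaf 0xf97d96b) (.leaf 0x109a596b)) (.node (.leaf 0xdda1969) (.leaf 0xed7994d))) (.node (.node (.leaf 0xe4f9947) (.leaf 0xe641945)) (.node (.leaf 0x124ad96b) (.leaf 0x0)))) (.node (.node (.node (.leaf 0xc291969) (.leaf 0x16b61969)) (.node (.leaf 0x1295d96b) (.leaf 0xf27596b))) (.node (.node (.leaf 0x889594d) (.leaf 0xf769969)) (.node (.leaf 0xd5f1969) (.leaf 0x0)))))))) (.node (.node (.node (.node (.node (.node (.node (.leaf 0xa43596b) (.leaf 0x117dd96b)) (.node (.leaf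 0x865d94d) (.leaf 0x1022596b))) (.node (.node (.leaf 0x669196b) (.leaf 0xf5b9945)) (.node (.leaf 0x986994d) (.leaf 0xc0d596b)))) (.node (.node (.node (.leaf 0x443d96b) (.leaf 0x109ad96b)) (.node (.leaf 0x101d994d) (.leaf 0x12bbd96b))) (.node (.node (.leaf 0xed79947) (.leaf 0xa3d996b)) (.node (.leaf 0x103f196b) (.leaf 0x0))))) (.node (.node (.node (.node (.leaf 0x803d945) (.leaf 0x8659945)) (.node (.leaf 0x100f994d) (.leaf 0xef1194d))) (.node (.node (.leaf 0x10919941) (.leaf 0xc549969)) (.node (.leaf 0x127d1969) (.leaf 0x7799941)))) (.node (.node (.node (.leaf 0xc679969) (.leaf 0x9869947)) (.node (.leaf 0x110e194d) (.leaf 0x797994d))) (.node (.node (.leaf 0x8619945) (.leaf 0xf13994d)) (.node (.leaf 0x11771969) (.leaf 0x0)))))) (.node (.node (.node (.node (.node (.leaf 0x5555969) (.leaf 0xa98d969)) (.node (.leaf 0xbaed96b) (.leaf 0xeec1947))) (.node (.node (.leaf 0xda41969) (.leaf 0xa1d594d)) (.node (.leaf 0x43f594d) (.leaf 0xb68194d))))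 (.node (.node (.node (.leaf 0xc5d1947) (.leaf 0xde9196b)) (.node (.leaf 0x10539941) (.leaf 0xe9a596b))) (.node (.node (.leaf 0x779996b) (.leaf 0x109a1969)) (.node (.leaf 0xe4a594d) (.leaf 0x0))))) (.node (.node (.node (.node (.leaf 0xddd5947) (.leaf 0x5ca996b)) (.node (.leaf 0x9115945) (.leaf 0x109ad969))) (.node (.node (.leaf 0xdabd941) (.leaf 0xecb5941)) (.node (.leaf 0x9d3d96b) (.leaf 0x0)))) (.node (.node (.node (.leaf 0x128e596b) (.leaf 0xaea1941)) (.node (.leaf 0xcf09969) (.leaf 0xf5b5969))) (.node (.node (.leaf 0x10f8594d) (.leaf 0xf605969)) (.node (.leaf 0xdbc596b) (.leaf 0x0))))))) (.node (.node (.node (.node (.node (.node (.leaf 0xe265945) (.leaf 0xcf91969)) (.node (.leaf 0xd0f994d) (.leaf 0xb5a5969))) (.node (.node (.leaf 0x1177d94d) (.leaf 0x122c1969)) (.node (.leaf 0xee7196b) (.leaf 0x7889941)))) (.node (.node (.node (.leaf 0x1337996b) (.leaf 0x124cd94d)) (.node (.leaf 0x99f594d) (.leaf 0x1325d96b))) (.node (.node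 (.leaf 0xc53d96b) (.leaf 0x11fcd969)) (.node (.leaf 0x106b5969) (.leaf 0x0))))) (.node (.node (.node (.node (.leaf 0x14d41969) (.leaf 0x6d61941)) (.node (.leaf 0xd809969) (.leaf 0x12401969))) (.node (.node (.leaf 0xe27d96b) (.leaf 0x63c1969)) (.node (.leaf 0x51bd947) (.leaf 0x11161969)))) (.node (.node (.node (.leaf 0x9d41969) (.leaf 0x865d945)) (.node (.leaf 0xf0e996b) (.leaf 0xbb2994d))) (.node (.node (.leaf 0xc1a194d) (.leaf 0xf755969)) (.node (.leaf 0xa449945) (.leaf 0x0)))))) (.node (.node (.node (.node (.node (.leaf 0x12d3d969) (.leaf 0xa449947)) (.node (.leaf 0x1091196b) (.leaf 0x129e596b))) (.node (.node (.leaf 0x1036d96b) (.leaf 0xe44d96b)) (.node (.leaf 0x4465941) (.leaf 0xf6bd969)))) (.node (.node (.node (.leaf 0xbb09969) (.leaf 0xe34994d)) (.node (.leaf 0xcf6d945) (.leaf 0xf2d994d))) (.node (.node (.leaf 0x935d96b) (.leaf 0xe17d969)) (.node (.leaf 0x127b194d) (.leaf 0x0))))) (.node (.node (.node (.node (.leaf 0x865594d)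 (.leaf 0x16059969)) (.node (.leaf 0x85a196b) (.leaf 0x721d969))) (.node (.node (.leaf 0x5f01947) (.leaf 0xa16994d)) (.node (.leaf 0x99e1969) (.leaf 0x0)))) (.node (.node (.node (.leaf 0xe67d969) (.leaf 0xc5f9947)) (.node (.leaf 0x109ed969) (.leaf 0xf9b994d))) (.node (.node (.leaf 0xd8d5969) (.leaf 0xe735945)) (.node (.leaf 0xe88594d) (.leaf 0x0))))))))))

/-- packed table -/
noncomputable def cov12 : BTree := (.node (.node (.node cov12_lll cov12_llr) (.node cov12_lrl cov12_lrr)) (.node (.node cov12_rll cov12_rlr) (.node cov12_rrl cov12_rrr)))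

theorem cov12_ok : okCover 12 cov12 = true := by decide +kernel

/-- straight-line program -/
def slp12 : List (Nat × Nat × Nat) :=
  [(0x2a50f6c810ab26b386f470ac41c546, 2, 3),
   (0xbda95934f378a1100ca83312a0ac8e, 2, 4),
   (0x7a0a9601a2b48ea81ab70ce8e58e24, 2, 5),
   (0xb5e959c8d042da7728af6452418022, 5, 5),
   (0x4950f835d3a4640312f512eca09c6c, 5, 6),
   (0xa56f6380822a9900c5e990d0e5b4d3, 5, 7),
   (0x7a1258ba0bb34c39b29724aa2004ea, 7, 6),
   (0xad2d732e0e4b6249b1051c9e2028e1, 7, 6),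
   (0x4950f1844aa308b3caf5702d369a11, 10, 6),
   (0x43ca959a71bc9ca802b60b68761043, 9, 7),
   (0x7a0a98ac2eb10d319eb76aa8204192, 10, 6),
   (0xa56d7718712a97008909911e764c0d, 11, 6),
   (0xbdab408ce478146135288b0b092e6e, 14, 11),
   (0xb5eb4935934020610d2f89caa0b88b, 14, 0),
   (0xbda951aa217ac87748a86192d98a00, 17, 0),
   (0x43d2560262bc0e191a96536ae59223, 15, 2),
   (0xb5e956c23243a6c584af3992320940, 16, 0),
   (0xa56f601c2c28c53239e96a91134970, 19, 14),
   (0x2a50f84d8da825110ef431eca0ac8e, 18, 0),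
   (0x2a5e8510e3a8031136d4332f093a6b, 20, 0),
   (0x4950f6c0d2a2e6c72af53c6c418820, 23, 0)]

/-- levels -/
def levels12 : List (Nat × List Nat) :=
  [(0, [25, 0, 1, 3, 4, 5, 6, 7, 8, 9, 10, 11, 12, 13, 14, 15]),
   (1, [25, 2, 18, 20]),
   (5, [25, 24])]

/-- stabilising facts -/
def gens12 : List Nat := [1616, 1617, 1619, 1626]

theorem chain12_ok : okChain 12 gens12 slp12 levels12 = true := by decide +kernel

theorem chain12_size : chainSize levels12 = 128 := by decide +kernel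

end CfsgLib.Spor.J4.Index
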