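import Cfsg.Agent.Lib.Spor.J4.Index.Check

/-!
Coverage and stabiliser of node 13 (generated).
-/

set_option autoImplicit false
set_option linter.all false

namespace CfsgLib.Spor.J4.Index

open CfsgLib.PresCert

/-- packed table -/
noncomputable def cov13_lll : BTree := (.node (.node (.node (.node (.node (.node (.node (.node (.node (.leaf 0x42c1a45) (.leaf 0xad51a43)) (.node (.leaf 0xf5e5a45) (.leaf 0xf57da93))) (.node (.node (.leaf 0xaa7da41) (.leaf 0xae95a49)) (.node (.leaf 0xc301a91) (.leaf 0xef5da49)))) (.node (.node (.node (.leaf 0xf9f5a4b) (.leaf 0xb881a43)) (.node (.leaf 0xb031a41) (.leaf 0xc32da41))) (.node (.node (.leaf 0xdae1a4b) (.leaf 0xd7e1a43)) (.node (.leaf 0xc519a91) (.leaf 0x0))))) (.node (.node (.node (.node (.leaf 0xca6da91) (.leaf 0xc0e5a41)) (.node (.leaf 0xe911a91) (.leaf 0xf711a41))) (.node (.node (.leaf 0xc0c5a43) (.leaf 0xce6da91)) (.node (.leaf 0xb7b5a47) (.leaf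 0x9a99a47)))) (.node (.node (.node (.leaf 0x75c9a47) (.leaf 0x8161a41)) (.node (.leaf 0x8139a47) (.leaf 0xf555a43))) (.node (.node (.leaf 0x92c9a47) (.leaf 0xd8b5a4b)) (.node (.leaf 0x4e85a45) (.leaf 0x0)))))) (.node (.node (.node (.node (.node (.leaf 0xcc75a47) (.leaf 0xd98da91)) (.node (.leaf 0xcfbda49) (.leaf 0xeb55a91))) (.node (.node (.leaf 0xd279a47) (.leaf 0x81dda45)) (.node (.leaf 0xda61a35) (.leaf 0x8601a43)))) (.node (.node (.node (.leaf 0xe851a47) (.leaf 0xdf85a93)) (.node (.leaf 0x9f75a41) (.leaf 0xd5ada45))) (.node (.node (.leaf 0x9c29a4b) (.leaf 0xcd79a91)) (.node (.leaf 0xbaa1a43) (.leaf 0x0))))) (.node (.node (.node (.node (.leaf 0x8261a47) (.leaf 0x9bd9a93)) (.node (.leaf 0x86bda45) (.leaf 0xdc85a47))) (.node (.node (.leaf 0xa735a47) (.leaf 0x8bb9a41)) (.node (.leaf 0xb4d1a41) (.leaf 0xd249a47)))) (.node (.node (.node (.leaf 0xedb1a49) (.leaf 0x8d1da91)) (.node (.leaf 0xd52da45)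 (.leaf 0xcc19a93))) (.node (.node (.leaf 0x68cda49) (.leaf 0x8d3da91)) (.node (.leaf 0x8ff9a41) (.leaf 0x0))))))) (.node (.node (.node (.node (.node (.node (.leaf 0xe0fda47) (.leaf 0xd06da91)) (.node (.leaf 0x85cda91) (.leaf 0xe9f1a35))) (.node (.node (.leaf 0xd6d1a91) (.leaf 0xd125a91)) (.node (.leaf 0xcd01a91) (.leaf 0x68cda31)))) (.node (.node (.node (.leaf 0xe999a49) (.leaf 0xf1bda43)) (.node (.leaf 0xea41a41) (.leaf 0xa309a35))) (.node (.node (.leaf 0xdd65a91) (.leaf 0xdd09a91)) (.node (.leaf 0xdbada49) (.leaf 0x0))))) (.node (.node (.node (.node (.leaf 0x473da31) (.leaf 0xed09a47)) (.node (.leaf 0xd3cda91) (.leaf 0xd149a93))) (.node (.node (.leaf 0xae39a41) (.leaf 0xc829a91)) (.node (.leaf 0xdd25a93) (.leaf 0xde9da35)))) (.node (.node (.node (.leaf 0xdd91a45) (.leaf 0x10bcda41)) (.node (.leaf 0x8f11a49) (.leaf 0x92bda93))) (.node (.node (.leaf 0xce8da4b) (.leaf 0xf599a49)) (.node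 (.leaf 0xd175a47) (.leaf 0x0)))))) (.node (.node (.node (.node (.node (.leaf 0xa141a41) (.leaf 0xcef9a41)) (.node (.leaf 0xb249a43) (.leaf 0xe85da47))) (.node (.node (.leaf 0xa879a43) (.leaf 0x8c1da47)) (.node (.leaf 0xe5d1a41) (.leaf 0xac21a49)))) (.node (.node (.node (.leaf 0x8bbda35) (.leaf 0xa111a49)) (.node (.leaf 0xb665a93) (.leaf 0xd8a1a43))) (.node (.node (.leaf 0xe1c1a93) (.leaf 0xab51a91)) (.node (.leaf 0xc0c9a45) (.leaf 0x0))))) (.node (.node (.node (.node (.leaf 0x8c69a35) (.leaf 0xdd4da93)) (.node (.leaf 0x4295a43) (.leaf 0xca7da93))) (.node (.node (.leaf 0xac61a41) (.leaf 0x8bb9a4b)) (.node (.leaf 0xd6bda49) (.leaf 0x0)))) (.node (.node (.node (.leaf 0x470da49) (.leaf 0x8ff5a45)) (.node (.leaf 0x8771a93) (.leaf 0x8e51a91))) (.node (.node (.leaf 0x4d09a49) (.leaf 0xe88da41)) (.node (.leaf 0xf711a4b) (.leaf 0x0)))))))) (.node (.node (.node (.node (.node (.node (.node (.leaf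 0x92e5a49) (.leaf 0xa4eda41)) (.node (.leaf 0xd3c9a47) (.leaf 0x884da47))) (.node (.node (.leaf 0xc75da91) (.leaf 0x92c9a91)) (.node (.leaf 0x1a72) (.leaf 0xec25a43)))) (.node (.node (.node (.leaf 0xf955a43) (.leaf 0xe4fda43)) (.node (.leaf 0xc0dda4b) (.leaf 0xef59a49))) (.node (.node (.leaf 0xa871a41) (.leaf 0xcfeda47)) (.node (.leaf 0xeea1a41) (.leaf 0x0))))) (.node (.node (.node (.node (.leaf 0xa141a43) (.leaf 0xc865a43)) (.node (.leaf 0xf8bda4b) (.leaf 0xac61a4b))) (.node (.node (.leaf 0x4d09a4b) (.leaf 0x8e65a93)) (.node (.leaf 0xde59a49) (.leaf 0xdcc9a91)))) (.node (.node (.node (.leaf 0xc0dda43) (.leaf 0x9a99a43)) (.node (.leaf 0xbaa1a93) (.leaf 0xf2e5a47))) (.node (.node (.leaf 0x4299a4b) (.leaf 0xdbf5a91)) (.node (.leaf 0xdc39a49) (.leaf 0x0)))))) (.node (.node (.node (.node (.node (.leaf 0x4709a91) (.leaf 0x4e85a91)) (.node (.leaf 0xb239a43) (.leaf 0xe819a93))) (.node (.node (.leaf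 0xcb49a35) (.leaf 0xf379a4b)) (.node (.leaf 0xf599a47) (.leaf 0x917da43)))) (.node (.node (.node (.leaf 0x8b8da35) (.leaf 0xd365a93)) (.node (.leaf 0xf55da4b) (.leaf 0xec71a45))) (.node (.node (.leaf 0xa99da43) (.leaf 0x916da91)) (.node (.leaf 0x42c5a45) (.leaf 0x0))))) (.node (.node (.node (.node (.leaf 0xdbe5a91) (.leaf 0xeeada91)) (.node (.leaf 0xd339a47) (.leaf 0x12c41a91))) (.node (.node (.leaf 0xc595a91) (.leaf 0x8b45a43)) (.node (.leaf 0x8281a49) (.leaf 0x8c1da41)))) (.node (.node (.node (.leaf 0x473da35) (.leaf 0xf615a93)) (.node (.leaf 0xf78da41) (.leaf 0xd609a43))) (.node (.node (.leaf 0xf571a91) (.leaf 0xe1bda93)) (.node (.leaf 0x13085a91) (.leaf 0x0))))))) (.node (.node (.node (.node (.node (.node (.leaf 0xd691a91) (.leaf 0xcec1a93)) (.node (.leaf 0xc971a43) (.leaf 0xae11a4b))) (.node (.node (.leaf 0x8bb5a91) (.leaf 0xb395a49)) (.node (.leaf 0xe725a47) (.leaf 0x4299a91)))) (.node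 (.node (.node (.leaf 0xf955a4b) (.leaf 0xe999a43)) (.node (.leaf 0xc48da4b) (.leaf 0x8f11a91))) (.node (.node (.leaf 0xf251a91) (.leaf 0xf361a47)) (.node (.leaf 0xeef5a49) (.leaf 0x0))))) (.node (.node (.node (.node (.leaf 0x1a3e) (.leaf 0xdd15a93)) (.node (.leaf 0x8591a47) (.leaf 0x6c19a43))) (.node (.node (.leaf 0x94a5a41) (.leaf 0xf2e5a43)) (.node (.leaf 0x9905a91) (.leaf 0xb029a93)))) (.node (.node (.node (.leaf 0xc269a45) (.leaf 0xe9b5a91)) (.node (.leaf 0x90eda45) (.leaf 0xe6f9a41))) (.node (.node (.leaf 0x9bd9a4b) (.leaf 0xc4a1a93)) (.node (.leaf 0x8b8da91) (.leaf 0x0)))))) (.node (.node (.node (.node (.node (.leaf 0xe1dda49) (.leaf 0x85cda93)) (.node (.leaf 0xc269a43) (.leaf 0xfaa9a91))) (.node (.node (.leaf 0x90d9a35) (.leaf 0xcf15a4b)) (.node (.leaf 0x956da49) (.leaf 0x85fda91)))) (.node (.node (.node (.leaf 0xf555a47) (.leaf 0xe8f9a49)) (.node (.leaf 0x831da4b) (.leaf 0xdb39a93)))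 (.node (.node (.leaf 0x9685a47) (.leaf 0x1227da93)) (.node (.leaf 0xd641a43) (.leaf 0x0))))) (.node (.node (.node (.node (.leaf 0x8765a43) (.leaf 0xf7d5a93)) (.node (.leaf 0xdb09a4b) (.leaf 0xf1b1a49))) (.node (.node (.leaf 0xf4e1a47) (.leaf 0xe39da93)) (.node (.leaf 0x849da41) (.leaf 0x0)))) (.node (.node (.node (.leaf 0xeb4da45) (.leaf 0xd539a93)) (.node (.leaf 0xe839a4b) (.leaf 0x8d65a47))) (.node (.node (.leaf 0xa5d5a45) (.leaf 0xef7da93)) (.node (.leaf 0xc971a49) (.leaf 0x0))))))))) (.node (.node (.node (.node (.node (.node (.node (.node (.leaf 0xa1eda49) (.leaf 0x91a5a47)) (.node (.leaf 0x8445a35) (.leaf 0xc325a45))) (.node (.node (.leaf 0xe25da45) (.leaf 0xd1cda91)) (.node (.leaf 0xe495a41) (.leaf 0xe15da45)))) (.node (.node (.node (.leaf 0x8ef5a4b) (.leaf 0x82cda93)) (.node (.leaf 0xcde5a4b) (.leaf 0xaf69a49))) (.node (.node (.leaf 0xd5ada49) (.leaf 0x745da47)) (.node (.leaf 0xcf05a49)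 (.leaf 0x0))))) (.node (.node (.node (.node (.leaf 0xcaeda41) (.leaf 0x82e1a49)) (.node (.leaf 0x57b5a35) (.leaf 0xcf15a49))) (.node (.node (.leaf 0xc32da47) (.leaf 0x9221a47)) (.node (.leaf 0x899da91) (.leaf 0xdea1a35)))) (.node (.node (.node (.leaf 0xed7da47) (.leaf 0x94a9a4b)) (.node (.leaf 0xdcc5a91) (.leaf 0xeb55a4b))) (.node (.node (.leaf 0x92bda47) (.leaf 0xd9b1a45)) (.node (.leaf 0xdc05a45) (.leaf 0x0)))))) (.node (.node (.node (.node (.node (.leaf 0xc269a47) (.leaf 0xf2c9a35)) (.node (.leaf 0xb4d1a49) (.leaf 0xee29a91))) (.node (.node (.leaf 0xcf7da91) (.leaf 0xd151a91)) (.node (.leaf 0xd6b9a49) (.leaf 0xe9f1a49)))) (.node (.node (.node (.leaf 0x9c29a93) (.leaf 0xea15a4b)) (.node (.leaf 0xa589a45) (.leaf 0xe9d1a41))) (.node (.node (.leaf 0xdefda49) (.leaf 0xceb9a91)) (.node (.leaf 0x6019a93) (.leaf 0x0))))) (.node (.node (.node (.node (.leaf 0xf0e1a41) (.leaf 0xee71a91)) (.node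 (.leaf 0xeb4da4b) (.leaf 0x9d1da91))) (.node (.node (.leaf 0x92c9a93) (.leaf 0xea95a41)) (.node (.leaf 0x90dda43) (.leaf 0xd2d1a91)))) (.node (.node (.node (.leaf 0xca51a4b) (.leaf 0xf1c9a41)) (.node (.leaf 0xcaeda49) (.leaf 0xee15a93))) (.node (.node (.leaf 0xb0eda91) (.leaf 0xda61a49)) (.node (.leaf 0xf4f5a4b) (.leaf 0x0))))))) (.node (.node (.node (.node (.node (.node (.leaf 0xd7cda41) (.leaf 0xcd41a91)) (.node (.leaf 0x105ada91) (.leaf 0x11605a41))) (.node (.node (.leaf 0xd6eda91) (.leaf 0xa671a4b)) (.node (.leaf 0xb7b5a93) (.leaf 0x97d1a93)))) (.node (.node (.node (.leaf 0xb289a43) (.leaf 0xc0b9a41)) (.node (.leaf 0xf6a9a45) (.leaf 0x4ef1a49))) (.node (.node (.leaf 0xf08da91) (.leaf 0x12271a41)) (.node (.leaf 0xf681a45) (.leaf 0x0))))) (.node (.node (.node (.node (.leaf 0x1a64) (.leaf 0x13475a45)) (.node (.leaf 0xd3f1a91) (.leaf 0xe301a47))) (.node (.node (.leaf 0xc0c5a41) (.leaf 0xded5a43))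 (.node (.leaf 0xf131a91) (.leaf 0x57b5a43)))) (.node (.node (.node (.leaf 0xf82da91) (.leaf 0xe391a49)) (.node (.leaf 0xd365a45) (.leaf 0x46b5a91))) (.node (.node (.leaf 0x8e65a41) (.leaf 0x9bd9a91)) (.node (.leaf 0x9f75a93) (.leaf 0x0)))))) (.node (.node (.node (.node (.node (.leaf 0xa931a47) (.leaf 0xf0cda45)) (.node (.leaf 0xb8c1a47) (.leaf 0xa9f9a35))) (.node (.node (.leaf 0xf015a4b) (.leaf 0xdbc1a91)) (.node (.leaf 0xc379a91) (.leaf 0xe89da45)))) (.node (.node (.node (.leaf 0x8c29a4b) (.leaf 0xd081a41)) (.node (.leaf 0x8c1da4b) (.leaf 0xe389a45))) (.node (.node (.leaf 0xa5f5a49) (.leaf 0xf97da45)) (.node (.leaf 0xe1f5a43) (.leaf 0x0))))) (.node (.node (.node (.node (.leaf 0xc545a49) (.leaf 0xf909a49)) (.node (.leaf 0xdafda49) (.leaf 0xc8e5a47))) (.node (.node (.leaf 0xf5b9a45) (.leaf 0xef5da35)) (.node (.leaf 0xe25da43) (.leaf 0x0)))) (.node (.node (.node (.leaf 0x812da41) (.leaf 0xf955a35))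 (.node (.leaf 0xd249a35) (.leaf 0x8e35a91))) (.node (.node (.leaf 0x884da49) (.leaf 0xa671a47)) (.node (.leaf 0x745da4b) (.leaf 0x0)))))))) (.node (.node (.node (.node (.node (.node (.node (.leaf 0xd2d5a49) (.leaf 0xdcf1a93)) (.node (.leaf 0xea21a91) (.leaf 0xf749a91))) (.node (.node (.leaf 0x8741a93) (.leaf 0x8b6da47)) (.node (.leaf 0xc0e5a49) (.leaf 0xb10da4b)))) (.node (.node (.node (.leaf 0xccd9a93) (.leaf 0xe97da43)) (.node (.leaf 0x11c91a45) (.leaf 0xf499a93))) (.node (.node (.leaf 0xe85da41) (.leaf 0x745da93)) (.node (.leaf 0xa111a47) (.leaf 0x0))))) (.node (.node (.node (.node (.leaf 0x4709a31) (.leaf 0xaf69a47)) (.node (.leaf 0xc27da91) (.leaf 0xb029a91))) (.node (.node (.leaf 0xe569a43) (.leaf 0xaf39a91)) (.node (.leaf 0xa23da91) (.leaf 0xa9e1a93)))) (.node (.node (.node (.leaf 0xb79da47) (.leaf 0xee3da4b)) (.node (.leaf 0xb031a49) (.leaf 0x90e1a93))) (.node (.node (.leaf 0x42c5a49)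 (.leaf 0xc48da45)) (.node (.leaf 0x8bb9a49) (.leaf 0x0)))))) (.node (.node (.node (.node (.node (.leaf 0x4731a91) (.leaf 0xc275a41)) (.node (.leaf 0xcfeda45) (.leaf 0xf049a91))) (.node (.node (.leaf 0x9e01a45) (.leaf 0xd4cda43)) (.node (.leaf 0xad51a47) (.leaf 0x82b1a91)))) (.node (.node (.node (.leaf 0xce21a91) (.leaf 0xd955a91)) (.node (.leaf 0xee4da45) (.leaf 0x85cda45))) (.node (.node (.leaf 0xb7b5a45) (.leaf 0x5da9a93)) (.node (.leaf 0x8139a4b) (.leaf 0x0))))) (.node (.node (.node (.node (.leaf 0xcc75a35) (.leaf 0xd501a91)) (.node (.leaf 0x82b9a43) (.leaf 0x9bb9a91))) (.node (.node (.leaf 0x859da91) (.leaf 0x10bd1a41)) (.node (.leaf 0xa105a91) (.leaf 0x0)))) (.node (.node (.node (.leaf 0xb3d9a4b) (.leaf 0xe071a35)) (.node (.leaf 0xf7a5a45) (.leaf 0x10121a93))) (.node (.node (.leaf 0xe551a93) (.leaf 0xa4c9a91)) (.node (.leaf 0xf0f5a49) (.leaf 0x0))))))) (.node (.node (.node (.node (.node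 (.node (.leaf 0xc861a35) (.leaf 0x8bdda91)) (.node (.leaf 0x4be1a4b) (.leaf 0xa871a35))) (.node (.node (.leaf 0xcfeda93) (.leaf 0xad0da43)) (.node (.leaf 0xdf45a43) (.leaf 0xd809a45)))) (.node (.node (.node (.leaf 0xd6a9a4b) (.leaf 0xc521a43)) (.node (.leaf 0x127a1a45) (.leaf 0x8e69a91))) (.node (.node (.leaf 0x844da91) (.leaf 0x99c5a91)) (.node (.leaf 0xcfeda41) (.leaf 0x0))))) (.node (.node (.node (.node (.leaf 0x49d9a45) (.leaf 0xe9d1a35)) (.node (.leaf 0x8ea5a41) (.leaf 0x111c1a91))) (.node (.node (.leaf 0x9a55a93) (.leaf 0xe145a91)) (.node (.leaf 0xa279a47) (.leaf 0xc575a41)))) (.node (.node (.node (.leaf 0xca81a49) (.leaf 0x8bbda91)) (.node (.leaf 0xb3d9a47) (.leaf 0xb22da45))) (.node (.node (.leaf 0xdbc5a4b) (.leaf 0xa589a4b)) (.node (.leaf 0xe6e1a4b) (.leaf 0x0)))))) (.node (.node (.node (.node (.node (.leaf 0xd6d1a49) (.leaf 0xb22da43)) (.node (.leaf 0xecbda45) (.leaf 0x114eda41)))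 (.node (.node (.leaf 0xf69da45) (.leaf 0x75c9a31)) (.node (.leaf 0xa3e9a49) (.leaf 0x94a9a49)))) (.node (.node (.node (.leaf 0x12bd1a45) (.leaf 0xe781a4b)) (.node (.leaf 0xea15a47) (.leaf 0xf169a47))) (.node (.node (.leaf 0xf569a91) (.leaf 0xd5a9a93)) (.node (.leaf 0x13acda45) (.leaf 0x0))))) (.node (.node (.node (.node (.leaf 0x106b9a91) (.leaf 0x8bc5a91)) (.node (.leaf 0xdb39a43) (.leaf 0xf015a41))) (.node (.node (.leaf 0x1a58) (.leaf 0xdf95a43)) (.node (.leaf 0x829da41) (.leaf 0x0)))) (.node (.node (.node (.leaf 0x811da43) (.leaf 0xc2b5a93)) (.node (.leaf 0x8271a93) (.leaf 0xf4e1a45))) (.node (.node (.leaf 0xd4bda49) (.leaf 0xc869a47)) (.node (.leaf 0xedb1a93) (.leaf 0x0))))))))))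

/-- packed table -/
noncomputable def cov13_llr : BTree := (.node (.node (.node (.node (.node (.node (.node (.node (.node (.leaf 0xa1eda4b) (.leaf 0xed5da43)) (.node (.leaf 0x8c69a47) (.leaf 0xcc75a41))) (.node (.node (.leaf 0xfb3da47) (.leaf 0xc385a93)) (.node (.leaf 0xc285a93) (.leaf 0xcd4da91)))) (.node (.node (.node (.leaf 0xce95a91) (.leaf 0xb10da43)) (.node (.leaf 0x8f11a41) (.leaf 0x12231a41))) (.node (.node (.leaf 0x13119a91) (.leaf 0xab7da91)) (.node (.leaf 0xc4eda91) (.leaf 0x0))))) (.node (.node (.node (.node (.leaf 0x8271a45) (.leaf 0xec91a43)) (.node (.leaf 0xaa7da45) (.leaf 0xdd15a4b))) (.node (.node (.leaf 0x831da43) (.leaf 0xb239a93)) (.node (.leaf 0x89cda91) (.leaf 0xee71a93)))) (.node (.node (.node (.leaf 0xecbda43) (.leaf 0xcd49a91)) (.node (.leaf 0xd8b1a49) (.leaf 0x1135da91))) (.node (.node (.leaf 0x92cda47) (.leaf 0x457da41)) (.node (.leaf 0xcc05a91) (.leaf 0x0))))))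 (.node (.node (.node (.node (.node (.leaf 0xe219a49) (.leaf 0x7165a31)) (.node (.leaf 0x9c99a4b) (.leaf 0xa5e9a4b))) (.node (.node (.leaf 0xd1ada4b) (.leaf 0xab7da45)) (.node (.leaf 0xef01a49) (.leaf 0xc48da43)))) (.node (.node (.node (.leaf 0xde91a91) (.leaf 0x8b45a4b)) (.node (.leaf 0xca99a41) (.leaf 0xd865a49))) (.node (.node (.leaf 0x94a5a45) (.leaf 0xecfda49)) (.node (.leaf 0xb7b5a49) (.leaf 0x0))))) (.node (.node (.node (.node (.leaf 0x139b9a41) (.leaf 0x8f81a91)) (.node (.leaf 0xc609a45) (.leaf 0xd9e1a93))) (.node (.node (.leaf 0xfa61a4b) (.leaf 0xeb9da47)) (.node (.leaf 0xa1eda47) (.leaf 0xd4f1a45)))) (.node (.node (.node (.leaf 0x82fda45) (.leaf 0x8209a41)) (.node (.leaf 0x885da49) (.leaf 0xae11a93))) (.node (.node (.leaf 0x4731a45) (.leaf 0x9d1da4b)) (.node (.leaf 0xed55a49) (.leaf 0x0))))))) (.node (.node (.node (.node (.node (.node (.leaf 0x811da41) (.leaf 0xf24da91)) (.node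 (.leaf 0xa199a93) (.leaf 0x9d29a45))) (.node (.node (.leaf 0xc2f1a93) (.leaf 0xf199a41)) (.node (.leaf 0xe9d1a47) (.leaf 0x87f9a91)))) (.node (.node (.node (.leaf 0x13779a93) (.leaf 0xdea1a47)) (.node (.leaf 0x12235a41) (.leaf 0x8c35a47))) (.node (.node (.leaf 0xcf49a4b) (.leaf 0x8bbda93)) (.node (.leaf 0xd52da35) (.leaf 0x0))))) (.node (.node (.node (.node (.leaf 0xd269a93) (.leaf 0x1347da45)) (.node (.leaf 0xd41da93) (.leaf 0x6019a4b))) (.node (.node (.leaf 0xc9a5a43) (.leaf 0xe421a47)) (.node (.leaf 0x9a99a91) (.leaf 0xdb09a91)))) (.node (.node (.node (.leaf 0xd6d1a4b) (.leaf 0x6c19a31)) (.node (.leaf 0xb031a4b) (.leaf 0xee91a93))) (.node (.node (.leaf 0x4e85a4b) (.leaf 0xa3e9a45)) (.node (.leaf 0x8e7da47) (.leaf 0x0)))))) (.node (.node (.node (.node (.node (.leaf 0x8141a49) (.leaf 0xcebda91)) (.node (.leaf 0xe159a4b) (.leaf 0x9d1da49))) (.node (.node (.leaf 0xb409a41) (.leaf 0xcc9da93))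 (.node (.leaf 0xd879a4b) (.leaf 0xe89da41)))) (.node (.node (.node (.leaf 0x4be1a35) (.leaf 0x4be1a91)) (.node (.leaf 0xf569a41) (.leaf 0x4d09a41))) (.node (.node (.leaf 0xb939a4b) (.leaf 0xe4b5a45)) (.node (.leaf 0xa199a91) (.leaf 0x0))))) (.node (.node (.node (.node (.leaf 0x11ccda93) (.leaf 0x8bc5a93)) (.node (.leaf 0xdb09a49) (.leaf 0xe041a49))) (.node (.node (.leaf 0xf245a41) (.leaf 0xd9e1a91)) (.node (.leaf 0xb7b5a4b) (.leaf 0x0)))) (.node (.node (.node (.leaf 0x812da43) (.leaf 0xf0f1a93)) (.node (.leaf 0x8765a93) (.leaf 0xcea9a91))) (.node (.node (.leaf 0xfb49a93) (.leaf 0x12c41a93)) (.node (.leaf 0x12be9a41) (.leaf 0x0)))))))) (.node (.node (.node (.node (.node (.node (.node (.leaf 0x92c9a49) (.leaf 0xdd01a93)) (.node (.leaf 0xf2e5a49) (.leaf 0x8741a45))) (.node (.node (.leaf 0xc761a91) (.leaf 0xac21a91)) (.node (.leaf 0x8d1da47) (.leaf 0xee5da93)))) (.node (.node (.node (.leaf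 0xe701a45) (.leaf 0xa5d5a49)) (.node (.leaf 0xcaeda4b) (.leaf 0xea95a43))) (.node (.node (.leaf 0xd659a93) (.leaf 0xd9d5a43)) (.node (.leaf 0xa12da47) (.leaf 0x0))))) (.node (.node (.node (.node (.leaf 0xa309a49) (.leaf 0xdf7da41)) (.node (.leaf 0xc265a91) (.leaf 0x9665a4b))) (.node (.node (.leaf 0x9665a41) (.leaf 0x9381a91)) (.node (.leaf 0xef01a4b) (.leaf 0xce1da91)))) (.node (.node (.node (.leaf 0xa141a4b) (.leaf 0xd081a43)) (.node (.leaf 0xbaa5a47) (.leaf 0x99fda93))) (.node (.node (.leaf 0x4299a49) (.leaf 0xd8f1a43)) (.node (.leaf 0x9185a47) (.leaf 0x0)))))) (.node (.node (.node (.node (.node (.leaf 0xc719a91) (.leaf 0xf9f5a43)) (.node (.leaf 0x8e65a43) (.leaf 0xf261a45))) (.node (.node (.leaf 0x9fa1a93) (.leaf 0xe301a4b)) (.node (.leaf 0xcdcda93) (.leaf 0xd081a4b)))) (.node (.node (.node (.leaf 0xd641a93) (.leaf 0xbaa5a49)) (.node (.leaf 0x9a99a35) (.leaf 0xb889a49))) (.node (.node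 (.leaf 0xe8e9a91) (.leaf 0x4be1a93)) (.node (.leaf 0xfae9a35) (.leaf 0x0))))) (.node (.node (.node (.node (.leaf 0xb6a1a41) (.leaf 0xb665a4b)) (.node (.leaf 0x4e71a43) (.leaf 0x6c6da35))) (.node (.node (.leaf 0x8565a91) (.leaf 0x4299a47)) (.node (.leaf 0x8271a4b) (.leaf 0x0)))) (.node (.node (.node (.leaf 0xb3d9a49) (.leaf 0xcd9da47)) (.node (.leaf 0x90d9a47) (.leaf 0xc829a93))) (.node (.node (.leaf 0xda95a43) (.leaf 0x6019a49)) (.node (.leaf 0xc30da43) (.leaf 0x0))))))) (.node (.node (.node (.node (.node (.node (.leaf 0xd67da91) (.leaf 0xf4d5a91)) (.node (.leaf 0xc9ada35) (.leaf 0xec91a35))) (.node (.node (.leaf 0xa735a91) (.leaf 0x87f9a93)) (.node (.leaf 0xd21da49) (.leaf 0xd805a41)))) (.node (.node (.node (.leaf 0xd86da91) (.leaf 0xb665a35)) (.node (.leaf 0xcf7da93) (.leaf 0x4be1a45))) (.node (.node (.leaf 0xeb01a93) (.leaf 0xeaada45)) (.node (.leaf 0x92cda43) (.leaf 0x0))))) (.node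 (.node (.node (.node (.leaf 0x87b1a49) (.leaf 0xdd31a93)) (.node (.leaf 0x83f1a47) (.leaf 0xdaa5a93))) (.node (.node (.leaf 0xe595a45) (.leaf 0x6c19a45)) (.node (.leaf 0xeef5a45) (.leaf 0xa591a35)))) (.node (.node (.node (.leaf 0xefb1a49) (.leaf 0xa5f5a93)) (.node (.leaf 0x9bb9a45) (.leaf 0xa579a91))) (.node (.node (.leaf 0xdbe5a49) (.leaf 0x968da49)) (.node (.leaf 0xc0e5a45) (.leaf 0x0)))))) (.node (.node (.node (.node (.node (.leaf 0xf4ada93) (.leaf 0x9a55a91)) (.node (.leaf 0xd6d5a4b) (.leaf 0xa96da43))) (.node (.node (.leaf 0xdb91a91) (.leaf 0xb591a93)) (.node (.leaf 0xeea1a43) (.leaf 0xf1bda41)))) (.node (.node (.node (.leaf 0xb289a41) (.leaf 0x82ada93)) (.node (.leaf 0xef01a41) (.leaf 0xa05da93))) (.node (.node (.leaf 0xd409a4b) (.leaf 0x5da9a4b)) (.node (.leaf 0x849da47) (.leaf 0x0))))) (.node (.node (.node (.node (.leaf 0xea65a4b) (.leaf 0xf261a43)) (.node (.leaf 0xe1f9a4b) (.leaf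 0x8809a93))) (.node (.node (.leaf 0xc571a35) (.leaf 0xef61a35)) (.node (.leaf 0xc2c9a41) (.leaf 0x0)))) (.node (.node (.node (.leaf 0x86bda4b) (.leaf 0xd8a1a41)) (.node (.leaf 0x4731a43) (.leaf 0xd181a91))) (.node (.node (.leaf 0xdb1da93) (.leaf 0xa4c9a4b)) (.node (.leaf 0xe569a49) (.leaf 0x0))))))))) (.node (.node (.node (.node (.node (.node (.node (.node (.leaf 0x937da49) (.leaf 0x80f1a93)) (.node (.leaf 0xa9e1a47) (.leaf 0x473da45))) (.node (.node (.leaf 0xe5fda93) (.leaf 0xf251a93)) (.node (.leaf 0xefcda47) (.leaf 0xdd01a91)))) (.node (.node (.node (.leaf 0xf4cda93) (.leaf 0x6c6da49)) (.node (.leaf 0xe08da49) (.leaf 0xd2c5a91))) (.node (.node (.leaf 0xce6da93) (.leaf 0xed09a4b)) (.node (.leaf 0xe841a43) (.leaf 0x0))))) (.node (.node (.node (.node (.leaf 0x8141a43) (.leaf 0xfa61a35)) (.node (.leaf 0xe25da41) (.leaf 0xfae9a43))) (.node (.node (.leaf 0xd7c5a91) (.leaf 0x11ba1a91)) (.node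 (.leaf 0xc115a4b) (.leaf 0x81b1a93)))) (.node (.node (.node (.leaf 0xfa89a45) (.leaf 0xda61a43)) (.node (.leaf 0xd54da4b) (.leaf 0xc1cda93))) (.node (.node (.leaf 0x9379a43) (.leaf 0x8bdda41)) (.node (.leaf 0xa199a4b) (.leaf 0x0)))))) (.node (.node (.node (.node (.node (.leaf 0x8741a91) (.leaf 0xa735a49)) (.node (.leaf 0xb239a45) (.leaf 0x8741a47))) (.node (.node (.leaf 0xe5d1a4b) (.leaf 0x4295a93)) (.node (.leaf 0xcebda93) (.leaf 0xd175a43)))) (.node (.node (.node (.leaf 0xf81da45) (.leaf 0xf1a1a41)) (.node (.leaf 0xd269a49) (.leaf 0xec71a35))) (.node (.node (.leaf 0xcbf5a45) (.leaf 0xf3b5a49)) (.node (.leaf 0x82cda45) (.leaf 0x0))))) (.node (.node (.node (.node (.leaf 0xf57da91) (.leaf 0xf0ada91)) (.node (.leaf 0xd325a47) (.leaf 0xd031a93))) (.node (.node (.leaf 0xbaa1a47) (.leaf 0xf2c9a45)) (.node (.leaf 0xc285a49) (.leaf 0xb395a47)))) (.node (.node (.node (.leaf 0x1a6a) (.leaf 0xa111a4b))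 (.node (.leaf 0xba75a47) (.leaf 0x1135da93))) (.node (.node (.leaf 0xd031a49) (.leaf 0xee4da35)) (.node (.leaf 0xda11a47) (.leaf 0x0))))))) (.node (.node (.node (.node (.node (.node (.leaf 0xaf55a41) (.leaf 0xcf49a91)) (.node (.leaf 0xf961a49) (.leaf 0x9665a49))) (.node (.node (.leaf 0xfad1a45) (.leaf 0xed81a43)) (.node (.leaf 0xb889a45) (.leaf 0xc801a93)))) (.node (.node (.node (.leaf 0xc71da49) (.leaf 0xa879a49)) (.node (.leaf 0xd1e9a4b) (.leaf 0xd851a49))) (.node (.node (.leaf 0x8ba9a49) (.leaf 0xe595a4b)) (.node (.leaf 0xee91a49) (.leaf 0x0))))) (.node (.node (.node (.node (.leaf 0x42a1a35) (.leaf 0xe4d5a41)) (.node (.leaf 0xd7e1a35) (.leaf 0xa4c9a49))) (.node (.node (.leaf 0xd1ada49) (.leaf 0xecdda47)) (.node (.leaf 0xf575a43) (.leaf 0xe8f9a4b)))) (.node (.node (.node (.leaf 0xf789a49) (.leaf 0xfac1a35)) (.node (.leaf 0xd98da47) (.leaf 0xc205a91))) (.node (.node (.leaf 0xdbf5a4b) (.leaf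 0xcf79a47)) (.node (.leaf 0xc8a5a49) (.leaf 0x0)))))) (.node (.node (.node (.node (.node (.leaf 0x5f0da49) (.leaf 0xf0c1a91)) (.node (.leaf 0xace9a49) (.leaf 0xaa7da47))) (.node (.node (.leaf 0xda01a49) (.leaf 0xb271a93)) (.node (.leaf 0x8349a91) (.leaf 0xe4fda4b)))) (.node (.node (.node (.leaf 0xe1bda91) (.leaf 0xf4d5a49)) (.node (.leaf 0xddc5a93) (.leaf 0xa141a91))) (.node (.node (.leaf 0x4731a47) (.leaf 0xad59a41)) (.node (.leaf 0xdbada45) (.leaf 0x0))))) (.node (.node (.node (.node (.leaf 0xb409a45) (.leaf 0xc329a45)) (.node (.leaf 0xdb11a49) (.leaf 0xf2eda93))) (.node (.node (.leaf 0xf5c5a45) (.leaf 0x11cada91)) (.node (.leaf 0xb029a41) (.leaf 0x0)))) (.node (.node (.node (.leaf 0x470da43) (.leaf 0xac61a35)) (.node (.leaf 0xe1d9a4b) (.leaf 0x917da91))) (.node (.node (.leaf 0xcd61a4b) (.leaf 0x9d1da45)) (.node (.leaf 0xa4eda45) (.leaf 0x0)))))))) (.node (.node (.node (.node (.node (.node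 (.node (.leaf 0xd2b9a49) (.leaf 0x8ba9a91)) (.node (.leaf 0x9379a49) (.leaf 0x75c9a4b))) (.node (.node (.leaf 0x825da91) (.leaf 0x49d9a93)) (.node (.leaf 0x8ff9a49) (.leaf 0xb395a4b)))) (.node (.node (.node (.leaf 0xdaf1a91) (.leaf 0xc381a45)) (.node (.leaf 0xd52da43) (.leaf 0xb22da35))) (.node (.node (.leaf 0xdfb5a49) (.leaf 0x8c1da93)) (.node (.leaf 0x745da45) (.leaf 0x0))))) (.node (.node (.node (.node (.leaf 0x4731a31) (.leaf 0xf1c9a35)) (.node (.leaf 0xc285a91) (.leaf 0x473da47))) (.node (.node (.leaf 0xf885a93) (.leaf 0xd18da93)) (.node (.leaf 0xd6b9a4b) (.leaf 0xe0ada35)))) (.node (.node (.node (.leaf 0xc9c1a45) (.leaf 0x68cda47)) (.node (.leaf 0x8db1a49) (.leaf 0xeff1a93))) (.node (.node (.leaf 0x1a88) (.leaf 0xb591a49)) (.node (.leaf 0xa591a47) (.leaf 0x0)))))) (.node (.node (.node (.node (.node (.leaf 0xde9da49) (.leaf 0xf0b1a93)) (.node (.leaf 0xb289a47) (.leaf 0x92e5a91))) (.node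 (.node (.leaf 0x8d3da93) (.leaf 0xc2c9a47)) (.node (.leaf 0x956da91) (.leaf 0xd371a91)))) (.node (.node (.node (.leaf 0x8b6da93) (.leaf 0xaad1a49)) (.node (.leaf 0xd9bda4b) (.leaf 0x8c29a47))) (.node (.node (.leaf 0x849da4b) (.leaf 0xad59a49)) (.node (.leaf 0xf635a49) (.leaf 0x0))))) (.node (.node (.node (.node (.leaf 0xc88da45) (.leaf 0xcf05a93)) (.node (.leaf 0x82ada43) (.leaf 0x937da93))) (.node (.node (.leaf 0xa879a45) (.leaf 0xe1f5a47)) (.node (.leaf 0xeaf1a49) (.leaf 0x0)))) (.node (.node (.node (.leaf 0x4709a47) (.leaf 0xf539a93)) (.node (.leaf 0xd279a35) (.leaf 0x8d65a91))) (.node (.node (.leaf 0xcb49a43) (.leaf 0xdf95a93)) (.node (.leaf 0xad61a45) (.leaf 0x0))))))) (.node (.node (.node (.node (.node (.node (.leaf 0x4731a49) (.leaf 0xee25a35)) (.node (.leaf 0xb0f9a49) (.leaf 0xa5e9a49))) (.node (.node (.leaf 0xc4e5a47) (.leaf 0xd1fda93)) (.node (.leaf 0xa279a91) (.leaf 0xd699a91))))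 (.node (.node (.node (.leaf 0xecfda43) (.leaf 0xf3d1a45)) (.node (.leaf 0x9c09a35) (.leaf 0xed55a35))) (.node (.node (.leaf 0xe7f9a93) (.leaf 0xed5da45)) (.node (.leaf 0xbaa5a43) (.leaf 0x0))))) (.node (.node (.node (.node (.leaf 0x8565a45) (.leaf 0x9bf1a93)) (.node (.leaf 0xeb4da49) (.leaf 0xe8c9a45))) (.node (.node (.leaf 0xdd39a49) (.leaf 0x9bcda47)) (.node (.leaf 0x9bd9a45) (.leaf 0x886da45)))) (.node (.node (.node (.leaf 0xd06da4b) (.leaf 0xd361a91)) (.node (.leaf 0xccd9a49) (.leaf 0xe8c9a35))) (.node (.node (.leaf 0x1aac) (.leaf 0xa96da91)) (.node (.leaf 0xe1e5a43) (.leaf 0x0)))))) (.node (.node (.node (.node (.node (.leaf 0xf789a4b) (.leaf 0xb10da47)) (.node (.leaf 0xaf1da45) (.leaf 0xdd65a49))) (.node (.node (.leaf 0xc98da49) (.leaf 0x8565a93)) (.node (.leaf 0xe781a91) (.leaf 0xcf49a93)))) (.node (.node (.node (.leaf 0xf8f5a41) (.leaf 0xc381a41)) (.node (.leaf 0xf4bda41) (.leaf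 0xa105a41))) (.node (.node (.leaf 0xf361a91) (.leaf 0x968da4b)) (.node (.leaf 0xc98da47) (.leaf 0x0))))) (.node (.node (.node (.node (.leaf 0x4d09a35) (.leaf 0xdf01a91)) (.node (.leaf 0x8261a43) (.leaf 0xf6d9a45))) (.node (.node (.leaf 0x844da93) (.leaf 0xd211a4b)) (.node (.leaf 0x4295a41) (.leaf 0x0)))) (.node (.node (.node (.leaf 0xf48da43) (.leaf 0xb0f9a93)) (.node (.leaf 0xc27da93) (.leaf 0x9379a91))) (.node (.node (.leaf 0xc605a4b) (.leaf 0x8d3da43)) (.node (.leaf 0x94a5a4b) (.leaf 0x0))))))))))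

/-- packed table -/
noncomputable def cov13_lrl : BTree := (.node (.node (.node (.node (.node (.node (.node (.node (.node (.leaf 0xb939a93) (.leaf 0xaf69a4b)) (.node (.leaf 0xf091a91) (.leaf 0x8139a49))) (.node (.node (.leaf 0x457da47) (.leaf 0xe311a47)) (.node (.leaf 0x82e1a91) (.leaf 0xd5a1a91)))) (.node (.node (.node (.leaf 0xec65a91) (.leaf 0xa4c9a35)) (.node (.leaf 0x9d9da47) (.leaf 0x57b5a45))) (.node (.node (.leaf 0xa691a43) (.leaf 0xe3e1a43)) (.node (.leaf 0x75c9a93) (.leaf 0x0))))) (.node (.node (.node (.node (.leaf 0x46b5a35) (.leaf 0xe109a41)) (.node (.leaf 0xf949a49) (.leaf 0xfae9a4b))) (.node (.node (.leaf 0x92bda43) (.leaf 0xa735a4b)) (.node (.leaf 0xfac1a41) (.leaf 0xc419a49)))) (.node (.node (.node (.leaf 0xaf95a93) (.leaf 0xdac1a47)) (.node (.leaf 0xbaa5a93) (.leaf 0xe0e1a41))) (.node (.node (.leaf 0xa96da93) (.leaf 0xcb2da45)) (.node (.leaf 0xf425a49) (.leaf 0x0))))))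 (.node (.node (.node (.node (.node (.leaf 0xfaa9a45) (.leaf 0xae39a91)) (.node (.leaf 0xaf39a4b) (.leaf 0xe725a43))) (.node (.node (.leaf 0xcc49a41) (.leaf 0xc4a1a91)) (.node (.leaf 0xd7c5a4b) (.leaf 0x91a5a41)))) (.node (.node (.node (.leaf 0xef5da43) (.leaf 0xdaa5a91)) (.node (.leaf 0xe7b1a45) (.leaf 0xc48da41))) (.node (.node (.leaf 0x1a56) (.leaf 0x8b6da91)) (.node (.leaf 0x8729a41) (.leaf 0x0))))) (.node (.node (.node (.node (.leaf 0xea39a49) (.leaf 0x42c1a91)) (.node (.leaf 0xad4da41) (.leaf 0xf3b9a91))) (.node (.node (.leaf 0xdafda93) (.leaf 0xb6a1a4b)) (.node (.leaf 0x9bcda45) (.leaf 0x884da41)))) (.node (.node (.node (.leaf 0x1a3a) (.leaf 0xcdfda49)) (.node (.leaf 0xd091a43) (.leaf 0xca99a49))) (.node (.node (.leaf 0xa23da47) (.leaf 0x12c0da91)) (.node (.leaf 0x5f0da93) (.leaf 0x0))))))) (.node (.node (.node (.node (.node (.node (.leaf 0xeb4da43) (.leaf 0xeff1a91)) (.node (.leaf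 0xc5b5a91) (.leaf 0x831da47))) (.node (.node (.leaf 0x82fda93) (.leaf 0x8c29a43)) (.node (.leaf 0xb5a5a91) (.leaf 0x46b5a45)))) (.node (.node (.node (.leaf 0xd4bda4b) (.leaf 0xf5e5a49)) (.node (.leaf 0xd255a4b) (.leaf 0xcab5a91))) (.node (.node (.leaf 0x8139a45) (.leaf 0xb665a47)) (.node (.leaf 0x9f75a91) (.leaf 0x0))))) (.node (.node (.node (.node (.leaf 0x9d9da43) (.leaf 0x8281a47)) (.node (.leaf 0xd411a93) (.leaf 0x5f0da35))) (.node (.node (.leaf 0xe219a93) (.leaf 0xd8b1a91)) (.node (.leaf 0x12f31a45) (.leaf 0xa141a35)))) (.node (.node (.node (.leaf 0xe1b9a4b) (.leaf 0xc329a41)) (.node (.leaf 0x4709a41) (.leaf 0xe861a93))) (.node (.node (.leaf 0x4e85a49) (.leaf 0xc0e5a43)) (.node (.leaf 0xf0dda91) (.leaf 0x0)))))) (.node (.node (.node (.node (.node (.leaf 0xca29a45) (.leaf 0xfad5a41)) (.node (.leaf 0xdfb1a93) (.leaf 0x94a5a47))) (.node (.node (.leaf 0xc8e9a93) (.leaf 0x8445a4b)) (.node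 (.leaf 0x8ff5a49) (.leaf 0xed09a45)))) (.node (.node (.node (.leaf 0xcbd5a35) (.leaf 0x457da43)) (.node (.leaf 0xcbf5a4b) (.leaf 0xeff9a91))) (.node (.node (.leaf 0xf949a4b) (.leaf 0x11ccda91)) (.node (.leaf 0xd4c5a93) (.leaf 0x0))))) (.node (.node (.node (.node (.leaf 0xddeda41) (.leaf 0x901da91)) (.node (.leaf 0x4299a43) (.leaf 0xa99da93))) (.node (.node (.leaf 0xf0dda93) (.leaf 0xf711a49)) (.node (.leaf 0xe75da49) (.leaf 0x0)))) (.node (.node (.node (.leaf 0x825da49) (.leaf 0xad61a49)) (.node (.leaf 0xc759a93) (.leaf 0x8ff9a47))) (.node (.node (.leaf 0xb22da49) (.leaf 0xeccda41)) (.node (.leaf 0xd3cda49) (.leaf 0x0)))))))) (.node (.node (.node (.node (.node (.node (.node (.leaf 0x92bda4b) (.leaf 0x119c9a91)) (.node (.leaf 0xc521a35) (.leaf 0x8ef5a47))) (.node (.node (.leaf 0x8735a93) (.leaf 0xdc05a41)) (.node (.leaf 0xe315a41) (.leaf 0xe569a47)))) (.node (.node (.node (.leaf 0xac61a43)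 (.leaf 0xca99a4b)) (.node (.leaf 0xdd91a49) (.leaf 0x8b8da41))) (.node (.node (.leaf 0x831da35) (.leaf 0xdbe5a47)) (.node (.leaf 0xae95a41) (.leaf 0x0))))) (.node (.node (.node (.node (.leaf 0xea11a47) (.leaf 0xee25a45)) (.node (.leaf 0x8271a91) (.leaf 0x57b5a47))) (.node (.node (.leaf 0x11cfda91) (.leaf 0xce5da93)) (.node (.leaf 0xfb41a91) (.leaf 0xf505a93)))) (.node (.node (.node (.leaf 0xcf6da49) (.leaf 0xd8a1a47)) (.node (.leaf 0xd7bda45) (.leaf 0xd175a41))) (.node (.node (.leaf 0x82ada4b) (.leaf 0xc559a93)) (.node (.leaf 0xd269a43) (.leaf 0x0)))))) (.node (.node (.node (.node (.node (.leaf 0xc72da91) (.leaf 0xa23da93)) (.node (.leaf 0xa199a41) (.leaf 0xf505a91))) (.node (.node (.leaf 0x8601a49) (.leaf 0xdaf1a93)) (.node (.leaf 0x831da49) (.leaf 0x8c1da45)))) (.node (.node (.node (.leaf 0xf7b9a93) (.leaf 0xc105a93)) (.node (.leaf 0xd641a49) (.leaf 0xde59a93))) (.node (.node (.leaf 0x9c71a45)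 (.leaf 0xa9f9a49)) (.node (.leaf 0x82ada45) (.leaf 0x0))))) (.node (.node (.node (.node (.leaf 0x473da49) (.leaf 0xcdfda93)) (.node (.leaf 0x1a8c) (.leaf 0xecb9a49))) (.node (.node (.leaf 0x8591a91) (.leaf 0xd249a4b)) (.node (.leaf 0xc265a49) (.leaf 0x85cda43)))) (.node (.node (.node (.leaf 0x884da93) (.leaf 0xea21a93)) (.node (.leaf 0xf799a45) (.leaf 0xa12da41))) (.node (.node (.leaf 0xb591a45) (.leaf 0xe421a35)) (.node (.leaf 0x8809a49) (.leaf 0x0))))))) (.node (.node (.node (.node (.node (.node (.leaf 0x884da35) (.leaf 0xd879a91)) (.node (.leaf 0xda01a4b) (.leaf 0xee3da49))) (.node (.node (.leaf 0xc8e5a43) (.leaf 0xae95a91)) (.node (.leaf 0xe25da91) (.leaf 0x8c69a93)))) (.node (.node (.node (.leaf 0xd275a47) (.leaf 0x4299a31)) (.node (.leaf 0xfaa9a47) (.leaf 0xddd1a93))) (.node (.node (.leaf 0xb249a47) (.leaf 0xf651a41)) (.node (.leaf 0xae11a45) (.leaf 0x0))))) (.node (.node (.node (.node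 (.leaf 0x829da35) (.leaf 0x9d1da93)) (.node (.leaf 0x5da9a47) (.leaf 0xb889a91))) (.node (.node (.leaf 0x8ef5a93) (.leaf 0xace9a47)) (.node (.leaf 0xe1f9a93) (.leaf 0xd5ada43)))) (.node (.node (.node (.leaf 0xf76da49) (.leaf 0xea15a91)) (.node (.leaf 0xf3b5a47) (.leaf 0xe6e1a41))) (.node (.node (.leaf 0x9bcda4b) (.leaf 0xdb21a91)) (.node (.leaf 0xded5a47) (.leaf 0x0)))))) (.node (.node (.node (.node (.node (.leaf 0xdd65a47) (.leaf 0xc275a47)) (.node (.leaf 0xf4e5a93) (.leaf 0xbaa5a91))) (.node (.node (.leaf 0x82b1a47) (.leaf 0xf7f1a41)) (.node (.leaf 0xe25da47) (.leaf 0x8b45a45)))) (.node (.node (.node (.leaf 0x121c9a91) (.leaf 0xcf9da47)) (.node (.leaf 0xc339a4b) (.leaf 0x1a9a))) (.node (.node (.leaf 0xd409a49) (.leaf 0x8e99a93)) (.node (.leaf 0x9905a93) (.leaf 0x0))))) (.node (.node (.node (.node (.leaf 0xe1c1a49) (.leaf 0xcc09a45)) (.node (.leaf 0x9b35a41) (.leaf 0xf1bda49))) (.node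 (.node (.leaf 0xdc61a49) (.leaf 0xf69da4b)) (.node (.leaf 0xc2a9a41) (.leaf 0x0)))) (.node (.node (.node (.leaf 0xaf55a47) (.leaf 0xb239a4b)) (.node (.leaf 0xf82da93) (.leaf 0x135e1a93))) (.node (.node (.leaf 0xd149a4b) (.leaf 0xc165a49)) (.node (.leaf 0xf7f1a43) (.leaf 0x0))))))))) (.node (.node (.node (.node (.node (.node (.node (.node (.leaf 0xd91da49) (.leaf 0x12be9a45)) (.node (.leaf 0xf0b1a91) (.leaf 0x57b5a41))) (.node (.node (.leaf 0x8271a47) (.leaf 0x82e1a4b)) (.node (.leaf 0x86bda47) (.leaf 0x8c35a41)))) (.node (.node (.node (.leaf 0xce0da49) (.leaf 0xe89da43)) (.node (.leaf 0xea39a47) (.leaf 0x8b8da45))) (.node (.node (.leaf 0x4e85a31) (.leaf 0x12a2da93)) (.node (.leaf 0x75c9a41) (.leaf 0x0))))) (.node (.node (.node (.node (.leaf 0x90d9a45) (.leaf 0xc355a49)) (.node (.leaf 0xe7d9a49) (.leaf 0xf419a91))) (.node (.node (.leaf 0x8e89a91) (.leaf 0xf961a43)) (.node (.leaf 0xf261a4b)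 (.leaf 0xad51a41)))) (.node (.node (.node (.leaf 0xcf6da45) (.leaf 0xf845a91)) (.node (.leaf 0xddc9a41) (.leaf 0xdaa5a45))) (.node (.node (.leaf 0x803da41) (.leaf 0x99c5a45)) (.node (.leaf 0x10c3da41) (.leaf 0x0)))))) (.node (.node (.node (.node (.node (.leaf 0xa5f5a43) (.leaf 0x899da93)) (.node (.leaf 0x934da41) (.leaf 0xa5d5a4b))) (.node (.node (.leaf 0x139b9a45) (.leaf 0xdb0da93)) (.node (.leaf 0xdad5a93) (.leaf 0xf569a4b)))) (.node (.node (.node (.leaf 0xcc9da49) (.leaf 0xce2da49)) (.node (.leaf 0xeea1a4b) (.leaf 0x8809a4b))) (.node (.node (.leaf 0xd279a43) (.leaf 0xf495a91)) (.node (.leaf 0x42a1a45) (.leaf 0x0))))) (.node (.node (.node (.node (.leaf 0x8c35a35) (.leaf 0xcc8da91)) (.node (.leaf 0x87b1a93) (.leaf 0xe88da4b))) (.node (.node (.leaf 0xcb51a49) (.leaf 0xe245a43)) (.node (.leaf 0xc285a4b) (.leaf 0xd375a93)))) (.node (.node (.node (.leaf 0x4731a35) (.leaf 0xa589a49)) (.node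 (.leaf 0xcbd5a49) (.leaf 0xd871a91))) (.node (.node (.leaf 0xee4da4b) (.leaf 0xc879a45)) (.node (.leaf 0xf6c5a49) (.leaf 0x0))))))) (.node (.node (.node (.node (.node (.node (.leaf 0x5841a43) (.leaf 0xee31a91)) (.node (.leaf 0xd6a9a49) (.leaf 0xf711a45))) (.node (.node (.leaf 0xc131a35) (.leaf 0xdbbda93)) (.node (.leaf 0xc115a49) (.leaf 0xca51a91)))) (.node (.node (.node (.leaf 0xee31a93) (.leaf 0xb2c1a4b)) (.node (.leaf 0x6c19a47) (.leaf 0xf63da45))) (.node (.node (.leaf 0xb22da47) (.leaf 0xb395a93)) (.node (.leaf 0xc3b1a91) (.leaf 0x0))))) (.node (.node (.node (.node (.leaf 0x82ada35) (.leaf 0x10c39a41)) (.node (.leaf 0xd805a35) (.leaf 0xe2f9a47))) (.node (.node (.leaf 0xecfda45) (.leaf 0xe88da47)) (.node (.leaf 0xd9bda49) (.leaf 0xa111a35)))) (.node (.node (.node (.leaf 0xf885a47) (.leaf 0xf6c5a4b)) (.node (.leaf 0xb591a47) (.leaf 0x9f09a35))) (.node (.node (.leaf 0x8e65a47) (.leaf 0x99c5a41))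 (.node (.leaf 0xddd1a49) (.leaf 0x0)))))) (.node (.node (.node (.node (.node (.leaf 0xea4da43) (.leaf 0x105ada93)) (.node (.leaf 0xb8f9a43) (.leaf 0x13779a91))) (.node (.node (.leaf 0xe135a91) (.leaf 0x8741a43)) (.node (.leaf 0xb249a93) (.leaf 0xd4bda45)))) (.node (.node (.node (.leaf 0xd5ada4b) (.leaf 0xd8a1a49)) (.node (.leaf 0xb889a41) (.leaf 0xeb81a91))) (.node (.node (.leaf 0xcadda49) (.leaf 0xce05a91)) (.node (.leaf 0x1a7a) (.leaf 0x0))))) (.node (.node (.node (.node (.leaf 0x8b8da4b) (.leaf 0xa05da41)) (.node (.leaf 0xdaf1a49) (.leaf 0xecdda43))) (.node (.node (.leaf 0x75c9a45) (.leaf 0xc80da93)) (.node (.leaf 0xdce9a35) (.leaf 0x0)))) (.node (.node (.node (.leaf 0x812da49) (.leaf 0xf245a4b)) (.node (.leaf 0xf8bda49) (.leaf 0xc30da91))) (.node (.node (.leaf 0xd8d5a91) (.leaf 0xe675a47)) (.node (.leaf 0x4ef1a4b) (.leaf 0x0)))))))) (.node (.node (.node (.node (.node (.node (.node (.leaf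 0xb79da91) (.leaf 0xdd11a93)) (.node (.leaf 0xf615a91) (.leaf 0xc131a49))) (.node (.node (.leaf 0x8729a93) (.leaf 0xad51a4b)) (.node (.leaf 0xee91a4b) (.leaf 0xdbada91)))) (.node (.node (.node (.leaf 0xcc75a4b) (.leaf 0xc355a4b)) (.node (.leaf 0xb79da4b) (.leaf 0xeccda45))) (.node (.node (.leaf 0x457da93) (.leaf 0x8161a49)) (.node (.leaf 0xdf15a45) (.leaf 0x0))))) (.node (.node (.node (.node (.leaf 0x8271a35) (.leaf 0x112a9a45)) (.node (.leaf 0x968da93) (.leaf 0x8e89a93))) (.node (.node (.leaf 0xc135a47) (.leaf 0x8e3da93)) (.node (.leaf 0xd275a45) (.leaf 0xad51a45)))) (.node (.node (.node (.leaf 0xc0d9a41) (.leaf 0x82cda91)) (.node (.leaf 0xb271a4b) (.leaf 0xeb81a93))) (.node (.node (.leaf 0x42a1a49) (.leaf 0xd5ada41)) (.node (.leaf 0xd3c9a49) (.leaf 0x0)))))) (.node (.node (.node (.node (.node (.leaf 0x878da41) (.leaf 0xd1a9a91)) (.node (.leaf 0xecbda49) (.leaf 0xa691a35))) (.node (.node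 (.leaf 0xde61a91) (.leaf 0xe7f1a49)) (.node (.leaf 0xcf15a93) (.leaf 0xc115a93)))) (.node (.node (.node (.leaf 0xe9d1a4b) (.leaf 0xa1eda93)) (.node (.leaf 0xd635a49) (.leaf 0xb3d9a91))) (.node (.node (.leaf 0xe421a49) (.leaf 0x8ea5a93)) (.node (.leaf 0xc10da93) (.leaf 0x0))))) (.node (.node (.node (.node (.leaf 0xba55a41) (.leaf 0xc581a45)) (.node (.leaf 0xc2b5a43) (.leaf 0xe135a93))) (.node (.node (.leaf 0xc599a91) (.leaf 0xf169a93)) (.node (.leaf 0xcab5a4b) (.leaf 0x0)))) (.node (.node (.node (.leaf 0x886da93) (.leaf 0xc2d9a49)) (.node (.leaf 0xed7da43) (.leaf 0xccd9a91))) (.node (.node (.leaf 0x8139a43) (.leaf 0x4d09a91)) (.node (.leaf 0xe1dda93) (.leaf 0x0))))))) (.node (.node (.node (.node (.node (.node (.leaf 0xd65da91) (.leaf 0xf3d5a91)) (.node (.leaf 0x8445a47) (.leaf 0xa879a4b))) (.node (.node (.leaf 0x968da43) (.leaf 0x8bbda49)) (.node (.leaf 0x457da4b) (.leaf 0xd805a45)))) (.node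 (.node (.node (.leaf 0xa279a93) (.leaf 0xc8e5a49)) (.node (.leaf 0x127ada45) (.leaf 0xdbbda91))) (.node (.node (.leaf 0x10465a91) (.leaf 0x4ef1a47)) (.node (.leaf 0xaf1da93) (.leaf 0x0))))) (.node (.node (.node (.node (.leaf 0x97d1a49) (.leaf 0x9d21a93)) (.node (.leaf 0xe409a47) (.leaf 0xf199a43))) (.node (.node (.leaf 0x8139a41) (.leaf 0x901da93)) (.node (.leaf 0xed55a47) (.leaf 0xa111a93)))) (.node (.node (.node (.leaf 0xee31a4b) (.leaf 0xe76da93)) (.node (.leaf 0xf539a45) (.leaf 0xe149a35))) (.node (.node (.leaf 0xca3da43) (.leaf 0xe9d1a45)) (.node (.leaf 0x8601a47) (.leaf 0x0)))))) (.node (.node (.node (.node (.node (.leaf 0xe2c9a49) (.leaf 0xd805a43)) (.node (.leaf 0xb7b5a41) (.leaf 0xe9bda45))) (.node (.node (.leaf 0xe861a91) (.leaf 0xd021a45)) (.node (.leaf 0xd21da4b) (.leaf 0xdc39a4b)))) (.node (.node (.node (.leaf 0xf7dda91) (.leaf 0x42a1a31)) (.node (.leaf 0xdee9a91) (.leaf 0xca75a93)))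 (.node (.node (.leaf 0xd40da4b) (.leaf 0xce31a91)) (.node (.leaf 0xc959a41) (.leaf 0x0))))) (.node (.node (.node (.node (.leaf 0xf5b9a47) (.leaf 0x6c19a41)) (.node (.leaf 0xc829a49) (.leaf 0x8ff5a47))) (.node (.node (.leaf 0xe071a4b) (.leaf 0xe15da35)) (.node (.leaf 0xc2b5a41) (.leaf 0x0)))) (.node (.node (.node (.leaf 0x5841a41) (.leaf 0xd635a45)) (.node (.leaf 0x10305a91) (.leaf 0xd4cda41))) (.node (.node (.leaf 0xea65a45) (.leaf 0x12271a45)) (.node (.leaf 0xe2c9a45) (.leaf 0x0))))))))))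

/-- packed table -/
noncomputable def cov13_lrr : BTree := (.node (.node (.node (.node (.node (.node (.node (.node (.node (.leaf 0x8d3da49) (.leaf 0x1a52)) (.node (.leaf 0xdceda4b) (.leaf 0xc30da45))) (.node (.node (.leaf 0xee5da49) (.leaf 0xa12da43)) (.node (.leaf 0xaf55a4b) (.leaf 0xb6a1a49)))) (.node (.node (.node (.leaf 0x8209a91) (.leaf 0x8bb9a45)) (.node (.leaf 0x97d1a45) (.leaf 0x9e01a4b))) (.node (.node (.leaf 0xa23da43) (.leaf 0x1aa8)) (.node (.leaf 0xf955a45) (.leaf 0x0))))) (.node (.node (.node (.node (.leaf 0xef61a41) (.leaf 0x95dda47)) (.node (.leaf 0xcfeda43) (.leaf 0xc74da4b))) (.node (.node (.leaf 0xec71a49) (.leaf 0xe159a93)) (.node (.leaf 0xd8a1a35) (.leaf 0xf9f5a41)))) (.node (.node (.node (.leaf 0x878da4b) (.leaf 0xce15a4b)) (.node (.leaf 0xdf85a41) (.leaf 0xf3e9a4b))) (.node (.node (.leaf 0x92e5a47) (.leaf 0x9e01a49)) (.node (.leaf 0x9c29a45) (.leaf 0x0)))))) (.node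 (.node (.node (.node (.node (.leaf 0xf7dda93) (.leaf 0xdc39a45)) (.node (.leaf 0x9d41a49) (.leaf 0xc275a43))) (.node (.node (.leaf 0x9d29a4b) (.leaf 0xb665a45)) (.node (.leaf 0x1176da45) (.leaf 0xa871a49)))) (.node (.node (.node (.leaf 0xa1eda43) (.leaf 0xd07da45)) (.node (.leaf 0xdc89a35) (.leaf 0xd6ada49))) (.node (.node (.leaf 0xf8b9a93) (.leaf 0xb4a1a91)) (.node (.leaf 0xc2a9a45) (.leaf 0x0))))) (.node (.node (.node (.node (.leaf 0xf015a47) (.leaf 0xaf51a91)) (.node (.leaf 0x5841a49) (.leaf 0xec71a47))) (.node (.node (.leaf 0xcd9da4b) (.leaf 0xc8bda49)) (.node (.leaf 0x9beda45) (.leaf 0x8d1da49)))) (.node (.node (.node (.leaf 0xb271a47) (.leaf 0xe109a49)) (.node (.leaf 0xea51a41) (.leaf 0x8445a45))) (.node (.node (.leaf 0xf0dda4b) (.leaf 0x12ad5a45)) (.node (.leaf 0xdc59a47) (.leaf 0x0))))))) (.node (.node (.node (.node (.node (.node (.leaf 0xe495a49) (.leaf 0xca81a91)) (.node (.leaf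 0xa591a43) (.leaf 0xb889a4b))) (.node (.node (.leaf 0xd6f9a91) (.leaf 0xb5a5a47)) (.node (.leaf 0xf569a45) (.leaf 0xc8e9a91)))) (.node (.node (.node (.leaf 0xf5e5a91) (.leaf 0xde61a93)) (.node (.leaf 0xc8d1a47) (.leaf 0xa4c9a45))) (.node (.node (.leaf 0xa591a41) (.leaf 0xecbda91)) (.node (.leaf 0x5da9a45) (.leaf 0x0))))) (.node (.node (.node (.node (.leaf 0x1a76) (.leaf 0x1347da41)) (.node (.leaf 0xd409a93) (.leaf 0xc2c9a91))) (.node (.node (.leaf 0x95dda91) (.leaf 0x9185a93)) (.node (.leaf 0x5f0da91) (.leaf 0xb395a45)))) (.node (.node (.node (.leaf 0xb881a47) (.leaf 0xf21da91)) (.node (.leaf 0x9389a45) (.leaf 0x8445a41))) (.node (.node (.leaf 0x42c1a47) (.leaf 0xee59a4b)) (.node (.leaf 0x8c69a4b) (.leaf 0x0)))))) (.node (.node (.node (.node (.node (.leaf 0xcf6da4b) (.leaf 0x4e85a41)) (.node (.leaf 0xc8e5a93) (.leaf 0xb395a35))) (.node (.node (.leaf 0xde51a91) (.leaf 0xb289a91)) (.node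 (.leaf 0xa5d5a41) (.leaf 0xcb51a43)))) (.node (.node (.node (.leaf 0xa579a41) (.leaf 0xb6a1a35)) (.node (.leaf 0xb889a93) (.leaf 0x8bb9a93))) (.node (.node (.leaf 0xa279a43) (.leaf 0x1394da41)) (.node (.leaf 0xd4ada93) (.leaf 0x0))))) (.node (.node (.node (.node (.leaf 0xe819a91) (.leaf 0xe7d9a91)) (.node (.leaf 0xdaeda4b) (.leaf 0xe1e5a41))) (.node (.node (.leaf 0xf955a41) (.leaf 0xf63da4b)) (.node (.leaf 0xa5f5a45) (.leaf 0x0)))) (.node (.node (.node (.leaf 0x8835a41) (.leaf 0xa199a49)) (.node (.leaf 0xc751a93) (.leaf 0xa735a93))) (.node (.node (.leaf 0xc419a35) (.leaf 0xeaada49)) (.node (.leaf 0x8db1a93) (.leaf 0x0)))))))) (.node (.node (.node (.node (.node (.node (.node (.leaf 0x92bda49) (.leaf 0x99fda91)) (.node (.leaf 0xf599a41) (.leaf 0x92c9a43))) (.node (.node (.leaf 0x8771a91) (.leaf 0xf4f5a49)) (.node (.leaf 0xeef5a4b) (.leaf 0xad51a49)))) (.node (.node (.node (.leaf 0xef01a45)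 (.leaf 0xb5a5a35)) (.node (.leaf 0x90d9a4b) (.leaf 0xb881a4b))) (.node (.node (.leaf 0xe8e9a93) (.leaf 0x9d1da41)) (.node (.leaf 0xb271a91) (.leaf 0x0))))) (.node (.node (.node (.node (.leaf 0x9689a41) (.leaf 0xa871a93)) (.node (.leaf 0x9685a93) (.leaf 0xc205a93))) (.node (.node (.leaf 0xac21a47) (.leaf 0xce4da93)) (.node (.leaf 0xd7c5a49) (.leaf 0xf9f5a45)))) (.node (.node (.node (.leaf 0xfa6da43) (.leaf 0xe6cda93)) (.node (.leaf 0xa691a45) (.leaf 0xe071a45))) (.node (.node (.leaf 0x82b9a4b) (.leaf 0x8c29a41)) (.node (.leaf 0xa691a47) (.leaf 0x0)))))) (.node (.node (.node (.node (.node (.leaf 0xd3cda93) (.leaf 0x956da45)) (.node (.leaf 0x8e65a45) (.leaf 0x112d9a93))) (.node (.node (.leaf 0x8b45a35) (.leaf 0xfad5a43)) (.node (.leaf 0xdd85a45) (.leaf 0xc4e9a49)))) (.node (.node (.node (.leaf 0x9f75a45) (.leaf 0xa279a4b)) (.node (.leaf 0x99c5a4b) (.leaf 0xe889a49))) (.node (.node (.leaf 0xecbda41)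 (.leaf 0x6019a41)) (.node (.leaf 0xd131a91) (.leaf 0x0))))) (.node (.node (.node (.node (.leaf 0xd9c1a93) (.leaf 0xcf09a93)) (.node (.leaf 0x82cda43) (.leaf 0xb665a43))) (.node (.node (.leaf 0xaf69a43) (.leaf 0x11d51a45)) (.node (.leaf 0xe75da4b) (.leaf 0x0)))) (.node (.node (.node (.leaf 0x9bb9a49) (.leaf 0xad61a41)) (.node (.leaf 0xd255a41) (.leaf 0x121c9a93))) (.node (.node (.leaf 0x138b5a93) (.leaf 0x83f1a91)) (.node (.leaf 0xd8f1a41) (.leaf 0x0))))))) (.node (.node (.node (.node (.node (.node (.leaf 0x9689a91) (.leaf 0xdcd1a91)) (.node (.leaf 0x4e85a93) (.leaf 0x90d9a93))) (.node (.node (.leaf 0xdd39a4b) (.leaf 0xd651a91)) (.node (.leaf 0xee4da41) (.leaf 0xc0c5a49)))) (.node (.node (.node (.leaf 0xf261a91) (.leaf 0x10bd1a45)) (.node (.leaf 0x126c5a41) (.leaf 0xe815a49))) (.node (.node (.leaf 0x9665a45) (.leaf 0xb50da35)) (.node (.leaf 0xe301a45) (.leaf 0x0))))) (.node (.node (.node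 (.node (.leaf 0x9b35a47) (.leaf 0xdd49a93)) (.node (.leaf 0xdf85a47) (.leaf 0xc955a91))) (.node (.node (.leaf 0xdbb1a49) (.leaf 0xe839a93)) (.node (.leaf 0x85cda4b) (.leaf 0xb22da41)))) (.node (.node (.node (.leaf 0xee31a49) (.leaf 0xab51a49)) (.node (.leaf 0xcd79a45) (.leaf 0x849da91))) (.node (.node (.leaf 0x9bf1a49) (.leaf 0xc105a91)) (.node (.leaf 0xe109a45) (.leaf 0x0)))))) (.node (.node (.node (.node (.node (.leaf 0xef61a45) (.leaf 0xaad1a91)) (.node (.leaf 0xd53da93) (.leaf 0x92e5a43))) (.node (.node (.leaf 0x1a7c) (.leaf 0x8e7da41)) (.node (.leaf 0xf0f1a91) (.leaf 0x94a5a49)))) (.node (.node (.node (.leaf 0xe1ada91) (.leaf 0xd2c5a93)) (.node (.leaf 0xc325a4b) (.leaf 0xd699a4b))) (.node (.node (.leaf 0xd3cda45) (.leaf 0xf885a49)) (.node (.leaf 0xb239a49) (.leaf 0x0))))) (.node (.node (.node (.node (.leaf 0xd809a4b) (.leaf 0x8c69a49)) (.node (.leaf 0xc211a4b) (.leaf 0x473da41))) (.node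 (.node (.leaf 0xd279a41) (.leaf 0xd971a41)) (.node (.leaf 0x42a1a41) (.leaf 0x0)))) (.node (.node (.node (.leaf 0xaf55a43) (.leaf 0x956da43)) (.node (.leaf 0xace9a43) (.leaf 0xee15a4b))) (.node (.node (.leaf 0xebada93) (.leaf 0xfa61a45)) (.node (.leaf 0xf575a47) (.leaf 0x0))))))))) (.node (.node (.node (.node (.node (.node (.node (.node (.leaf 0xa96da4b) (.leaf 0xd525a4b)) (.node (.leaf 0xe9dda47) (.leaf 0x8591a45))) (.node (.node (.leaf 0xc751a91) (.leaf 0x9c29a41)) (.node (.leaf 0x811da49) (.leaf 0xf96da49)))) (.node (.node (.node (.leaf 0xd131a4b) (.leaf 0xed05a93)) (.node (.leaf 0xed7da41) (.leaf 0xb409a4b))) (.node (.node (.leaf 0xc32da35) (.leaf 0xee3da47)) (.node (.leaf 0xb591a91) (.leaf 0x0))))) (.node (.node (.node (.node (.leaf 0xa931a49) (.leaf 0xd7bda49)) (.node (.leaf 0x8729a43) (.leaf 0x4e85a43))) (.node (.node (.leaf 0x8b6da4b) (.leaf 0x8281a41)) (.node (.leaf 0xdcc9a49)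 (.leaf 0xcf09a91)))) (.node (.node (.node (.leaf 0xba75a41) (.leaf 0xdc89a49)) (.node (.leaf 0xf895a43) (.leaf 0xc74da49))) (.node (.node (.leaf 0x82a5a4b) (.leaf 0x4be1a41)) (.node (.leaf 0xeb01a91) (.leaf 0x0)))))) (.node (.node (.node (.node (.node (.leaf 0x473da91) (.leaf 0x89cda93)) (.node (.leaf 0xee59a47) (.leaf 0xe97da45))) (.node (.node (.leaf 0xf0e1a45) (.leaf 0xdb01a93)) (.node (.leaf 0xf9f5a47) (.leaf 0x4299a93)))) (.node (.node (.node (.leaf 0x127a1a41) (.leaf 0xe059a47)) (.node (.leaf 0xa585a45) (.leaf 0x8281a43))) (.node (.node (.leaf 0xc80da49) (.leaf 0xeae9a41)) (.node (.leaf 0x82a5a45) (.leaf 0x0))))) (.node (.node (.node (.node (.leaf 0xb029a47) (.leaf 0xce31a93)) (.node (.leaf 0x87b9a91) (.leaf 0xed5da41))) (.node (.node (.leaf 0xaf69a45) (.leaf 0x886da49)) (.node (.leaf 0x9b35a35) (.leaf 0xd359a91)))) (.node (.node (.node (.leaf 0x49d9a49) (.leaf 0xd8f1a45)) (.node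 (.leaf 0xd091a41) (.leaf 0xd8f1a4b))) (.node (.node (.leaf 0xe1dda91) (.leaf 0x6019a45)) (.node (.leaf 0xf569a49) (.leaf 0x0))))))) (.node (.node (.node (.node (.node (.node (.leaf 0x886da35) (.leaf 0xf059a91)) (.node (.leaf 0xf099a91) (.leaf 0xeb01a49))) (.node (.node (.leaf 0xe711a91) (.leaf 0xdb91a93)) (.node (.leaf 0xdad5a91) (.leaf 0x95dda43)))) (.node (.node (.node (.leaf 0xcac9a45) (.leaf 0xd249a41)) (.node (.leaf 0xea55a41) (.leaf 0xe669a43))) (.node (.node (.leaf 0x11369a93) (.leaf 0xb881a45)) (.node (.leaf 0xe799a93) (.leaf 0x0))))) (.node (.node (.node (.node (.leaf 0x4be1a31) (.leaf 0xad59a93)) (.node (.leaf 0xa4c9a47) (.leaf 0xb881a91))) (.node (.node (.leaf 0x9d29a49) (.leaf 0xf169a91)) (.node (.leaf 0xd5ada35) (.leaf 0xb665a49)))) (.node (.node (.node (.leaf 0xf7b9a43) (.leaf 0xe775a93)) (.node (.leaf 0xae39a47) (.leaf 0xcc7da45))) (.node (.node (.leaf 0x9bcda49) (.leaf 0xfb3da4b))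 (.node (.leaf 0xf7f1a49) (.leaf 0x0)))))) (.node (.node (.node (.node (.node (.leaf 0xcd35a4b) (.leaf 0x9e01a91)) (.node (.leaf 0xf8f5a43) (.leaf 0xe409a45))) (.node (.node (.leaf 0xb50da4b) (.leaf 0xf96da4b)) (.node (.leaf 0xd54da49) (.leaf 0xe85da35)))) (.node (.node (.node (.leaf 0xdae1a49) (.leaf 0xd371a49)) (.node (.leaf 0x8c35a49) (.leaf 0xaee5a91))) (.node (.node (.leaf 0x9fa1a91) (.leaf 0x90dda93)) (.node (.leaf 0xc48da47) (.leaf 0x0))))) (.node (.node (.node (.node (.leaf 0xdcc5a93) (.leaf 0x10bcda45)) (.node (.leaf 0x90eda47) (.leaf 0xb2c1a43))) (.node (.node (.leaf 0x745da41) (.leaf 0xde19a4b)) (.node (.leaf 0x4731a41) (.leaf 0x0)))) (.node (.node (.node (.leaf 0x470da41) (.leaf 0xc4ada91)) (.node (.leaf 0xfaa9a41) (.leaf 0xa9e1a35))) (.node (.node (.leaf 0xf389a93) (.leaf 0xdac1a45)) (.node (.leaf 0xee2da91) (.leaf 0x0)))))))) (.node (.node (.node (.node (.node (.node (.node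 (.leaf 0x87b5a41) (.leaf 0x11cfda93)) (.node (.leaf 0xeb9da43) (.leaf 0xc9ada4b))) (.node (.node (.leaf 0x8161a35) (.leaf 0x75c9a91)) (.node (.leaf 0xae39a45) (.leaf 0xae95a4b)))) (.node (.node (.node (.leaf 0xc4e9a47) (.leaf 0x9f09a49)) (.node (.leaf 0xdd91a47) (.leaf 0xd6c5a49))) (.node (.node (.leaf 0xcb31a4b) (.leaf 0xf321a45)) (.node (.leaf 0xeea1a49) (.leaf 0x0))))) (.node (.node (.node (.node (.leaf 0x9b35a4b) (.leaf 0x46b5a43)) (.node (.leaf 0x9665a93) (.leaf 0xeea1a91))) (.node (.node (.leaf 0xc80da4b) (.leaf 0xf711a35)) (.node (.leaf 0xa691a91) (.leaf 0x9381a93)))) (.node (.node (.node (.leaf 0xf7a5a47) (.leaf 0xef8da45)) (.node (.leaf 0x8565a41) (.leaf 0xa12da45))) (.node (.node (.leaf 0xce8da49) (.leaf 0x8765a4b)) (.node (.leaf 0x8b8da47) (.leaf 0x0)))))) (.node (.node (.node (.node (.node (.leaf 0xfa6da4b) (.leaf 0x13acda41)) (.node (.leaf 0xb939a41) (.leaf 0xed5da4b))) (.node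 (.node (.leaf 0xde59a91) (.leaf 0xecbda47)) (.node (.leaf 0xc861a49) (.leaf 0xe419a49)))) (.node (.node (.node (.leaf 0xa9f9a91) (.leaf 0x745da35)) (.node (.leaf 0x12995a91) (.leaf 0x9a99a41))) (.node (.node (.leaf 0x8271a43) (.leaf 0xd875a91)) (.node (.leaf 0xe675a35) (.leaf 0x0))))) (.node (.node (.node (.node (.leaf 0x8bdda49) (.leaf 0xda35a91)) (.node (.leaf 0x42a1a43) (.leaf 0xad59a45))) (.node (.node (.leaf 0xcc9da4b) (.leaf 0xea95a4b)) (.node (.leaf 0xe109a91) (.leaf 0x0)))) (.node (.node (.node (.leaf 0xdb39a45) (.leaf 0xe781a93)) (.node (.leaf 0xc74da93) (.leaf 0xc955a47))) (.node (.node (.leaf 0x94a9a91) (.leaf 0xecd9a41)) (.node (.leaf 0xc0e5a47) (.leaf 0x0))))))) (.node (.node (.node (.node (.node (.node (.leaf 0xf909a91) (.leaf 0xf135a91)) (.node (.leaf 0xaf39a49) (.leaf 0x4d09a45))) (.node (.node (.leaf 0xd5ada47) (.leaf 0xae11a91)) (.node (.leaf 0xda79a35) (.leaf 0x46b5a47))))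 (.node (.node (.node (.leaf 0xe459a41) (.leaf 0xf4e5a49)) (.node (.leaf 0xe701a43) (.leaf 0xdf01a49))) (.node (.node (.leaf 0xd54da45) (.leaf 0xd955a93)) (.node (.leaf 0xa05da91) (.leaf 0x0))))) (.node (.node (.node (.node (.leaf 0xc1d5a49) (.leaf 0xaecda91)) (.node (.leaf 0xe0fda49) (.leaf 0xac61a93))) (.node (.node (.leaf 0xe599a45) (.leaf 0xf5d5a4b)) (.node (.leaf 0xaf39a41) (.leaf 0xc865a41)))) (.node (.node (.node (.leaf 0x8001a45) (.leaf 0x82a5a91)) (.node (.leaf 0xb271a43) (.leaf 0xf261a47))) (.node (.node (.leaf 0xaee5a93) (.leaf 0xca7da91)) (.node (.leaf 0xd3c9a4b) (.leaf 0x0)))))) (.node (.node (.node (.node (.node (.leaf 0xd4ada49) (.leaf 0x8281a45)) (.node (.leaf 0xcadda4b) (.leaf 0xfb41a4b))) (.node (.node (.leaf 0x94a5a43) (.leaf 0x7165a91)) (.node (.leaf 0xf539a91) (.leaf 0xe15da41)))) (.node (.node (.node (.leaf 0x7165a49) (.leaf 0x112b1a41)) (.node (.leaf 0x12f45a41) (.leaf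 0xeb75a43))) (.node (.node (.leaf 0x9bf1a41) (.leaf 0xc9a5a49)) (.node (.leaf 0xc541a45) (.leaf 0x0))))) (.node (.node (.node (.node (.leaf 0xe15da4b) (.leaf 0xdd4da91)) (.node (.leaf 0xdb39a41) (.leaf 0xcc75a45))) (.node (.node (.leaf 0xd599a49) (.leaf 0xd9a9a45)) (.node (.leaf 0xc2bda41) (.leaf 0x0)))) (.node (.node (.node (.leaf 0x4731a4b) (.leaf 0x8e7da45)) (.node (.leaf 0xc265a93) (.leaf 0xe9d1a43))) (.node (.node (.leaf 0x7165a41) (.leaf 0x8741a41)) (.node (.leaf 0xad61a43) (.leaf 0x0))))))))))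

/-- packed table -/
noncomputable def cov13_rll : BTree := (.node (.node (.node (.node (.node (.node (.node (.node (.node (.leaf 0xa96da49) (.leaf 0x8445a43)) (.node (.leaf 0xdd91a91) (.leaf 0xcb49a49))) (.node (.node (.leaf 0xe219a4b) (.leaf 0xc0c5a4b)) (.node (.leaf 0x8281a93) (.leaf 0xb2c1a49)))) (.node (.node (.node (.leaf 0xf4bda45) (.leaf 0xce15a49)) (.node (.leaf 0xcdd5a49) (.leaf 0xc325a41))) (.node (.node (.leaf 0xae95a45) (.leaf 0x1196da45)) (.node (.leaf 0xa5e9a93) (.leaf 0x0))))) (.node (.node (.node (.node (.leaf 0xa9e1a43) (.leaf 0xc98da43)) (.node (.leaf 0xe775a4b) (.leaf 0x11605a45))) (.node (.node (.leaf 0x90dda4b) (.leaf 0xfa61a43)) (.node (.leaf 0xe311a45) (.leaf 0xf651a43)))) (.node (.node (.node (.leaf 0xa279a45) (.leaf 0xf6c5a45)) (.node (.leaf 0xd971a35) (.leaf 0xe0e1a45))) (.node (.node (.leaf 0x9389a43) (.leaf 0xc8a5a4b)) (.node (.leaf 0xf1f5a93) (.leaf 0x0))))))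 (.node (.node (.node (.node (.node (.leaf 0xbaa1a45) (.leaf 0x6019a35)) (.node (.leaf 0xcfbda4b) (.leaf 0xd851a93))) (.node (.node (.leaf 0x8601a91) (.leaf 0xd1e9a93)) (.node (.leaf 0x46b5a49) (.leaf 0xd2b9a93)))) (.node (.node (.node (.leaf 0x9c09a93) (.leaf 0xdc95a91)) (.node (.leaf 0xeeada93) (.leaf 0x8209a43))) (.node (.node (.leaf 0xd98da4b) (.leaf 0x91a5a4b)) (.node (.leaf 0xe041a93) (.leaf 0x0))))) (.node (.node (.node (.node (.leaf 0xdb39a47) (.leaf 0xf2b1a91)) (.node (.leaf 0xe0fda4b) (.leaf 0xe355a49))) (.node (.node (.leaf 0xf92da91) (.leaf 0xe6cda91)) (.node (.leaf 0xa96da47) (.leaf 0x884da45)))) (.node (.node (.node (.leaf 0xeb75a93) (.leaf 0xded5a93)) (.node (.leaf 0xdd91a4b) (.leaf 0xca59a91))) (.node (.node (.leaf 0xb029a45) (.leaf 0x9d3da91)) (.node (.leaf 0xf131a93) (.leaf 0x0))))))) (.node (.node (.node (.node (.node (.node (.leaf 0xeb4da47) (.leaf 0xb79da35)) (.node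 (.leaf 0xc5d1a91) (.leaf 0xc955a43))) (.node (.node (.leaf 0xc301a93) (.leaf 0x8b45a47)) (.node (.leaf 0xe6f9a4b) (.leaf 0xb2c1a93)))) (.node (.node (.node (.leaf 0xf389a43) (.leaf 0xb1b5a43)) (.node (.leaf 0xd259a49) (.leaf 0xe669a35))) (.node (.node (.leaf 0x13075a91) (.leaf 0x81dda47)) (.node (.leaf 0x9221a93) (.leaf 0x0))))) (.node (.node (.node (.node (.leaf 0xb3d9a41) (.leaf 0x98e9a93)) (.node (.leaf 0xd40da93) (.leaf 0xd871a93))) (.node (.node (.leaf 0xdbb1a91) (.leaf 0xd171a93)) (.node (.leaf 0xd659a4b) (.leaf 0xe889a93)))) (.node (.node (.node (.leaf 0xdd91a41) (.leaf 0x81dda43)) (.node (.leaf 0x4709a43) (.leaf 0xf389a47))) (.node (.node (.leaf 0x1a4e) (.leaf 0xb071a93)) (.node (.leaf 0xc4eda93) (.leaf 0x0)))))) (.node (.node (.node (.node (.node (.leaf 0xc8d1a43) (.leaf 0xc541a41)) (.node (.leaf 0x7165a47) (.leaf 0xdc05a4b))) (.node (.node (.leaf 0xa871a43) (.leaf 0x112a9a41))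 (.node (.leaf 0xc4e9a93) (.leaf 0xd2d5a93)))) (.node (.node (.node (.leaf 0xe301a43) (.leaf 0x5da9a35)) (.node (.leaf 0xe389a47) (.leaf 0xdaa5a41))) (.node (.node (.leaf 0xd6d5a49) (.leaf 0xec3da91)) (.node (.leaf 0x94a9a93) (.leaf 0x0))))) (.node (.node (.node (.node (.leaf 0x9e01a41) (.leaf 0xdf01a93)) (.node (.leaf 0xc2c9a43) (.leaf 0x12c0da93))) (.node (.node (.leaf 0xc545a35) (.leaf 0xaa7da4b)) (.node (.leaf 0xe1bda4b) (.leaf 0x0)))) (.node (.node (.node (.leaf 0x1ab8) (.leaf 0xf895a49)) (.node (.leaf 0xc75da93) (.leaf 0xdceda45))) (.node (.node (.leaf 0x94a5a91) (.leaf 0x8e41a91)) (.node (.leaf 0xa5e9a35) (.leaf 0x0)))))))) (.node (.node (.node (.node (.node (.node (.node (.leaf 0xb8c1a91) (.leaf 0xd1bda93)) (.node (.leaf 0xe6e1a47) (.leaf 0xf015a45))) (.node (.node (.leaf 0xc759a91) (.leaf 0x10c3da45)) (.node (.leaf 0xaf55a49) (.leaf 0xac21a43)))) (.node (.node (.node (.leaf 0x4d09a93)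 (.leaf 0xf4c1a4b)) (.node (.leaf 0xca29a47) (.leaf 0x8ba9a41))) (.node (.node (.leaf 0xef59a43) (.leaf 0xf561a4b)) (.node (.leaf 0xd1e9a49) (.leaf 0x0))))) (.node (.node (.node (.node (.leaf 0xde9da43) (.leaf 0x9221a91)) (.node (.leaf 0xc269a91) (.leaf 0x9b35a93))) (.node (.node (.leaf 0xd875a49) (.leaf 0x9c99a91)) (.node (.leaf 0xcd99a93) (.leaf 0xfa31a43)))) (.node (.node (.node (.leaf 0xf269a43) (.leaf 0xab25a91)) (.node (.leaf 0x956da4b) (.leaf 0xe1b9a35))) (.node (.node (.leaf 0x829da4b) (.leaf 0xe301a35)) (.node (.leaf 0xdbc1a4b) (.leaf 0x0)))))) (.node (.node (.node (.node (.node (.leaf 0xd3f1a93) (.leaf 0x8ef5a43)) (.node (.leaf 0xc925a49) (.leaf 0x8e91a93))) (.node (.node (.leaf 0xfaa9a93) (.leaf 0xdb11a93)) (.node (.leaf 0xc2a9a93) (.leaf 0x8b6da45)))) (.node (.node (.node (.leaf 0x82b1a93) (.leaf 0x118f9a45)) (.node (.leaf 0xeef5a43) (.leaf 0xee59a91))) (.node (.node (.leaf 0xe301a41)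 (.leaf 0xc879a41)) (.node (.leaf 0xc2bda45) (.leaf 0x0))))) (.node (.node (.node (.node (.leaf 0xcfeda91) (.leaf 0xed71a91)) (.node (.leaf 0x5349a41) (.leaf 0xe245a35))) (.node (.node (.leaf 0x457da91) (.leaf 0x8d95a41)) (.node (.leaf 0x8271a49) (.leaf 0xf0f5a4b)))) (.node (.node (.node (.leaf 0x87b9a49) (.leaf 0xcef9a43)) (.node (.leaf 0xd091a49) (.leaf 0xe139a41))) (.node (.node (.leaf 0x90dda49) (.leaf 0xe5d1a35)) (.node (.leaf 0x8349a93) (.leaf 0x0))))))) (.node (.node (.node (.node (.node (.node (.leaf 0x968da91) (.leaf 0xcea9a93)) (.node (.leaf 0x9c5da4b) (.leaf 0xc3e5a93))) (.node (.node (.leaf 0xdbb1a4b) (.leaf 0xcd4da93)) (.node (.leaf 0x1227da91) (.leaf 0xe1d9a35)))) (.node (.node (.node (.leaf 0xd091a35) (.leaf 0xa431a91)) (.node (.leaf 0xb289a45) (.leaf 0xeb85a91))) (.node (.node (.leaf 0x8b8da49) (.leaf 0xc8bda47)) (.node (.leaf 0x8ff9a4b) (.leaf 0x0))))) (.node (.node (.node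 (.node (.leaf 0x1a2e) (.leaf 0x9d3da93)) (.node (.leaf 0xa585a47) (.leaf 0xf879a91))) (.node (.node (.leaf 0xd6e1a4b) (.leaf 0xaf95a4b)) (.node (.leaf 0xdf45a41) (.leaf 0xe6e1a45)))) (.node (.node (.node (.leaf 0xe2c9a4b) (.leaf 0xf5c5a35)) (.node (.leaf 0xad59a47) (.leaf 0xb409a93))) (.node (.node (.leaf 0xdbe1a49) (.leaf 0xd879a93)) (.node (.leaf 0xa591a91) (.leaf 0x0)))))) (.node (.node (.node (.node (.node (.leaf 0xd865a91) (.leaf 0xf12da45)) (.node (.leaf 0xe041a91) (.leaf 0xf5ada47))) (.node (.node (.leaf 0x1176da41) (.leaf 0xd4bda43)) (.node (.leaf 0x7165a45) (.leaf 0xe1c1a43)))) (.node (.node (.node (.leaf 0xf569a47) (.leaf 0xb10da49)) (.node (.leaf 0xe701a41) (.leaf 0x849da93))) (.node (.node (.leaf 0x9689a47) (.leaf 0xd875a93)) (.node (.leaf 0x9c5da41) (.leaf 0x0))))) (.node (.node (.node (.node (.leaf 0xdc4da45) (.leaf 0xc801a49)) (.node (.leaf 0x8139a91) (.leaf 0x117a1a45)))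 (.node (.node (.leaf 0x457da35) (.leaf 0xc355a45)) (.node (.leaf 0x82b9a41) (.leaf 0x0)))) (.node (.node (.node (.leaf 0xeb4da41) (.leaf 0xc575a4b)) (.node (.leaf 0xbaa5a41) (.leaf 0xdbc1a49))) (.node (.node (.leaf 0xf9f5a49) (.leaf 0x91a5a91)) (.node (.leaf 0xe2d5a45) (.leaf 0x0))))))))) (.node (.node (.node (.node (.node (.node (.node (.node (.leaf 0xba55a93) (.leaf 0xdc61a91)) (.node (.leaf 0xf6d1a49) (.leaf 0xc32da45))) (.node (.node (.leaf 0xb351a91) (.leaf 0xf4e5a4b)) (.node (.leaf 0xd7cda4b) (.leaf 0x9f09a4b)))) (.node (.node (.node (.leaf 0xcd61a49) (.leaf 0xea99a45)) (.node (.leaf 0xcde5a49) (.leaf 0x8ba9a45))) (.node (.node (.leaf 0x9f09a41) (.leaf 0x90dda91)) (.node (.leaf 0xca3da49) (.leaf 0x0))))) (.node (.node (.node (.node (.leaf 0xcaeda45) (.leaf 0x8445a93)) (.node (.leaf 0xca3da45) (.leaf 0xf425a91))) (.node (.node (.leaf 0xc419a43) (.leaf 0xd275a4b)) (.node (.leaf 0xeef5a41)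 (.leaf 0x8c69a45)))) (.node (.node (.node (.leaf 0xcaeda43) (.leaf 0x8d95a4b)) (.node (.leaf 0xea55a43) (.leaf 0xdb41a93))) (.node (.node (.leaf 0x9beda41) (.leaf 0x9d29a91)) (.node (.leaf 0xcc09a93) (.leaf 0x0)))))) (.node (.node (.node (.node (.node (.leaf 0xe669a49) (.leaf 0xf1bda4b)) (.node (.leaf 0xb0f9a4b) (.leaf 0xce8da93))) (.node (.node (.leaf 0xa199a47) (.leaf 0xdaeda93)) (.node (.leaf 0xdae1a93) (.leaf 0xe88da43)))) (.node (.node (.node (.leaf 0xf6d1a43) (.leaf 0xe6fda49)) (.node (.leaf 0x8bb9a47) (.leaf 0xd791a45))) (.node (.node (.leaf 0xc961a91) (.leaf 0xe031a43)) (.node (.leaf 0x82b1a45) (.leaf 0x0))))) (.node (.node (.node (.node (.leaf 0x9b35a91) (.leaf 0xce05a93)) (.node (.leaf 0x87b9a93) (.leaf 0xec75a47))) (.node (.node (.leaf 0xcdd5a93) (.leaf 0x6c6da4b)) (.node (.leaf 0x8765a47) (.leaf 0xed09a41)))) (.node (.node (.node (.leaf 0x8f11a45) (.leaf 0xb249a91)) (.node (.leaf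 0x90d9a49) (.leaf 0xc571a45))) (.node (.node (.leaf 0xcc7da47) (.leaf 0x9c09a4b)) (.node (.leaf 0xa279a49) (.leaf 0x0))))))) (.node (.node (.node (.node (.node (.node (.leaf 0x47eda49) (.leaf 0xce25a91)) (.node (.leaf 0xad61a93) (.leaf 0xc9ada47))) (.node (.node (.leaf 0x82e1a93) (.leaf 0xc581a41)) (.node (.leaf 0x9185a49) (.leaf 0xe9a9a93)))) (.node (.node (.node (.leaf 0xa23da41) (.leaf 0xf7d5a91)) (.node (.leaf 0x5da9a91) (.leaf 0x117a1a41))) (.node (.node (.leaf 0xfb49a91) (.leaf 0x8b45a49)) (.node (.leaf 0xc39da91) (.leaf 0x0))))) (.node (.node (.node (.node (.leaf 0x5da9a31) (.leaf 0x13475a41)) (.node (.leaf 0xd809a35) (.leaf 0xe0e1a49))) (.node (.node (.leaf 0xd54da41) (.leaf 0xb939a35)) (.node (.leaf 0x956da35) (.leaf 0x5f0da31)))) (.node (.node (.node (.leaf 0xd4ada4b) (.leaf 0xab51a4b)) (.node (.leaf 0xd371a45) (.leaf 0xeea9a93))) (.node (.node (.leaf 0x4295a31) (.leaf 0xdc59a43))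 (.node (.leaf 0xac21a4b) (.leaf 0x0)))))) (.node (.node (.node (.node (.node (.leaf 0xc725a49) (.leaf 0xe551a91)) (.node (.leaf 0x68cda41) (.leaf 0xac61a47))) (.node (.node (.leaf 0xa12da91) (.leaf 0xc571a4b)) (.node (.leaf 0xe6fda93) (.leaf 0xd4bda41)))) (.node (.node (.node (.leaf 0xf6a9a41) (.leaf 0xe4fda45)) (.node (.leaf 0xec75a93) (.leaf 0x6c19a91))) (.node (.node (.leaf 0xeb75a47) (.leaf 0xfa31a41)) (.node (.leaf 0x114c9a93) (.leaf 0x0))))) (.node (.node (.node (.node (.leaf 0xdc89a43) (.leaf 0x9389a49)) (.node (.leaf 0xdaeda49) (.leaf 0xc521a49))) (.node (.node (.leaf 0xe1d9a45) (.leaf 0xd2c1a91)) (.node (.leaf 0xe2eda43) (.leaf 0x0)))) (.node (.node (.node (.leaf 0x4e71a93) (.leaf 0xd021a41)) (.node (.leaf 0xed81a47) (.leaf 0x8c29a91))) (.node (.node (.leaf 0xcb01a91) (.leaf 0xd64da93)) (.node (.leaf 0xf4c1a35) (.leaf 0x0)))))))) (.node (.node (.node (.node (.node (.node (.node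 (.leaf 0xb22da91) (.leaf 0xd239a91)) (.node (.leaf 0xc135a45) (.leaf 0xa591a49))) (.node (.node (.leaf 0x8739a93) (.leaf 0xa871a4b)) (.node (.leaf 0x8bbda47) (.leaf 0xc545a47)))) (.node (.node (.node (.leaf 0xf7b9a47) (.leaf 0xa5f5a47)) (.node (.leaf 0xea51a43) (.leaf 0xe88da45))) (.node (.node (.leaf 0x11ba1a93) (.leaf 0xaad1a4b)) (.node (.leaf 0x9f09a45) (.leaf 0x0))))) (.node (.node (.node (.node (.leaf 0x9bb9a41) (.leaf 0xf9bda35)) (.node (.leaf 0xc289a91) (.leaf 0xd175a45))) (.node (.node (.leaf 0xce8da91) (.leaf 0xb4d1a91)) (.node (.leaf 0xd131a93) (.leaf 0xec91a45)))) (.node (.node (.node (.leaf 0xed7da49) (.leaf 0xe88da49)) (.node (.leaf 0x49d9a41) (.leaf 0x6c19a93))) (.node (.node (.leaf 0x42c1a31) (.leaf 0xf535a93)) (.node (.leaf 0xc971a93) (.leaf 0x0)))))) (.node (.node (.node (.node (.node (.leaf 0x8729a91) (.leaf 0xcdfda4b)) (.node (.leaf 0xea95a91) (.leaf 0x1ab6))) (.node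 (.node (.leaf 0xddeda45) (.leaf 0xd8b5a49)) (.node (.leaf 0xd559a91) (.leaf 0x8b45a41)))) (.node (.node (.node (.leaf 0x49d9a35) (.leaf 0xc581a43)) (.node (.leaf 0xe9a9a91) (.leaf 0xd5a1a93))) (.node (.node (.leaf 0x68cda91) (.leaf 0x83f1a93)) (.node (.leaf 0x956da41) (.leaf 0x0))))) (.node (.node (.node (.node (.leaf 0xdfb5a4b) (.leaf 0x10121a91)) (.node (.leaf 0x82a5a43) (.leaf 0xc801a4b))) (.node (.node (.leaf 0x8601a4b) (.leaf 0xe409a91)) (.node (.leaf 0xdc39a91) (.leaf 0x0)))) (.node (.node (.node (.leaf 0x49d9a47) (.leaf 0xe8f9a47)) (.node (.leaf 0xb79da41) (.leaf 0xc3c1a91))) (.node (.node (.leaf 0xf0c1a93) (.leaf 0x8e65a91)) (.node (.leaf 0xece1a45) (.leaf 0x0))))))) (.node (.node (.node (.node (.node (.node (.leaf 0x9665a91) (.leaf 0xf3b5a91)) (.node (.leaf 0xc9a5a35) (.leaf 0xe391a35))) (.node (.node (.leaf 0x8ff5a93) (.leaf 0xb665a41)) (.node (.leaf 0xe7d9a45) (.leaf 0xd7e1a45))))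 (.node (.node (.node (.leaf 0x9185a91) (.leaf 0x112e9a93)) (.node (.leaf 0xdb39a91) (.leaf 0x8bbda45))) (.node (.node (.leaf 0x831da45) (.leaf 0xda79a41)) (.node (.leaf 0xf781a47) (.leaf 0x0))))) (.node (.node (.node (.node (.leaf 0x97d1a4b) (.leaf 0x9d41a93)) (.node (.leaf 0x6019a47) (.leaf 0x8ff9a91))) (.node (.node (.leaf 0xc8bda35) (.leaf 0xe775a91)) (.node (.leaf 0xcc09a49) (.leaf 0xed65a49)))) (.node (.node (.node (.leaf 0xca81a4b) (.leaf 0xded5a49)) (.node (.leaf 0xc0e5a91) (.leaf 0xc575a45))) (.node (.node (.leaf 0xe159a49) (.leaf 0x745da49)) (.node (.leaf 0xcbeda93) (.leaf 0x0)))))) (.node (.node (.node (.node (.node (.leaf 0xf76da4b) (.leaf 0x85f9a93)) (.node (.leaf 0xf7b9a41) (.leaf 0x114eda45))) (.node (.node (.leaf 0xe459a45) (.leaf 0xc325a47)) (.node (.leaf 0x9f09a93) (.leaf 0xdf35a93)))) (.node (.node (.node (.leaf 0xaf1da43) (.leaf 0xd361a49)) (.node (.leaf 0xcdfda91) (.leaf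 0xb7b5a91))) (.node (.node (.leaf 0x9665a47) (.leaf 0xd651a93)) (.node (.leaf 0xdb2da91) (.leaf 0x0))))) (.node (.node (.node (.node (.leaf 0x9c29a49) (.leaf 0xde19a93)) (.node (.leaf 0x8161a91) (.leaf 0xc861a47))) (.node (.node (.leaf 0xe9d1a49) (.leaf 0xdfb5a43)) (.node (.leaf 0x82a5a41) (.leaf 0x0)))) (.node (.node (.node (.leaf 0xc609a4b) (.leaf 0xf7f1a45)) (.node (.leaf 0xc289a93) (.leaf 0xc3e5a91))) (.node (.node (.leaf 0x9f09a43) (.leaf 0xe3e1a49)) (.node (.leaf 0xf379a93) (.leaf 0x0))))))))))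

/-- packed table -/
noncomputable def cov13_rlr : BTree := (.node (.node (.node (.node (.node (.node (.node (.node (.node (.leaf 0x8d3da4b) (.leaf 0xef61a4b)) (.node (.leaf 0xea45a4b) (.leaf 0x82ada91))) (.node (.node (.leaf 0xca3da41) (.leaf 0x85cda47)) (.node (.leaf 0xeeeda43) (.leaf 0xf69da49)))) (.node (.node (.node (.leaf 0x884da4b) (.leaf 0xf89da47)) (.node (.leaf 0xc1d5a47) (.leaf 0xfb3da49))) (.node (.node (.leaf 0xe9b1a45) (.leaf 0x11d51a41)) (.node (.leaf 0xc9ada41) (.leaf 0x0))))) (.node (.node (.node (.node (.leaf 0xdf95a47) (.leaf 0xe8f9a45)) (.node (.leaf 0xe839a49) (.leaf 0xd851a4b))) (.node (.node (.leaf 0xd6eda49) (.leaf 0xa3e9a91)) (.node (.leaf 0xc9c9a91) (.leaf 0xa9f9a45)))) (.node (.node (.node (.leaf 0xa05da4b) (.leaf 0xab7da93)) (.node (.leaf 0xd879a49) (.leaf 0x8e7da43))) (.node (.node (.leaf 0x9bcda41) (.leaf 0xa3e9a41)) (.node (.leaf 0xdb25a91) (.leaf 0x0))))))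 (.node (.node (.node (.node (.node (.leaf 0xbaa5a45) (.leaf 0xf15da4b)) (.node (.leaf 0x9c99a49) (.leaf 0xee15a91))) (.node (.node (.leaf 0xdbf5a47) (.leaf 0xef7da4b)) (.node (.leaf 0xc30da93) (.leaf 0xf361a4b)))) (.node (.node (.node (.leaf 0xc8a5a45) (.leaf 0xd081a45)) (.node (.leaf 0xdc85a35) (.leaf 0x8765a49))) (.node (.node (.leaf 0xd1cda93) (.leaf 0x831da91)) (.node (.leaf 0x82b9a45) (.leaf 0x0))))) (.node (.node (.node (.node (.leaf 0xf2bda41) (.leaf 0x9beda93)) (.node (.leaf 0x47eda43) (.leaf 0xb881a41))) (.node (.node (.leaf 0xcc09a91) (.leaf 0xe355a45)) (.node (.leaf 0x803da45) (.leaf 0x106b9a93)))) (.node (.node (.node (.leaf 0xca51a49) (.leaf 0xd9b1a47)) (.node (.leaf 0xb79da43) (.leaf 0xe25da93))) (.node (.node (.leaf 0x849da45) (.leaf 0xecb5a93)) (.node (.leaf 0x92cda93) (.leaf 0x0))))))) (.node (.node (.node (.node (.node (.node (.leaf 0xe615a49) (.leaf 0xf2ada91)) (.node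 (.leaf 0xe97da4b) (.leaf 0xf3e9a49))) (.node (.node (.leaf 0x10305a93) (.leaf 0xdbada93)) (.node (.leaf 0xf051a93) (.leaf 0x9d9da93)))) (.node (.node (.node (.leaf 0xd2d1a93) (.leaf 0xa4eda93)) (.node (.leaf 0xea11a49) (.leaf 0x94a9a43))) (.node (.node (.leaf 0xe599a41) (.leaf 0xfa61a41)) (.node (.leaf 0xa99da45) (.leaf 0x0))))) (.node (.node (.node (.node (.leaf 0x1a6e) (.leaf 0xf471a45)) (.node (.leaf 0x113e1a91) (.leaf 0xe2eda47))) (.node (.node (.leaf 0x831da41) (.leaf 0x9c29a91)) (.node (.leaf 0x92cda91) (.leaf 0xe2eda35)))) (.node (.node (.node (.leaf 0x12bd1a41) (.leaf 0xe465a4b)) (.node (.leaf 0xd355a45) (.leaf 0xc571a41))) (.node (.node (.leaf 0xa735a43) (.leaf 0x457da45)) (.node (.leaf 0xc8c1a47) (.leaf 0x0)))))) (.node (.node (.node (.node (.node (.leaf 0xdd91a43) (.leaf 0xfae9a41)) (.node (.leaf 0xcf79a43) (.leaf 0xe409a41))) (.node (.node (.leaf 0xcd41a93) (.leaf 0xdaa5a47))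 (.node (.leaf 0xcb21a45) (.leaf 0x8b8da43)))) (.node (.node (.node (.leaf 0xa585a41) (.leaf 0x9c5da91)) (.node (.leaf 0xd2d5a91) (.leaf 0xd69da4b))) (.node (.node (.leaf 0x68cda45) (.leaf 0xe041a4b)) (.node (.leaf 0x9221a45) (.leaf 0x0))))) (.node (.node (.node (.node (.leaf 0xdcc9a93) (.leaf 0xa691a4b)) (.node (.leaf 0xdaf1a4b) (.leaf 0x4ef1a31))) (.node (.node (.leaf 0xc9ada45) (.leaf 0xf6d1a35)) (.node (.leaf 0xeaa5a45) (.leaf 0x0)))) (.node (.node (.node (.leaf 0x9351a93) (.leaf 0xeae9a43)) (.node (.leaf 0xc755a93) (.leaf 0xde91a93))) (.node (.node (.leaf 0x98e9a91) (.leaf 0x6c6da31)) (.node (.leaf 0xb881a35) (.leaf 0x0)))))))) (.node (.node (.node (.node (.node (.node (.node (.leaf 0x92c9a4b) (.leaf 0xdb45a91)) (.node (.leaf 0xc205a49) (.leaf 0xd21da91))) (.node (.node (.leaf 0x8765a91) (.leaf 0xe419a91)) (.node (.leaf 0xca99a43) (.leaf 0xcd35a91)))) (.node (.node (.node (.leaf 0xf6d9a4b)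 (.leaf 0xf8a1a49)) (.node (.leaf 0xa141a47) (.leaf 0xecd9a45))) (.node (.node (.leaf 0xe1dda45) (.leaf 0xd551a41)) (.node (.leaf 0xc48da49) (.leaf 0x0))))) (.node (.node (.node (.node (.leaf 0xef65a41) (.leaf 0xad51a93)) (.node (.leaf 0x8261a91) (.leaf 0xec75a43))) (.node (.node (.leaf 0xec25a47) (.leaf 0x8e69a93)) (.node (.leaf 0x46b5a4b) (.leaf 0x42a1a93)))) (.node (.node (.node (.leaf 0x878da47) (.leaf 0xe89da49)) (.node (.leaf 0xf4d5a93) (.leaf 0xfac1a4b))) (.node (.node (.leaf 0x829da49) (.leaf 0xe815a4b)) (.node (.leaf 0xc521a4b) (.leaf 0x0)))))) (.node (.node (.node (.node (.node (.leaf 0x113e1a93) (.leaf 0xd7bda93)) (.node (.leaf 0x9bf1a47) (.leaf 0xf571a49))) (.node (.node (.leaf 0x8b6da35) (.leaf 0xeea1a47)) (.node (.leaf 0x9f75a43) (.leaf 0x82b9a93)))) (.node (.node (.node (.leaf 0xf885a43) (.leaf 0xec3da49)) (.node (.leaf 0xd651a49) (.leaf 0x9379a93))) (.node (.node (.leaf 0xace9a4b)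 (.leaf 0xa585a93)) (.node (.leaf 0x11eada45) (.leaf 0x0))))) (.node (.node (.node (.node (.leaf 0x99c5a93) (.leaf 0x8f11a93)) (.node (.leaf 0x829da43) (.leaf 0xb8c1a43))) (.node (.node (.leaf 0xa871a45) (.leaf 0xb2c1a45)) (.node (.leaf 0xe0e1a91) (.leaf 0x0)))) (.node (.node (.node (.leaf 0x8565a47) (.leaf 0xd279a4b)) (.node (.leaf 0x885da47) (.leaf 0xe289a93))) (.node (.node (.leaf 0xd6eda4b) (.leaf 0x42c5a91)) (.node (.leaf 0xc379a93) (.leaf 0x0))))))) (.node (.node (.node (.node (.node (.node (.leaf 0xd6d1a93) (.leaf 0xdb19a91)) (.node (.leaf 0xd275a41) (.leaf 0xf599a35))) (.node (.node (.leaf 0xc88da41) (.leaf 0xcd61a93)) (.node (.leaf 0xa3e9a4b) (.leaf 0x8161a47)))) (.node (.node (.node (.leaf 0x135e1a91) (.leaf 0xb8c1a35)) (.node (.leaf 0xef01a43) (.leaf 0x8bdda45))) (.node (.node (.leaf 0xaf69a41) (.leaf 0xb30da49)) (.node (.leaf 0x9c71a41) (.leaf 0x0))))) (.node (.node (.node (.node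 (.leaf 0xea39a4b) (.leaf 0x9d29a93)) (.node (.leaf 0xa5e9a47) (.leaf 0xeaada41))) (.node (.node (.leaf 0xe58da45) (.leaf 0xf6d9a35)) (.node (.leaf 0x8c1da49) (.leaf 0xaecda93)))) (.node (.node (.node (.leaf 0xedb1a4b) (.leaf 0xefc5a41)) (.node (.leaf 0x9bb9a47) (.leaf 0x8445a49))) (.node (.node (.leaf 0x9beda49) (.leaf 0xf7dda49)) (.node (.leaf 0x95dda93) (.leaf 0x0)))))) (.node (.node (.node (.node (.node (.leaf 0x8271a41) (.leaf 0xf12da47)) (.node (.leaf 0xf945a49) (.leaf 0x12b0da41))) (.node (.node (.leaf 0xe11da91) (.leaf 0xf1c9a47)) (.node (.leaf 0xb8f9a91) (.leaf 0xce5da91)))) (.node (.node (.node (.leaf 0xcbf5a35) (.leaf 0x57b5a93)) (.node (.leaf 0xca51a93) (.leaf 0x9389a47))) (.node (.node (.leaf 0x968da47) (.leaf 0xb409a49)) (.node (.leaf 0xc4ada47) (.leaf 0x0))))) (.node (.node (.node (.node (.leaf 0x8e91a91) (.leaf 0x9389a4b)) (.node (.leaf 0xc211a49) (.leaf 0x8591a41))) (.node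 (.node (.leaf 0x8e7da93) (.leaf 0x9c71a49)) (.node (.leaf 0x82b1a41) (.leaf 0x0)))) (.node (.node (.node (.leaf 0x811da47) (.leaf 0xee15a49)) (.node (.leaf 0xb8c1a49) (.leaf 0x8d1da43))) (.node (.node (.leaf 0x13085a93) (.leaf 0xf5ada35)) (.node (.leaf 0xf389a49) (.leaf 0x0))))))))) (.node (.node (.node (.node (.node (.node (.node (.node (.leaf 0xe6cda49) (.leaf 0xd1ada93)) (.node (.leaf 0xcc75a49) (.leaf 0xb50da45))) (.node (.node (.leaf 0x470da93) (.leaf 0xe7dda93)) (.node (.leaf 0x811da4b) (.leaf 0xf445a93)))) (.node (.node (.node (.leaf 0xe815a93) (.leaf 0xea95a45)) (.node (.leaf 0xe0ada47) (.leaf 0xee59a49))) (.node (.node (.leaf 0x7165a93) (.leaf 0xdea1a49)) (.node (.leaf 0xfb3da91) (.leaf 0x0))))) (.node (.node (.node (.node (.leaf 0x885da41) (.leaf 0xf7a5a35)) (.node (.leaf 0xf4ada91) (.leaf 0xf875a4b))) (.node (.node (.leaf 0xca75a91) (.leaf 0xf9bda47)) (.node (.leaf 0xb8f9a47)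 (.leaf 0xba55a47)))) (.node (.node (.node (.leaf 0xba75a49) (.leaf 0xd249a45)) (.node (.leaf 0xb031a93) (.leaf 0x9379a47))) (.node (.node (.leaf 0x4295a49) (.leaf 0xdf01a4b)) (.node (.leaf 0xce11a91) (.leaf 0x0)))))) (.node (.node (.node (.node (.node (.leaf 0x8739a91) (.leaf 0x8bc5a43)) (.node (.leaf 0xc961a49) (.leaf 0x83f1a41))) (.node (.node (.leaf 0xef7da91) (.leaf 0xc919a91)) (.node (.leaf 0xe391a47) (.leaf 0xd2b9a91)))) (.node (.node (.node (.leaf 0x110d1a45) (.leaf 0x9f09a47)) (.node (.leaf 0xdbc5a47) (.leaf 0x83f1a45))) (.node (.node (.leaf 0xae11a41) (.leaf 0xb30da93)) (.node (.leaf 0xc2b5a45) (.leaf 0x0))))) (.node (.node (.node (.node (.leaf 0x95dda49) (.leaf 0xce15a93)) (.node (.leaf 0x87b1a91) (.leaf 0xe581a93))) (.node (.node (.leaf 0xe419a93) (.leaf 0xe3fda91)) (.node (.leaf 0x49d9a31) (.leaf 0xd699a93)))) (.node (.node (.node (.leaf 0x49d9a4b) (.leaf 0x4e85a47)) (.node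 (.leaf 0xd091a45) (.leaf 0xde6da93))) (.node (.node (.leaf 0xb5a5a45) (.leaf 0xdc95a93)) (.node (.leaf 0x8209a45) (.leaf 0x0))))))) (.node (.node (.node (.node (.node (.node (.leaf 0x825da93) (.leaf 0xceb9a93)) (.node (.leaf 0xf949a91) (.leaf 0xdf7da43))) (.node (.node (.leaf 0xb6a1a45) (.leaf 0xdbb1a93)) (.node (.leaf 0xb4d1a93) (.leaf 0xdaa5a43)))) (.node (.node (.node (.leaf 0xba55a43) (.leaf 0xb395a43)) (.node (.leaf 0xf5e5a43) (.leaf 0xb5a5a4b))) (.node (.node (.leaf 0xdc51a91) (.leaf 0xb351a47)) (.node (.leaf 0xc0e5a4b) (.leaf 0x0))))) (.node (.node (.node (.node (.leaf 0x82a5a35) (.leaf 0xaf39a93)) (.node (.leaf 0xa105a47) (.leaf 0xaa7da93))) (.node (.node (.leaf 0xa1eda45) (.leaf 0xdc85a49)) (.node (.leaf 0xfb41a93) (.leaf 0xe6f9a45)))) (.node (.node (.node (.leaf 0x1a9c) (.leaf 0xd0c5a91)) (.node (.leaf 0xd361a45) (.leaf 0xe109a4b))) (.node (.node (.leaf 0xdbe1a4b) (.leaf 0xd6ada4b))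 (.node (.leaf 0xd21da47) (.leaf 0x0)))))) (.node (.node (.node (.node (.node (.leaf 0x7165a4b) (.leaf 0xb10da45)) (.node (.leaf 0xea4da41) (.leaf 0x68cda93))) (.node (.node (.leaf 0x9c5da49) (.leaf 0x8209a47)) (.node (.leaf 0x9a99a4b) (.leaf 0xe9dda35)))) (.node (.node (.node (.leaf 0x8809a47) (.leaf 0xcc75a43)) (.node (.leaf 0xc32da4b) (.leaf 0xc2bda93))) (.node (.node (.leaf 0xdfb1a91) (.leaf 0x92dda93)) (.node (.leaf 0xdc39a41) (.leaf 0x0))))) (.node (.node (.node (.node (.leaf 0x11cada93) (.leaf 0xa671a43)) (.node (.leaf 0xdb19a49) (.leaf 0xa4c9a41))) (.node (.node (.leaf 0x6c19a49) (.leaf 0xf635a4b)) (.node (.leaf 0xe8e1a93) (.leaf 0x0)))) (.node (.node (.node (.leaf 0x5349a91) (.leaf 0xf561a91)) (.node (.leaf 0x1aa2) (.leaf 0x46b5a41))) (.node (.node (.leaf 0x8ef5a49) (.leaf 0xd551a45)) (.node (.leaf 0x8ff5a91) (.leaf 0x0)))))))) (.node (.node (.node (.node (.node (.node (.node (.leaf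 0x92e5a4b) (.leaf 0xb939a47)) (.node (.leaf 0xda11a45) (.leaf 0xc30da47))) (.node (.node (.leaf 0xc165a35) (.leaf 0xf599a4b)) (.node (.leaf 0x82a5a47) (.leaf 0x9c29a47)))) (.node (.node (.node (.leaf 0xd149a49) (.leaf 0x112b1a45)) (.node (.leaf 0xd091a4b) (.leaf 0xf015a35))) (.node (.node (.leaf 0xa3e9a93) (.leaf 0xa589a93)) (.node (.leaf 0xf7dda45) (.leaf 0x0))))) (.node (.node (.node (.node (.leaf 0x8281a35) (.leaf 0xd8d5a93)) (.node (.leaf 0x8281a91) (.leaf 0xc605a93))) (.node (.node (.leaf 0xa589a43) (.leaf 0xf439a91)) (.node (.leaf 0xed65a47) (.leaf 0x42c1a93)))) (.node (.node (.node (.leaf 0xc9c1a41) (.leaf 0xa12da93)) (.node (.leaf 0xb271a49) (.leaf 0xc4e9a43))) (.node (.node (.leaf 0x9689a45) (.leaf 0xb5a5a49)) (.node (.leaf 0xf961a35) (.leaf 0x0)))))) (.node (.node (.node (.node (.node (.leaf 0xa309a47) (.leaf 0xc955a45)) (.node (.leaf 0x8bb9a91) (.leaf 0xef61a47))) (.node (.node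 (.leaf 0xcd9da49) (.leaf 0xe2eda4b)) (.node (.leaf 0xde31a93) (.leaf 0xd4f1a41)))) (.node (.node (.node (.leaf 0xa9e1a91) (.leaf 0xc571a43)) (.node (.leaf 0x8e3da91) (.leaf 0x92bda91))) (.node (.node (.leaf 0xe36da93) (.leaf 0x12a2da91)) (.node (.leaf 0xc275a45) (.leaf 0x0))))) (.node (.node (.node (.node (.leaf 0xcf49a49) (.leaf 0xf781a45)) (.node (.leaf 0x82b1a43) (.leaf 0xe57da93))) (.node (.node (.leaf 0xe85da45) (.leaf 0x9389a93)) (.node (.leaf 0xdc95a4b) (.leaf 0x0)))) (.node (.node (.node (.leaf 0x8261a45) (.leaf 0x8ff9a45)) (.node (.leaf 0xd41da91) (.leaf 0xdcf1a45))) (.node (.node (.leaf 0xd971a47) (.leaf 0xdfb1a4b)) (.node (.leaf 0x75c9a35) (.leaf 0x0))))))) (.node (.node (.node (.node (.node (.node (.leaf 0xeb75a49) (.leaf 0xf321a35)) (.node (.leaf 0xb4d1a4b) (.leaf 0x9c71a93))) (.node (.node (.leaf 0xe8c9a4b) (.leaf 0xccc9a91)) (.node (.leaf 0xe5d1a43) (.leaf 0x8bb5a93)))) (.node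 (.node (.node (.leaf 0xd8b5a45) (.leaf 0xace9a91)) (.node (.leaf 0xcf05a4b) (.leaf 0x8c29a45))) (.node (.node (.leaf 0xecfda41) (.leaf 0xad0da4b)) (.node (.leaf 0xb939a45) (.leaf 0x0))))) (.node (.node (.node (.node (.leaf 0xc1d5a4b) (.leaf 0x90e1a91)) (.node (.leaf 0xef2da41) (.leaf 0xa34da93))) (.node (.node (.leaf 0xe569a93) (.leaf 0xaf1da47)) (.node (.leaf 0xab51a43) (.leaf 0xd269a47)))) (.node (.node (.node (.leaf 0xd06da49) (.leaf 0x11219a91)) (.node (.leaf 0xccd9a4b) (.leaf 0xeb55a93))) (.node (.node (.leaf 0x5f0da47) (.leaf 0xa1eda91)) (.node (.leaf 0xaf69a91) (.leaf 0x0)))))) (.node (.node (.node (.node (.node (.leaf 0xea15a45) (.leaf 0x8ef5a91)) (.node (.leaf 0xe8f9a91) (.leaf 0x9d29a41))) (.node (.node (.leaf 0xc8bda43) (.leaf 0x859da93)) (.node (.leaf 0xf569a43) (.leaf 0x8bdda93)))) (.node (.node (.node (.leaf 0xcd35a49) (.leaf 0x4ef1a43)) (.node (.leaf 0xf3b9a93) (.leaf 0x829da93)))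 (.node (.node (.leaf 0xd419a4b) (.leaf 0xf2e5a41)) (.node (.leaf 0xc971a47) (.leaf 0x0))))) (.node (.node (.node (.node (.leaf 0xdd95a93) (.leaf 0xf63da35)) (.node (.leaf 0xe289a49) (.leaf 0xc30da41))) (.node (.node (.leaf 0xb0f9a91) (.leaf 0xd8f1a49)) (.node (.leaf 0x82ada41) (.leaf 0x0)))) (.node (.node (.node (.leaf 0xefada4b) (.leaf 0xd609a4b)) (.node (.leaf 0xc26da93) (.leaf 0xd9c1a91))) (.node (.node (.leaf 0x5f0da43) (.leaf 0xdfb5a41)) (.node (.leaf 0xdc05a43) (.leaf 0x0))))))))))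

/-- packed table -/
noncomputable def cov13_rrl : BTree := (.node (.node (.node (.node (.node (.node (.node (.node (.node (.leaf 0xa99da49) (.leaf 0xa96da45)) (.node (.leaf 0xf8b9a91) (.leaf 0xf6d9a41))) (.node (.node (.leaf 0xa111a45) (.leaf 0xea95a47)) (.node (.leaf 0xc2d9a91) (.leaf 0xd06da93)))) (.node (.node (.node (.leaf 0x12f45a45) (.leaf 0xe39da91)) (.node (.leaf 0x97d1a47) (.leaf 0xd365a91))) (.node (.node (.leaf 0xc2b5a91) (.leaf 0xe409a43)) (.node (.leaf 0xf245a45) (.leaf 0x0))))) (.node (.node (.node (.node (.leaf 0xb351a93) (.leaf 0xe9d9a91)) (.node (.leaf 0xb8c1a4b) (.leaf 0xca0da49))) (.node (.node (.leaf 0x8ba9a93) (.leaf 0xe4fda49)) (.node (.leaf 0xf949a93) (.leaf 0xd69da93)))) (.node (.node (.node (.leaf 0xc269a41) (.leaf 0x9c09a47)) (.node (.leaf 0x8ff5a4b) (.leaf 0x9a99a45))) (.node (.node (.leaf 0xb4d1a45) (.leaf 0xd361a93)) (.node (.leaf 0x9c09a45) (.leaf 0x0))))))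 (.node (.node (.node (.node (.node (.leaf 0x8bc5a47) (.leaf 0xc9c9a93)) (.node (.leaf 0xf499a49) (.leaf 0x46b5a93))) (.node (.node (.leaf 0xd175a49) (.leaf 0xb8c1a45)) (.node (.leaf 0xa5d5a43) (.leaf 0xf361a45)))) (.node (.node (.node (.leaf 0xf2e5a4b) (.leaf 0xe4fda41)) (.node (.leaf 0xdc39a47) (.leaf 0x57b5a91))) (.node (.node (.leaf 0xc8bda45) (.leaf 0x6c6da43)) (.node (.leaf 0xc8c1a45) (.leaf 0x0))))) (.node (.node (.node (.node (.leaf 0x8c29a35) (.leaf 0xadd1a91)) (.node (.leaf 0xc609a41) (.leaf 0x6c6da47))) (.node (.node (.leaf 0xba55a4b) (.leaf 0xed5da35)) (.node (.leaf 0xb0f9a41) (.leaf 0xcd49a49)))) (.node (.node (.node (.leaf 0x1a5e) (.leaf 0xe6fda91)) (.node (.leaf 0xd7fda41) (.leaf 0xe0e1a43))) (.node (.node (.leaf 0xe36da91) (.leaf 0xd641a47)) (.node (.leaf 0x1aa4) (.leaf 0x0))))))) (.node (.node (.node (.node (.node (.node (.leaf 0x811da45) (.leaf 0x90eda93)) (.node (.leaf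 0xc131a43) (.leaf 0xae39a4b))) (.node (.node (.leaf 0x8139a35) (.leaf 0x9bb9a93)) (.node (.leaf 0xf261a49) (.leaf 0xd239a93)))) (.node (.node (.node (.leaf 0xb3d9a93) (.leaf 0xf5d5a49)) (.node (.leaf 0x12235a45) (.leaf 0xad0da93))) (.node (.node (.leaf 0x8bdda4b) (.leaf 0xecb5a91)) (.node (.leaf 0xd279a45) (.leaf 0x0))))) (.node (.node (.node (.node (.leaf 0xdb2da49) (.leaf 0xf471a41)) (.node (.leaf 0xd3c9a91) (.leaf 0xf321a4b))) (.node (.node (.leaf 0xf945a93) (.leaf 0xa4eda4b)) (.node (.leaf 0x99c5a49) (.leaf 0xb1b5a45)))) (.node (.node (.node (.leaf 0xd091a47) (.leaf 0x886da43)) (.node (.leaf 0x49d9a43) (.leaf 0xf81da4b))) (.node (.node (.leaf 0xa199a45) (.leaf 0xd2c1a93)) (.node (.leaf 0xc519a93) (.leaf 0x0)))))) (.node (.node (.node (.node (.node (.leaf 0x8141a41) (.leaf 0xde19a49)) (.node (.leaf 0x8729a45) (.leaf 0xefc5a43))) (.node (.node (.leaf 0x8d1da93) (.leaf 0xfb1da91)) (.node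 (.leaf 0xa5e9a41) (.leaf 0xf8a1a43)))) (.node (.node (.node (.leaf 0xc855a47) (.leaf 0xba55a35)) (.node (.leaf 0xdb41a91) (.leaf 0xf875a49))) (.node (.node (.leaf 0xe775a49) (.leaf 0xe1c1a47)) (.node (.leaf 0xb10da41) (.leaf 0x0))))) (.node (.node (.node (.node (.leaf 0xdcd5a93) (.leaf 0xe839a91)) (.node (.leaf 0xf16da91) (.leaf 0x1394da45))) (.node (.node (.leaf 0x49d9a91) (.leaf 0xc905a47)) (.node (.leaf 0xcadda45) (.leaf 0x0)))) (.node (.node (.node (.leaf 0x4e71a91) (.leaf 0xb8f9a49)) (.node (.leaf 0xc761a93) (.leaf 0x803da91))) (.node (.node (.leaf 0xec71a4b) (.leaf 0x9c5da93)) (.node (.leaf 0xcc19a91) (.leaf 0x0)))))))) (.node (.node (.node (.node (.node (.node (.node (.leaf 0x92cda49) (.leaf 0xf315a91)) (.node (.leaf 0xe6f9a47) (.leaf 0xdfb5a45))) (.node (.node (.leaf 0x473da93) (.leaf 0xf08da93)) (.node (.leaf 0xf555a49) (.leaf 0xef8da49)))) (.node (.node (.node (.leaf 0x57b5a4b)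 (.leaf 0x112e9a91)) (.node (.leaf 0xea11a43) (.leaf 0xdfb1a49))) (.node (.node (.leaf 0x95dda4b) (.leaf 0xf2eda91)) (.node (.leaf 0x94a5a35) (.leaf 0x0))))) (.node (.node (.node (.node (.leaf 0xf269a41) (.leaf 0x8bbda4b)) (.node (.leaf 0xc26da91) (.leaf 0x90dda47))) (.node (.node (.leaf 0x12995a93) (.leaf 0x8e51a93)) (.node (.leaf 0xe245a49) (.leaf 0xa9f9a41)))) (.node (.node (.node (.leaf 0x90d9a43) (.leaf 0xe8f9a43)) (.node (.leaf 0xa23da45) (.leaf 0xdc61a93))) (.node (.node (.leaf 0x82ada49) (.leaf 0x82a5a93)) (.node (.leaf 0xe799a91) (.leaf 0x0)))))) (.node (.node (.node (.node (.node (.leaf 0xc725a91) (.leaf 0x884da43)) (.node (.leaf 0xc925a4b) (.leaf 0xdd65a4b))) (.node (.node (.leaf 0xf679a93) (.leaf 0xf81da49)) (.node (.leaf 0xa871a47) (.leaf 0xe97da35)))) (.node (.node (.node (.leaf 0xf0f5a45) (.leaf 0xd91da45)) (.node (.leaf 0xa99da91) (.leaf 0xf261a41))) (.node (.node (.leaf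 0xb029a4b) (.leaf 0x42c5a93)) (.node (.leaf 0x8ff5a43) (.leaf 0x0))))) (.node (.node (.node (.node (.leaf 0xfad1a41) (.leaf 0x4ef1a93)) (.node (.leaf 0x4e71a41) (.leaf 0xeb01a4b))) (.node (.node (.leaf 0xf561a93) (.leaf 0xa4eda91)) (.node (.leaf 0xc265a4b) (.leaf 0x0)))) (.node (.node (.node (.leaf 0x9b35a45) (.leaf 0xda79a4b)) (.node (.leaf 0xcbd5a47) (.leaf 0xe88da35))) (.node (.node (.leaf 0xe059a45) (.leaf 0xdf85a91)) (.node (.leaf 0xf2e5a91) (.leaf 0x0))))))) (.node (.node (.node (.node (.node (.node (.leaf 0xd679a91) (.leaf 0xa105a43)) (.node (.leaf 0xc10da91) (.leaf 0xad51a35))) (.node (.node (.leaf 0xba55a45) (.leaf 0x1ab0)) (.node (.leaf 0xdcf1a49) (.leaf 0x886da4b)))) (.node (.node (.node (.leaf 0x85fda93) (.leaf 0xe031a41)) (.node (.leaf 0x8f81a93) (.leaf 0x8bc5a45))) (.node (.node (.leaf 0x12565a93) (.leaf 0xb10da35)) (.node (.leaf 0xc2b5a47) (.leaf 0x0))))) (.node (.node (.node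 (.node (.leaf 0x4299a35) (.leaf 0x8001a93)) (.node (.leaf 0x4be1a47) (.leaf 0xad0da49))) (.node (.node (.leaf 0xd521a93) (.leaf 0xe7d9a93)) (.node (.leaf 0xfac1a43) (.leaf 0xe6e1a35)))) (.node (.node (.node (.leaf 0xd155a49) (.leaf 0xa4c9a43)) (.node (.leaf 0x8db1a43) (.leaf 0xea45a35))) (.node (.node (.leaf 0xdbe5a4b) (.leaf 0x5da9a49)) (.node (.leaf 0xe701a4b) (.leaf 0x0)))))) (.node (.node (.node (.node (.node (.leaf 0x9f75a47) (.leaf 0x13075a93)) (.node (.leaf 0xb029a49) (.leaf 0x12b0da45))) (.node (.node (.leaf 0x4be1a49) (.leaf 0xe4fda91)) (.node (.leaf 0xf5e5a41) (.leaf 0x112d9a91)))) (.node (.node (.node (.leaf 0x7165a43) (.leaf 0x118f9a41)) (.node (.leaf 0xf5c5a43) (.leaf 0xdf95a45))) (.node (.node (.leaf 0x82e1a41) (.leaf 0xdd49a49)) (.node (.leaf 0xea65a35) (.leaf 0x0))))) (.node (.node (.node (.node (.leaf 0xf711a47) (.leaf 0xa431a93)) (.node (.leaf 0x9b35a43) (.leaf 0xb50da41)))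 (.node (.node (.leaf 0xc575a35) (.leaf 0xdf99a45)) (.node (.leaf 0x4299a41) (.leaf 0x0)))) (.node (.node (.node (.leaf 0xe0fda41) (.leaf 0x13119a93)) (.node (.leaf 0xaf95a91) (.leaf 0xc521a41))) (.node (.node (.leaf 0xf169a41) (.leaf 0xb30da91)) (.node (.leaf 0xda95a47) (.leaf 0x0))))))))) (.node (.node (.node (.node (.node (.node (.node (.node (.leaf 0x9d3da49) (.leaf 0xf199a91)) (.node (.leaf 0xe9f1a47) (.leaf 0x11219a93))) (.node (.node (.leaf 0xe2eda45) (.leaf 0x9c09a41)) (.node (.leaf 0xf48da49) (.leaf 0xa579a47)))) (.node (.node (.node (.leaf 0xdf85a45) (.leaf 0xb50da43)) (.node (.leaf 0xef65a4b) (.leaf 0x12231a45))) (.node (.node (.leaf 0xd521a91) (.leaf 0xc4ada4b)) (.node (.leaf 0xf5c5a41) (.leaf 0x0))))) (.node (.node (.node (.node (.leaf 0x90d9a41) (.leaf 0x8d1da4b)) (.node (.leaf 0xca6da93) (.leaf 0x42a1a91))) (.node (.node (.leaf 0xd805a4b) (.leaf 0xc2a9a47)) (.node (.leaf 0x9185a4b)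 (.leaf 0xb6a1a47)))) (.node (.node (.node (.leaf 0xfa89a41) (.leaf 0x917da47)) (.node (.leaf 0x9a99a49) (.leaf 0xecfda4b))) (.node (.node (.leaf 0x9c99a45) (.leaf 0x8bc5a41)) (.node (.leaf 0x12565a91) (.leaf 0x0)))))) (.node (.node (.node (.node (.node (.leaf 0x470da91) (.leaf 0x6c19a35)) (.node (.leaf 0x9685a45) (.leaf 0x81b1a91))) (.node (.node (.leaf 0xf2bda45) (.leaf 0xdb09a93)) (.node (.leaf 0xf901a91) (.leaf 0x9185a43)))) (.node (.node (.node (.leaf 0x126c5a45) (.leaf 0xf9bda49)) (.node (.leaf 0x8c29a93) (.leaf 0xe97da41))) (.node (.node (.leaf 0xcf21a45) (.leaf 0x12ad5a41)) (.node (.leaf 0x829da45) (.leaf 0x0))))) (.node (.node (.node (.node (.leaf 0x82b9a91) (.leaf 0xed69a35)) (.node (.leaf 0xd339a41) (.leaf 0xb30da4b))) (.node (.node (.leaf 0xac21a93) (.leaf 0xfac1a49)) (.node (.leaf 0x82e1a45) (.leaf 0xb1b5a47)))) (.node (.node (.node (.leaf 0x8db1a47) (.leaf 0xce2da91)) (.node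 (.leaf 0xa309a41) (.leaf 0xedb9a45))) (.node (.node (.leaf 0xf599a45) (.leaf 0xad4da35)) (.node (.leaf 0xebada91) (.leaf 0x0))))))) (.node (.node (.node (.node (.node (.node (.leaf 0xe0fda43) (.leaf 0x8ea5a91)) (.node (.leaf 0xe4fda47) (.leaf 0xae39a49))) (.node (.node (.leaf 0xd6e1a49) (.leaf 0xebdda49)) (.node (.leaf 0xdcc9a4b) (.leaf 0xd359a93)))) (.node (.node (.node (.leaf 0xa691a41) (.leaf 0xa9f9a43)) (.node (.leaf 0xa589a47) (.leaf 0xaf95a35))) (.node (.node (.leaf 0xc575a47) (.leaf 0xdefda91)) (.node (.leaf 0xc581a47) (.leaf 0x0))))) (.node (.node (.node (.node (.leaf 0x4d09a31) (.leaf 0xe4d5a45)) (.node (.leaf 0xd419a93) (.leaf 0xab51a47))) (.node (.node (.leaf 0xd175a4b) (.leaf 0x9389a91)) (.node (.leaf 0xfac1a45) (.leaf 0xc1cda91)))) (.node (.node (.node (.leaf 0xe981a4b) (.leaf 0x130d1a45)) (.node (.leaf 0x8bdda47) (.leaf 0xe675a49))) (.node (.node (.leaf 0xdbc5a49) (.leaf 0xb591a4b))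 (.node (.leaf 0xed09a35) (.leaf 0x0)))))) (.node (.node (.node (.node (.node (.leaf 0xa05da49) (.leaf 0x9221a41)) (.node (.leaf 0xa9e1a45) (.leaf 0xf3b5a4b))) (.node (.node (.leaf 0xa111a91) (.leaf 0xd8a1a45)) (.node (.leaf 0xf15da45) (.leaf 0xd9d5a47)))) (.node (.node (.node (.leaf 0xf169a43) (.leaf 0xbaa1a49)) (.node (.leaf 0xae39a93) (.leaf 0xa579a93))) (.node (.node (.leaf 0xd521a4b) (.leaf 0xec3da93)) (.node (.leaf 0xd91da93) (.leaf 0x0))))) (.node (.node (.node (.node (.leaf 0xe829a91) (.leaf 0x8161a43)) (.node (.leaf 0xdb11a4b) (.leaf 0xe149a47))) (.node (.node (.leaf 0xe2f9a45) (.leaf 0x83f1a43)) (.node (.leaf 0xa111a43) (.leaf 0x0)))) (.node (.node (.node (.leaf 0x5349a93) (.leaf 0xf245a35)) (.node (.leaf 0xb10da93) (.leaf 0xdbdda91))) (.node (.node (.leaf 0xe5d1a45) (.leaf 0xad0da91)) (.node (.leaf 0xedbda45) (.leaf 0x0)))))))) (.node (.node (.node (.node (.node (.node (.node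 (.leaf 0x92dda49) (.leaf 0xebdda4b)) (.node (.leaf 0xb591a41) (.leaf 0xd69da91))) (.node (.node (.leaf 0x4731a93) (.leaf 0x8c35a43)) (.node (.leaf 0x8809a43) (.leaf 0xcec9a91)))) (.node (.node (.node (.leaf 0xcd01a93) (.leaf 0xf199a47)) (.node (.leaf 0xf7a5a4b) (.leaf 0xaf55a35))) (.node (.node (.leaf 0xe58da41) (.leaf 0x1a82)) (.node (.leaf 0xf55da49) (.leaf 0x0))))) (.node (.node (.node (.node (.leaf 0x97d1a43) (.leaf 0xde31a91)) (.node (.leaf 0xd65da93) (.leaf 0xee91a91))) (.node (.node (.leaf 0xa579a43) (.leaf 0x916da93)) (.node (.leaf 0xdf85a43) (.leaf 0x90eda91)))) (.node (.node (.node (.leaf 0xd255a47) (.leaf 0xaf95a45)) (.node (.leaf 0x8db1a4b) (.leaf 0xe301a49))) (.node (.node (.leaf 0x82a5a49) (.leaf 0xf2e5a45)) (.node (.leaf 0x9221a43) (.leaf 0x0)))))) (.node (.node (.node (.node (.node (.leaf 0xa141a49) (.leaf 0xc959a45)) (.node (.leaf 0x68cda4b) (.leaf 0xad59a4b))) (.node (.node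 (.leaf 0xcd35a93) (.leaf 0x6019a43)) (.node (.leaf 0xd609a35) (.leaf 0xb2c1a47)))) (.node (.node (.node (.leaf 0xca99a45) (.leaf 0x9c09a49)) (.node (.leaf 0x46b5a31) (.leaf 0xfb41a49))) (.node (.node (.leaf 0xea15a43) (.leaf 0x92dda91)) (.node (.leaf 0xcd99a91) (.leaf 0x0))))) (.node (.node (.node (.node (.leaf 0x11f51a91) (.leaf 0xa4eda49)) (.node (.leaf 0xc2bda43) (.leaf 0x11a6da93))) (.node (.node (.leaf 0x57b5a31) (.leaf 0xf361a43)) (.node (.leaf 0xdb61a35) (.leaf 0x0)))) (.node (.node (.node (.leaf 0xcd79a49) (.leaf 0xaad1a41)) (.node (.leaf 0xd275a35) (.leaf 0xb395a41))) (.node (.node (.leaf 0x9e01a93) (.leaf 0xca0da4b)) (.node (.leaf 0xe15da43) (.leaf 0x0))))))) (.node (.node (.node (.node (.node (.node (.leaf 0xd6eda93) (.leaf 0xd2e1a91)) (.node (.leaf 0x42c1a43) (.leaf 0x75c9a49))) (.node (.node (.leaf 0xdc4da41) (.leaf 0xf7b1a35)) (.node (.leaf 0xcfbda93) (.leaf 0xd211a93))))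 (.node (.node (.node (.leaf 0x968da45) (.leaf 0x6c6da41)) (.node (.leaf 0xdc05a35) (.leaf 0xd599a45))) (.node (.node (.leaf 0xc0c5a45) (.leaf 0xc4a5a91)) (.node (.leaf 0x9c71a91) (.leaf 0x0))))) (.node (.node (.node (.node (.leaf 0x9d9da49) (.leaf 0x9bcda93)) (.node (.leaf 0xefada45) (.leaf 0xb351a43))) (.node (.node (.leaf 0xb239a91) (.leaf 0xa5f5a91)) (.node (.leaf 0x8d3da47) (.leaf 0xd7e1a4b)))) (.node (.node (.node (.leaf 0xf091a49) (.leaf 0x81b5a91)) (.node (.leaf 0xb3d9a45) (.leaf 0xdbc5a91))) (.node (.node (.leaf 0xeaa5a41) (.leaf 0x937da91)) (.node (.leaf 0xe4d1a41) (.leaf 0x0)))))) (.node (.node (.node (.node (.node (.leaf 0xe981a49) (.leaf 0x4d09a43)) (.node (.leaf 0xb939a49) (.leaf 0xdd15a49))) (.node (.node (.leaf 0xa879a91) (.leaf 0xc581a93)) (.node (.leaf 0x1136da91) (.leaf 0xcb31a93)))) (.node (.node (.node (.leaf 0xa5d5a93) (.leaf 0xcf9da49)) (.node (.leaf 0xe0e1a47) (.leaf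 0xeaada4b))) (.node (.node (.leaf 0xd40da49) (.leaf 0xdd49a4b)) (.node (.leaf 0xaf69a35) (.leaf 0x0))))) (.node (.node (.node (.node (.leaf 0xd98da49) (.leaf 0xf5ada49)) (.node (.leaf 0x8261a41) (.leaf 0xef59a35))) (.node (.node (.leaf 0x8c29a49) (.leaf 0xc869a49)) (.node (.leaf 0x42c5a41) (.leaf 0x0)))) (.node (.node (.node (.leaf 0x1a86) (.leaf 0xbaa5a4b)) (.node (.leaf 0xc275a93) (.leaf 0xf1bda45))) (.node (.node (.leaf 0x849da35) (.leaf 0x81b5a93)) (.node (.leaf 0xe85da4b) (.leaf 0x0))))))))))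

/-- packed table -/
noncomputable def cov13_rrr : BTree := (.node (.node (.node (.node (.node (.node (.node (.node (.node (.leaf 0xa99da4b) (.leaf 0x111c1a93)) (.node (.leaf 0x57b5a49) (.leaf 0xcec1a91))) (.node (.node (.leaf 0xd865a93) (.leaf 0xf4d5a4b)) (.node (.leaf 0xe495a45) (.leaf 0x9c99a93)))) (.node (.node (.node (.leaf 0xcf9da35) (.leaf 0xec75a49)) (.node (.leaf 0x9d9da45) (.leaf 0xce0da91))) (.node (.node (.leaf 0x5f0da41) (.leaf 0xd031a91)) (.node (.leaf 0xe851a43) (.leaf 0x0))))) (.node (.node (.node (.node (.leaf 0x878da43) (.leaf 0xe4d1a45)) (.node (.leaf 0xa111a41) (.leaf 0x9c71a4b))) (.node (.node (.leaf 0xb22da4b) (.leaf 0xece1a35)) (.node (.leaf 0xf895a47) (.leaf 0xec91a41)))) (.node (.node (.node (.leaf 0xe0ada4b) (.leaf 0xc0b9a45)) (.node (.leaf 0xd1bda91) (.leaf 0xf5e5a4b))) (.node (.node (.leaf 0xb0f9a45) (.leaf 0xe7f1a4b)) (.node (.leaf 0x11369a91) (.leaf 0x0))))))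 (.node (.node (.node (.node (.node (.leaf 0x6c6da91) (.leaf 0x9c5da45)) (.node (.leaf 0x9381a49) (.leaf 0xd7c5a47))) (.node (.node (.leaf 0xda79a47) (.leaf 0xef11a91)) (.node (.leaf 0xa5e9a43) (.leaf 0xf361a41)))) (.node (.node (.node (.leaf 0x9379a4b) (.leaf 0xb249a49)) (.node (.leaf 0x8c35a93) (.leaf 0xd525a49))) (.node (.node (.leaf 0x745da43) (.leaf 0xa5d5a47)) (.node (.leaf 0x4299a45) (.leaf 0x0))))) (.node (.node (.node (.node (.leaf 0x745da91) (.leaf 0x8e99a91)) (.node (.leaf 0xe495a43) (.leaf 0xece1a4b))) (.node (.node (.leaf 0xdc49a93) (.leaf 0xf909a4b)) (.node (.leaf 0x9c99a41) (.leaf 0x94a9a47)))) (.node (.node (.node (.leaf 0xb031a45) (.leaf 0xf15da35)) (.node (.leaf 0xe1b9a45) (.leaf 0xc605a91))) (.node (.node (.leaf 0xec91a4b) (.leaf 0x68cda35)) (.node (.leaf 0xdbd5a91) (.leaf 0x0))))))) (.node (.node (.node (.node (.node (.node (.leaf 0xd7cda45) (.leaf 0x829da47)) (.node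 (.leaf 0xc105a4b) (.leaf 0xd609a41))) (.node (.node (.leaf 0xc2d9a93) (.leaf 0x97d1a91)) (.node (.leaf 0xd375a91) (.leaf 0x80f1a91)))) (.node (.node (.node (.leaf 0x457da31) (.leaf 0xf315a49)) (.node (.leaf 0xe109a47) (.leaf 0xd8a1a4b))) (.node (.node (.leaf 0xb239a47) (.leaf 0x886da47)) (.node (.leaf 0xc521a47) (.leaf 0x0))))) (.node (.node (.node (.node (.leaf 0x6019a31) (.leaf 0x10c39a45)) (.node (.leaf 0xd3eda91) (.leaf 0xee25a4b))) (.node (.node (.leaf 0xcbeda91) (.leaf 0xef8da4b)) (.node (.leaf 0xd635a4b) (.leaf 0xe701a49)))) (.node (.node (.node (.leaf 0xb50da91) (.leaf 0xab25a93)) (.node (.leaf 0x9379a45) (.leaf 0xae95a93))) (.node (.node (.leaf 0x8ea5a49) (.leaf 0xdc39a43)) (.node (.leaf 0x8e7da91) (.leaf 0x0)))))) (.node (.node (.node (.node (.node (.leaf 0xe2f1a41) (.leaf 0xc0c9a41)) (.node (.leaf 0xee29a49) (.leaf 0xe999a35))) (.node (.node (.leaf 0x473da4b) (.leaf 0x4be1a43))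 (.node (.leaf 0xf169a45) (.leaf 0xe89da4b)))) (.node (.node (.node (.leaf 0x6c19a4b) (.leaf 0x8c69a43)) (.node (.leaf 0x85cda49) (.leaf 0xcf21a47))) (.node (.node (.leaf 0xa9e1a41) (.leaf 0xf89da45)) (.node (.leaf 0x473da43) (.leaf 0x0))))) (.node (.node (.node (.node (.leaf 0x8ba9a4b) (.leaf 0x82cda47)) (.node (.leaf 0xdafda4b) (.leaf 0xdaf5a91))) (.node (.node (.leaf 0xc3b1a49) (.leaf 0x8809a91)) (.node (.leaf 0xdceda35) (.leaf 0x0)))) (.node (.node (.node (.leaf 0x934da91) (.leaf 0xc205a45)) (.node (.leaf 0xd419a91) (.leaf 0x4295a91))) (.node (.node (.leaf 0xb289a93) (.leaf 0xdb45a93)) (.node (.leaf 0xb071a91) (.leaf 0x0)))))))) (.node (.node (.node (.node (.node (.node (.node (.leaf 0x92cda4b) (.leaf 0x4ef1a45)) (.node (.leaf 0xb5a5a41) (.leaf 0xdcf1a91))) (.node (.node (.leaf 0x4709a93) (.leaf 0xa5e9a91)) (.node (.leaf 0xd149a91) (.leaf 0xe595a35)))) (.node (.node (.node (.leaf 0xf245a43)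 (.leaf 0xaf95a49)) (.node (.leaf 0x11c91a41) (.leaf 0x1a96))) (.node (.node (.leaf 0xa879a41) (.leaf 0x8d95a91)) (.node (.leaf 0x5f0da45) (.leaf 0x0))))) (.node (.node (.node (.node (.leaf 0x470da31) (.leaf 0xbaa5a35)) (.node (.leaf 0xc275a91) (.leaf 0xc8bda4b))) (.node (.node (.leaf 0xca0da45) (.leaf 0x9d41a91)) (.node (.leaf 0xd7bda91) (.leaf 0x8c69a41)))) (.node (.node (.node (.leaf 0xa309a4b) (.leaf 0xd971a45)) (.node (.leaf 0x8565a43) (.leaf 0xcc8da93))) (.node (.node (.leaf 0x82b9a49) (.leaf 0x956da47)) (.node (.leaf 0xc991a93) (.leaf 0x0)))))) (.node (.node (.node (.node (.node (.leaf 0xc71da91) (.leaf 0xa691a93)) (.node (.leaf 0xcdf9a49) (.leaf 0xb031a91))) (.node (.node (.leaf 0xadd1a93) (.leaf 0xe139a43)) (.node (.leaf 0x8c35a4b) (.leaf 0xec71a43)))) (.node (.node (.node (.leaf 0xe7b1a41) (.leaf 0x11a6da91)) (.node (.leaf 0xd659a49) (.leaf 0xa3e9a47))) (.node (.node (.leaf 0xf7b9a45)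 (.leaf 0xa4c9a93)) (.node (.leaf 0xe0e1a4b) (.leaf 0x0))))) (.node (.node (.node (.node (.leaf 0xcb31a49) (.leaf 0x81dda4b)) (.node (.leaf 0xc2a9a43) (.leaf 0xc955a93))) (.node (.node (.leaf 0xc581a91) (.leaf 0xf8a1a47)) (.node (.leaf 0xeaf1a4b) (.leaf 0x0)))) (.node (.node (.node (.leaf 0x9bb9a4b) (.leaf 0x9bd9a47)) (.node (.leaf 0xf7a5a41) (.leaf 0xc211a93))) (.node (.node (.leaf 0x114c9a91) (.leaf 0xa585a91)) (.node (.leaf 0xf571a93) (.leaf 0x0))))))) (.node (.node (.node (.node (.node (.node (.leaf 0x9685a91) (.leaf 0xba75a35)) (.node (.leaf 0x42a1a47) (.leaf 0x95dda45))) (.node (.node (.leaf 0xce1da49) (.leaf 0xb8c1a41)) (.node (.leaf 0xe289a91) (.leaf 0xd7e1a41)))) (.node (.node (.node (.leaf 0xd365a49) (.leaf 0xe355a4b)) (.node (.leaf 0x110d1a41) (.leaf 0x8a41a93))) (.node (.node (.leaf 0xb5a5a43) (.leaf 0x8db1a91)) (.node (.leaf 0xa9e1a4b) (.leaf 0x0))))) (.node (.node (.node (.node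 (.leaf 0x9d9da4b) (.leaf 0xdd39a93)) (.node (.leaf 0x42c5a47) (.leaf 0xda79a45))) (.node (.node (.leaf 0xaad1a93) (.leaf 0xac61a49)) (.node (.leaf 0xcc05a49) (.leaf 0xe3e1a35)))) (.node (.node (.node (.leaf 0xf555a93) (.leaf 0xfac1a47)) (.node (.leaf 0xc4eda4b) (.leaf 0xc2bda91))) (.node (.node (.leaf 0xdbf5a49) (.leaf 0xd279a49)) (.node (.leaf 0xe8f9a41) (.leaf 0x0)))))) (.node (.node (.node (.node (.node (.leaf 0x68cda43) (.leaf 0x8b6da43)) (.node (.leaf 0xa5f5a4b) (.leaf 0xe9bda41))) (.node (.node (.leaf 0xd54da43) (.leaf 0x8591a93)) (.node (.leaf 0x12f31a41) (.leaf 0xf3e9a93)))) (.node (.node (.node (.leaf 0xf8a1a93) (.leaf 0xb8f9a4b)) (.node (.leaf 0x75c9a43) (.leaf 0xf7b9a91))) (.node (.node (.leaf 0xd41da4b) (.leaf 0xca81a93)) (.node (.leaf 0xc955a41) (.leaf 0x0))))) (.node (.node (.node (.node (.leaf 0xcc49a45) (.leaf 0xe9b5a93)) (.node (.leaf 0xe1f9a49) (.leaf 0xd1e9a91))) (.node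 (.node (.leaf 0x5da9a41) (.leaf 0xaf95a41)) (.node (.leaf 0x82cda41) (.leaf 0x0)))) (.node (.node (.node (.leaf 0xeeeda49) (.leaf 0xae11a49)) (.node (.leaf 0xc269a93) (.leaf 0x8bbda43))) (.node (.node (.leaf 0xc48da35) (.leaf 0x917da41)) (.node (.leaf 0xeaada43) (.leaf 0x0))))))))) (.node (.node (.node (.node (.node (.node (.node (.node (.leaf 0x42c1a41) (.leaf 0xe2eda49)) (.node (.leaf 0xa9f9a47) (.leaf 0xcd61a91))) (.node (.node (.leaf 0xc755a91) (.leaf 0xdc51a93)) (.node (.leaf 0x47eda41) (.leaf 0xc521a45)))) (.node (.node (.node (.leaf 0xe149a49) (.leaf 0xe409a93)) (.node (.leaf 0x8141a47) (.leaf 0xf0ada93))) (.node (.node (.leaf 0xc325a35) (.leaf 0x82b9a47)) (.node (.leaf 0xddc9a43) (.leaf 0x0))))) (.node (.node (.node (.node (.leaf 0xed7da4b) (.leaf 0x7165a35)) (.node (.leaf 0xe2eda41) (.leaf 0xf6d9a47))) (.node (.node (.leaf 0xb2c1a91) (.leaf 0x8e41a93)) (.node (.leaf 0xad61a47)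 (.leaf 0xe9dda49)))) (.node (.node (.node (.leaf 0x8141a4b) (.leaf 0xe6cda45)) (.node (.leaf 0xd371a93) (.leaf 0xb409a91))) (.node (.node (.leaf 0x42a1a4b) (.leaf 0x8bbda41)) (.node (.leaf 0xc98da93) (.leaf 0x0)))))) (.node (.node (.node (.node (.node (.leaf 0x8735a91) (.leaf 0x11eada41)) (.node (.leaf 0xea11a93) (.leaf 0xec71a41))) (.node (.node (.leaf 0xcb51a35) (.leaf 0xdb19a93)) (.node (.leaf 0xc339a49) (.leaf 0x8d95a49)))) (.node (.node (.node (.leaf 0x127ada41) (.leaf 0xed65a35)) (.node (.leaf 0xa579a45) (.leaf 0xee5da91))) (.node (.node (.leaf 0x5da9a43) (.leaf 0xa879a47)) (.node (.leaf 0x4295a45) (.leaf 0x0))))) (.node (.node (.node (.node (.leaf 0xee3da91) (.leaf 0xce25a93)) (.node (.leaf 0xd339a43) (.leaf 0xd1fda91))) (.node (.node (.leaf 0xe889a45) (.leaf 0x1196da41)) (.node (.leaf 0x8281a4b) (.leaf 0x8b6da41)))) (.node (.node (.node (.leaf 0x1a62) (.leaf 0xd081a49)) (.node (.leaf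 0xef65a47) (.leaf 0xd111a91))) (.node (.node (.leaf 0xc855a43) (.leaf 0xa931a35)) (.node (.leaf 0xf1c9a45) (.leaf 0x0))))))) (.node (.node (.node (.node (.node (.node (.leaf 0xc869a35) (.leaf 0xcec9a93)) (.node (.leaf 0xb50da49) (.leaf 0xd141a93))) (.node (.node (.leaf 0x8ff9a93) (.leaf 0xcd79a93)) (.node (.leaf 0xe7f1a45) (.leaf 0x91a5a45)))) (.node (.node (.node (.leaf 0xb6a1a43) (.leaf 0xf2c9a4b)) (.node (.leaf 0x9d9da91) (.leaf 0xa5d5a35))) (.node (.node (.leaf 0xe7dda91) (.leaf 0x9bcda91)) (.node (.leaf 0xc905a43) (.leaf 0x0))))) (.node (.node (.node (.node (.leaf 0x82b9a35) (.leaf 0xf9f5a35)) (.node (.leaf 0x4d09a47) (.leaf 0xa879a35))) (.node (.node (.leaf 0xc8bda41) (.leaf 0xd971a4b)) (.node (.leaf 0xd91da91) (.leaf 0xc4e5a43)))) (.node (.node (.node (.leaf 0x6c6da93) (.leaf 0xde19a91)) (.node (.leaf 0x9beda47) (.leaf 0xf711a43))) (.node (.node (.leaf 0x9bd9a49) (.leaf 0xdd11a91))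 (.node (.leaf 0xd175a91) (.leaf 0x0)))))) (.node (.node (.node (.node (.node (.leaf 0xea15a41) (.leaf 0x8d3da45)) (.node (.leaf 0x849da49) (.leaf 0xbaa1a91))) (.node (.node (.leaf 0xea45a45) (.leaf 0xad61a35)) (.node (.leaf 0xae11a47) (.leaf 0x8209a93)))) (.node (.node (.node (.leaf 0xd599a4b) (.leaf 0xf1a1a45)) (.node (.leaf 0xcab5a93) (.leaf 0x9c09a43))) (.node (.node (.leaf 0xf945a4b) (.leaf 0xab51a93)) (.node (.leaf 0xea39a91) (.leaf 0x0))))) (.node (.node (.node (.node (.leaf 0xd0f5a91) (.leaf 0x8161a4b)) (.node (.leaf 0xdb05a4b) (.leaf 0xf5e5a47))) (.node (.node (.leaf 0x745da31) (.leaf 0xf4c1a45)) (.node (.leaf 0xa9e1a49) (.leaf 0x0)))) (.node (.node (.node (.leaf 0x87b5a43) (.leaf 0xb249a4b)) (.node (.leaf 0x849da43) (.leaf 0xf5d5a93))) (.node (.node (.leaf 0xa5e9a45) (.leaf 0xc4ada49)) (.node (.leaf 0xe841a47) (.leaf 0x0)))))))) (.node (.node (.node (.node (.node (.node (.node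 (.leaf 0xf46da41) (.leaf 0xefb1a91)) (.node (.leaf 0xb8f9a93) (.leaf 0xf5c5a4b))) (.node (.node (.leaf 0xd6cda91) (.leaf 0xea15a49)) (.node (.leaf 0xcf05a91) (.leaf 0xf2b1a93)))) (.node (.node (.node (.leaf 0xe2d5a49) (.leaf 0x8161a45)) (.node (.leaf 0xa309a43) (.leaf 0xe6f9a35))) (.node (.node (.leaf 0x85f9a91) (.leaf 0xe581a91)) (.node (.leaf 0xdbc1a47) (.leaf 0x0))))) (.node (.node (.node (.node (.leaf 0x9b35a49) (.leaf 0xc2bda47)) (.node (.leaf 0xd401a93) (.leaf 0xb50da47))) (.node (.node (.leaf 0xa585a43) (.leaf 0x4ef1a41)) (.node (.leaf 0x138b5a91) (.leaf 0x11f51a93)))) (.node (.node (.node (.leaf 0xd52da4b) (.leaf 0xc165a43)) (.node (.leaf 0x8f11a4b) (.leaf 0xf1c9a4b))) (.node (.node (.leaf 0x4e85a35) (.leaf 0xe109a43)) (.node (.leaf 0xa9f9a4b) (.leaf 0x0)))))) (.node (.node (.node (.node (.node (.leaf 0xa141a45) (.leaf 0xc2a9a91)) (.node (.leaf 0x4ef1a35) (.leaf 0xad61a4b))) (.node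 (.node (.leaf 0xba55a49) (.leaf 0x956da93)) (.node (.leaf 0xf96da93) (.leaf 0x8601a93)))) (.node (.node (.node (.leaf 0x1c14) (.leaf 0x8591a43)) (.node (.leaf 0xee4da43) (.leaf 0xa691a49))) (.node (.node (.leaf 0xe11da49) (.leaf 0x9bf1a91)) (.node (.leaf 0xf0cda41) (.leaf 0x0))))) (.node (.node (.node (.node (.leaf 0x119c9a93) (.leaf 0x130d1a41)) (.node (.leaf 0x42c5a43) (.leaf 0xd151a93))) (.node (.node (.leaf 0xca09a91) (.leaf 0x6c6da45)) (.node (.leaf 0x803da47) (.leaf 0x0)))) (.node (.node (.node (.leaf 0xf539a49) (.leaf 0x1136da93)) (.node (.leaf 0xc775a93) (.leaf 0xce15a91))) (.node (.node (.leaf 0x8b6da49) (.leaf 0x8d1da45)) (.node (.leaf 0xb0eda93) (.leaf 0x0))))))) (.node (.node (.node (.node (.node (.node (.leaf 0xb6a1a91) (.leaf 0x9beda91)) (.node (.leaf 0xf499a4b) (.leaf 0xea95a49))) (.node (.node (.leaf 0xf4f5a93) (.leaf 0xc1d5a91)) (.node (.leaf 0xddd1a91) (.leaf 0x8b45a91))))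 (.node (.node (.node (.leaf 0xde6da91) (.leaf 0x8c1da91)) (.node (.leaf 0xca3da4b) (.leaf 0xce4da91))) (.node (.node (.leaf 0xf599a43) (.leaf 0xa589a91)) (.node (.leaf 0xfaa9a43) (.leaf 0x0))))) (.node (.node (.node (.node (.leaf 0x4709a45) (.leaf 0x8a41a91)) (.node (.leaf 0x86bda41) (.leaf 0xec59a93))) (.node (.node (.leaf 0xa591a45) (.leaf 0xf361a49)) (.node (.leaf 0xa99da47) (.leaf 0x886da41)))) (.node (.node (.node (.leaf 0xce25a49) (.leaf 0x82ada47)) (.node (.leaf 0xd52da41) (.leaf 0xce01a91))) (.node (.node (.leaf 0xecbda4b) (.leaf 0xe57da91)) (.node (.leaf 0xaad1a45) (.leaf 0x0)))))) (.node (.node (.node (.node (.node (.leaf 0xe861a49) (.leaf 0x10465a93)) (.node (.leaf 0x8729a47) (.leaf 0xd609a45))) (.node (.node (.leaf 0xe889a91) (.leaf 0xbaa1a4b)) (.node (.leaf 0x457da49) (.leaf 0x8c35a45)))) (.node (.node (.node (.leaf 0x5f0da4b) (.leaf 0x91a5a49)) (.node (.leaf 0xd141a91) (.leaf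 0xf7f1a4b))) (.node (.node (.leaf 0x9bd9a41) (.leaf 0xcd9da91)) (.node (.leaf 0xfae9a45) (.leaf 0x0))))) (.node (.node (.node (.node (.leaf 0xf895a93) (.leaf 0xaa7da49)) (.node (.leaf 0xcdd5a4b) (.leaf 0xf635a93))) (.node (.node (.leaf 0xeea1a45) (.leaf 0x81dda91)) (.node (.leaf 0xac61a45) (.leaf 0x0)))) (.node (.node (.node (.leaf 0xb939a43) (.leaf 0xe419a4b)) (.node (.leaf 0x8261a93) (.leaf 0xf039a93))) (.node (.node (.leaf 0xe2d5a4b) (.leaf 0xd171a91)) (.node (.leaf 0xa591a4b) (.leaf 0x0))))))))))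

/-- packed table -/
noncomputable def cov13 : BTree := (.node (.node (.node cov13_lll cov13_llr) (.node cov13_lrl cov13_lrr)) (.node (.node cov13_rll cov13_rlr) (.node cov13_rrl cov13_rrr)))

theorem cov13_ok : okCover 13 cov13 = true := by decide +kernel

/-- straight-line program -/
def slp13 : List (Nat × Nat × Nat) :=
  [(0x625e799648a0975502e3b40868b82d, 3, 5),
   (0x4950f04606ba8440ba961caa763573, 2, 6),
   (0x958773c0547222033c2b54da4ab0a9, 2, 7),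
   (0x252e3056367b42874d2c298f282962, 4, 6),
   (0x5ca3b60bbb0c37a655b5093120b1, 4, 7),
   (0xb9074048f02b66f105114b0d6aa96e, 7, 6),
   (0xb56e48a9393d842a2f6ac06a044c7, 6, 7),
   (0x2a62cb21c710e4d8502a04d667d497, 10, 7),
   (0x89589199af55a1395d6170047412b4, 9, 8),
   (0x5cc4d2aae08213589a8324ac1730ef, 9, 8),
   (0x9a80233a41a45163b2041dead5bd25, 10, 8),
   (0x399e8230457568abca6d5840988ed0, 14, 8),
   (0x79d06aa551692e1a401312dc565872, 13, 9),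
   (0xb4283355c413ce06166b505b794528, 13, 9),
   (0xa587035db253ca241c0e9ac24ac52c, 14, 8),
   (0x981ae808a13c869b55068b1eb552e4, 18, 8),
   (0x3a6d92a2b7c2c5190c7625020de95, 17, 9),
   (0xad42bb8f32d2a620d897a2206ca16, 20, 6),
   (0x5882aa35e08dc87ad9254198e9c243, 19, 7),
   (0x2c4c873247a05555b6e3b408f4cc40, 21, 24),
   (0x24a030d596409a65a8a989df4bba60, 22, 22),
   (0x90c900dd34309450362743d95b3a6b, 25, 26),
   (0x41a2571e0cb85565b684ac8697cc40, 24, 0),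
   (0x1c2440d8f5289b15a90f33137a3a60, 26, 22),
   (0xade96990a33b94f035914a0d09082b, 27, 27),
   (0x49d8f146c624d525b474856e5405c0, 27, 0),
   (0x1c244159156040952ce679637a4dcd, 28, 25),
   (0x7b0e911ab11cd505b49795a88285c0, 30, 0)]

/-- levels -/
def levels13 : List (Nat × List Nat) :=
  [(0, [34, 0, 2, 4, 5, 6, 7, 8, 9, 10, 11, 12, 13, 14, 15, 16, 17, 18, 19, 20, 21, 22, 23, 24]),
   (3, [34, 1, 25, 26, 28, 29, 31, 33])]

/-- stabilising facts -/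
def gens13 : List Nat := [1676, 1677, 1680, 1681, 1682, 1700]

theorem chain13_ok : okChain 13 gens13 slp13 levels13 = true := by decide +kernel

theorem chain13_size : chainSize levels13 = 192 := by decide +kernel

end CfsgLib.Spor.J4.Index
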