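import Cfsg.Agent.Lib.Spor.J4.Index.Check

/-!
Coverage and stabiliser of node 14 (generated).
-/

set_option autoImplicit false
set_option linter.all false

namespace CfsgLib.Spor.J4.Index

open CfsgLib.PresCert

/-- packed table -/
noncomputable def cov14_lll : BTree := (.node (.node (.node (.node (.node (.node (.node (.node (.node (.leaf 0xd159ac1) (.leaf 0x12b85b0f)) (.node (.leaf 0x11bf5b0d) (.leaf 0x9065b0f))) (.node (.node (.leaf 0xdd61b01) (.leaf 0x10a8db0d)) (.node (.leaf 0xd361b0f) (.leaf 0xb809ad1)))) (.node (.node (.node (.leaf 0x1b5c) (.leaf 0xd0c9b0d)) (.node (.leaf 0xf5e5ad1) (.leaf 0xdb3dac1))) (.node (.node (.leaf 0xd959b0d) (.leaf 0x101c1ad1)) (.node (.leaf 0xf7fdb0f) (.leaf 0x0))))) (.node (.node (.node (.node (.leaf 0xdc75b0d) (.leaf 0xc5cdb0d)) (.node (.leaf 0x91e1ad1) (.leaf 0xedddac1))) (.node (.node (.leaf 0xf2d1ad1) (.leaf 0xc359ad1))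 (.node (.leaf 0xf2edb01) (.leaf 0x12d49b0d)))) (.node (.node (.node (.leaf 0x85edac1) (.leaf 0x80d1ac1)) (.node (.leaf 0xa995ad1) (.leaf 0xeb89b01))) (.node (.node (.leaf 0x11855b0d) (.leaf 0xedf1ac1)) (.node (.leaf 0xddbdb0d) (.leaf 0x0)))))) (.node (.node (.node (.node (.node (.leaf 0x9065ad1) (.leaf 0xa595b01)) (.node (.leaf 0xda2db0d) (.leaf 0xe74db0f))) (.node (.node (.leaf 0x8915b01) (.leaf 0xf251b0f)) (.node (.leaf 0x1b76) (.leaf 0xedc9b01)))) (.node (.node (.node (.leaf 0x175f9b0d) (.leaf 0x6e39b0f)) (.node (.leaf 0xf4c5ad1) (.leaf 0xa889b01))) (.node (.node (.leaf 0xd45db0d) (.leaf 0xf891ac1)) (.node (.leaf 0xf891b0f) (.leaf 0x0))))) (.node (.node (.node (.node (.leaf 0x9e69b01) (.leaf 0x10275ac1)) (.node (.leaf 0x1000db0d) (.leaf 0x1642db0d))) (.node (.node (.leaf 0x4b1db01) (.leaf 0x12525b0d)) (.node (.leaf 0xecd9b0d) (.leaf 0x13b09b0d)))) (.node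 (.node (.node (.leaf 0xd731b0f) (.leaf 0x9e2dac1)) (.node (.leaf 0xa5cdb01) (.leaf 0xea79ac1))) (.node (.node (.leaf 0xda35b0f) (.leaf 0xeefdac1)) (.node (.leaf 0xd571b0d) (.leaf 0x0))))))) (.node (.node (.node (.node (.node (.node (.leaf 0x5c05ad1) (.leaf 0x8751ac1)) (.node (.leaf 0x10db1b0f) (.leaf 0xf5b9b0f))) (.node (.node (.leaf 0xd63db0d) (.leaf 0x8361ad1)) (.node (.leaf 0x5929ac1) (.leaf 0x104f9b0d)))) (.node (.node (.node (.leaf 0xa3b5b0d) (.leaf 0x13361b0d)) (.node (.leaf 0x8a99b0f) (.leaf 0x9419ac1))) (.node (.node (.leaf 0xcd3db0f) (.leaf 0x12a0db0d)) (.node (.leaf 0x12b59b0d) (.leaf 0x0))))) (.node (.node (.node (.node (.leaf 0xe2f5ac1) (.leaf 0xde8dac1)) (.node (.leaf 0x124a9b0d) (.leaf 0xc47db0d))) (.node (.node (.leaf 0xf579b0f) (.leaf 0x11721b0d)) (.node (.leaf 0x97d5b0f) (.leaf 0xd9bdac1)))) (.node (.node (.node (.leaf 0x12f9dad1) (.leaf 0x11039ad1))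 (.node (.leaf 0xfa91ac1) (.leaf 0x80cdad1))) (.node (.node (.leaf 0xc05dac1) (.leaf 0xef71b0f)) (.node (.leaf 0x1226dac1) (.leaf 0x0)))))) (.node (.node (.node (.node (.node (.leaf 0x16fe9b0d) (.leaf 0x486dad1)) (.node (.leaf 0xcbf9b0d) (.leaf 0x9435b01))) (.node (.node (.leaf 0xc511b0d) (.leaf 0xeeadb0d)) (.node (.leaf 0xb4c9ac1) (.leaf 0xd9adac1)))) (.node (.node (.node (.leaf 0x135cdb0f) (.leaf 0xdf4dac1)) (.node (.leaf 0xc88db01) (.leaf 0x5865ad1))) (.node (.node (.leaf 0x47f9ad1) (.leaf 0xed7dac1)) (.node (.leaf 0xf26dad1) (.leaf 0x0))))) (.node (.node (.node (.node (.leaf 0x1aea) (.leaf 0xc2edb0d)) (.node (.leaf 0xdd3dac1) (.leaf 0xf6a1b0d))) (.node (.node (.leaf 0xf659b0d) (.leaf 0xf5e1b01)) (.node (.leaf 0xf9edb01) (.leaf 0x0)))) (.node (.node (.node (.leaf 0xeccdb0f) (.leaf 0x10791b0d)) (.node (.leaf 0xc639b0d) (.leaf 0xcdf1b0f))) (.node (.node (.leaf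 0xce71b0d) (.leaf 0x12761b0f)) (.node (.leaf 0x1c6e) (.leaf 0x0)))))))) (.node (.node (.node (.node (.node (.node (.node (.leaf 0x10709ac1) (.leaf 0x10f0dac1)) (.node (.leaf 0x11ac1b0d) (.leaf 0xf31db0f))) (.node (.node (.leaf 0xc615b0d) (.leaf 0x9741b0f)) (.node (.leaf 0xf365b01) (.leaf 0x11de5b0f)))) (.node (.node (.node (.leaf 0xd995ad1) (.leaf 0xc7edb0d)) (.node (.leaf 0xb2c5b0f) (.leaf 0xcbadb0d))) (.node (.node (.leaf 0xcf75ac1) (.leaf 0xd3fdad1)) (.node (.leaf 0xc451b0f) (.leaf 0x0))))) (.node (.node (.node (.node (.leaf 0x9391b01) (.leaf 0x8751ad1)) (.node (.leaf 0xb631b0d) (.leaf 0xde1db0f))) (.node (.node (.leaf 0xccd1ac1) (.leaf 0xcd7db0d)) (.node (.leaf 0xc805ad1) (.leaf 0x12c35ac1)))) (.node (.node (.node (.leaf 0x11789b0f) (.leaf 0x4349ad1)) (.node (.leaf 0xaf8db0d) (.leaf 0x11509b0f))) (.node (.node (.leaf 0xa5e1ad1) (.leaf 0x6b61b01)) (.node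 (.leaf 0x91cdad1) (.leaf 0x0)))))) (.node (.node (.node (.node (.node (.leaf 0x15cf1b0d) (.leaf 0x108c5b0f)) (.node (.leaf 0x10c0db0d) (.leaf 0xb691ac1))) (.node (.node (.leaf 0x13559b0d) (.leaf 0x741db0f)) (.node (.leaf 0xc2a1b0d) (.leaf 0xf5ddb0d)))) (.node (.node (.node (.leaf 0xc369b0d) (.leaf 0xcf19ad1)) (.node (.leaf 0xc449b0d) (.leaf 0xe931b0d))) (.node (.node (.leaf 0x9c95b0f) (.leaf 0xb1b1ac1)) (.node (.leaf 0x5345ad1) (.leaf 0x0))))) (.node (.node (.node (.node (.leaf 0x8f4dac1) (.leaf 0xc60db0f)) (.node (.leaf 0xf50db0d) (.leaf 0x1182db0d))) (.node (.node (.leaf 0x111d1b0d) (.leaf 0xc3b5ad1)) (.node (.leaf 0x9845b0d) (.leaf 0xddedb0d)))) (.node (.node (.node (.leaf 0x10631b0f) (.leaf 0x1b7e)) (.node (.leaf 0x4469b0f) (.leaf 0xc301ad1))) (.node (.node (.leaf 0x803db01) (.leaf 0xad51ac1)) (.node (.leaf 0xe79db0d) (.leaf 0x0))))))) (.node (.node (.node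 (.node (.node (.node (.leaf 0xb4c9b0d) (.leaf 0xc2edac1)) (.node (.leaf 0xc465b0f) (.leaf 0x962db01))) (.node (.node (.leaf 0x12461ad1) (.leaf 0x92b9b0d)) (.node (.leaf 0xa20db01) (.leaf 0xeb65ac1)))) (.node (.node (.node (.leaf 0xe885b0d) (.leaf 0x9c71b0f)) (.node (.leaf 0x117bdb01) (.leaf 0x5925b01))) (.node (.node (.leaf 0x8ff5b0d) (.leaf 0x123e9b0d)) (.node (.leaf 0x9b6db0d) (.leaf 0x0))))) (.node (.node (.node (.node (.leaf 0xa719b0f) (.leaf 0x102d1b0d)) (.node (.leaf 0xb691b01) (.leaf 0xe0a1b0f))) (.node (.node (.leaf 0xdcc1b0d) (.leaf 0x57fdad1)) (.node (.leaf 0xd655b0d) (.leaf 0xeac9b01)))) (.node (.node (.node (.leaf 0xc121b01) (.leaf 0xdfd1ad1)) (.node (.leaf 0xd361b0d) (.leaf 0x11a29b0d))) (.node (.node (.leaf 0x10ed1ac1) (.leaf 0xc979b0f)) (.node (.leaf 0xa32db0f) (.leaf 0x0)))))) (.node (.node (.node (.node (.node (.leaf 0xc6a9ac1) (.leaf 0xc599ac1))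 (.node (.leaf 0xe4c1b0f) (.leaf 0x9915b0f))) (.node (.node (.leaf 0xd3edb0d) (.leaf 0xd8f1b0d)) (.node (.leaf 0x55e5b0d) (.leaf 0x9169ad1)))) (.node (.node (.node (.leaf 0x6065b01) (.leaf 0xa5bdb01)) (.node (.leaf 0x11d65b0d) (.leaf 0x5929b01))) (.node (.node (.leaf 0xb76db0d) (.leaf 0xd5c9b01)) (.node (.leaf 0xcd21ac1) (.leaf 0x0))))) (.node (.node (.node (.node (.leaf 0xcb75b0f) (.leaf 0x12d49b0f)) (.node (.leaf 0xb1c5b0f) (.leaf 0xd655b01))) (.node (.node (.leaf 0xa155ac1) (.leaf 0xb8f1b01)) (.node (.leaf 0x7389b01) (.leaf 0x0)))) (.node (.node (.node (.leaf 0xccb5b0d) (.leaf 0xdc6db0f)) (.node (.leaf 0x13441ac1) (.leaf 0xdb99ac1))) (.node (.node (.leaf 0x15ba1b0d) (.leaf 0x8dedad1)) (.node (.leaf 0x13271ad1) (.leaf 0x0))))))))) (.node (.node (.node (.node (.node (.node (.node (.node (.leaf 0xd30db0f) (.leaf 0x8529ad1)) (.node (.leaf 0xe395b0f) (.leaf 0xf7cdac1)))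 (.node (.node (.leaf 0xb9f5b0f) (.leaf 0xaa95ac1)) (.node (.leaf 0xf001b01) (.leaf 0xed69b01)))) (.node (.node (.node (.leaf 0xd79db0d) (.leaf 0xa431ad1)) (.node (.leaf 0xa68db0d) (.leaf 0x12ba9b0f))) (.node (.node (.leaf 0xdec1ac1) (.leaf 0xeccdb01)) (.node (.leaf 0x8d61b0f) (.leaf 0x0))))) (.node (.node (.node (.node (.leaf 0x852db01) (.leaf 0xe5b1ad1)) (.node (.leaf 0x17611b0d) (.leaf 0x6955b01))) (.node (.node (.leaf 0x12865b0d) (.leaf 0x13aa1ac1)) (.node (.leaf 0x9395ad1) (.leaf 0xd9b5ac1)))) (.node (.node (.node (.leaf 0xc739b0d) (.leaf 0xc2d5b0d)) (.node (.leaf 0xc72db0f) (.leaf 0xd3a9ac1))) (.node (.node (.leaf 0xe3b9ac1) (.leaf 0xc4b1ad1)) (.node (.leaf 0x8355b0f) (.leaf 0x0)))))) (.node (.node (.node (.node (.node (.leaf 0xb4bdad1) (.leaf 0xd8c5b0f)) (.node (.leaf 0xc49db0d) (.leaf 0x9e31b0f))) (.node (.node (.leaf 0x48e9ad1) (.leaf 0x11275b0d)) (.node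 (.leaf 0xb33db01) (.leaf 0x12a25ad1)))) (.node (.node (.node (.leaf 0x8815ad1) (.leaf 0xcbadac1)) (.node (.leaf 0x10881b0d) (.leaf 0xdcd9b01))) (.node (.node (.leaf 0x9dd9b01) (.leaf 0x12c85b0d)) (.node (.leaf 0x10d4db0d) (.leaf 0x0))))) (.node (.node (.node (.node (.leaf 0xc329ad1) (.leaf 0x85edb0f)) (.node (.leaf 0xd3b5ac1) (.leaf 0x106bdb0f))) (.node (.node (.leaf 0x999db0d) (.leaf 0xcea1b0d)) (.node (.leaf 0xd691ad1) (.leaf 0x4469b0d)))) (.node (.node (.node (.leaf 0x120d9b0d) (.leaf 0x12b99ad1)) (.node (.leaf 0xf5b9ac1) (.leaf 0x13355b0f))) (.node (.node (.leaf 0x13051b0f) (.leaf 0x173adb0d)) (.node (.leaf 0x11565b0d) (.leaf 0x0))))))) (.node (.node (.node (.node (.node (.node (.leaf 0x8f4db0f) (.leaf 0x8779ac1)) (.node (.leaf 0x9d99b01) (.leaf 0xb815ad1))) (.node (.node (.leaf 0xd8c1ac1) (.leaf 0xca69b0d)) (.node (.leaf 0xe165b0f) (.leaf 0x5ce5ac1))))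 (.node (.node (.node (.leaf 0x116d9b0d) (.leaf 0x105d1b0d)) (.node (.leaf 0xf479b0d) (.leaf 0x85a1ad1))) (.node (.node (.leaf 0xa4f1b0d) (.leaf 0x10935b0d)) (.node (.leaf 0x4461ad1) (.leaf 0x0))))) (.node (.node (.node (.node (.leaf 0xb4c1b0d) (.leaf 0xc821b0f)) (.node (.leaf 0xea19b0d) (.leaf 0x6065b0f))) (.node (.node (.leaf 0x85c1b0d) (.leaf 0xc75db0f)) (.node (.leaf 0xc2c9b0f) (.leaf 0xe405b0f)))) (.node (.node (.node (.leaf 0x8125b01) (.leaf 0xf471b0d)) (.node (.leaf 0xf7edb01) (.leaf 0xb285b01))) (.node (.node (.leaf 0x803dac1) (.leaf 0xf27dac1)) (.node (.leaf 0xcbf9ac1) (.leaf 0x0)))))) (.node (.node (.node (.node (.node (.leaf 0xdcd9b0d) (.leaf 0x10db1ad1)) (.node (.leaf 0xde8db0f) (.leaf 0xef71ad1))) (.node (.node (.leaf 0x8a61b0f) (.leaf 0x9bc1ac1)) (.node (.leaf 0x4eddb0d) (.leaf 0xe91dac1)))) (.node (.node (.node (.leaf 0x6dfdb0d) (.leaf 0x8579b0d))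 (.node (.leaf 0x1bae) (.leaf 0x9881b0f))) (.node (.node (.leaf 0x9d7dad1) (.leaf 0xdb9db01)) (.node (.leaf 0x12749b0d) (.leaf 0x0))))) (.node (.node (.node (.node (.leaf 0xa51db0f) (.leaf 0x11095b0d)) (.node (.leaf 0xb809ac1) (.leaf 0xd79db01))) (.node (.node (.leaf 0xcad5b0f) (.leaf 0xf419b0d)) (.node (.leaf 0x13821ac1) (.leaf 0x0)))) (.node (.node (.node (.leaf 0xf445b0d) (.leaf 0x1270db0d)) (.node (.leaf 0xf1c9b0f) (.leaf 0xa249b0d))) (.node (.node (.leaf 0x9d99ac1) (.leaf 0xdeb1b0f)) (.node (.leaf 0x15319b0d) (.leaf 0x0)))))))) (.node (.node (.node (.node (.node (.node (.node (.leaf 0x17249b0d) (.leaf 0x9395b0f)) (.node (.leaf 0xf009b0d) (.leaf 0x10f2db0d))) (.node (.node (.leaf 0x834dad1) (.leaf 0xeec5b0d)) (.node (.leaf 0xc2cdb0d) (.leaf 0x12db1b0f)))) (.node (.node (.node (.leaf 0x1b6e) (.leaf 0xe101ac1)) (.node (.leaf 0xc829ad1) (.leaf 0xd40dac1))) (.node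 (.node (.leaf 0xe6d9b0f) (.leaf 0xc3b5b0d)) (.node (.leaf 0x135cdb01) (.leaf 0x0))))) (.node (.node (.node (.node (.leaf 0x8125b0d) (.leaf 0xa989b0d)) (.node (.leaf 0x5865b01) (.leaf 0x9e19b0f))) (.node (.node (.leaf 0x5fe1b01) (.leaf 0xa2a9b0f)) (.node (.leaf 0xf4a9ac1) (.leaf 0x1198db0d)))) (.node (.node (.node (.leaf 0x10a9db01) (.leaf 0xf48db0d)) (.node (.leaf 0xa0f1b01) (.leaf 0xcba5b0f))) (.node (.node (.leaf 0x5345b0d) (.leaf 0xcab1b0d)) (.node (.leaf 0x4d0dad1) (.leaf 0x0)))))) (.node (.node (.node (.node (.node (.leaf 0x12029b0d) (.leaf 0x118b1b0d)) (.node (.leaf 0xef91b0f) (.leaf 0x118f5b0f))) (.node (.node (.leaf 0x10d65b01) (.leaf 0xda2db01)) (.node (.leaf 0xda89b0d) (.leaf 0xf5a1b0f)))) (.node (.node (.node (.leaf 0x8375b0d) (.leaf 0x11f31ac1)) (.node (.leaf 0x9e3db0d) (.leaf 0x99c1ac1))) (.node (.node (.leaf 0x5c05b0f) (.leaf 0xef31ac1)) (.node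 (.leaf 0x95ddb0f) (.leaf 0x0))))) (.node (.node (.node (.node (.leaf 0x4379b01) (.leaf 0x12db5b0d)) (.node (.leaf 0x8b01ad1) (.leaf 0xf5b9ad1))) (.node (.node (.leaf 0xc511ac1) (.leaf 0x1b18)) (.node (.leaf 0xa155ad1) (.leaf 0x0)))) (.node (.node (.node (.leaf 0x120e9b0d) (.leaf 0xe8b5ac1)) (.node (.leaf 0xd239b0f) (.leaf 0xe27db0d))) (.node (.node (.leaf 0xcdc1b0d) (.leaf 0xd13db0d)) (.node (.leaf 0xf0d5b0d) (.leaf 0x0))))))) (.node (.node (.node (.node (.node (.node (.leaf 0xd3edb0f) (.leaf 0x12441ac1)) (.node (.leaf 0x12179b01) (.leaf 0xf071b0f))) (.node (.node (.leaf 0xd8a5b0f) (.leaf 0xdfd1b0f)) (.node (.leaf 0xf62dac1) (.leaf 0x12749ac1)))) (.node (.node (.node (.leaf 0x11389b0d) (.leaf 0x64d1ac1)) (.node (.leaf 0x9d75b0f) (.leaf 0xdcd1b01))) (.node (.node (.leaf 0xda49b0f) (.leaf 0xcdf5b0d)) (.node (.leaf 0x1154db0d) (.leaf 0x0))))) (.node (.node (.node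 (.node (.leaf 0x9e5db01) (.leaf 0xc739ac1)) (.node (.leaf 0x9fbdb0d) (.leaf 0x14e01b0d))) (.node (.node (.leaf 0xf3e9b0f) (.leaf 0x13565ac1)) (.node (.leaf 0x111c9b0d) (.leaf 0xf7c9b0d)))) (.node (.node (.node (.leaf 0xacfdad1) (.leaf 0xe3b9b0d)) (.node (.leaf 0xab9dad1) (.leaf 0xa18db0f))) (.node (.node (.leaf 0xceb1ac1) (.leaf 0x12a3db0f)) (.node (.leaf 0xc5bdac1) (.leaf 0x0)))))) (.node (.node (.node (.node (.node (.leaf 0xdabdb0d) (.leaf 0x12d09b0f)) (.node (.leaf 0x633db01) (.leaf 0xac7dac1))) (.node (.node (.leaf 0x13a95b0f) (.leaf 0x99a9ad1)) (.node (.leaf 0xf7cdb01) (.leaf 0x159e5b0d)))) (.node (.node (.node (.leaf 0x8555ad1) (.leaf 0x606db0f)) (.node (.leaf 0xd441ad1) (.leaf 0x9671b0f))) (.node (.node (.leaf 0x6299ac1) (.leaf 0x11841b0d)) (.node (.leaf 0xca69ac1) (.leaf 0x0))))) (.node (.node (.node (.node (.leaf 0x1226db0d) (.leaf 0x10f31b0d)) (.node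 (.leaf 0x741dac1) (.leaf 0x6279ad1))) (.node (.node (.leaf 0x12de5b0d) (.leaf 0xeaf5ac1)) (.node (.leaf 0xcabdb0f) (.leaf 0x0)))) (.node (.node (.node (.leaf 0xd5c9b0d) (.leaf 0x12825b0f)) (.node (.leaf 0x9065b01) (.leaf 0xd215ac1))) (.node (.node (.leaf 0x11a09b0d) (.leaf 0xf449b0d)) (.node (.leaf 0x1b62) (.leaf 0x0))))))))))

/-- packed table -/
noncomputable def cov14_llr : BTree := (.node (.node (.node (.node (.node (.node (.node (.node (.node (.leaf 0x11321b0f) (.leaf 0xc4c5b01)) (.node (.leaf 0xa68dad1) (.leaf 0x62ddad1))) (.node (.node (.leaf 0xf599b0f) (.leaf 0xf545b0f)) (.node (.leaf 0x1b10) (.leaf 0xcfa1b0f)))) (.node (.node (.node (.leaf 0x17749b0d) (.leaf 0xd051b0f)) (.node (.leaf 0x9649b01) (.leaf 0xd55dac1))) (.node (.node (.leaf 0xea31b0d) (.leaf 0xdb19ac1)) (.node (.leaf 0x4401ad1) (.leaf 0x0))))) (.node (.node (.node (.node (.leaf 0x116a1b0d)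 (.leaf 0x8e9dad1)) (.node (.leaf 0xf2f9b0d) (.leaf 0x1bd4))) (.node (.node (.leaf 0xb1b1b0f) (.leaf 0x9951b0f)) (.node (.leaf 0x10a5dad1) (.leaf 0xd675ac1)))) (.node (.node (.node (.leaf 0x633db0d) (.leaf 0xc0e9ac1)) (.node (.leaf 0x53e9ad1) (.leaf 0x1340dad1))) (.node (.node (.leaf 0xf2d1b0f) (.leaf 0x127cdb01)) (.node (.leaf 0x9e31ad1) (.leaf 0x0)))))) (.node (.node (.node (.node (.node (.leaf 0x9c95b0d) (.leaf 0xd8cdb0f)) (.node (.leaf 0x85b1b0f) (.leaf 0x12735b0f))) (.node (.node (.leaf 0x1cca) (.leaf 0xedf1b0f)) (.node (.leaf 0x112edad1) (.leaf 0xea65b0f)))) (.node (.node (.node (.leaf 0x97d1b0d) (.leaf 0x6b61b0f)) (.node (.leaf 0xceb9b0d) (.leaf 0x11569ac1))) (.node (.node (.leaf 0x11cd5b0d) (.leaf 0x11899ac1)) (.node (.leaf 0x9259b0f) (.leaf 0x0))))) (.node (.node (.node (.node (.leaf 0x10421b0d) (.leaf 0xc285ac1)) (.node (.leaf 0xd641b01) (.leaf 0xec4db0f)))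 (.node (.node (.leaf 0x116b9b0f) (.leaf 0xcf85b0d)) (.node (.leaf 0x9e95ad1) (.leaf 0xe1c5b0d)))) (.node (.node (.node (.leaf 0xda75b0d) (.leaf 0xd9b1ad1)) (.node (.leaf 0x115d1ad1) (.leaf 0x9951b0d))) (.node (.node (.leaf 0x9e5db0f) (.leaf 0x9169b0f)) (.node (.leaf 0xd555b0d) (.leaf 0x0))))))) (.node (.node (.node (.node (.node (.node (.leaf 0x47a5ac1) (.leaf 0xe605b0f)) (.node (.leaf 0x1b90) (.leaf 0x13981b0d))) (.node (.node (.leaf 0xe08db0d) (.leaf 0xeaf5ad1)) (.node (.leaf 0x48d9b0d) (.leaf 0xba45b0f)))) (.node (.node (.node (.leaf 0xebc1b0d) (.leaf 0xdf35b01)) (.node (.leaf 0xc8cdad1) (.leaf 0x8385ad1))) (.node (.node (.leaf 0x103f5ac1) (.leaf 0xc805b0d)) (.node (.leaf 0xe821b0d) (.leaf 0x0))))) (.node (.node (.node (.node (.leaf 0x8129b0d) (.leaf 0xea65b0d)) (.node (.leaf 0xed4db01) (.leaf 0x11351b0d))) (.node (.node (.leaf 0x11719b0d) (.leaf 0xb665ad1))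 (.node (.leaf 0xc229b0d) (.leaf 0xaaa5b0d)))) (.node (.node (.node (.leaf 0xdad9b0d) (.leaf 0xf46db0d)) (.node (.leaf 0xae29b0d) (.leaf 0x5811b0f))) (.node (.node (.leaf 0xa2a9b01) (.leaf 0x11551ac1)) (.node (.leaf 0xe27dac1) (.leaf 0x0)))))) (.node (.node (.node (.node (.node (.leaf 0x10d95ac1) (.leaf 0x12c71b0d)) (.node (.leaf 0xef0db0d) (.leaf 0xc665b0f))) (.node (.node (.leaf 0xcd75b01) (.leaf 0x12a51b01)) (.node (.leaf 0xb555b01) (.leaf 0x8091b0d)))) (.node (.node (.node (.leaf 0x9ab1ad1) (.leaf 0xd139b0d)) (.node (.leaf 0x96f5b0f) (.leaf 0x141bdb0d))) (.node (.node (.leaf 0xc175ac1) (.leaf 0xd4e5b01)) (.node (.leaf 0xe769b0d) (.leaf 0x0))))) (.node (.node (.node (.node (.leaf 0xb4bdb0d) (.leaf 0x8295b01)) (.node (.leaf 0x486dac1) (.leaf 0x97e5b0f))) (.node (.node (.leaf 0xf669b0d) (.leaf 0x136cdb01)) (.node (.leaf 0xe9c9b0d) (.leaf 0x0)))) (.node (.node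 (.node (.leaf 0xef31ad1) (.leaf 0xe67db0d)) (.node (.leaf 0x10621b0d) (.leaf 0x9769b0f))) (.node (.node (.leaf 0xda51b0f) (.leaf 0xb2a1ac1)) (.node (.leaf 0xd30db0d) (.leaf 0x0)))))))) (.node (.node (.node (.node (.node (.node (.node (.leaf 0xce7dac1) (.leaf 0x9399b0f)) (.node (.leaf 0xa439b0f) (.leaf 0xde59b0f))) (.node (.node (.leaf 0x8611b0d) (.leaf 0x91e1b0f)) (.node (.leaf 0x12a25b0f) (.leaf 0xde21b0f)))) (.node (.node (.node (.leaf 0x99d1ad1) (.leaf 0x8975ad1)) (.node (.leaf 0xe559b0d) (.leaf 0xea65b01))) (.node (.node (.leaf 0xcf6dac1) (.leaf 0x12c61ac1)) (.node (.leaf 0x1300db0d) (.leaf 0x0))))) (.node (.node (.node (.node (.leaf 0xd1fdac1) (.leaf 0x8769ad1)) (.node (.leaf 0xf94db01) (.leaf 0x9e49b0f))) (.node (.node (.leaf 0xc659b01) (.leaf 0xeaadad1)) (.node (.leaf 0xb7e9ac1) (.leaf 0x55a1b0f)))) (.node (.node (.node (.leaf 0x8735b0d) (.leaf 0xf4a9b0d))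 (.node (.leaf 0xa9d5ad1) (.leaf 0xcb95b0f))) (.node (.node (.leaf 0x1ba0) (.leaf 0xc695ad1)) (.node (.leaf 0x90adad1) (.leaf 0x0)))))) (.node (.node (.node (.node (.node (.leaf 0x16929b0d) (.leaf 0x10b3db0d)) (.node (.leaf 0xcc7db0d) (.leaf 0xf839ac1))) (.node (.node (.leaf 0xf919b0d) (.leaf 0x116ddb0f)) (.node (.leaf 0x6939b01) (.leaf 0xf0ddac1)))) (.node (.node (.node (.leaf 0xc365b0d) (.leaf 0x8555ac1)) (.node (.leaf 0xd625b0d) (.leaf 0xe8d5ac1))) (.node (.node (.leaf 0x10ed1b0d) (.leaf 0x47f9b0d)) (.node (.leaf 0x114e9b0d) (.leaf 0x0))))) (.node (.node (.node (.node (.leaf 0x1ad4) (.leaf 0xf985b0d)) (.node (.leaf 0xe89db0d) (.leaf 0xe471b0f))) (.node (.node (.leaf 0x13031ad1) (.leaf 0x122fdb0d)) (.node (.leaf 0x1172dac1) (.leaf 0x0)))) (.node (.node (.node (.leaf 0x713db0f) (.leaf 0xa2a9ad1)) (.node (.leaf 0xe0edb0d) (.leaf 0xed1db0d))) (.node (.node (.leaf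 0x11dc5b0d) (.leaf 0xd129b0d)) (.node (.leaf 0xe7adb0d) (.leaf 0x0))))))) (.node (.node (.node (.node (.node (.node (.leaf 0x53e9b0f) (.leaf 0xc305ac1)) (.node (.leaf 0xe851b0f) (.leaf 0xf959ac1))) (.node (.node (.leaf 0xde8dad1) (.leaf 0x9fbdb0f)) (.node (.leaf 0xaf8db01) (.leaf 0x9645b0f)))) (.node (.node (.node (.leaf 0x10935ac1) (.leaf 0x1bb0)) (.node (.leaf 0xd7e1ad1) (.leaf 0xe6f9b0f))) (.node (.node (.leaf 0x9e19b01) (.leaf 0x10dc5b0d)) (.node (.leaf 0x835dad1) (.leaf 0x0))))) (.node (.node (.node (.node (.leaf 0xde51b01) (.leaf 0xc725ac1)) (.node (.leaf 0x128ddb0f) (.leaf 0xaac1b0f))) (.node (.node (.leaf 0x9419b0d) (.leaf 0xd6cdb0f)) (.node (.leaf 0x11d49b0d) (.leaf 0x12e19b0d)))) (.node (.node (.node (.leaf 0xd6fdb0f) (.leaf 0xf659ad1)) (.node (.leaf 0xef85ac1) (.leaf 0x4689b0f))) (.node (.node (.leaf 0xea91b0d) (.leaf 0xde45b0f)) (.node (.leaf 0xb20dad1)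 (.leaf 0x0)))))) (.node (.node (.node (.node (.node (.leaf 0xb64db0f) (.leaf 0xc2e5b0d)) (.node (.leaf 0xd1d9ad1) (.leaf 0x10db9ad1))) (.node (.node (.leaf 0x103bdb01) (.leaf 0x135d5b01)) (.node (.leaf 0x4995b0d) (.leaf 0xe599b0f)))) (.node (.node (.node (.leaf 0xe079b01) (.leaf 0x8e61ad1)) (.node (.leaf 0xd6e5b01) (.leaf 0x11751b0d))) (.node (.node (.leaf 0xb771b0d) (.leaf 0x1b84)) (.node (.leaf 0x1109db0d) (.leaf 0x0))))) (.node (.node (.node (.node (.leaf 0xf9c1b0f) (.leaf 0xed31b0f)) (.node (.leaf 0x12de9ac1) (.leaf 0xa5bdb0f))) (.node (.node (.leaf 0xe37db0f) (.leaf 0xf485ac1)) (.node (.leaf 0x107b5ad1) (.leaf 0x0)))) (.node (.node (.node (.leaf 0xde6db01) (.leaf 0xefd5ac1)) (.node (.leaf 0x62ddb0d) (.leaf 0x8735ad1))) (.node (.node (.leaf 0xc0d9b01) (.leaf 0xa511ad1)) (.node (.leaf 0x92b9b0f) (.leaf 0x0))))))))) (.node (.node (.node (.node (.node (.node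 (.node (.node (.leaf 0xdd3dad1) (.leaf 0xe275b0d)) (.node (.leaf 0xa5e1ac1) (.leaf 0xde65b0f))) (.node (.node (.leaf 0xc07db0d) (.leaf 0x10fadb0d)) (.node (.leaf 0xda31b0f) (.leaf 0xad15b0d)))) (.node (.node (.node (.leaf 0xb74dad1) (.leaf 0x633dac1)) (.node (.leaf 0xc81db0f) (.leaf 0x9765b01))) (.node (.node (.leaf 0xcf8dac1) (.leaf 0xf405ac1)) (.node (.leaf 0xb809b0d) (.leaf 0x0))))) (.node (.node (.node (.node (.leaf 0xe779b0f) (.leaf 0xc771ad1)) (.node (.leaf 0x120fdb0f) (.leaf 0x10519b0d))) (.node (.node (.leaf 0xccc1ac1) (.leaf 0xb5c1ad1)) (.node (.leaf 0x95f5ad1) (.leaf 0x9951ac1)))) (.node (.node (.node (.leaf 0xc651ad1) (.leaf 0xc851ac1)) (.node (.leaf 0xc449b0f) (.leaf 0x741dad1))) (.node (.node (.leaf 0xce29b01) (.leaf 0xdaa5b0f)) (.node (.leaf 0x4379b0f) (.leaf 0x0)))))) (.node (.node (.node (.node (.node (.leaf 0xdec1ad1) (.leaf 0xb1b1ad1)) (.node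 (.leaf 0xef5db0f) (.leaf 0x9e69b0f))) (.node (.node (.leaf 0x11e91b0f) (.leaf 0x924db0d)) (.node (.leaf 0x10309ac1) (.leaf 0x12179b0d)))) (.node (.node (.node (.leaf 0x4379b0d) (.leaf 0xcf11ad1)) (.node (.leaf 0x10f65b0d) (.leaf 0xe8d1ad1))) (.node (.node (.leaf 0xddbdb01) (.leaf 0xa995b0f)) (.node (.leaf 0x11a25b0f) (.leaf 0x0))))) (.node (.node (.node (.node (.leaf 0x95f5b0f) (.leaf 0x10605b0f)) (.node (.leaf 0xbb2db0d) (.leaf 0x11565ac1))) (.node (.node (.leaf 0x11699b0d) (.leaf 0x12eb5ac1)) (.node (.leaf 0xc239b0f) (.leaf 0x112a1ac1)))) (.node (.node (.node (.leaf 0xc0a1b01) (.leaf 0xf2f9b01)) (.node (.leaf 0x97d1ac1) (.leaf 0xc305ad1))) (.node (.node (.leaf 0xeaadb0d) (.leaf 0xaaa5b01)) (.node (.leaf 0xe89db0f) (.leaf 0x0))))))) (.node (.node (.node (.node (.node (.node (.leaf 0x11cbdb0d) (.leaf 0x102ddac1)) (.node (.leaf 0xda8db0d) (.leaf 0x12915b0d)))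 (.node (.node (.leaf 0xc1a5b01) (.leaf 0x5091b0d)) (.node (.leaf 0xf9e5b01) (.leaf 0x12b35b01)))) (.node (.node (.node (.leaf 0x861db01) (.leaf 0x10825b0d)) (.node (.leaf 0xf6edb01) (.leaf 0xd561ac1))) (.node (.node (.leaf 0xda35b0d) (.leaf 0xce29b0f)) (.node (.leaf 0xf9c9ac1) (.leaf 0x0))))) (.node (.node (.node (.node (.leaf 0xb1fdad1) (.leaf 0x12a3db0d)) (.node (.leaf 0x1042db0f) (.leaf 0xd331b0d))) (.node (.node (.leaf 0x8da5b0d) (.leaf 0xd0c9b0f)) (.node (.leaf 0x6e39b0d) (.leaf 0xec29b0f)))) (.node (.node (.node (.leaf 0x81b5ac1) (.leaf 0x10ac1b0d)) (.node (.leaf 0x99a5b0d) (.leaf 0xda31b0d))) (.node (.node (.leaf 0xa511b01) (.leaf 0xd6e5b0d)) (.node (.leaf 0x8c09ac1) (.leaf 0x0)))))) (.node (.node (.node (.node (.node (.leaf 0xbaedad1) (.leaf 0x12d89b0f)) (.node (.leaf 0x866dac1) (.leaf 0x57fdb0f))) (.node (.node (.leaf 0x102f5ad1) (.leaf 0x118d9b0d))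 (.node (.leaf 0x9d0db0d) (.leaf 0x119ddb01)))) (.node (.node (.node (.leaf 0x606db01) (.leaf 0xa0a5b0f)) (.node (.leaf 0xba51b01) (.leaf 0x114d1b01))) (.node (.node (.leaf 0xde51b0f) (.leaf 0xf4b5b0f)) (.node (.leaf 0x12e21b0f) (.leaf 0x0))))) (.node (.node (.node (.node (.leaf 0xb245b0f) (.leaf 0xdc3db0f)) (.node (.leaf 0x10d6db0f) (.leaf 0x9c9db01))) (.node (.node (.leaf 0x9bd5b0d) (.leaf 0x121a9b0d)) (.node (.leaf 0xcf15b0f) (.leaf 0x0)))) (.node (.node (.node (.leaf 0x9e4db0f) (.leaf 0x10a55b0d)) (.node (.leaf 0xf005ac1) (.leaf 0xef71ac1))) (.node (.node (.leaf 0x13021b0f) (.leaf 0xa51dad1)) (.node (.leaf 0xd1a9b01) (.leaf 0x0)))))))) (.node (.node (.node (.node (.node (.node (.node (.leaf 0x8e9dac1) (.leaf 0xccddad1)) (.node (.leaf 0x8b01ac1) (.leaf 0xb5c1b0f))) (.node (.node (.leaf 0x13b29b0d) (.leaf 0xc81db0d)) (.node (.leaf 0x93e1b01) (.leaf 0x104bdb0d))))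 (.node (.node (.node (.leaf 0xd661ac1) (.leaf 0x8c09ad1)) (.node (.leaf 0xef5db01) (.leaf 0x9d41b01))) (.node (.node (.leaf 0xec0db0f) (.leaf 0xc84db0d)) (.node (.leaf 0x6065ad1) (.leaf 0x0))))) (.node (.node (.node (.node (.leaf 0x13999b0f) (.leaf 0xe9a1b0d)) (.node (.leaf 0xdae5ac1) (.leaf 0xd625b0f))) (.node (.node (.leaf 0x11de9ac1) (.leaf 0x11715b0d)) (.node (.leaf 0xd359b0d) (.leaf 0xebe9b01)))) (.node (.node (.node (.leaf 0x123a5b0f) (.leaf 0xe021b0d)) (.node (.leaf 0x62ddb0f) (.leaf 0xc0d9ad1))) (.node (.node (.leaf 0xb74db0d) (.leaf 0x103edad1)) (.node (.leaf 0x7189b0f) (.leaf 0x0)))))) (.node (.node (.node (.node (.node (.leaf 0xe451b01) (.leaf 0xcb99b0d)) (.node (.leaf 0x12f1db0d) (.leaf 0x7175b0d))) (.node (.node (.leaf 0x8d81b01) (.leaf 0xef31b0d)) (.node (.leaf 0xf2a9ac1) (.leaf 0x8949b0d)))) (.node (.node (.node (.leaf 0xdd89b0d) (.leaf 0xdf3dac1))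 (.node (.leaf 0x8a99ad1) (.leaf 0xa8e5b01))) (.node (.node (.leaf 0x129ddb0f) (.leaf 0xa97db0f)) (.node (.leaf 0x55e5b0f) (.leaf 0x0))))) (.node (.node (.node (.node (.leaf 0xc359ac1) (.leaf 0xc495b0d)) (.node (.leaf 0x1115db0f) (.leaf 0x11bf5ad1))) (.node (.node (.leaf 0x12cb1ad1) (.leaf 0xd655b0f)) (.node (.leaf 0xbaedac1) (.leaf 0x0)))) (.node (.node (.node (.leaf 0x9e61b0f) (.leaf 0xcaa1b0d)) (.node (.leaf 0xc651b0d) (.leaf 0x6741b01))) (.node (.node (.leaf 0xc261b0d) (.leaf 0xb33db0f)) (.node (.leaf 0xa3b5b0f) (.leaf 0x0))))))) (.node (.node (.node (.node (.node (.node (.leaf 0x729dad1) (.leaf 0x5091ad1)) (.node (.leaf 0xa4e1b0d) (.leaf 0xf6f9ac1))) (.node (.node (.leaf 0x1c5e) (.leaf 0x11179b0d)) (.node (.leaf 0x9c95ac1) (.leaf 0x713dad1)))) (.node (.node (.node (.leaf 0xd201b0d) (.leaf 0x4351ad1)) (.node (.leaf 0xda0db0f) (.leaf 0xdeb1b0d))) (.node (.node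 (.leaf 0x123d1b01) (.leaf 0xb4c1b0f)) (.node (.leaf 0x10309ad1) (.leaf 0x0))))) (.node (.node (.node (.node (.leaf 0x11c85b0d) (.leaf 0x13741b0d)) (.node (.leaf 0xc2c5ac1) (.leaf 0xe435b0d))) (.node (.node (.leaf 0xe695b0d) (.leaf 0xd79dac1)) (.node (.leaf 0xe81dad1) (.leaf 0x11785ac1)))) (.node (.node (.node (.leaf 0xd709b0f) (.leaf 0x8531b01)) (.node (.leaf 0x11575ac1) (.leaf 0xf0edac1))) (.node (.node (.leaf 0x12609b0d) (.leaf 0x5ce5b01)) (.node (.leaf 0xf991ad1) (.leaf 0x0)))))) (.node (.node (.node (.node (.node (.leaf 0x11471b0d) (.leaf 0xe769b0f)) (.node (.leaf 0x8555b0d) (.leaf 0xf7b9ad1))) (.node (.node (.leaf 0xf131ad1) (.leaf 0xf2d1ac1)) (.node (.leaf 0x107a9b0d) (.leaf 0x10281b0d)))) (.node (.node (.node (.leaf 0xc5fdac1) (.leaf 0xf251ad1)) (.node (.leaf 0xc31db0d) (.leaf 0x11841ad1))) (.node (.node (.leaf 0xb4c9ad1) (.leaf 0x992db0f)) (.node (.leaf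 0xf8fdb0d) (.leaf 0x0))))) (.node (.node (.node (.node (.leaf 0x6be5b0f) (.leaf 0xcc05b0d)) (.node (.leaf 0xb2a1b0f) (.leaf 0xf9fdb0d))) (.node (.node (.leaf 0x10cc9b0d) (.leaf 0xb0fdb01)) (.node (.leaf 0xd2e1ac1) (.leaf 0x0)))) (.node (.node (.node (.leaf 0xe025b0d) (.leaf 0xd421ac1)) (.node (.leaf 0x160bdb0d) (.leaf 0x9c11b0f))) (.node (.node (.leaf 0xdffdb0f) (.leaf 0xf001ad1)) (.node (.leaf 0x102f9b0d) (.leaf 0x0))))))))))

/-- packed table -/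
noncomputable def cov14_lrl : BTree := (.node (.node (.node (.node (.node (.node (.node (.node (.node (.leaf 0x1191dad1) (.leaf 0xc805ac1)) (.node (.leaf 0xa4e1b0f) (.leaf 0x9519ac1))) (.node (.node (.leaf 0x9d71b01) (.leaf 0xe7f9b0d)) (.node (.leaf 0x11a09ac1) (.leaf 0x5c05b0d)))) (.node (.node (.node (.leaf 0x10315b0f) (.leaf 0xd7e1ac1)) (.node (.leaf 0x1360db0d) (.leaf 0x12f6db0f))) (.node (.node (.leaf 0x6be5b0d) (.leaf 0xcf19b0f)) (.node (.leaf 0x1151db0f) (.leaf 0x0))))) (.node (.node (.node (.node (.leaf 0xd779b0d) (.leaf 0xd3b5ad1)) (.node (.leaf 0xc465b0d) (.leaf 0x97e5ac1))) (.node (.node (.leaf 0xe315b01) (.leaf 0x924dad1)) (.node (.leaf 0xf62db01) (.leaf 0xd4fdb0f)))) (.node (.node (.node (.leaf 0xe325b0d) (.leaf 0xc0c5ac1)) (.node (.leaf 0x10d35b0f) (.leaf 0xdcc1ac1))) (.node (.node (.leaf 0xf969ad1) (.leaf 0xd95db0f)) (.node (.leaf 0x13369b0f)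 (.leaf 0x0)))))) (.node (.node (.node (.node (.node (.leaf 0x108a1b0d) (.leaf 0xd241b0d)) (.node (.leaf 0x8e3db01) (.leaf 0xf405ad1))) (.node (.node (.leaf 0x48e9b0f) (.leaf 0xcf11b0f)) (.node (.leaf 0x8bb5ad1) (.leaf 0xd4e1ad1)))) (.node (.node (.node (.leaf 0xe519b0f) (.leaf 0x4eddb01)) (.node (.leaf 0xe81dac1) (.leaf 0xe859b01))) (.node (.node (.leaf 0x81adb0f) (.leaf 0xd9b1ac1)) (.node (.leaf 0xa979ac1) (.leaf 0x0))))) (.node (.node (.node (.node (.leaf 0xde65b01) (.leaf 0xf53db0f)) (.node (.leaf 0xdf99b0f) (.leaf 0xa439b0d))) (.node (.node (.leaf 0x11079ac1) (.leaf 0xf779b01)) (.node (.leaf 0xeccdb0d) (.leaf 0xc971ad1)))) (.node (.node (.node (.leaf 0xc645b0f) (.leaf 0xc561b01)) (.node (.leaf 0xb74db01) (.leaf 0xab9db0d))) (.node (.node (.leaf 0x12a01b0f) (.leaf 0xfa31b0d)) (.node (.leaf 0xd55db0d) (.leaf 0x0))))))) (.node (.node (.node (.node (.node (.node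 (.leaf 0x8735b01) (.leaf 0x8765ac1)) (.node (.leaf 0x137e1b0d) (.leaf 0x15fedb0d))) (.node (.node (.leaf 0x11b05b0d) (.leaf 0x4461b0d)) (.node (.leaf 0x12169b0f) (.leaf 0xc445b0d)))) (.node (.node (.node (.leaf 0xc2e9b0d) (.leaf 0x13369b0d)) (.node (.leaf 0x10fadad1) (.leaf 0xe69db0f))) (.node (.node (.leaf 0x86d9ad1) (.leaf 0x633db0f)) (.node (.leaf 0x83adad1) (.leaf 0x0))))) (.node (.node (.node (.node (.leaf 0xe115b01) (.leaf 0xd5edac1)) (.node (.leaf 0x11539b0f) (.leaf 0xb285ad1))) (.node (.node (.leaf 0x149adb0d) (.leaf 0xd6fdb0d)) (.node (.leaf 0xadf9ac1) (.leaf 0xdb19b0d)))) (.node (.node (.node (.leaf 0x1afa) (.leaf 0xb475b0d)) (.node (.leaf 0xb1c5ad1) (.leaf 0x12805ac1))) (.node (.node (.leaf 0x12611b0f) (.leaf 0x83f1ad1)) (.node (.leaf 0x9bc1b0f) (.leaf 0x0)))))) (.node (.node (.node (.node (.node (.leaf 0xe459b01) (.leaf 0x10835ad1)) (.node (.leaf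 0x12f9db0f) (.leaf 0x1b52))) (.node (.node (.leaf 0xb539ad1) (.leaf 0x7189ac1)) (.node (.leaf 0xc6a9b0f) (.leaf 0x13095b0f)))) (.node (.node (.node (.leaf 0x1190db0f) (.leaf 0x11079b0d)) (.node (.leaf 0x7211b01) (.leaf 0x5865ac1))) (.node (.node (.leaf 0xd1d9b0d) (.leaf 0xed85ad1)) (.node (.leaf 0x90adb01) (.leaf 0x0))))) (.node (.node (.node (.node (.leaf 0xd8a5b0d) (.leaf 0xc2b1b0d)) (.node (.leaf 0xf645b0d) (.leaf 0x1b4e))) (.node (.node (.leaf 0xcbadb01) (.leaf 0x9c9db0f)) (.node (.leaf 0xec0db0d) (.leaf 0x0)))) (.node (.node (.node (.leaf 0xdae9b0d) (.leaf 0xcf69b0d)) (.node (.leaf 0xed85b0f) (.leaf 0xd40dad1))) (.node (.node (.leaf 0x8385b0d) (.leaf 0xc3e5b0d)) (.node (.leaf 0xa259b01) (.leaf 0x0)))))))) (.node (.node (.node (.node (.node (.node (.node (.leaf 0xd40db0d) (.leaf 0xcf15ac1)) (.node (.leaf 0xd2bdb0d) (.leaf 0xba45b0d))) (.node (.node (.leaf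 0xa18dad1) (.leaf 0x8d59b0f)) (.node (.leaf 0xd235ac1) (.leaf 0xf709b0d)))) (.node (.node (.node (.leaf 0x92e5ad1) (.leaf 0x160d5b0d)) (.node (.leaf 0x994db01) (.leaf 0x97d5b01))) (.node (.node (.leaf 0x10f65ac1) (.leaf 0x13829b0f)) (.node (.leaf 0xcdd5b0f) (.leaf 0x0))))) (.node (.node (.node (.node (.leaf 0xe779b0d) (.leaf 0x4745ad1)) (.node (.leaf 0xfaa9ad1) (.leaf 0x1311dac1))) (.node (.node (.leaf 0x10cc9ac1) (.leaf 0x120d1b0d)) (.node (.leaf 0x8b01b0f) (.leaf 0xd691b01)))) (.node (.node (.node (.leaf 0xd799b0f) (.leaf 0xc43db0d)) (.node (.leaf 0x4b1db0d) (.leaf 0xf77dad1))) (.node (.node (.leaf 0xc7e9b0d) (.leaf 0xda89b0f)) (.node (.leaf 0x55e5ad1) (.leaf 0x0)))))) (.node (.node (.node (.node (.node (.leaf 0x1247dac1) (.leaf 0x1589db0d)) (.node (.leaf 0xd445b0d) (.leaf 0xb809b01))) (.node (.node (.leaf 0x4401b01) (.leaf 0x11cd5ac1)) (.node (.leaf 0xee05b0d)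 (.leaf 0x135d5b0d)))) (.node (.node (.node (.leaf 0x10371b0d) (.leaf 0x10b05b0d)) (.node (.leaf 0x8eadb0d) (.leaf 0xa1b9b0d))) (.node (.node (.leaf 0x10099b0d) (.leaf 0xea19ac1)) (.node (.leaf 0xc3c9b0d) (.leaf 0x0))))) (.node (.node (.node (.node (.leaf 0x1adc) (.leaf 0xd201b01)) (.node (.leaf 0x6dd1b0f) (.leaf 0xd425b01))) (.node (.node (.leaf 0x1112db0d) (.leaf 0xe451b0d)) (.node (.leaf 0x128ddac1) (.leaf 0xd441b0f)))) (.node (.node (.node (.leaf 0x64d1b0d) (.leaf 0xf991b0d)) (.node (.leaf 0xeba5b0d) (.leaf 0x102f9ad1))) (.node (.node (.leaf 0x10f2dad1) (.leaf 0xc055b0d)) (.node (.leaf 0x12569ac1) (.leaf 0x0))))))) (.node (.node (.node (.node (.node (.node (.leaf 0x17629b0d) (.leaf 0xc2e1ac1)) (.node (.leaf 0x9391ad1) (.leaf 0xaa95b0d))) (.node (.node (.leaf 0x11eedad1) (.leaf 0x112b5b0d)) (.node (.leaf 0xf8d1b01) (.leaf 0x175f1b0d)))) (.node (.node (.node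 (.leaf 0xc945ac1) (.leaf 0x12015b0d)) (.node (.leaf 0x109ddb0f) (.leaf 0x55e5b01))) (.node (.node (.leaf 0xde15b01) (.leaf 0x123f1b0d)) (.node (.leaf 0x115d1b0d) (.leaf 0x0))))) (.node (.node (.node (.node (.leaf 0xae41ad1) (.leaf 0xc72dac1)) (.node (.leaf 0xee6db01) (.leaf 0x13961b01))) (.node (.node (.leaf 0x64d1b0f) (.leaf 0xa1b9ad1)) (.node (.leaf 0xecd9ac1) (.leaf 0xa8b1b01)))) (.node (.node (.node (.leaf 0x81adac1) (.leaf 0x82a5ac1)) (.node (.leaf 0x112adac1) (.leaf 0x15a19b0d))) (.node (.node (.leaf 0xceb9ac1) (.leaf 0xef41b0d)) (.node (.leaf 0xc071b0d) (.leaf 0x0)))))) (.node (.node (.node (.node (.node (.leaf 0xdf3dad1) (.leaf 0xc7b9b01)) (.node (.leaf 0xeb65b0d) (.leaf 0xa1b9b0f))) (.node (.node (.leaf 0xf3f5b0d) (.leaf 0x8b01b0d)) (.node (.leaf 0x91cdb0d) (.leaf 0xb1fdb0f)))) (.node (.node (.node (.leaf 0xded5ac1) (.leaf 0x8e35ad1)) (.node (.leaf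 0x9d75b0d) (.leaf 0xc6c9b0f))) (.node (.node (.leaf 0x8319b01) (.leaf 0xaf45b0d)) (.node (.leaf 0x8d81b0f) (.leaf 0x0))))) (.node (.node (.node (.node (.leaf 0xa6bdb0d) (.leaf 0x10cf9b01)) (.node (.leaf 0xc0c5b0d) (.leaf 0x11265b0f))) (.node (.node (.leaf 0x102ddb0d) (.leaf 0xf0c9ac1)) (.node (.leaf 0xd235ad1) (.leaf 0x0)))) (.node (.node (.node (.leaf 0x9e71b01) (.leaf 0x11f31b0f)) (.node (.leaf 0xfa35ac1) (.leaf 0x95f5ac1))) (.node (.node (.leaf 0x80d1b01) (.leaf 0xd4fdad1)) (.node (.leaf 0xf38dad1) (.leaf 0x0))))))))) (.node (.node (.node (.node (.node (.node (.node (.node (.leaf 0xd2f5b0f) (.leaf 0xc561ad1)) (.node (.leaf 0xa5cdac1) (.leaf 0xcfa1b0d))) (.node (.node (.leaf 0x9d75b01) (.leaf 0xd661ad1)) (.node (.leaf 0xedbdb01) (.leaf 0xc4b1b0f)))) (.node (.node (.node (.leaf 0xf769ad1) (.leaf 0xf2f5b0f)) (.node (.leaf 0xc101b0f) (.leaf 0x97d1b01))) (.node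 (.node (.leaf 0x76adb0d) (.leaf 0xb815b0f)) (.node (.leaf 0xce7db0d) (.leaf 0x0))))) (.node (.node (.node (.node (.leaf 0xa509b0d) (.leaf 0xa941ad1)) (.node (.leaf 0xd9c5b0d) (.leaf 0xb219b01))) (.node (.node (.leaf 0x11a1db0d) (.leaf 0x1185db0d)) (.node (.leaf 0xc6a1ad1) (.leaf 0x11c85ac1)))) (.node (.node (.node (.leaf 0x10d6dac1) (.leaf 0x10b7db0d)) (.node (.leaf 0x10e31ac1) (.leaf 0x105d1ad1))) (.node (.node (.leaf 0xb965ad1) (.leaf 0x6741ac1)) (.node (.leaf 0x4349b0f) (.leaf 0x0)))))) (.node (.node (.node (.node (.node (.leaf 0x5fe1ac1) (.leaf 0x109a9ac1)) (.node (.leaf 0x9a5db0d) (.leaf 0xea09b0f))) (.node (.node (.leaf 0xc4b1ac1) (.leaf 0x11079ad1)) (.node (.leaf 0x1b38) (.leaf 0xc455b0d)))) (.node (.node (.node (.leaf 0x437db0d) (.leaf 0x1097db0d)) (.node (.leaf 0x1170dad1) (.leaf 0x10471b0d))) (.node (.node (.leaf 0xddc9ac1) (.leaf 0xf919ac1)) (.node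 (.leaf 0x15931b0d) (.leaf 0x0))))) (.node (.node (.node (.node (.leaf 0x9611b0f) (.leaf 0xd38dad1)) (.node (.leaf 0xdcf5b0d) (.leaf 0xd7cdb01))) (.node (.node (.leaf 0x9391b0d) (.leaf 0xe6a5b0d)) (.node (.leaf 0xa97dad1) (.leaf 0xd871ac1)))) (.node (.node (.node (.leaf 0x14dbdb0d) (.leaf 0x8e61b0d)) (.node (.leaf 0xbb2db01) (.leaf 0x9395ac1))) (.node (.node (.leaf 0x8319ac1) (.leaf 0x1015db0d)) (.node (.leaf 0xd579b0d) (.leaf 0x0))))))) (.node (.node (.node (.node (.node (.node (.leaf 0xe5a1b0d) (.leaf 0x1046db0d)) (.node (.leaf 0xd4c5b0f) (.leaf 0xd4e1b0f))) (.node (.node (.leaf 0x12569b0f) (.leaf 0xf4f5b0f)) (.node (.leaf 0xb3edac1) (.leaf 0x11cadac1)))) (.node (.node (.node (.leaf 0xc485b01) (.leaf 0xe21db01)) (.node (.leaf 0xd921b0d) (.leaf 0x95ddb01))) (.node (.node (.leaf 0xe881b0d) (.leaf 0x95f5b0d)) (.node (.leaf 0x15305b0d) (.leaf 0x0))))) (.node (.node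 (.node (.node (.leaf 0xf625b0d) (.leaf 0x47f9b0f)) (.node (.leaf 0xd1a9b0d) (.leaf 0x93b9b0d))) (.node (.node (.leaf 0x12e55b0f) (.leaf 0xf2e9b0d)) (.node (.leaf 0xd459ac1) (.leaf 0x9245b0f)))) (.node (.node (.node (.leaf 0x8129b01) (.leaf 0x9e75b0d)) (.node (.leaf 0x82a5b0d) (.leaf 0xde6db0d))) (.node (.node (.leaf 0xdfddb0d) (.leaf 0xd405b01)) (.node (.leaf 0xb1fdb0d) (.leaf 0x0)))))) (.node (.node (.node (.node (.node (.leaf 0x13271b0f) (.leaf 0xd9c5ad1)) (.node (.leaf 0xa719ad1) (.leaf 0xf9e5ad1))) (.node (.node (.leaf 0xce29b0d) (.leaf 0xa595ad1)) (.node (.leaf 0x5925b0d) (.leaf 0x11855ac1)))) (.node (.node (.node (.leaf 0xf27db0d) (.leaf 0xe315b0f)) (.node (.leaf 0x756db01) (.leaf 0xf969b0d))) (.node (.node (.leaf 0x125fdb0f) (.leaf 0x136e9b01)) (.node (.leaf 0x12761b0d) (.leaf 0x0))))) (.node (.node (.node (.node (.leaf 0xcfedb0d) (.leaf 0xd05db0d)) (.node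 (.leaf 0x9c71b0d) (.leaf 0x10fa5ad1))) (.node (.node (.leaf 0x9745b0d) (.leaf 0xcd5db0f)) (.node (.leaf 0x133c1ac1) (.leaf 0x0)))) (.node (.node (.node (.leaf 0xc089ac1) (.leaf 0xdf3db0f)) (.node (.leaf 0x11a69b0f) (.leaf 0xddf5b0d))) (.node (.node (.leaf 0xf449ad1) (.leaf 0x1068dad1)) (.node (.leaf 0xd16dac1) (.leaf 0x0)))))))) (.node (.node (.node (.node (.node (.node (.node (.leaf 0x1311db0d) (.leaf 0x12d61b0d)) (.node (.leaf 0xf005b0d) (.leaf 0xf77db01))) (.node (.node (.leaf 0xde25b0f) (.leaf 0xa989ad1)) (.node (.leaf 0xed45b0d) (.leaf 0xdf71b0f)))) (.node (.node (.node (.leaf 0x1bb8) (.leaf 0x9671ad1)) (.node (.leaf 0xd981ad1) (.leaf 0x12569ad1))) (.node (.node (.leaf 0x83f1ac1) (.leaf 0x14685b0d)) (.node (.leaf 0x13abdb0f) (.leaf 0x0))))) (.node (.node (.node (.node (.leaf 0xc121b0d) (.leaf 0xe27db01)) (.node (.leaf 0xe935b0f) (.leaf 0x143e9b0d))) (.node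 (.node (.leaf 0x9fbdb01) (.leaf 0x11e91b0d)) (.node (.leaf 0xf5e5ac1) (.leaf 0xf4c5b0f)))) (.node (.node (.node (.leaf 0xc5bdb0d) (.leaf 0x13499b0d)) (.node (.leaf 0x122c9b0f) (.leaf 0x97e9ac1))) (.node (.node (.leaf 0xa5cdad1) (.leaf 0x10a9db0d)) (.node (.leaf 0x5811ad1) (.leaf 0x0)))))) (.node (.node (.node (.node (.node (.leaf 0x8db5ac1) (.leaf 0xeb65ad1)) (.node (.leaf 0x48d9b01) (.leaf 0x11b01ac1))) (.node (.node (.leaf 0xcd69b01) (.leaf 0xb539ac1)) (.node (.leaf 0xe379ac1) (.leaf 0xb2c5b01)))) (.node (.node (.node (.leaf 0xf26db0f) (.leaf 0xd6e5b0f)) (.node (.leaf 0xde51b0d) (.leaf 0xab9dac1))) (.node (.node (.leaf 0xa501b0f) (.leaf 0x8091ad1)) (.node (.leaf 0xc81db01) (.leaf 0x0))))) (.node (.node (.node (.node (.leaf 0x8355ac1) (.leaf 0xcb21b0d)) (.node (.leaf 0xf545b0d) (.leaf 0xf2b9ad1))) (.node (.node (.leaf 0xe211b0f) (.leaf 0x120c1b0d)) (.node (.leaf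 0xd481b0f) (.leaf 0x0)))) (.node (.node (.node (.leaf 0x4745b01) (.leaf 0x99d1ac1)) (.node (.leaf 0x4469ad1) (.leaf 0x98fdac1))) (.node (.node (.leaf 0x85a1b0d) (.leaf 0xd1a9b0f)) (.node (.leaf 0x116d9b0f) (.leaf 0x0))))))) (.node (.node (.node (.node (.node (.node (.leaf 0x93f5b0f) (.leaf 0xe459ac1)) (.node (.leaf 0xa18dac1) (.leaf 0xe9e5b0f))) (.node (.node (.leaf 0x1bbc) (.leaf 0xd2e1b0d)) (.node (.leaf 0xd729ac1) (.leaf 0x486db0d)))) (.node (.node (.node (.leaf 0x131adb0f) (.leaf 0xe4d9ac1)) (.node (.leaf 0xed31b01) (.leaf 0xe881b01))) (.node (.node (.leaf 0x118e9ad1) (.leaf 0xcdd1b0d)) (.node (.leaf 0xf6d5b01) (.leaf 0x0))))) (.node (.node (.node (.node (.leaf 0x9e61b01) (.leaf 0xd7cdb0f)) (.node (.leaf 0xc659b0d) (.leaf 0x9649ad1))) (.node (.node (.leaf 0xf3d1b0f) (.leaf 0x13a81b0d)) (.node (.leaf 0x9aadb0d) (.leaf 0x15df9b0d)))) (.node (.node (.node (.leaf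 0xe38dac1) (.leaf 0xc55db01)) (.node (.leaf 0x10f0db0f) (.leaf 0xc0e9b0f))) (.node (.node (.leaf 0xa4f1b0f) (.leaf 0x121a9b0f)) (.node (.leaf 0x85b1ac1) (.leaf 0x0)))))) (.node (.node (.node (.node (.node (.leaf 0xd2c1b0d) (.leaf 0x11a05b0f)) (.node (.leaf 0x11a01b0d) (.leaf 0xe1c5b0f))) (.node (.node (.leaf 0x9525b0f) (.leaf 0x10d95ad1)) (.node (.leaf 0x11f79b0d) (.leaf 0xe8b5b01)))) (.node (.node (.node (.leaf 0xc5f9ac1) (.leaf 0xabddb0f)) (.node (.leaf 0x8965b0d) (.leaf 0x143e1b0d))) (.node (.node (.leaf 0xd6cdb0d) (.leaf 0xd3b5b0d)) (.node (.leaf 0xc1d1b01) (.leaf 0x0))))) (.node (.node (.node (.node (.leaf 0x113a5b0d) (.leaf 0xfa91b0d)) (.node (.leaf 0x1b1c) (.leaf 0x9419ad1))) (.node (.node (.leaf 0xebf5b0d) (.leaf 0x80d1b0f)) (.node (.leaf 0xd011b0d) (.leaf 0x0)))) (.node (.node (.node (.leaf 0x9e75b01) (.leaf 0xd4c5b0d)) (.node (.leaf 0x6e3db01) (.leaf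 0x5091b0f))) (.node (.node (.leaf 0x10aadb0f) (.leaf 0x12b99ac1)) (.node (.leaf 0x12b71ad1) (.leaf 0x0))))))))))

/-- packed table -/
noncomputable def cov14_lrr : BTree := (.node (.node (.node (.node (.node (.node (.node (.node (.node (.leaf 0x107bdb0f) (.leaf 0xeca9b0d)) (.node (.leaf 0xe5c1ac1) (.leaf 0x122e9ad1))) (.node (.node (.leaf 0xda0db01) (.leaf 0xed7db0f)) (.node (.leaf 0x1198dad1) (.leaf 0x129ddb01)))) (.node (.node (.node (.leaf 0x13565b0d) (.leaf 0xc861b01)) (.node (.leaf 0x4e51b0d) (.leaf 0xa8b1b0d))) (.node (.node (.leaf 0xd029b0f) (.leaf 0xf5ddb01)) (.node (.leaf 0xb4bdac1) (.leaf 0x0))))) (.node (.node (.node (.node (.leaf 0x11cadb0d) (.leaf 0x10fd9ac1)) (.node (.leaf 0xd8c1ad1) (.leaf 0x6955ac1))) (.node (.node (.leaf 0xcca1ac1) (.leaf 0x9881b0d)) (.node (.leaf 0x10935ad1) (.leaf 0x11229ac1)))) (.node (.node (.node (.leaf 0xc639ad1) (.leaf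 0xdffdb0d)) (.node (.leaf 0x11bf5ac1) (.leaf 0xd445ac1))) (.node (.node (.leaf 0xa3b5ac1) (.leaf 0xd35dac1)) (.node (.leaf 0x4381b0f) (.leaf 0x0)))))) (.node (.node (.node (.node (.node (.leaf 0x10281b0f) (.leaf 0xd8d1b0f)) (.node (.leaf 0x1bd0) (.leaf 0xb8e9b01))) (.node (.node (.leaf 0x48f9b01) (.leaf 0xc7b1b0f)) (.node (.leaf 0x13441b0d) (.leaf 0x8815b0d)))) (.node (.node (.node (.leaf 0xf2b9b0d) (.leaf 0xae41b0f)) (.node (.leaf 0x5901b0d) (.leaf 0xeb3dac1))) (.node (.node (.leaf 0x10cbdb0d) (.leaf 0xc521b0f)) (.node (.leaf 0xceb1b0d) (.leaf 0x0))))) (.node (.node (.node (.node (.leaf 0x4401b0d) (.leaf 0xc261ac1)) (.node (.leaf 0x11841ac1) (.leaf 0xc1d1b0f))) (.node (.node (.leaf 0x11c35b0d) (.leaf 0xe555b0d)) (.node (.leaf 0xb9f5b01) (.leaf 0xc595b0d)))) (.node (.node (.node (.leaf 0xf549b0d) (.leaf 0x6dd1b01)) (.node (.leaf 0xe89db01) (.leaf 0xf4b9b0f)))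 (.node (.node (.leaf 0x8ff5b0f) (.leaf 0xc1a5b0f)) (.node (.leaf 0xd549b0d) (.leaf 0x0))))))) (.node (.node (.node (.node (.node (.node (.leaf 0xc72db01) (.leaf 0xc755ac1)) (.node (.leaf 0x12521b0f) (.leaf 0x13095b01))) (.node (.node (.leaf 0x124a9ac1) (.leaf 0x13615b0f)) (.node (.leaf 0xf839b01) (.leaf 0xacfdac1)))) (.node (.node (.node (.leaf 0xe23dac1) (.leaf 0x121a5b0d)) (.node (.leaf 0x11b05ad1) (.leaf 0xce71ad1))) (.node (.node (.leaf 0x12169b01) (.leaf 0xd35db0d)) (.node (.leaf 0x10c0db0f) (.leaf 0x0))))) (.node (.node (.node (.node (.leaf 0xccc1b0d) (.leaf 0x1b72)) (.node (.leaf 0xd9b1b0d) (.leaf 0x114bdb0f))) (.node (.node (.leaf 0x4689b01) (.leaf 0x15711b0d)) (.node (.leaf 0xda3db0f) (.leaf 0x14a59b0d)))) (.node (.node (.node (.leaf 0x10cfdb0d) (.leaf 0x901dad1)) (.node (.leaf 0xdf3db01) (.leaf 0xb4bdb0f))) (.node (.node (.leaf 0xed31ad1) (.leaf 0xd2c1ac1))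 (.node (.leaf 0xc7edb01) (.leaf 0x0)))))) (.node (.node (.node (.node (.node (.leaf 0xa8bdad1) (.leaf 0xd0c9b01)) (.node (.leaf 0x1068dac1) (.leaf 0x12e55b01))) (.node (.node (.leaf 0x175c5b0d) (.leaf 0xfb1dac1)) (.node (.leaf 0xfa4db0f) (.leaf 0xf2b9b0f)))) (.node (.node (.node (.leaf 0x9d99b0d) (.leaf 0x97d1ad1)) (.node (.leaf 0x9a39b0f) (.leaf 0x944dac1))) (.node (.node (.leaf 0xc2d9b0d) (.leaf 0xf6e1b01)) (.node (.leaf 0x6741b0d) (.leaf 0x0))))) (.node (.node (.node (.node (.leaf 0xf699b0f) (.leaf 0xc851b0d)) (.node (.leaf 0x6955ad1) (.leaf 0xd515b0d))) (.node (.node (.leaf 0xa509ac1) (.leaf 0xf7d1b01)) (.node (.leaf 0x9649b0d) (.leaf 0x0)))) (.node (.node (.node (.leaf 0x10099ac1) (.leaf 0xc739b0f)) (.node (.leaf 0x9aadac1) (.leaf 0xd2f5b01))) (.node (.node (.leaf 0x9d7dac1) (.leaf 0x9439ac1)) (.node (.leaf 0x91cdb01) (.leaf 0x0)))))))) (.node (.node (.node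 (.node (.node (.node (.node (.leaf 0xf561b0d) (.leaf 0xf959b0d)) (.node (.leaf 0xcb21ac1) (.leaf 0x10f35b0d))) (.node (.node (.leaf 0xc60db0d) (.leaf 0x9439b0f)) (.node (.leaf 0x12855b0d) (.leaf 0xecf1b0f)))) (.node (.node (.node (.leaf 0xdcd9b0f) (.leaf 0xa0a5b0d)) (.node (.leaf 0xb3e1b01) (.leaf 0x11501b01))) (.node (.node (.leaf 0xca05b0f) (.leaf 0xdbf9b0f)) (.node (.leaf 0xb011b0d) (.leaf 0x0))))) (.node (.node (.node (.node (.leaf 0xc111b0d) (.leaf 0x713db0d)) (.node (.leaf 0x6939b0f) (.leaf 0xad15b01))) (.node (.node (.leaf 0x109a9b0d) (.leaf 0xf7b5b0d)) (.node (.leaf 0x713db01) (.leaf 0x11225ac1)))) (.node (.node (.node (.leaf 0xaf8dad1) (.leaf 0xf49db0d)) (.node (.leaf 0x12409ad1) (.leaf 0xae41ac1))) (.node (.node (.leaf 0xe5c1ad1) (.leaf 0xf1a5b01)) (.node (.leaf 0x93f5ad1) (.leaf 0x0)))))) (.node (.node (.node (.node (.node (.leaf 0xe689b0d) (.leaf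 0xef59ad1)) (.node (.leaf 0x83f1b01) (.leaf 0xe251b0d))) (.node (.node (.leaf 0xf599b0d) (.leaf 0xc241b0f)) (.node (.leaf 0xb4c1ad1) (.leaf 0xb539b0d)))) (.node (.node (.node (.leaf 0x4381b0d) (.leaf 0x8531ac1)) (.node (.leaf 0x9e69b0d) (.leaf 0xd379ac1))) (.node (.node (.leaf 0x4995b01) (.leaf 0xcd5db0d)) (.node (.leaf 0xc425ac1) (.leaf 0x0))))) (.node (.node (.node (.node (.leaf 0x8375b01) (.leaf 0x120c5b0d)) (.node (.leaf 0xa68db01) (.leaf 0xefa5b0d))) (.node (.node (.leaf 0xa511b0f) (.leaf 0xd921ac1)) (.node (.leaf 0x8da5b0f) (.leaf 0x0)))) (.node (.node (.node (.leaf 0xb695b0f) (.leaf 0xdd89b0f)) (.node (.leaf 0xe44db0d) (.leaf 0xc3fdad1))) (.node (.node (.leaf 0xcc9db0d) (.leaf 0x80f1b0f)) (.node (.leaf 0x11771ac1) (.leaf 0x0))))))) (.node (.node (.node (.node (.node (.node (.leaf 0x93e1b0f) (.leaf 0xc2d9ac1)) (.node (.leaf 0xa181b01) (.leaf 0x1306db0f)))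 (.node (.node (.leaf 0x1b2e) (.leaf 0x112d9b0d)) (.node (.leaf 0xf4b5ac1) (.leaf 0xc4adb0d)))) (.node (.node (.node (.leaf 0xe601b0f) (.leaf 0xa4f1b01)) (.node (.leaf 0xe211b01) (.leaf 0xe6fdb0f))) (.node (.node (.leaf 0xdae5b0d) (.leaf 0x8de1b0d)) (.node (.leaf 0x8579ad1) (.leaf 0x0))))) (.node (.node (.node (.node (.leaf 0x9e4db01) (.leaf 0x1565db0d)) (.node (.leaf 0xf3f5ac1) (.leaf 0xc0f9b0f))) (.node (.node (.leaf 0xcad1ac1) (.leaf 0x10fa5b0d)) (.node (.leaf 0x9645b01) (.leaf 0x101c5b0d)))) (.node (.node (.node (.leaf 0x571db0f) (.leaf 0x8295ac1)) (.node (.leaf 0xe459ad1) (.leaf 0x9e2db0f))) (.node (.node (.leaf 0x10ea9ac1) (.leaf 0x11f05b0d)) (.node (.leaf 0x85c1ac1) (.leaf 0x0)))))) (.node (.node (.node (.node (.node (.leaf 0x11ccdb0d) (.leaf 0xc4adb0f)) (.node (.leaf 0xa32db01) (.leaf 0xe379b0f))) (.node (.node (.leaf 0xee6db0f) (.leaf 0x11ccdac1)) (.node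 (.leaf 0xc291ac1) (.leaf 0x11a05b0d)))) (.node (.node (.node (.leaf 0x11c35ac1) (.leaf 0x901dac1)) (.node (.leaf 0xefddb0f) (.leaf 0x12b49ac1))) (.node (.node (.leaf 0x10315b01) (.leaf 0xd6bdb0d)) (.node (.leaf 0x729db0f) (.leaf 0x0))))) (.node (.node (.node (.node (.leaf 0xfaf5b0d) (.leaf 0xed45b0f)) (.node (.leaf 0xc0c1b0d) (.leaf 0xa5e1b0f))) (.node (.node (.leaf 0x12441b0d) (.leaf 0x10d65b0f)) (.node (.leaf 0xc77db0f) (.leaf 0x0)))) (.node (.node (.node (.leaf 0x9cddb01) (.leaf 0xb695b01)) (.node (.leaf 0xd4f5b0f) (.leaf 0x10709ad1))) (.node (.node (.leaf 0xc0e9b01) (.leaf 0x119e1ac1)) (.node (.leaf 0xe8d5b0d) (.leaf 0x0))))))))) (.node (.node (.node (.node (.node (.node (.node (.node (.leaf 0x1112dac1) (.leaf 0x12575b0d)) (.node (.leaf 0xdb39b0f) (.leaf 0x11299b0d))) (.node (.node (.leaf 0x852dac1) (.leaf 0xc485b0f)) (.node (.leaf 0xf46dac1) (.leaf 0xa055b0f))))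 (.node (.node (.node (.leaf 0xcda1b01) (.leaf 0x486db01)) (.node (.leaf 0x4461b0f) (.leaf 0xd449ac1))) (.node (.node (.leaf 0xe6a5b0f) (.leaf 0xded5ad1)) (.node (.leaf 0xd215b0d) (.leaf 0x0))))) (.node (.node (.node (.node (.leaf 0xa509b0f) (.leaf 0x5f81b01)) (.node (.leaf 0x9739ad1) (.leaf 0xd071ad1))) (.node (.node (.leaf 0x10cb9ac1) (.leaf 0x741db01)) (.node (.leaf 0x76adb0f) (.leaf 0x9951ad1)))) (.node (.node (.node (.leaf 0x8d59ac1) (.leaf 0xc84dac1)) (.node (.leaf 0xfb3db0d) (.leaf 0x103f5b0f))) (.node (.node (.leaf 0xa4e5b0f) (.leaf 0x1b64)) (.node (.leaf 0xde15ad1) (.leaf 0x0)))))) (.node (.node (.node (.node (.node (.leaf 0xf61db0f) (.leaf 0x129adb0d)) (.node (.leaf 0xa889ad1) (.leaf 0xc121b0f))) (.node (.node (.leaf 0x13051ad1) (.leaf 0x1b3e)) (.node (.leaf 0xb8a1ad1) (.leaf 0xc089b0d)))) (.node (.node (.node (.leaf 0xc36db0d) (.leaf 0x10299b0d)) (.node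 (.leaf 0xd331ad1) (.leaf 0x47a5b0d))) (.node (.node (.leaf 0x11785b0d) (.leaf 0x163bdb0d)) (.node (.leaf 0x113c5b0d) (.leaf 0x0))))) (.node (.node (.node (.node (.leaf 0xc3fdb0d) (.leaf 0x12419ac1)) (.node (.leaf 0xea1db0d) (.leaf 0xd571b01))) (.node (.node (.leaf 0xe6c9b0f) (.leaf 0x95ddad1)) (.node (.leaf 0x9e75ad1) (.leaf 0x13a6dad1)))) (.node (.node (.node (.leaf 0x8091b01) (.leaf 0x132b1b0d)) (.node (.leaf 0x4469ac1) (.leaf 0xc2edad1))) (.node (.node (.leaf 0xc31dac1) (.leaf 0xf79db0f)) (.node (.leaf 0x12575ac1) (.leaf 0x0))))))) (.node (.node (.node (.node (.node (.node (.leaf 0x113c5b0f) (.leaf 0x160b1b0d)) (.node (.leaf 0x852dad1) (.leaf 0x1122db0f))) (.node (.node (.leaf 0xe4c1ad1) (.leaf 0x11de1b0d)) (.node (.leaf 0x108b1b0d) (.leaf 0xef5dac1)))) (.node (.node (.node (.leaf 0xe6d9b0d) (.leaf 0x119d9b0f)) (.node (.leaf 0x13601ac1) (.leaf 0x9d0db01)))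 (.node (.node (.leaf 0xe21db0d) (.leaf 0xd441ac1)) (.node (.leaf 0xc23db0d) (.leaf 0x0))))) (.node (.node (.node (.node (.leaf 0xb245b0d) (.leaf 0x10825b0f)) (.node (.leaf 0x5901ad1) (.leaf 0xb965b01))) (.node (.node (.leaf 0x48d9ac1) (.leaf 0x13aa1b0f)) (.node (.leaf 0xd215ad1) (.leaf 0x12c31b0f)))) (.node (.node (.node (.leaf 0xf0c1b0d) (.leaf 0xf2f9ad1)) (.node (.leaf 0xf53dac1) (.leaf 0xda21b0d))) (.node (.node (.leaf 0xa51db01) (.leaf 0xd709ac1)) (.node (.leaf 0xf6f9b0d) (.leaf 0x0)))))) (.node (.node (.node (.node (.node (.leaf 0xf7edad1) (.leaf 0x47a5b01)) (.node (.leaf 0xeb89b0f) (.leaf 0x112adb0d))) (.node (.node (.leaf 0xe115ac1) (.leaf 0xd8d1b0d)) (.node (.leaf 0xdb85b0d) (.leaf 0x13615b0d)))) (.node (.node (.node (.leaf 0xc241b0d) (.leaf 0x107b5b0f)) (.node (.leaf 0x12805ad1) (.leaf 0x9881b01))) (.node (.node (.leaf 0xcfedb0f) (.leaf 0xd559ac1))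 (.node (.leaf 0xf209b0d) (.leaf 0x0))))) (.node (.node (.node (.node (.leaf 0xf1c1b0f) (.leaf 0x8d05b01)) (.node (.leaf 0x6065b0d) (.leaf 0x163a1b0d))) (.node (.node (.leaf 0x138c1ad1) (.leaf 0xe1b5ad1)) (.node (.leaf 0xd0d9b0d) (.leaf 0x0)))) (.node (.node (.node (.leaf 0xaf45ad1) (.leaf 0xdf4db0f)) (.node (.leaf 0xf0a1b0f) (.leaf 0xb4f9b0f))) (.node (.node (.leaf 0xc651b01) (.leaf 0x128ddad1)) (.node (.leaf 0x11321b0d) (.leaf 0x0)))))))) (.node (.node (.node (.node (.node (.node (.node (.leaf 0x107b5ac1) (.leaf 0xa055ad1)) (.node (.leaf 0xe405b01) (.leaf 0x11ac1ac1))) (.node (.node (.leaf 0xfa79b0d) (.leaf 0xdb39b01)) (.node (.leaf 0xaa39b0f) (.leaf 0xc481b0d)))) (.node (.node (.node (.leaf 0xa4f9b0f) (.leaf 0x1015db0f)) (.node (.leaf 0x11179ad1) (.leaf 0x90edb0d))) (.node (.node (.leaf 0xc1edb0d) (.leaf 0x9741ac1)) (.node (.leaf 0x8ab9b0d) (.leaf 0x0)))))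 (.node (.node (.node (.node (.leaf 0x12b41b0f) (.leaf 0x1b68)) (.node (.leaf 0xb631b01) (.leaf 0xe7d9ad1))) (.node (.node (.leaf 0xddedac1) (.leaf 0xac89b01)) (.node (.leaf 0xfa79ad1) (.leaf 0x9415ac1)))) (.node (.node (.node (.leaf 0xf3b1b0d) (.leaf 0x12475b0d)) (.node (.leaf 0xf445ad1) (.leaf 0xd965b0f))) (.node (.node (.leaf 0x80d1ad1) (.leaf 0xf839b0f)) (.node (.leaf 0xe275ac1) (.leaf 0x0)))))) (.node (.node (.node (.node (.node (.leaf 0x8da5ac1) (.leaf 0xc84dad1)) (.node (.leaf 0xdf99ac1) (.leaf 0xb185b01))) (.node (.node (.leaf 0xae29b0f) (.leaf 0x6dfdb0f)) (.node (.leaf 0x13a69b0f) (.leaf 0xe081b0f)))) (.node (.node (.node (.leaf 0x62ddb01) (.leaf 0xd115b0f)) (.node (.leaf 0x9e49b0d) (.leaf 0xa9d5b01))) (.node (.node (.leaf 0x10d6dad1) (.leaf 0xd8c5ac1)) (.node (.leaf 0x10825b01) (.leaf 0x0))))) (.node (.node (.node (.node (.leaf 0x1ae6) (.leaf 0xa0a5b01))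 (.node (.leaf 0xb37db0d) (.leaf 0xb4c9b0f))) (.node (.node (.leaf 0xb64db0d) (.leaf 0x10b25b0d)) (.node (.leaf 0xf9fdac1) (.leaf 0x0)))) (.node (.node (.node (.leaf 0x4d0db0f) (.leaf 0xb8e9ac1)) (.node (.leaf 0xac7db01) (.leaf 0x8dedb0f))) (.node (.node (.leaf 0xcbedb0d) (.leaf 0xd23db0f)) (.node (.leaf 0xe459b0d) (.leaf 0x0))))))) (.node (.node (.node (.node (.node (.node (.leaf 0x9915ad1) (.leaf 0x11229b0d)) (.node (.leaf 0x9e75b0f) (.leaf 0x10835b0d))) (.node (.node (.leaf 0x1bd8) (.leaf 0xc771b0f)) (.node (.leaf 0x10d95b0f) (.leaf 0xc7b9b0d)))) (.node (.node (.node (.leaf 0xf4b9b0d) (.leaf 0x64d1b01)) (.node (.leaf 0xcf8db0d) (.leaf 0x571dac1))) (.node (.node (.leaf 0xd729ad1) (.leaf 0xf729ad1)) (.node (.leaf 0xda21b0f) (.leaf 0x0))))) (.node (.node (.node (.node (.leaf 0xde59b01) (.leaf 0xca11b01)) (.node (.leaf 0xd1b5ad1) (.leaf 0xa431b0d))) (.node (.node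 (.leaf 0x1bcc) (.leaf 0xf77db0f)) (.node (.leaf 0xece5b0d) (.leaf 0xea61b01)))) (.node (.node (.node (.leaf 0xd729b0f) (.leaf 0x9e19ac1)) (.node (.leaf 0xc1d5b0f) (.leaf 0x9671b01))) (.node (.node (.leaf 0x120c9b0d) (.leaf 0xdabdac1)) (.node (.leaf 0xc96db0d) (.leaf 0x0)))))) (.node (.node (.node (.node (.node (.leaf 0x119e1b0d) (.leaf 0xf8fdb0f)) (.node (.leaf 0xc22dac1) (.leaf 0x139b5b0d))) (.node (.node (.leaf 0xe50db0f) (.leaf 0x12e85b0d)) (.node (.leaf 0x93e1ad1) (.leaf 0x12d09b0d)))) (.node (.node (.node (.leaf 0xa32db0d) (.leaf 0xe38db0d)) (.node (.leaf 0xf969ac1) (.leaf 0x11719ac1))) (.node (.node (.leaf 0x11a4db0d) (.leaf 0x6285b0d)) (.node (.leaf 0x10a5dac1) (.leaf 0x0))))) (.node (.node (.node (.node (.leaf 0x1115db01) (.leaf 0x12cb1b0f)) (.node (.leaf 0xc821ad1) (.leaf 0xd959b01))) (.node (.node (.leaf 0x86d9b01) (.leaf 0x160b5b0d)) (.node (.leaf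 0xb37db01) (.leaf 0x0)))) (.node (.node (.node (.leaf 0x1b78) (.leaf 0xb4f9b01)) (.node (.leaf 0x11a15b0f) (.leaf 0xc475b0d))) (.node (.node (.leaf 0xd5adb0d) (.leaf 0xed69b0d)) (.node (.leaf 0xc821ac1) (.leaf 0x0))))))))))

/-- packed table -/
noncomputable def cov14_rll : BTree := (.node (.node (.node (.node (.node (.node (.node (.node (.node (.leaf 0x109d9b01) (.leaf 0xc809ac1)) (.node (.leaf 0xd359ad1) (.leaf 0xb1c5b01))) (.node (.node (.leaf 0x9d6db01) (.leaf 0xf645b0f)) (.node (.leaf 0x1b9e) (.leaf 0x11c15b0d)))) (.node (.node (.node (.leaf 0xc329b0f) (.leaf 0x9881ad1)) (.node (.leaf 0x8751b0f) (.leaf 0x8735b0f))) (.node (.node (.leaf 0xaac1b0d) (.leaf 0x93ddad1)) (.node (.leaf 0x1b40) (.leaf 0x0))))) (.node (.node (.node (.node (.leaf 0x10fd9b0d) (.leaf 0x12eb1b0d)) (.node (.leaf 0xccddb0f) (.leaf 0x1360db0f))) (.node (.node (.leaf 0x8385ac1) (.leaf 0x10155b0d))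 (.node (.leaf 0xd9c5ac1) (.leaf 0xebd5ac1)))) (.node (.node (.node (.leaf 0xc84db0f) (.leaf 0x80cdac1)) (.node (.leaf 0x99c1b01) (.leaf 0xd909b0f))) (.node (.node (.leaf 0xded5b0f) (.leaf 0x99a9ac1)) (.node (.leaf 0xf009b0f) (.leaf 0x0)))))) (.node (.node (.node (.node (.node (.leaf 0x12d79b0d) (.leaf 0xd23db0d)) (.node (.leaf 0x8e61b01) (.leaf 0x1286db0f))) (.node (.node (.leaf 0x48f9ac1) (.leaf 0x13031b0f)) (.node (.leaf 0xf15db01) (.leaf 0xa259b0d)))) (.node (.node (.node (.leaf 0x12eb9b0d) (.leaf 0xd109b0d)) (.node (.leaf 0xd691ac1) (.leaf 0xd3f1b01))) (.node (.node (.leaf 0x4379ad1) (.leaf 0x9259ac1)) (.node (.leaf 0x13355b01) (.leaf 0x0))))) (.node (.node (.node (.node (.leaf 0x9e49b01) (.leaf 0x138e5b0d)) (.node (.leaf 0x11719ad1) (.leaf 0xe421b0d))) (.node (.node (.leaf 0xcca5b0d) (.leaf 0xdef5b0d)) (.node (.leaf 0xf4c5ac1) (.leaf 0xfaf5b0f)))) (.node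 (.node (.node (.leaf 0x9645ad1) (.leaf 0x8559b01)) (.node (.leaf 0x146fdb0d) (.leaf 0xd779ac1))) (.node (.node (.leaf 0xe881b0f) (.leaf 0xeca5b0d)) (.node (.leaf 0xd561b0d) (.leaf 0x0))))))) (.node (.node (.node (.node (.node (.node (.leaf 0x11ef1b0f) (.leaf 0x876dac1)) (.node (.leaf 0xeac9b0f) (.leaf 0x115f9b0d))) (.node (.node (.leaf 0x13731b0d) (.leaf 0xb2c5b0d)) (.node (.leaf 0x105d1ac1) (.leaf 0xdc75ac1)))) (.node (.node (.node (.leaf 0xa0a5ad1) (.leaf 0x1735db0d)) (.node (.leaf 0xcb99ad1) (.leaf 0xa68db0f))) (.node (.node (.leaf 0xc3e5ac1) (.leaf 0xc6a9b0d)) (.node (.leaf 0xd9c9b0d) (.leaf 0x0))))) (.node (.node (.node (.node (.leaf 0x80f1b0d) (.leaf 0x1ba8)) (.node (.leaf 0xd909b0d) (.leaf 0x4401b0f))) (.node (.node (.leaf 0x12571b0f) (.leaf 0xd731b0d)) (.node (.leaf 0x97e9b0d) (.leaf 0xeaf5b0f)))) (.node (.node (.node (.leaf 0x1247db0d) (.leaf 0xce55ac1))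 (.node (.leaf 0xe8b5b0d) (.leaf 0x100b5ad1))) (.node (.node (.leaf 0xf769b0d) (.leaf 0xf9c9b01)) (.node (.leaf 0xc175b0d) (.leaf 0x0)))))) (.node (.node (.node (.node (.node (.leaf 0xf569b0d) (.leaf 0xd0bdac1)) (.node (.leaf 0x12f15b0d) (.leaf 0x7189ad1))) (.node (.node (.leaf 0x11095ac1) (.leaf 0xd5c9ad1)) (.node (.leaf 0x829dad1) (.leaf 0x9a59ac1)))) (.node (.node (.node (.leaf 0x1172dad1) (.leaf 0xc51db01)) (.node (.leaf 0x76adb01) (.leaf 0x9525ac1))) (.node (.node (.leaf 0x11ab9b0d) (.leaf 0xb665b01)) (.node (.leaf 0x1058db0f) (.leaf 0x0))))) (.node (.node (.node (.node (.leaf 0x6e3db0d) (.leaf 0xc2c9b01)) (.node (.leaf 0x11685ac1) (.leaf 0x13a55b0d))) (.node (.node (.leaf 0xa501ac1) (.leaf 0xc431b0f)) (.node (.leaf 0x99cdac1) (.leaf 0x0)))) (.node (.node (.node (.leaf 0x121adb01) (.leaf 0xb8e9ad1)) (.node (.leaf 0xc645b0d) (.leaf 0x12af1b0d))) (.node (.node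 (.leaf 0x8c29ac1) (.leaf 0x9611b0d)) (.node (.leaf 0xe255b01) (.leaf 0x0)))))))) (.node (.node (.node (.node (.node (.node (.node (.leaf 0x13461b0d) (.leaf 0xcf19ac1)) (.node (.leaf 0xe559b0f) (.leaf 0xadf9b01))) (.node (.node (.leaf 0xc5f9b0d) (.leaf 0x12639b0d)) (.node (.leaf 0x6e39ad1) (.leaf 0xc05db0d)))) (.node (.node (.node (.leaf 0x8d59b0d) (.leaf 0x16615b0d)) (.node (.leaf 0x9ca1b0d) (.leaf 0x9845b01))) (.node (.node (.leaf 0x12525b0f) (.leaf 0xc451b0d)) (.node (.leaf 0xedc9ad1) (.leaf 0x0))))) (.node (.node (.node (.node (.leaf 0xea79b0d) (.leaf 0xb0fdb0d)) (.node (.leaf 0x5929ad1) (.leaf 0x5901b01))) (.node (.node (.leaf 0xcc9dac1) (.leaf 0xf971b0d)) (.node (.leaf 0x111b9b01) (.leaf 0x6939ac1)))) (.node (.node (.node (.leaf 0x861dad1) (.leaf 0x10835ac1)) (.node (.leaf 0x5901b0f) (.leaf 0xb37dad1))) (.node (.node (.leaf 0x5119b01) (.leaf 0x6e39b01))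 (.node (.leaf 0x99cdad1) (.leaf 0x0)))))) (.node (.node (.node (.node (.node (.leaf 0x11b01b0d) (.leaf 0x15885b0d)) (.node (.leaf 0xeb65b0f) (.leaf 0xc7b9b0f))) (.node (.node (.leaf 0xad51b0d) (.leaf 0xb589b01)) (.node (.leaf 0x99a9b0d) (.leaf 0x10845b0d)))) (.node (.node (.node (.leaf 0xc359b0d) (.leaf 0x10f59b0d)) (.node (.leaf 0x9e61b0d) (.leaf 0x9649ac1))) (.node (.node (.leaf 0xc945b0d) (.leaf 0x924dac1)) (.node (.leaf 0x10cf9b0f) (.leaf 0x0))))) (.node (.node (.node (.node (.leaf 0xd601b0f) (.leaf 0x11211ac1)) (.node (.leaf 0x1b56) (.leaf 0xaa95b01))) (.node (.node (.leaf 0x13aa1ad1) (.leaf 0xf3d1ad1)) (.node (.leaf 0x9745ad1) (.leaf 0x10275b0d)))) (.node (.node (.node (.leaf 0x1b30) (.leaf 0x11ef1b0d)) (.node (.leaf 0x6e35ac1) (.leaf 0x102d1ad1))) (.node (.node (.leaf 0x1030dac1) (.leaf 0x5c05ac1)) (.node (.leaf 0xf53dad1) (.leaf 0x0))))))) (.node (.node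 (.node (.node (.node (.node (.leaf 0x8ff5b01) (.leaf 0xc2e9ac1)) (.node (.leaf 0x119f5b0d) (.leaf 0x12f19b01))) (.node (.node (.leaf 0xd9c9ad1) (.leaf 0x112c9b0d)) (.node (.leaf 0xb64db01) (.leaf 0xc179b0d)))) (.node (.node (.node (.leaf 0xae29ad1) (.leaf 0xe5b5b0d)) (.node (.leaf 0x9ab1ac1) (.leaf 0x93f5b01))) (.node (.node (.leaf 0xa641b0d) (.leaf 0x114e9ac1)) (.node (.leaf 0xce55b0d) (.leaf 0x0))))) (.node (.node (.node (.node (.leaf 0xb33db0d) (.leaf 0xd691b0d)) (.node (.leaf 0xa8bdb0f) (.leaf 0x7389ad1))) (.node (.node (.leaf 0xdad5b0d) (.leaf 0xfaa9b0f)) (.node (.leaf 0xc0c5ad1) (.leaf 0x15c55b0d)))) (.node (.node (.node (.leaf 0xc1d5ac1) (.leaf 0x10d4db0f)) (.node (.leaf 0xda85b0d) (.leaf 0x15a11b0d))) (.node (.node (.leaf 0x9735b01) (.leaf 0x944db0d)) (.node (.leaf 0xcbedac1) (.leaf 0x0)))))) (.node (.node (.node (.node (.node (.leaf 0xc6a1ac1) (.leaf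 0xa8b1ad1)) (.node (.leaf 0x9439ad1) (.leaf 0x47a5b0f))) (.node (.node (.leaf 0x8385b01) (.leaf 0x12121b0f)) (.node (.leaf 0x90adb0d) (.leaf 0xf61db0d)))) (.node (.node (.node (.leaf 0xdeddac1) (.leaf 0x8e3dad1)) (.node (.leaf 0xda0db0d) (.leaf 0x13821ad1))) (.node (.node (.leaf 0xd379ad1) (.leaf 0xd5c9ac1)) (.node (.leaf 0xed65b0d) (.leaf 0x0))))) (.node (.node (.node (.node (.leaf 0xee6dad1) (.leaf 0x12d3db0f)) (.node (.leaf 0xc561ac1) (.leaf 0x9aadb01))) (.node (.node (.leaf 0xc2e5ad1) (.leaf 0xc2c5b0d)) (.node (.leaf 0x1188db0d) (.leaf 0x0)))) (.node (.node (.node (.leaf 0xc7f5ac1) (.leaf 0x12735b0d)) (.node (.leaf 0xf1e1b0f) (.leaf 0x1273dac1))) (.node (.node (.leaf 0xb011b0f) (.leaf 0x12b85ad1)) (.node (.leaf 0xa8e5b0d) (.leaf 0x0))))))))) (.node (.node (.node (.node (.node (.node (.node (.node (.leaf 0xd315b0f) (.leaf 0x8531ad1)) (.node (.leaf 0xda2db0f)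 (.leaf 0x10fa9b0d))) (.node (.node (.leaf 0xdbf9ad1) (.leaf 0xeb89ac1)) (.node (.leaf 0x13601b0d) (.leaf 0x11291ac1)))) (.node (.node (.node (.leaf 0x894db01) (.leaf 0xa439ad1)) (.node (.leaf 0x86d9b0f) (.leaf 0xd63dac1))) (.node (.node (.leaf 0xdb55ac1) (.leaf 0x1270dad1)) (.node (.leaf 0x1151db0d) (.leaf 0x0))))) (.node (.node (.node (.node (.leaf 0x126b9b0d) (.leaf 0xcfc9ac1)) (.node (.leaf 0xc291b0d) (.leaf 0xb219ad1))) (.node (.node (.leaf 0xccc5ac1) (.leaf 0xd9f9b0f)) (.node (.leaf 0xd709ad1) (.leaf 0x11299ac1)))) (.node (.node (.node (.leaf 0xcd5dac1) (.leaf 0xd0d9ad1)) (.node (.leaf 0x9c2dad1) (.leaf 0x9a5dac1))) (.node (.node (.leaf 0x12cb5b0d) (.leaf 0x12a6db0d)) (.node (.leaf 0x834db0f) (.leaf 0x0)))))) (.node (.node (.node (.node (.node (.leaf 0x6e3dad1) (.leaf 0xd8ddb0f)) (.node (.leaf 0xf485b0f) (.leaf 0xc989b0d))) (.node (.node (.leaf 0xd35dad1)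 (.leaf 0xd6e1b0f)) (.node (.leaf 0x1b06) (.leaf 0x11501b0f)))) (.node (.node (.node (.leaf 0xf5b9b0d) (.leaf 0xcb79ac1)) (.node (.leaf 0x5805b0f) (.leaf 0x9ab1b01))) (.node (.node (.leaf 0x12af1b0f) (.leaf 0x8769b0d)) (.node (.leaf 0xf2edad1) (.leaf 0x0))))) (.node (.node (.node (.node (.leaf 0x10f35ac1) (.leaf 0x99a1ad1)) (.node (.leaf 0x8e9db0f) (.leaf 0xea91b01))) (.node (.node (.leaf 0xd05dac1) (.leaf 0x1006db0d)) (.node (.leaf 0xda3db0d) (.leaf 0x92e5b01)))) (.node (.node (.node (.leaf 0x8081b01) (.leaf 0x10f81b0d)) (.node (.leaf 0xf32db01) (.leaf 0xd945b0d))) (.node (.node (.leaf 0x9415b0d) (.leaf 0xfb1dad1)) (.node (.leaf 0x11575b0d) (.leaf 0x0))))))) (.node (.node (.node (.node (.node (.node (.leaf 0xed4dad1) (.leaf 0x4745ac1)) (.node (.leaf 0xd235b0f) (.leaf 0xd3a1b0d))) (.node (.node (.leaf 0x11ac9b0f) (.leaf 0xf485ad1)) (.node (.leaf 0x97f5b01) (.leaf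 0x9cddb0d)))) (.node (.node (.node (.leaf 0xd545ac1) (.leaf 0x12375b0d)) (.node (.leaf 0x1115db0d) (.leaf 0xcb79ad1))) (.node (.node (.leaf 0x8d05b0d) (.leaf 0x9395b0d)) (.node (.leaf 0x10cf9b0d) (.leaf 0x0))))) (.node (.node (.node (.node (.leaf 0x57fdb0d) (.leaf 0xfa35ad1)) (.node (.leaf 0x13499b0f) (.leaf 0xddbdb0f))) (.node (.node (.leaf 0x11cb1b0f) (.leaf 0x47a5ad1)) (.node (.leaf 0x8125b0f) (.leaf 0xeac9b0d)))) (.node (.node (.node (.leaf 0x102f5b0d) (.leaf 0x8e35ac1)) (.node (.leaf 0x11a15b0d) (.leaf 0x116a1ac1))) (.node (.node (.leaf 0xf75db0d) (.leaf 0xf26dac1)) (.node (.leaf 0x12f2db0f) (.leaf 0x0)))))) (.node (.node (.node (.node (.node (.leaf 0xaf8db0f) (.leaf 0xed85b0d)) (.node (.leaf 0xb2a1ad1) (.leaf 0x97f5ad1))) (.node (.node (.leaf 0xc3a1b01) (.leaf 0xd4d5b0f)) (.node (.leaf 0x5811b0d) (.leaf 0x11429ad1)))) (.node (.node (.node (.leaf 0xccddb01)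 (.leaf 0xcd75b0f)) (.node (.leaf 0x9a39ac1) (.leaf 0x5929b0f))) (.node (.node (.leaf 0x4461b01) (.leaf 0x136ddb01)) (.node (.leaf 0xc591b0f) (.leaf 0x0))))) (.node (.node (.node (.node (.leaf 0xb57db0d) (.leaf 0xf3b1b0f)) (.node (.leaf 0xe079b0d) (.leaf 0xc971b0d))) (.node (.node (.leaf 0xa51dac1) (.leaf 0xbb21ac1)) (.node (.leaf 0x11721ad1) (.leaf 0x0)))) (.node (.node (.node (.leaf 0x1b34) (.leaf 0x16721b0d)) (.node (.leaf 0x122e1b0d) (.leaf 0x12d59b0d))) (.node (.node (.leaf 0xc645b01) (.leaf 0xa719ac1)) (.node (.leaf 0x9169ac1) (.leaf 0x0)))))))) (.node (.node (.node (.node (.node (.node (.node (.leaf 0x10f79b0d) (.leaf 0x1b26)) (.node (.leaf 0x4b1dac1) (.leaf 0xddc9b0f))) (.node (.node (.leaf 0xd549ac1) (.leaf 0xe3b9ad1)) (.node (.leaf 0x1bc6) (.leaf 0xe849b0f)))) (.node (.node (.node (.leaf 0x8611ad1) (.leaf 0xe315b0d)) (.node (.leaf 0xdc19ad1) (.leaf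 0x1292dac1))) (.node (.node (.leaf 0xdd3db0f) (.leaf 0x11795b0d)) (.node (.leaf 0xc4c5b0f) (.leaf 0x0))))) (.node (.node (.node (.node (.leaf 0x100fdb0d) (.leaf 0x12999b0d)) (.node (.leaf 0xf5a1ac1) (.leaf 0x1160db0d))) (.node (.node (.leaf 0x149b1b0d) (.leaf 0x9415ad1)) (.node (.leaf 0x90edb0f) (.leaf 0x113a5ac1)))) (.node (.node (.node (.leaf 0x8ab9b01) (.leaf 0xf491b0d)) (.node (.leaf 0xda81b0f) (.leaf 0x6b61ac1))) (.node (.node (.leaf 0xd359ac1) (.leaf 0xcc69b0f)) (.node (.leaf 0x9d0dad1) (.leaf 0x0)))))) (.node (.node (.node (.node (.node (.leaf 0x11699ac1) (.leaf 0x8bb5ac1)) (.node (.leaf 0x12f25b0d) (.leaf 0x15619b0d))) (.node (.node (.leaf 0x47f9b01) (.leaf 0xd30db01)) (.node (.leaf 0x835db0f) (.leaf 0x5901ac1)))) (.node (.node (.node (.leaf 0x15d95b0d) (.leaf 0x10e31b0d)) (.node (.leaf 0xde41b0d) (.leaf 0xe81db01))) (.node (.node (.leaf 0xcd5dad1) (.leaf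 0x8d81b0d)) (.node (.leaf 0xecd9ad1) (.leaf 0x0))))) (.node (.node (.node (.node (.leaf 0x835dac1) (.leaf 0x11f15b0d)) (.node (.leaf 0xed7db0d) (.leaf 0xb4f9ad1))) (.node (.node (.leaf 0x14f55b0d) (.leaf 0xb1fdb01)) (.node (.leaf 0xebadb0d) (.leaf 0x0)))) (.node (.node (.node (.leaf 0x5f81b0f) (.leaf 0x13939b0d)) (.node (.leaf 0x6e35ad1) (.leaf 0x10709b0f))) (.node (.node (.leaf 0xcb79b0d) (.leaf 0x1114db0d)) (.node (.leaf 0xdf75ac1) (.leaf 0x0))))))) (.node (.node (.node (.node (.node (.node (.leaf 0x93ddb0f) (.leaf 0x11211b0d)) (.node (.leaf 0xe16db01) (.leaf 0xd6a9ac1))) (.node (.node (.leaf 0xeb89ad1) (.leaf 0x5805ad1)) (.node (.leaf 0xdaa5ac1) (.leaf 0xf3f5ad1)))) (.node (.node (.node (.leaf 0x12c11b0d) (.leaf 0x64d1ad1)) (.node (.leaf 0x9d71b0f) (.leaf 0x126f5b0f))) (.node (.node (.leaf 0x122e1ad1) (.leaf 0x9d75ad1)) (.node (.leaf 0x1bc8) (.leaf 0x0)))))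 (.node (.node (.node (.node (.leaf 0x9e3db01) (.leaf 0xd661b0d)) (.node (.leaf 0x5fe1b0d) (.leaf 0x10e09b0d))) (.node (.node (.leaf 0x6279b0d) (.leaf 0xb771b0f)) (.node (.leaf 0xb5a5b01) (.leaf 0xf729b0d)))) (.node (.node (.node (.leaf 0x1024db0d) (.leaf 0x8555b01)) (.node (.leaf 0x8de1ad1) (.leaf 0xb6d1b0f))) (.node (.node (.leaf 0xa641b0f) (.leaf 0xe9e1b0f)) (.node (.leaf 0x12ab1ad1) (.leaf 0x0)))))) (.node (.node (.node (.node (.node (.leaf 0xccadb0d) (.leaf 0x12915b0f)) (.node (.leaf 0xd1fdad1) (.leaf 0xe1b5b0d))) (.node (.node (.leaf 0x83adac1) (.leaf 0x9519ad1)) (.node (.leaf 0x12b49b0d) (.leaf 0xa595b0f)))) (.node (.node (.node (.leaf 0xcca1b0d) (.leaf 0xe5e9b01)) (.node (.leaf 0x1aee) (.leaf 0x8975b0f))) (.node (.node (.leaf 0x14b15b0d) (.leaf 0xebd5ad1)) (.node (.leaf 0xc291ad1) (.leaf 0x0))))) (.node (.node (.node (.node (.leaf 0x8c09b0d) (.leaf 0xd06db01))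 (.node (.leaf 0x100edb0d) (.leaf 0xcad5b0d))) (.node (.node (.leaf 0xedddb0d) (.leaf 0x1b2a)) (.node (.leaf 0x12c61b0d) (.leaf 0x0)))) (.node (.node (.node (.leaf 0xd601b0d) (.leaf 0xf3d1ac1)) (.node (.leaf 0x729db01) (.leaf 0xc72dad1))) (.node (.node (.leaf 0xc071ad1) (.leaf 0x12e21b0d)) (.node (.leaf 0xfb3dad1) (.leaf 0x0))))))))))

/-- packed table -/
noncomputable def cov14_rlr : BTree := (.node (.node (.node (.node (.node (.node (.node (.node (.node (.leaf 0x11309b0f) (.leaf 0xef85b0d)) (.node (.leaf 0xa5d5ac1) (.leaf 0xda81ad1))) (.node (.node (.leaf 0x6299b0d) (.leaf 0xda31b01)) (.node (.leaf 0x128e9b0d) (.leaf 0x5c05b01)))) (.node (.node (.node (.leaf 0xc7f5b0d) (.leaf 0x12419ad1)) (.node (.leaf 0x53e9b01) (.leaf 0x9769b0d))) (.node (.node (.leaf 0xd799b0d) (.leaf 0xc365ad1)) (.node (.leaf 0xd9adb0d) (.leaf 0x0))))) (.node (.node (.node (.node (.leaf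 0xc755b0d) (.leaf 0xf0edb0d)) (.node (.leaf 0xb011b01) (.leaf 0x7211b0f))) (.node (.node (.leaf 0x11ac5b0d) (.leaf 0x13081b0f)) (.node (.leaf 0xd8c5ad1) (.leaf 0x11c15ac1)))) (.node (.node (.node (.leaf 0x85edb01) (.leaf 0x100b5ac1)) (.node (.leaf 0xd579ac1) (.leaf 0xc51dad1))) (.node (.node (.leaf 0xf2e9b0f) (.leaf 0xf49db0f)) (.node (.leaf 0x8375b0f) (.leaf 0x0)))))) (.node (.node (.node (.node (.node (.leaf 0xdfd1ac1) (.leaf 0xa9d5b0d)) (.node (.leaf 0xb475b0f) (.leaf 0x106f9b0f))) (.node (.node (.leaf 0x48e9b0d) (.leaf 0xd9c9ac1)) (.node (.leaf 0x57fdb01) (.leaf 0xd2c5b01)))) (.node (.node (.node (.leaf 0xf471ad1) (.leaf 0x10f71b0d)) (.node (.leaf 0x866dad1) (.leaf 0xedc9b0d))) (.node (.node (.leaf 0xc55dad1) (.leaf 0x55a1b0d)) (.node (.leaf 0x8815b01) (.leaf 0x0))))) (.node (.node (.node (.node (.leaf 0xc32dad1) (.leaf 0x8a61ad1)) (.node (.leaf 0x9349ac1)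 (.leaf 0x9735ad1))) (.node (.node (.leaf 0x1311dad1) (.leaf 0xca05b0d)) (.node (.leaf 0x11389ac1) (.leaf 0xdc59ac1)))) (.node (.node (.node (.leaf 0xf7cdad1) (.leaf 0x124a9ad1)) (.node (.leaf 0xf4b9ac1) (.leaf 0x994db0d))) (.node (.node (.leaf 0x8d05b0f) (.leaf 0xc51db0d)) (.node (.leaf 0xd545b0d) (.leaf 0x0))))))) (.node (.node (.node (.node (.node (.node (.leaf 0xa501ad1) (.leaf 0xf0d5b0f)) (.node (.leaf 0xf7d1b0d) (.leaf 0xf4b5ad1))) (.node (.node (.leaf 0x17371b0d) (.leaf 0xc775b0f)) (.node (.leaf 0xc8cdb0d) (.leaf 0xda21b01)))) (.node (.node (.node (.leaf 0xa239ac1) (.leaf 0xe599b0d)) (.node (.leaf 0xdcf5ad1) (.leaf 0x8c29ad1))) (.node (.node (.leaf 0xc3c9ac1) (.leaf 0x9585ac1)) (.node (.leaf 0x7afdb01) (.leaf 0x0))))) (.node (.node (.node (.node (.leaf 0x6cddb0d) (.leaf 0x12a51b0d)) (.node (.leaf 0xd8a9ad1) (.leaf 0x15f21b0d))) (.node (.node (.leaf 0x15911b0d)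 (.leaf 0x571db0d)) (.node (.leaf 0x6e35b0d) (.leaf 0xd7e1b0f)))) (.node (.node (.node (.leaf 0x80f1b01) (.leaf 0x8e45ac1)) (.node (.leaf 0x11219b0d) (.leaf 0x713dac1))) (.node (.node (.leaf 0xc055ac1) (.leaf 0xd6b1b0d)) (.node (.leaf 0x7389b0f) (.leaf 0x0)))))) (.node (.node (.node (.node (.node (.leaf 0x10db9ac1) (.leaf 0xdec1b0f)) (.node (.leaf 0x11bcdb0d) (.leaf 0x1182dad1))) (.node (.node (.leaf 0x1afc) (.leaf 0x7389ac1)) (.node (.leaf 0xaa39ac1) (.leaf 0x12cb1ac1)))) (.node (.node (.node (.leaf 0x9d7db0d) (.leaf 0x4461ac1)) (.node (.leaf 0x756db0d) (.leaf 0x114d1b0f))) (.node (.node (.leaf 0xe421b0f) (.leaf 0xf6e5b01)) (.node (.leaf 0x10fa5ac1) (.leaf 0x0))))) (.node (.node (.node (.node (.leaf 0x9915b0d) (.leaf 0xb475ad1)) (.node (.leaf 0x6dfdb01) (.leaf 0xc9e5b0f))) (.node (.node (.leaf 0xa511ac1) (.leaf 0x1340db0d)) (.node (.leaf 0x13761ac1) (.leaf 0x0))))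 (.node (.node (.node (.leaf 0xeae5b0f) (.leaf 0x13151b0f)) (.node (.leaf 0xf5e5b01) (.leaf 0x16189b0d))) (.node (.node (.leaf 0xcebdb0d) (.leaf 0x9169b0d)) (.node (.leaf 0x112edb0d) (.leaf 0x0)))))))) (.node (.node (.node (.node (.node (.node (.node (.leaf 0x8f4db01) (.leaf 0x6065ac1)) (.node (.leaf 0xcdf5b0f) (.leaf 0x12c59b0f))) (.node (.node (.leaf 0xc5fdb0d) (.leaf 0xd871ad1)) (.node (.leaf 0xe405b0d) (.leaf 0xb6d1ac1)))) (.node (.node (.node (.leaf 0x8a61b0d) (.leaf 0x16645b0d)) (.node (.leaf 0x118b1ac1) (.leaf 0x96f5b01))) (.node (.node (.leaf 0xcf89ac1) (.leaf 0x11bcdb0f)) (.node (.leaf 0x13325ac1) (.leaf 0x0))))) (.node (.node (.node (.node (.leaf 0x126b9b0f) (.leaf 0xb695b0d)) (.node (.leaf 0xa941b0f) (.leaf 0x12029b0f))) (.node (.node (.leaf 0xe2f5ad1) (.leaf 0x11a25b01)) (.node (.leaf 0x10dc5b0f) (.leaf 0xdb19ad1)))) (.node (.node (.node (.leaf 0xfb1db0d)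 (.leaf 0x134a5b0d)) (.node (.leaf 0xbb2dad1) (.leaf 0x11a15b01))) (.node (.node (.leaf 0x9d41b0d) (.leaf 0xdf99ad1)) (.node (.leaf 0xd571b0f) (.leaf 0x0)))))) (.node (.node (.node (.node (.node (.leaf 0xdb55ad1) (.leaf 0x48d9b0f)) (.node (.leaf 0x9dd9ad1) (.leaf 0xc9a1b0f))) (.node (.node (.leaf 0xb9f5b0d) (.leaf 0x1b46)) (.node (.leaf 0xe9e1b0d) (.leaf 0xc395b0d)))) (.node (.node (.node (.leaf 0x4349b0d) (.leaf 0x8529ac1)) (.node (.leaf 0x992db0d) (.leaf 0x55a1ac1))) (.node (.node (.leaf 0xed4db0f) (.leaf 0x14d51b0d)) (.node (.leaf 0x10421ac1) (.leaf 0x0))))) (.node (.node (.node (.node (.leaf 0x437db01) (.leaf 0xce19b0d)) (.node (.leaf 0xc775ac1) (.leaf 0xf4b9ad1))) (.node (.node (.leaf 0xc50dac1) (.leaf 0xd421ad1)) (.node (.leaf 0xa6bdb01) (.leaf 0x0)))) (.node (.node (.node (.leaf 0x8779b01) (.leaf 0xd9d5b0f)) (.node (.leaf 0x9a95b01) (.leaf 0x12d3db0d)))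 (.node (.node (.leaf 0x1030db0d) (.leaf 0xd159b0d)) (.node (.leaf 0xf50db0f) (.leaf 0x0))))))) (.node (.node (.node (.node (.node (.node (.leaf 0x13069b0d) (.leaf 0x102d1ac1)) (.node (.leaf 0x12639ad1) (.leaf 0xa3b5ad1))) (.node (.node (.leaf 0x12169b0d) (.leaf 0x92e5b0d)) (.node (.leaf 0xa9d5b0f) (.leaf 0x132b1ac1)))) (.node (.node (.node (.leaf 0x8949ac1) (.leaf 0xa4e1ad1)) (.node (.leaf 0x9e95ac1) (.leaf 0x12a01b01))) (.node (.node (.leaf 0xdcd1b0d) (.leaf 0xecd9b01)) (.node (.leaf 0xf5a1b01) (.leaf 0x0))))) (.node (.node (.node (.node (.leaf 0x8eadb01) (.leaf 0xd675b0d)) (.node (.leaf 0xe8d1b0f) (.leaf 0xe8d1ac1))) (.node (.node (.leaf 0x8ae5ac1) (.leaf 0x13a6db0d)) (.node (.leaf 0xb475ac1) (.leaf 0xec95b0d)))) (.node (.node (.node (.leaf 0xb5a5ad1) (.leaf 0x829dac1)) (.node (.leaf 0xded9b0d) (.leaf 0xacfdb0f))) (.node (.node (.leaf 0x8e3db0f) (.leaf 0xe021b0f))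 (.node (.leaf 0xaaa5b0f) (.leaf 0x0)))))) (.node (.node (.node (.node (.node (.leaf 0xa20db0f) (.leaf 0xe435b0f)) (.node (.leaf 0x4351b0f) (.leaf 0xa8bdac1))) (.node (.node (.leaf 0xc3b5b01) (.leaf 0x5805ac1)) (.node (.leaf 0x8579b0f) (.leaf 0xd9f9b0d)))) (.node (.node (.node (.leaf 0x10cedb0f) (.leaf 0x5119b0f)) (.node (.leaf 0x944db01) (.leaf 0xc6a9ad1))) (.node (.node (.leaf 0xa2a9ac1) (.leaf 0x11471ac1)) (.node (.leaf 0xcd1db01) (.leaf 0x0))))) (.node (.node (.node (.node (.leaf 0x1772db0d) (.leaf 0xcd09b01)) (.node (.leaf 0xf77dac1) (.leaf 0x11be9ac1))) (.node (.node (.leaf 0x12de9b0d) (.leaf 0x9b6db01)) (.node (.leaf 0x6e39ac1) (.leaf 0x0)))) (.node (.node (.node (.leaf 0x107e5ac1) (.leaf 0x114d1b0d)) (.node (.leaf 0x6b61ad1) (.leaf 0x137adb0d))) (.node (.node (.leaf 0x103f5ad1) (.leaf 0xb7e9b01)) (.node (.leaf 0x14f5db0d) (.leaf 0x0))))))))) (.node (.node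 (.node (.node (.node (.node (.node (.node (.leaf 0xc695b0d) (.leaf 0xcf75b0d)) (.node (.leaf 0xd701ac1) (.leaf 0xd555ac1))) (.node (.node (.leaf 0xe421b01) (.leaf 0x107cdb0f)) (.node (.leaf 0xed1db0f) (.leaf 0xde15b0f)))) (.node (.node (.node (.leaf 0x9d71ac1) (.leaf 0x99a1ac1)) (.node (.leaf 0x7189b0d) (.leaf 0xda3db01))) (.node (.node (.leaf 0xdef5b0f) (.leaf 0xc4c5b0d)) (.node (.leaf 0xdeddb01) (.leaf 0x0))))) (.node (.node (.node (.node (.leaf 0xc22dad1) (.leaf 0x4af9b0d)) (.node (.leaf 0xa0f1b0f) (.leaf 0xf0d5b01))) (.node (.node (.leaf 0xccadac1) (.leaf 0x5865b0d)) (.node (.leaf 0x8355ad1) (.leaf 0x894db0f)))) (.node (.node (.node (.leaf 0xd76db0f) (.leaf 0x119f5b0f)) (.node (.leaf 0xdc19b0d) (.leaf 0xba51ad1))) (.node (.node (.leaf 0x606db0d) (.leaf 0x1b94)) (.node (.leaf 0x9e19ad1) (.leaf 0x0)))))) (.node (.node (.node (.node (.node (.leaf 0xcb59b01)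 (.leaf 0xc291b01)) (.node (.leaf 0x102fdad1) (.leaf 0xf7fdb01))) (.node (.node (.leaf 0xc431b01) (.leaf 0xb5a5ac1)) (.node (.leaf 0xa979ad1) (.leaf 0xf791ac1)))) (.node (.node (.node (.leaf 0x8355b0d) (.leaf 0x14875b0d)) (.node (.leaf 0xcd21b0d) (.leaf 0x112a1b0d))) (.node (.node (.leaf 0xd79dad1) (.leaf 0x11821ac1)) (.node (.leaf 0x14b09b0d) (.leaf 0x0))))) (.node (.node (.node (.node (.leaf 0x10345ad1) (.leaf 0xc55db0d)) (.node (.leaf 0xc2c1b0f) (.leaf 0xcb75ad1))) (.node (.node (.leaf 0xf10dad1) (.leaf 0xf7b9b0f)) (.node (.leaf 0xcf89b0d) (.leaf 0xe931ac1)))) (.node (.node (.node (.leaf 0x62ddac1) (.leaf 0xea19ad1)) (.node (.leaf 0x6e35b0f) (.leaf 0xc2d5ad1))) (.node (.node (.leaf 0xd9bdb0d) (.leaf 0x107a9ad1)) (.node (.leaf 0xa5cdb0f) (.leaf 0x0))))))) (.node (.node (.node (.node (.node (.node (.leaf 0xcfedb01) (.leaf 0x102f9ac1)) (.node (.leaf 0xccc5b0d)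 (.leaf 0xe79dac1))) (.node (.node (.leaf 0xd8b5b0f) (.leaf 0x8975b0d)) (.node (.leaf 0x9a5dad1) (.leaf 0xf1a5b0f)))) (.node (.node (.node (.leaf 0xc955ac1) (.leaf 0x15f25b0d)) (.node (.leaf 0x144e1b0d) (.leaf 0x9c2db01))) (.node (.node (.leaf 0x9e31b01) (.leaf 0xd331ac1)) (.node (.leaf 0x11a25b0d) (.leaf 0x0))))) (.node (.node (.node (.node (.leaf 0x12179b0f) (.leaf 0xcdc1ac1)) (.node (.leaf 0xc301ac1) (.leaf 0xc53db0d))) (.node (.node (.leaf 0x866db01) (.leaf 0xfa9db0f)) (.node (.leaf 0xd8b5b0d) (.leaf 0xdb41ac1)))) (.node (.node (.node (.leaf 0x133c1b0d) (.leaf 0xd27db0f)) (.node (.leaf 0xf1d5b0f) (.leaf 0x10925b0d))) (.node (.node (.leaf 0x9cddb0f) (.leaf 0xd379b0d)) (.node (.leaf 0xcc05ac1) (.leaf 0x0)))))) (.node (.node (.node (.node (.node (.leaf 0x5805b0d) (.leaf 0x8579ac1)) (.node (.leaf 0x8ab9b0f) (.leaf 0xe8c1ac1))) (.node (.node (.leaf 0xc301b0d)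 (.leaf 0xd8ddb0d)) (.node (.leaf 0x99cdb0d) (.leaf 0xdea9b0d)))) (.node (.node (.node (.leaf 0xc725ad1) (.leaf 0xaa39ad1)) (.node (.leaf 0xf561b0f) (.leaf 0x9519b0d))) (.node (.node (.leaf 0x4469b01) (.leaf 0xe255b0d)) (.node (.leaf 0xf1a5b0d) (.leaf 0x0))))) (.node (.node (.node (.node (.leaf 0x9065b0d) (.leaf 0x4d0db01)) (.node (.leaf 0xa055b0d) (.leaf 0xd8b5b01))) (.node (.node (.leaf 0x6dd1b0d) (.leaf 0x11de5b0d)) (.node (.leaf 0x13369b01) (.leaf 0x0)))) (.node (.node (.node (.leaf 0xe451b0f) (.leaf 0xe72db0d)) (.node (.leaf 0xac7db0f) (.leaf 0xaf7dac1))) (.node (.node (.leaf 0x13821b0d) (.leaf 0xdaa5ad1)) (.node (.leaf 0xd2f5b0d) (.leaf 0x0)))))))) (.node (.node (.node (.node (.node (.node (.node (.leaf 0xe6d5b0f) (.leaf 0x15075b0d)) (.node (.leaf 0x12ff9b0d) (.leaf 0xd2bdac1))) (.node (.node (.leaf 0x10cb9b0d) (.leaf 0xcf29b0f)) (.node (.leaf 0xea31b0f)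 (.leaf 0xc391b0d)))) (.node (.node (.node (.leaf 0x9a59b0d) (.leaf 0xdf4db01)) (.node (.leaf 0xce19ad1) (.leaf 0x5345b01))) (.node (.node (.leaf 0x12e55b0d) (.leaf 0x129ddb0d)) (.node (.leaf 0xb6d1b01) (.leaf 0x0))))) (.node (.node (.node (.node (.leaf 0xc101b0d) (.leaf 0x8531b0d)) (.node (.leaf 0xd95dac1) (.leaf 0x1550db0d))) (.node (.node (.leaf 0x13975b0f) (.leaf 0x12e85ac1)) (.node (.leaf 0xae45ad1) (.leaf 0xdaf5b0d)))) (.node (.node (.node (.leaf 0xd9b5b0d) (.leaf 0x11de9b0d)) (.node (.leaf 0x99d1b0d) (.leaf 0x11989b0f))) (.node (.node (.leaf 0x11ac9b0d) (.leaf 0x9891ac1)) (.node (.leaf 0x6279ac1) (.leaf 0x0)))))) (.node (.node (.node (.node (.node (.leaf 0xa889b0d) (.leaf 0xd0d9ac1)) (.node (.leaf 0xef99b0f) (.leaf 0x1bdc))) (.node (.node (.leaf 0x5091ac1) (.leaf 0x85edad1)) (.node (.leaf 0x17685b0d) (.leaf 0xf7edac1)))) (.node (.node (.node (.leaf 0xdeddb0f)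 (.leaf 0xc561b0d)) (.node (.leaf 0xde59b0d) (.leaf 0x974db0f))) (.node (.node (.leaf 0x8d59ad1) (.leaf 0x12d79ad1)) (.node (.leaf 0x4401ac1) (.leaf 0x0))))) (.node (.node (.node (.node (.leaf 0x4381ac1) (.leaf 0xe379ad1)) (.node (.leaf 0xdacdb01) (.leaf 0x106f1b0f))) (.node (.node (.leaf 0xa6bdb0f) (.leaf 0xe211b0d)) (.node (.leaf 0x85c1b0f) (.leaf 0x0)))) (.node (.node (.node (.leaf 0xb8f1b0f) (.leaf 0xb20db01)) (.node (.leaf 0xf0a1b01) (.leaf 0xcdddb0f))) (.node (.node (.leaf 0x8529b0d) (.leaf 0x112fdac1)) (.node (.leaf 0xa249b01) (.leaf 0x0))))))) (.node (.node (.node (.node (.node (.node (.leaf 0xd729b0d) (.leaf 0x11225b0d)) (.node (.leaf 0xf481b0f) (.leaf 0xc169b0d))) (.node (.node (.leaf 0x8921b01) (.leaf 0xf131b0f)) (.node (.leaf 0xc359b0f) (.leaf 0x8949b0f)))) (.node (.node (.node (.leaf 0x118e9b0d) (.leaf 0x91d5b0f)) (.node (.leaf 0x8965b0f) (.leaf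 0xb3edb0f))) (.node (.node (.leaf 0x92b9b01) (.leaf 0x11f11b0d)) (.node (.leaf 0xb4c1ac1) (.leaf 0x0))))) (.node (.node (.node (.node (.leaf 0xd625b01) (.leaf 0xb965b0d)) (.node (.leaf 0x8da5ad1) (.leaf 0xa509ad1))) (.node (.node (.leaf 0x129f5b0d) (.leaf 0xb76db0f)) (.node (.leaf 0x98fdb0d) (.leaf 0x97e5ad1)))) (.node (.node (.node (.leaf 0x12389ac1) (.leaf 0xde15ac1)) (.node (.leaf 0x55a1ad1) (.leaf 0xa249b0f))) (.node (.node (.leaf 0x14899b0d) (.leaf 0x1154dac1)) (.node (.leaf 0x85a1ac1) (.leaf 0x0)))))) (.node (.node (.node (.node (.node (.leaf 0xd18dad1) (.leaf 0xee05b0f)) (.node (.leaf 0xc241ac1) (.leaf 0xebf5ac1))) (.node (.node (.leaf 0x103a9ac1) (.leaf 0xf471ac1)) (.node (.leaf 0xf2f9ac1) (.leaf 0x6299ad1)))) (.node (.node (.node (.leaf 0x8611b01) (.leaf 0x11ee1b0d)) (.node (.leaf 0x6c5db01) (.leaf 0x9349ad1))) (.node (.node (.leaf 0x944dad1) (.leaf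 0xd959b0f)) (.node (.leaf 0x8a61ac1) (.leaf 0x0))))) (.node (.node (.node (.node (.leaf 0xe079b0f) (.leaf 0x12cbdb0f)) (.node (.leaf 0x55e5ac1) (.leaf 0xaac1b01))) (.node (.node (.leaf 0x124bdb0d) (.leaf 0xb2a1b01)) (.node (.leaf 0xf645b01) (.leaf 0x0)))) (.node (.node (.node (.leaf 0x9e95b01) (.leaf 0x11795ac1)) (.node (.leaf 0x7afdac1) (.leaf 0xd4e1b01))) (.node (.node (.leaf 0x4381ad1) (.leaf 0xd06db0f)) (.node (.leaf 0xe9a1ad1) (.leaf 0x0))))))))))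

/-- packed table -/
noncomputable def cov14_rrl : BTree := (.node (.node (.node (.node (.node (.node (.node (.node (.node (.leaf 0xdf99b0d) (.leaf 0x10d35b0d)) (.node (.leaf 0xda65b0f) (.leaf 0xc4b1b0d))) (.node (.node (.leaf 0xc0e9ad1) (.leaf 0x109ddb0d)) (.node (.leaf 0x15ba9b0d) (.leaf 0xcfc5b0f)))) (.node (.node (.node (.leaf 0x10345b0f) (.leaf 0xf2f5b0d)) (.node (.leaf 0x9611b01) (.leaf 0xe9a9b01))) (.node (.node (.leaf 0xdea9ac1) (.leaf 0x93b9ac1)) (.node (.leaf 0xf7edb0f) (.leaf 0x0))))) (.node (.node (.node (.node (.leaf 0xd0bdb0d) (.leaf 0x5fe1ad1)) (.node (.leaf 0x11969ad1) (.leaf 0x6955b0f))) (.node (.node (.leaf 0xe2f5b01) (.leaf 0xd871b0d)) (.node (.leaf 0x98fdad1) (.leaf 0xd945ac1)))) (.node (.node (.node (.leaf 0x8611ac1) (.leaf 0x103a9b0d)) (.node (.leaf 0xc32db0d) (.leaf 0xdacdac1))) (.node (.node (.leaf 0x12cbdb0d) (.leaf 0x16205b0d)) (.node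 (.leaf 0x9e2dad1) (.leaf 0x0)))))) (.node (.node (.node (.node (.node (.leaf 0xb57dad1) (.leaf 0xb691ad1)) (.node (.leaf 0x10515b0d) (.leaf 0xb245ac1))) (.node (.node (.leaf 0x88edb0f) (.leaf 0xd1fdb0f)) (.node (.leaf 0xc089b0f) (.leaf 0xf6f5ad1)))) (.node (.node (.node (.leaf 0x8559b0d) (.leaf 0x97e9b0f)) (.node (.leaf 0x11551b0d) (.leaf 0x9aadad1))) (.node (.node (.leaf 0x1ac8) (.leaf 0xc54db0d)) (.node (.leaf 0x5925ac1) (.leaf 0x0))))) (.node (.node (.node (.node (.leaf 0xc431b0d) (.leaf 0xb57db0f)) (.node (.leaf 0x85c1ad1) (.leaf 0x1058db0d))) (.node (.node (.leaf 0xde89b0f) (.leaf 0x127b9b01)) (.node (.leaf 0x10f61b0d) (.leaf 0x99d1b01)))) (.node (.node (.node (.leaf 0xb7e9ad1) (.leaf 0xed85ac1)) (.node (.leaf 0xf2b9ac1) (.leaf 0x13031ac1))) (.node (.node (.leaf 0xe21db0f) (.leaf 0xb3edb0d)) (.node (.leaf 0xd559b0d) (.leaf 0x0))))))) (.node (.node (.node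 (.node (.node (.node (.leaf 0x135cdb0d) (.leaf 0x8769ac1)) (.node (.leaf 0xc96dac1) (.leaf 0xeeadad1))) (.node (.node (.leaf 0xb555b0d) (.leaf 0xf75dac1)) (.node (.leaf 0xdacdad1) (.leaf 0xd9b1b01)))) (.node (.node (.node (.leaf 0xe5b1b0f) (.leaf 0xe01db0d)) (.node (.leaf 0xc369ad1) (.leaf 0x803dad1))) (.node (.node (.leaf 0x103edac1) (.leaf 0x10a5db0d)) (.node (.leaf 0x12461b0d) (.leaf 0x0))))) (.node (.node (.node (.node (.leaf 0xf491b0f) (.leaf 0xc829b0f)) (.node (.leaf 0x12b99b0d) (.leaf 0x12f9dac1))) (.node (.node (.leaf 0xd921ad1) (.leaf 0xd701b0d)) (.node (.leaf 0xae41b0d) (.leaf 0x81adad1)))) (.node (.node (.node (.leaf 0xf365b0f) (.leaf 0x4e51ac1)) (.node (.leaf 0x1284dac1) (.leaf 0xf131ac1))) (.node (.node (.leaf 0x13761b0d) (.leaf 0xe7d9ac1)) (.node (.leaf 0x9ca1b0f) (.leaf 0x0)))))) (.node (.node (.node (.node (.node (.leaf 0xcf99ad1) (.leaf 0x4eddb0f))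 (.node (.leaf 0x9e3db0f) (.leaf 0x12209b0f))) (.node (.node (.leaf 0x10d55b01) (.leaf 0x130adb0d)) (.node (.leaf 0xdbf9ac1) (.leaf 0xc57db0d)))) (.node (.node (.node (.leaf 0xcbadad1) (.leaf 0xc7b1ad1)) (.node (.leaf 0xd991b0f) (.leaf 0xd6a9b0d))) (.node (.node (.leaf 0xd8c1b0d) (.leaf 0x11c0db01)) (.node (.leaf 0xdeddad1) (.leaf 0x0))))) (.node (.node (.node (.node (.leaf 0x10db9b0f) (.leaf 0x829db01)) (.node (.leaf 0xa439ac1) (.leaf 0x962db0f))) (.node (.node (.leaf 0x13041ad1) (.leaf 0x1324db01)) (.node (.leaf 0xe6c9b0d) (.leaf 0x0)))) (.node (.node (.node (.leaf 0x17745b0d) (.leaf 0xdc31ac1)) (.node (.leaf 0x10625b0d) (.leaf 0x120fdad1))) (.node (.node (.leaf 0x803db0d) (.leaf 0x729dac1)) (.node (.leaf 0x107bdb0d) (.leaf 0x0)))))))) (.node (.node (.node (.node (.node (.node (.node (.leaf 0xce91ac1) (.leaf 0xd39db0f)) (.node (.leaf 0x9e95b0f) (.leaf 0x10929ad1)))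 (.node (.node (.leaf 0xa431b01) (.leaf 0xf405b01)) (.node (.leaf 0xf5a1ad1) (.leaf 0x12759b0f)))) (.node (.node (.node (.leaf 0x107cdb0d) (.leaf 0x8db5b0d)) (.node (.leaf 0x7389b0d) (.leaf 0xded9ad1))) (.node (.node (.leaf 0x1006db0f) (.leaf 0x9bd5b0f)) (.node (.leaf 0xf445ac1) (.leaf 0x0))))) (.node (.node (.node (.node (.leaf 0xd1d9ac1) (.leaf 0xed25b0d)) (.node (.leaf 0x5929b0d) (.leaf 0xf62db0f))) (.node (.node (.leaf 0xcca5ac1) (.leaf 0xc07db0f)) (.node (.leaf 0xd7e1b0d) (.leaf 0x9415b0f)))) (.node (.node (.node (.leaf 0xcd7dac1) (.leaf 0xf4a1b0d)) (.node (.leaf 0xf669ad1) (.leaf 0x6e3dac1))) (.node (.node (.leaf 0x876db0f) (.leaf 0x139b5ac1)) (.node (.leaf 0x4995ad1) (.leaf 0x0)))))) (.node (.node (.node (.node (.node (.leaf 0x12475ac1) (.leaf 0xd8a9b0d)) (.node (.leaf 0xd3a9b0d) (.leaf 0x96f5b0d))) (.node (.node (.leaf 0x6741ad1) (.leaf 0x12ff9ac1)) (.node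 (.leaf 0x6285ad1) (.leaf 0xb5a5b0f)))) (.node (.node (.node (.leaf 0x835db0d) (.leaf 0xc55dac1)) (.node (.leaf 0xde65b0d) (.leaf 0x12af9b01))) (.node (.node (.leaf 0xc651ac1) (.leaf 0xb665b0f)) (.node (.leaf 0x11501b0d) (.leaf 0x0))))) (.node (.node (.node (.node (.leaf 0x4349ac1) (.leaf 0x12e8db0d)) (.node (.leaf 0xf10db0d) (.leaf 0x12eb9ad1))) (.node (.node (.leaf 0xe5d1b0f) (.leaf 0x10679b0d)) (.node (.leaf 0xf2f5b01) (.leaf 0x0)))) (.node (.node (.node (.leaf 0xf6f5b0f) (.leaf 0x9d7db0f)) (.node (.leaf 0x756dac1) (.leaf 0x6cddac1))) (.node (.node (.leaf 0x6741b0f) (.leaf 0xd1b1b0f)) (.node (.leaf 0xb74db0f) (.leaf 0x0))))))) (.node (.node (.node (.node (.node (.node (.leaf 0x4745b0f) (.leaf 0x102fdac1)) (.node (.leaf 0x11f19b0d) (.leaf 0x127a9b01))) (.node (.node (.leaf 0x8a99ac1) (.leaf 0xc659b0f)) (.node (.leaf 0x99a5ad1) (.leaf 0xd361b01)))) (.node (.node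 (.node (.leaf 0x11f29b0d) (.leaf 0xe4d9ad1)) (.node (.leaf 0xe7edb0f) (.leaf 0xda35b01))) (.node (.node (.leaf 0x12a01b0d) (.leaf 0x8965ad1)) (.node (.leaf 0xf53db01) (.leaf 0x0))))) (.node (.node (.node (.node (.leaf 0xb5c1b0d) (.leaf 0x11685b0d)) (.node (.leaf 0xa8e5b0f) (.leaf 0x10e1db0d))) (.node (.node (.leaf 0xe729b0d) (.leaf 0xb285ac1)) (.node (.leaf 0x9c9db0d) (.leaf 0x144d1b0d)))) (.node (.node (.node (.leaf 0x8c09b01) (.leaf 0xdea9b01)) (.node (.leaf 0x99c1ad1) (.leaf 0xf7cdb0f))) (.node (.node (.leaf 0xd7cdb0d) (.leaf 0x12711b0f)) (.node (.leaf 0xcf9db0d) (.leaf 0x0)))))) (.node (.node (.node (.node (.node (.leaf 0x12b71b0f) (.leaf 0x10bc5b0d)) (.node (.leaf 0x4689ac1) (.leaf 0xd6e1b0d))) (.node (.node (.leaf 0x10a55b0f) (.leaf 0xd8cdb0d)) (.node (.leaf 0x4689b0d) (.leaf 0x9739b0f)))) (.node (.node (.node (.leaf 0xa055b01) (.leaf 0x5345b0f)) (.node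 (.leaf 0xd379b01) (.leaf 0xdd89ad1))) (.node (.node (.leaf 0x13789b0d) (.leaf 0xef95b0d)) (.node (.leaf 0xce91b0d) (.leaf 0x0))))) (.node (.node (.node (.node (.leaf 0x11131b01) (.leaf 0xed41b0f)) (.node (.leaf 0x100b5b0d) (.leaf 0xdee9ad1))) (.node (.node (.leaf 0x12bc5b0d) (.leaf 0xc591b0d)) (.node (.leaf 0xf3b1ad1) (.leaf 0x0)))) (.node (.node (.node (.leaf 0xc7edad1) (.leaf 0xe81db0f)) (.node (.leaf 0x9bd5ad1) (.leaf 0x90adb0f))) (.node (.node (.leaf 0xccd1b0d) (.leaf 0xec4dad1)) (.node (.leaf 0xe8c1b0d) (.leaf 0x0))))))))) (.node (.node (.node (.node (.node (.node (.node (.node (.leaf 0xdfa5b0d) (.leaf 0xc50db0d)) (.node (.leaf 0x8ae5b01) (.leaf 0x99a9b01))) (.node (.node (.leaf 0xfa35b0f) (.leaf 0xefd5b0d)) (.node (.leaf 0xf3b1ac1) (.leaf 0xd325b0f)))) (.node (.node (.node (.leaf 0xc32db0f) (.leaf 0x13305b0d)) (.node (.leaf 0xb285b0f) (.leaf 0x134a5b0f)))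 (.node (.node (.leaf 0xe555b0f) (.leaf 0x13abdb0d)) (.node (.leaf 0x5811ac1) (.leaf 0x0))))) (.node (.node (.node (.node (.leaf 0xa641b01) (.leaf 0x8779ad1)) (.node (.leaf 0xe101b0f) (.leaf 0x11539b0d))) (.node (.node (.leaf 0x10cbdac1) (.leaf 0x13361b0f)) (.node (.leaf 0x85b1ad1) (.leaf 0x9d99ad1)))) (.node (.node (.node (.leaf 0x8d61ac1) (.leaf 0x1133db0f)) (.node (.leaf 0x7afdad1) (.leaf 0x8129b0f))) (.node (.node (.leaf 0x132ddb0f) (.leaf 0x12521b0d)) (.node (.leaf 0x437db0f) (.leaf 0x0)))))) (.node (.node (.node (.node (.node (.leaf 0x10631b0d) (.leaf 0xccf5ad1)) (.node (.leaf 0xdacdb0d) (.leaf 0xd9adb01))) (.node (.node (.leaf 0xf7b5b0f) (.leaf 0xd9f9b01)) (.node (.leaf 0x5925ad1) (.leaf 0x103edb0f)))) (.node (.node (.node (.leaf 0x4351b0d) (.leaf 0xcf15ad1)) (.node (.leaf 0x11821b0d) (.leaf 0xdad9ac1))) (.node (.node (.leaf 0xdc89b0d) (.leaf 0xd331b01))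 (.node (.leaf 0xdb55b0d) (.leaf 0x0))))) (.node (.node (.node (.node (.leaf 0x8de1b01) (.leaf 0x633dad1)) (.node (.leaf 0x13835b01) (.leaf 0x9349b0f))) (.node (.node (.leaf 0xe969b0f) (.leaf 0xc759b0f)) (.node (.leaf 0xc2c9b0d) (.leaf 0x57fdac1)))) (.node (.node (.node (.leaf 0x861db0f) (.leaf 0x8e9db0d)) (.node (.leaf 0xea91b0f) (.leaf 0x102ddad1))) (.node (.node (.leaf 0xc32dac1) (.leaf 0xed4dac1)) (.node (.leaf 0xeefdad1) (.leaf 0x0))))))) (.node (.node (.node (.node (.node (.node (.leaf 0xc7b1ac1) (.leaf 0xc2e5ac1)) (.node (.leaf 0x4995ac1) (.leaf 0xe101b0d))) (.node (.node (.leaf 0x10b3db0f) (.leaf 0xabddad1)) (.node (.leaf 0x108c5b0d) (.leaf 0x12209b0d)))) (.node (.node (.node (.leaf 0x999dac1) (.leaf 0xc88dac1)) (.node (.leaf 0x12eb5b0d) (.leaf 0x99cdb01))) (.node (.node (.leaf 0x9e2db01) (.leaf 0x9519b01)) (.node (.leaf 0xeefdb01) (.leaf 0x0))))) (.node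 (.node (.node (.node (.leaf 0xdc59b0d) (.leaf 0x8dedac1)) (.node (.leaf 0xe2f5b0d) (.leaf 0x11429b0f))) (.node (.node (.leaf 0xc5cdad1) (.leaf 0xa995b01)) (.node (.leaf 0x6b61b0d) (.leaf 0xd9c5b01)))) (.node (.node (.node (.leaf 0xc0f9b01) (.leaf 0xedf1ad1)) (.node (.leaf 0xb57dac1) (.leaf 0x1b08))) (.node (.node (.leaf 0x4eddad1) (.leaf 0x9c11b01)) (.node (.leaf 0x1323db0d) (.leaf 0x0)))))) (.node (.node (.node (.node (.node (.leaf 0x4b1db0f) (.leaf 0xf405b0f)) (.node (.leaf 0x120adb0d) (.leaf 0xed31ac1))) (.node (.node (.leaf 0x133c1ad1) (.leaf 0xd8c5b0d)) (.node (.leaf 0x9c2db0d) (.leaf 0xc1a5ad1)))) (.node (.node (.node (.leaf 0xb221ad1) (.leaf 0xd201b0f)) (.node (.leaf 0xb555ad1) (.leaf 0xe9e5b0d))) (.node (.node (.leaf 0x11771b0d) (.leaf 0x138f9ac1)) (.node (.leaf 0xef41b0f) (.leaf 0x0))))) (.node (.node (.node (.node (.leaf 0x729db0d) (.leaf 0x10cedb01))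 (.node (.leaf 0xc989b0f) (.leaf 0x12389b0d))) (.node (.node (.leaf 0xb665b0d) (.leaf 0xa889ac1)) (.node (.leaf 0xe969b0d) (.leaf 0x0)))) (.node (.node (.node (.leaf 0x13325b0d) (.leaf 0xa719b0d)) (.node (.leaf 0x12e21b01) (.leaf 0xeb3db0d))) (.node (.node (.leaf 0xdd89ac1) (.leaf 0xc1d1ad1)) (.node (.leaf 0xd18dac1) (.leaf 0x0)))))))) (.node (.node (.node (.node (.node (.node (.node (.leaf 0xce71ac1) (.leaf 0x1ace)) (.node (.leaf 0xb245ad1) (.leaf 0xf001ac1))) (.node (.node (.leaf 0x1ba4) (.leaf 0xf9e5ac1)) (.node (.leaf 0xfaa9ac1) (.leaf 0x10571b0d)))) (.node (.node (.node (.leaf 0xc485b0d) (.leaf 0x13355b0d)) (.node (.leaf 0x118d9ad1) (.leaf 0xabddb01))) (.node (.node (.leaf 0xebadb0f) (.leaf 0xc179ad1)) (.node (.leaf 0x9a5db0f) (.leaf 0x0))))) (.node (.node (.node (.node (.leaf 0xc0f9b0d) (.leaf 0xe9a9b0d)) (.node (.leaf 0xea09b0d) (.leaf 0x8081b0f))) (.node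 (.node (.leaf 0x135d5b0f) (.leaf 0xd709b0d)) (.node (.leaf 0xf61db01) (.leaf 0xeaadac1)))) (.node (.node (.node (.leaf 0x7afdb0d) (.leaf 0xe5c9b0d)) (.node (.leaf 0xedc9ac1) (.leaf 0xf251ac1))) (.node (.node (.leaf 0xdbedb0d) (.leaf 0x97f5b0f)) (.node (.leaf 0x8949ad1) (.leaf 0x0)))))) (.node (.node (.node (.node (.node (.leaf 0xac89ad1) (.leaf 0xac89b0f)) (.node (.leaf 0x962db0d) (.leaf 0xa989b01))) (.node (.node (.leaf 0x8d61b01) (.leaf 0xdb75b0f)) (.node (.leaf 0x13069ac1) (.leaf 0xc4d5b0d)))) (.node (.node (.node (.leaf 0xcda1b0f) (.leaf 0x10c25b0d)) (.node (.leaf 0xde45b0d) (.leaf 0x1bc0))) (.node (.node (.leaf 0xed69b0f) (.leaf 0x9745b01)) (.node (.leaf 0x6cddad1) (.leaf 0x0))))) (.node (.node (.node (.node (.leaf 0x8361ac1) (.leaf 0xe5d9b0d)) (.node (.leaf 0xf419ac1) (.leaf 0xf7c9ad1))) (.node (.node (.leaf 0x15041b0d) (.leaf 0x13305ac1)) (.node (.leaf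 0x571dad1) (.leaf 0x0)))) (.node (.node (.node (.leaf 0x4af9b0f) (.leaf 0xf991b01)) (.node (.leaf 0xae45b0f) (.leaf 0x6c5dad1))) (.node (.node (.leaf 0x8295b0d) (.leaf 0xf7b9ac1)) (.node (.leaf 0x999db01) (.leaf 0x0))))))) (.node (.node (.node (.node (.node (.node (.leaf 0xdbf9b0d) (.leaf 0x9739b01)) (.node (.leaf 0x4e51b01) (.leaf 0xa8bdb01))) (.node (.node (.leaf 0x48e9ac1) (.leaf 0xd18db0f)) (.node (.leaf 0x11429ac1) (.leaf 0x99a5b01)))) (.node (.node (.node (.leaf 0xcb75ac1) (.leaf 0x8749b0d)) (.node (.leaf 0x11d65b0f) (.leaf 0x13a05b0d))) (.node (.node (.leaf 0xc739ad1) (.leaf 0xa979b0f)) (.node (.leaf 0xeeedb0d) (.leaf 0x0))))) (.node (.node (.node (.node (.leaf 0x992db01) (.leaf 0xc9edb01)) (.node (.leaf 0xc2b1b01) (.leaf 0xa431b0f))) (.node (.node (.leaf 0xcf7db0d) (.leaf 0x12b85ac1)) (.node (.leaf 0x13a81b0f) (.leaf 0x7afdb0f)))) (.node (.node (.node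 (.leaf 0x1172db0f) (.leaf 0x8529b01)) (.node (.leaf 0x10371ad1) (.leaf 0xb7e9b0f))) (.node (.node (.leaf 0x10e21b0d) (.leaf 0xa97db01)) (.node (.leaf 0xc5cdac1) (.leaf 0x0)))))) (.node (.node (.node (.node (.node (.leaf 0x8a99b0d) (.leaf 0xdb85b0f)) (.node (.leaf 0x99a1b01) (.leaf 0xf9c1b0d))) (.node (.node (.leaf 0xb691b0f) (.leaf 0xf0c9b0d)) (.node (.leaf 0xd139b0f) (.leaf 0x83f1b0f)))) (.node (.node (.node (.leaf 0x486db0f) (.leaf 0x10aadb0d)) (.node (.leaf 0x8319b0d) (.leaf 0xd9c9b01))) (.node (.node (.leaf 0x6cddb0f) (.leaf 0xb8a1b0d)) (.node (.leaf 0x81adb01) (.leaf 0x0))))) (.node (.node (.node (.node (.leaf 0xe9a9b0f) (.leaf 0x12cb5b0f)) (.node (.leaf 0x92e5ac1) (.leaf 0x6be5b01))) (.node (.node (.leaf 0x9d6db0d) (.leaf 0xaf7db01)) (.node (.leaf 0xa5bdb0d) (.leaf 0x0)))) (.node (.node (.node (.leaf 0xa595b0d) (.leaf 0x95ddac1)) (.node (.leaf 0x10e31ad1)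 (.leaf 0x9c2db0f))) (.node (.node (.leaf 0x8129ad1) (.leaf 0x924db01)) (.node (.leaf 0x107e5b0d) (.leaf 0x0))))))))))

/-- packed table -/
noncomputable def cov14_rrr : BTree := (.node (.node (.node (.node (.node (.node (.node (.node (.node (.leaf 0x8bb5b01) (.leaf 0x8559ad1)) (.node (.leaf 0x4af9b01) (.leaf 0xcf99b0d))) (.node (.node (.leaf 0x9bc1ad1) (.leaf 0xb37db0f)) (.node (.leaf 0x12f15ac1) (.leaf 0x10171b0d)))) (.node (.node (.node (.leaf 0xc331b0f) (.leaf 0xf2edb0f)) (.node (.leaf 0xf625ad1) (.leaf 0x1b9a))) (.node (.node (.leaf 0xd06db0d) (.leaf 0x102adb0d)) (.node (.leaf 0xf7f1b0f) (.leaf 0x0))))) (.node (.node (.node (.node (.leaf 0xc23dad1) (.leaf 0x8375ad1)) (.node (.leaf 0xc2d9ad1) (.leaf 0x6955b0d))) (.node (.node (.leaf 0x16715b0d) (.leaf 0xb5c1ac1)) (.node (.leaf 0xc2e1ad1) (.leaf 0xd6b1ac1)))) (.node (.node (.node (.leaf 0x47f9ac1) (.leaf 0xe785b0f))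 (.node (.leaf 0x10315b0d) (.leaf 0xb3edad1))) (.node (.node (.leaf 0xe91db0d) (.leaf 0x13051ac1)) (.node (.leaf 0x8361b0f) (.leaf 0x0)))))) (.node (.node (.node (.node (.node (.leaf 0xd071b0d) (.leaf 0x118e1b0f)) (.node (.leaf 0x90edac1) (.leaf 0xd601b01))) (.node (.node (.leaf 0x4911b0d) (.leaf 0x9245b0d)) (.node (.leaf 0xe7f9ac1) (.leaf 0x10545b0d)))) (.node (.node (.node (.leaf 0xb4f9b0d) (.leaf 0x6e3db0f)) (.node (.leaf 0xd9adad1) (.leaf 0x105c5b0f))) (.node (.node (.leaf 0x97f5b0d) (.leaf 0xaf7dad1)) (.node (.leaf 0x15629b0d) (.leaf 0x0))))) (.node (.node (.node (.node (.leaf 0x8dedb01) (.leaf 0x13735b0d)) (.node (.leaf 0xd6bdac1) (.leaf 0x9cddad1))) (.node (.node (.leaf 0x1b4a) (.leaf 0x13319b01)) (.node (.leaf 0xe885ac1) (.leaf 0x9ca1b01)))) (.node (.node (.node (.leaf 0x12d89b0d) (.leaf 0x17291b0d)) (.node (.leaf 0x1b8c) (.leaf 0x5ce5ad1))) (.node (.node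 (.leaf 0x10345ac1) (.leaf 0xc5bdad1)) (.node (.leaf 0x11569b0d) (.leaf 0x0))))))) (.node (.node (.node (.node (.node (.node (.leaf 0xcda1b0d) (.leaf 0xc771ac1)) (.node (.leaf 0xc971ac1) (.leaf 0xf141b0f))) (.node (.node (.leaf 0xe4c1ac1) (.leaf 0x9c9dad1)) (.node (.leaf 0x1340dac1) (.leaf 0x15ce1b0d)))) (.node (.node (.node (.leaf 0x901db0d) (.leaf 0xcdf1b0d)) (.node (.leaf 0xe7d9b0f) (.leaf 0x8295ad1))) (.node (.node (.leaf 0x9e5db0d) (.leaf 0xc6a1b0d)) (.node (.leaf 0x6be5ac1) (.leaf 0x0))))) (.node (.node (.node (.node (.leaf 0x6299b0f) (.leaf 0xce71b01)) (.node (.leaf 0x12809b0d) (.leaf 0x1b16))) (.node (.node (.leaf 0xe101ad1) (.leaf 0xeec5ac1)) (.node (.leaf 0xd0e9b0f) (.leaf 0x9645ac1)))) (.node (.node (.node (.leaf 0xc101b01) (.leaf 0x8e61ac1)) (.node (.leaf 0xcbbdb0d) (.leaf 0xebc1ad1))) (.node (.node (.leaf 0x6299b01) (.leaf 0x13271ac1)) (.node (.leaf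 0x13739b0d) (.leaf 0x0)))))) (.node (.node (.node (.node (.node (.leaf 0x10db1ac1) (.leaf 0x12799b0f)) (.node (.leaf 0xe821b0f) (.leaf 0x138c1b0d))) (.node (.node (.leaf 0xf0c1ad1) (.leaf 0xdb59b0f)) (.node (.leaf 0x4d0db0d) (.leaf 0x17b45b0d)))) (.node (.node (.node (.leaf 0x10929b0d) (.leaf 0xc1d5ad1)) (.node (.leaf 0x93ddb0d) (.leaf 0x12b71ac1))) (.node (.node (.leaf 0x8769b0f) (.leaf 0xd7b5b01)) (.node (.leaf 0xcfc5ac1) (.leaf 0x0))))) (.node (.node (.node (.node (.leaf 0xc2b9b0d) (.leaf 0x82a5b01)) (.node (.leaf 0xaf45b0f) (.leaf 0x11621b01))) (.node (.node (.leaf 0xcb79b01) (.leaf 0x741db0d)) (.node (.leaf 0x8779b0f) (.leaf 0x0)))) (.node (.node (.node (.leaf 0x12829b0d) (.leaf 0x8bb5b0d)) (.node (.leaf 0x861db0d) (.leaf 0x9671ac1))) (.node (.node (.leaf 0xb815b0d) (.leaf 0xc2b1b0f)) (.node (.leaf 0x112fdb0d) (.leaf 0x0)))))))) (.node (.node (.node (.node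 (.node (.node (.node (.leaf 0x99c1b0d) (.leaf 0xd3a1b0f)) (.node (.leaf 0x9245b01) (.leaf 0xcf25b0d))) (.node (.node (.leaf 0xe425b01) (.leaf 0x11149b0d)) (.node (.leaf 0xd95db0d) (.leaf 0xf379b0f)))) (.node (.node (.node (.leaf 0xcfc5ad1) (.leaf 0x120fdac1)) (.node (.leaf 0x9bc1b0d) (.leaf 0x1660db0d))) (.node (.node (.leaf 0x10f81ac1) (.leaf 0x1af0)) (.node (.leaf 0xdae9ac1) (.leaf 0x0))))) (.node (.node (.node (.node (.leaf 0xddf5ad1) (.leaf 0xc4d5ad1)) (.node (.leaf 0xab9db01) (.leaf 0xb631b0f))) (.node (.node (.leaf 0xdfddb01) (.leaf 0xe2adb0f)) (.node (.leaf 0x571db01) (.leaf 0xd871b0f)))) (.node (.node (.node (.leaf 0x10aadb01) (.leaf 0x9585b0f)) (.node (.leaf 0x13325ad1) (.leaf 0x12d89b01))) (.node (.node (.leaf 0xd27dad1) (.leaf 0xcabdb0d)) (.node (.leaf 0x437dad1) (.leaf 0x0)))))) (.node (.node (.node (.node (.node (.leaf 0xdea9ad1) (.leaf 0x11899b0d))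 (.node (.leaf 0xe7f9ad1) (.leaf 0x829db0f))) (.node (.node (.leaf 0x12581b0f) (.leaf 0xdc21b01)) (.node (.leaf 0xba45b01) (.leaf 0xe025b0f)))) (.node (.node (.node (.leaf 0x834db0d) (.leaf 0x10309b0d)) (.node (.leaf 0x9e4db0d) (.leaf 0xd3b5b01))) (.node (.node (.leaf 0x8975b01) (.leaf 0x10d65b0d)) (.node (.leaf 0xcfc9b0d) (.leaf 0x0))))) (.node (.node (.node (.node (.leaf 0x4381b01) (.leaf 0xf905b0d)) (.node (.leaf 0xb76db01) (.leaf 0x115d1ac1))) (.node (.node (.leaf 0x11145b0f) (.leaf 0xf261b01)) (.node (.leaf 0x1191db0d) (.leaf 0x0)))) (.node (.node (.node (.leaf 0x999dad1) (.leaf 0xddc9ad1)) (.node (.leaf 0x756db0f) (.leaf 0xaf7db0d))) (.node (.node (.leaf 0x10ea9b0d) (.leaf 0x91cdb0f)) (.node (.leaf 0x1373db0d) (.leaf 0x0))))))) (.node (.node (.node (.node (.node (.node (.leaf 0xf2a9b0d) (.leaf 0x1121db0d)) (.node (.leaf 0xe785b0d) (.leaf 0xa181b0d))) (.node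 (.node (.leaf 0x1188db0f) (.leaf 0xdfddb0f)) (.node (.leaf 0x82a5ad1) (.leaf 0x10525b0d)))) (.node (.node (.node (.leaf 0xf48db0f) (.leaf 0x852db0d)) (.node (.leaf 0x173a9b0d) (.leaf 0xe701b0f))) (.node (.node (.leaf 0x9391b0f) (.leaf 0x1ada)) (.node (.leaf 0x6285ac1) (.leaf 0x0))))) (.node (.node (.node (.node (.leaf 0xde41b01) (.leaf 0x1b22)) (.node (.leaf 0x11fcdb0d) (.leaf 0xeaadb0f))) (.node (.node (.leaf 0xdee9b0d) (.leaf 0xcf6db0d)) (.node (.leaf 0x11a01ac1) (.leaf 0x12009b0d)))) (.node (.node (.node (.leaf 0xdad5ad1) (.leaf 0xc2e1b0d)) (.node (.leaf 0xc5cdb0f) (.leaf 0xeefdb0f))) (.node (.node (.leaf 0x1ac6) (.leaf 0xe325b0f)) (.node (.leaf 0x8091b0f) (.leaf 0x0)))))) (.node (.node (.node (.node (.node (.leaf 0xf5b5b0d) (.leaf 0x13981b0f)) (.node (.leaf 0xe321b01) (.leaf 0xac89ac1))) (.node (.node (.leaf 0xc3b5ac1) (.leaf 0xc089ad1)) (.node (.leaf 0xf9e5b0f)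 (.leaf 0x119d9b0d)))) (.node (.node (.node (.leaf 0xc861b0f) (.leaf 0xb3e1b0d)) (.node (.leaf 0x6c5db0f) (.leaf 0x93e1b0d))) (.node (.node (.leaf 0x98fdb0f) (.leaf 0x9439b01)) (.node (.leaf 0x13095b0d) (.leaf 0x0))))) (.node (.node (.node (.node (.leaf 0xebd5b0d) (.leaf 0xd04db01)) (.node (.leaf 0x55a1b01) (.leaf 0xcad1b0d))) (.node (.node (.leaf 0xe471b0d) (.leaf 0x4e51b0f)) (.node (.leaf 0x1068db0f) (.leaf 0x0)))) (.node (.node (.node (.leaf 0x10a9db0f) (.leaf 0x12805b0f)) (.node (.leaf 0xccf5b0d) (.leaf 0x15f1db0d))) (.node (.node (.leaf 0xc305b0d) (.leaf 0xb771ad1)) (.node (.leaf 0xb64dad1) (.leaf 0x0))))))))) (.node (.node (.node (.node (.node (.node (.node (.node (.leaf 0x6c5db0d) (.leaf 0xcf11ac1)) (.node (.leaf 0xd27dac1) (.leaf 0x6939b0d))) (.node (.node (.leaf 0x1241db01) (.leaf 0x101c1b0d)) (.node (.leaf 0xf485b01) (.leaf 0xe01db0f)))) (.node (.node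 (.node (.leaf 0x91e1b0d) (.leaf 0xcd75b0d)) (.node (.leaf 0xf121b01) (.leaf 0xda75b01))) (.node (.node (.leaf 0xcea1b0f) (.leaf 0xb539b01)) (.node (.leaf 0xb1c5ac1) (.leaf 0x0))))) (.node (.node (.node (.node (.leaf 0x91e1ac1) (.leaf 0xb8f1b0d)) (.node (.leaf 0xa8b1ac1) (.leaf 0xd05dad1))) (.node (.node (.leaf 0xccb5ac1) (.leaf 0xd9bdad1)) (.node (.leaf 0x97e9ad1) (.leaf 0xf711b0d)))) (.node (.node (.node (.leaf 0x10625ad1) (.leaf 0x9e29b0f)) (.node (.leaf 0xa20db0d) (.leaf 0xc435b0f))) (.node (.node (.leaf 0x6279b0f) (.leaf 0x1ae0)) (.node (.leaf 0x4689ad1) (.leaf 0x0)))))) (.node (.node (.node (.node (.node (.leaf 0x157edb0d) (.leaf 0xef5dad1)) (.node (.leaf 0x93b9ad1) (.leaf 0x1bb4))) (.node (.node (.leaf 0xd981b0d) (.leaf 0x13361b01)) (.node (.leaf 0x13719b0f) (.leaf 0x11f09b0d)))) (.node (.node (.node (.leaf 0x8361b0d) (.leaf 0x10f0dad1)) (.node (.leaf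 0xdb99b0d) (.leaf 0xb965b0f))) (.node (.node (.leaf 0x9dd9ac1) (.leaf 0xe27dad1)) (.node (.leaf 0x9b6db0f) (.leaf 0x0))))) (.node (.node (.node (.node (.leaf 0xcdf1b01) (.leaf 0x1b80)) (.node (.leaf 0xf2edac1) (.leaf 0x6be5ad1))) (.node (.node (.leaf 0xc51dac1) (.leaf 0xa0f1b0d)) (.node (.leaf 0x97d5b0d) (.leaf 0x9915ac1)))) (.node (.node (.node (.leaf 0xda81ac1) (.leaf 0xec4db01)) (.node (.leaf 0x7175ac1) (.leaf 0xc2e9ad1))) (.node (.node (.leaf 0xc329ac1) (.leaf 0x167fdb0d)) (.node (.leaf 0xbb2db0f) (.leaf 0x0))))))) (.node (.node (.node (.node (.node (.node (.leaf 0x113d5b0f) (.leaf 0x102f5ac1)) (.node (.leaf 0xa18db01) (.leaf 0x11bcdb01))) (.node (.node (.leaf 0xe165b0d) (.leaf 0x5fe1b0f)) (.node (.leaf 0x1212db0d) (.leaf 0xc665b0d)))) (.node (.node (.node (.leaf 0xf4c5b0d) (.leaf 0xc955b0d)) (.node (.leaf 0xe7f9b0f) (.leaf 0x5811b01))) (.node (.node (.leaf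 0xc861b0d) (.leaf 0xf991ac1)) (.node (.leaf 0xf449ac1) (.leaf 0x0))))) (.node (.node (.node (.node (.leaf 0xe395b01) (.leaf 0x10575b01)) (.node (.leaf 0xb1b1b01) (.leaf 0xc3b1b0f))) (.node (.node (.leaf 0xaa95ad1) (.leaf 0xc36dad1)) (.node (.leaf 0xacfdb01) (.leaf 0xe8b5ad1)))) (.node (.node (.node (.leaf 0xc1d1ac1) (.leaf 0x6dd1ad1)) (.node (.leaf 0xbaedb01) (.leaf 0x11a41b0d))) (.node (.node (.leaf 0xa501b01) (.leaf 0x12eb1ac1)) (.node (.leaf 0xe69db0d) (.leaf 0x0)))))) (.node (.node (.node (.node (.node (.leaf 0x1069dac1) (.leaf 0x14d39b0d)) (.node (.leaf 0x11f31ad1) (.leaf 0x12a51b0f))) (.node (.node (.leaf 0x83adb01) (.leaf 0xf5b5ac1)) (.node (.leaf 0x93f5b0d) (.leaf 0x12e79b01)))) (.node (.node (.node (.leaf 0x9c71b01) (.leaf 0x4e51ad1)) (.node (.leaf 0xed65ac1) (.leaf 0xd3c1b01))) (.node (.node (.leaf 0x10171ac1) (.leaf 0xb695ad1)) (.node (.leaf 0x9c95ad1)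 (.leaf 0x0))))) (.node (.node (.node (.node (.leaf 0xf001b0f) (.leaf 0x1069dad1)) (.node (.leaf 0xc57dad1) (.leaf 0x12f01b0f))) (.node (.node (.leaf 0x97e5b0d) (.leaf 0x12409b0d)) (.node (.leaf 0xea1dad1) (.leaf 0x0)))) (.node (.node (.node (.leaf 0xc7edac1) (.leaf 0x12711b0d)) (.node (.leaf 0xf5e5b0f) (.leaf 0x12b41b0d))) (.node (.node (.leaf 0x11291b0d) (.leaf 0xdf4dad1)) (.node (.leaf 0x4b1dad1) (.leaf 0x0)))))))) (.node (.node (.node (.node (.node (.node (.node (.leaf 0xad51ad1) (.leaf 0xc759ac1)) (.node (.leaf 0x10cedb0d) (.leaf 0x1069db0d))) (.node (.node (.leaf 0xf839ad1) (.leaf 0xf31db01)) (.node (.leaf 0xd95dad1) (.leaf 0xc535b0d)))) (.node (.node (.node (.leaf 0xa259ac1) (.leaf 0xf365b0d)) (.node (.leaf 0x11715ad1) (.leaf 0xe729ac1))) (.node (.node (.leaf 0x9891ad1) (.leaf 0x4995b0f)) (.node (.leaf 0x11eedb0d) (.leaf 0x0))))) (.node (.node (.node (.node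 (.leaf 0x100f5b0d) (.leaf 0xa995b0d)) (.node (.leaf 0x9d41b0f) (.leaf 0x8081b0d))) (.node (.node (.leaf 0xdb71b0f) (.leaf 0x1170db0d)) (.node (.leaf 0xae45b0d) (.leaf 0xeacdb0f)))) (.node (.node (.node (.leaf 0xefa5ad1) (.leaf 0x85b1b0d)) (.node (.leaf 0xd5e9b0d) (.leaf 0xc521b0d))) (.node (.node (.leaf 0x9c11b0d) (.leaf 0xf855b0f)) (.node (.leaf 0x104c1b0d) (.leaf 0x0)))))) (.node (.node (.node (.node (.node (.leaf 0xac7dad1) (.leaf 0xf1ddb0f)) (.node (.leaf 0xf9c9ad1) (.leaf 0x9e71ad1))) (.node (.node (.leaf 0xdb3db0d) (.leaf 0x6285b0f)) (.node (.leaf 0xd13db0f) (.leaf 0x11f0db0d)))) (.node (.node (.node (.leaf 0xa1b9ac1) (.leaf 0x104fdb01)) (.node (.leaf 0xb555b0f) (.leaf 0x5805b01))) (.node (.node (.leaf 0x894db0d) (.leaf 0x9bd5b01)) (.node (.leaf 0x5091b01) (.leaf 0x0))))) (.node (.node (.node (.node (.leaf 0x1abe) (.leaf 0x86d9ac1)) (.node (.leaf 0x11351ac1)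 (.leaf 0x53e9ac1))) (.node (.node (.leaf 0xc2d5ac1) (.leaf 0xe5d1b0d)) (.node (.leaf 0xfaf5b01) (.leaf 0x0)))) (.node (.node (.node (.leaf 0xa259ad1) (.leaf 0x12201b0d)) (.node (.leaf 0xc425ad1) (.leaf 0x8de1b0f))) (.node (.node (.leaf 0x8e35b0d) (.leaf 0x53e9b0d)) (.node (.leaf 0x901db0f) (.leaf 0x0))))))) (.node (.node (.node (.node (.node (.node (.leaf 0xf4b5b0d) (.leaf 0xf7d1b0f)) (.node (.leaf 0xe395b0d) (.leaf 0x4745b0d))) (.node (.node (.leaf 0x4911ac1) (.leaf 0x102fdb0f)) (.node (.leaf 0x6cddb01) (.leaf 0x99a5ac1)))) (.node (.node (.node (.leaf 0xf9c9b0f) (.leaf 0xc7d9b0d)) (.node (.leaf 0x9d6db0f) (.leaf 0x93b9b01))) (.node (.node (.leaf 0xccf5ac1) (.leaf 0x5925b0f)) (.node (.leaf 0xf899b0f) (.leaf 0x0))))) (.node (.node (.node (.node (.leaf 0xde41b0f) (.leaf 0xca69ad1)) (.node (.leaf 0xf7b9b01) (.leaf 0xe425b0d))) (.node (.node (.leaf 0x11cc5b0d) (.leaf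 0xf6d9b01)) (.node (.leaf 0xad51b01) (.leaf 0x1b58)))) (.node (.node (.node (.leaf 0x112edac1) (.leaf 0x9e31ac1)) (.node (.leaf 0x8559ac1) (.leaf 0xf62dad1))) (.node (.node (.leaf 0xdcd1b0f) (.leaf 0x9d0db0f)) (.node (.leaf 0xb6d1ad1) (.leaf 0x0)))))) (.node (.node (.node (.node (.node (.leaf 0xc809b0d) (.leaf 0x9d71ad1)) (.node (.leaf 0x8eadb0f) (.leaf 0x6dd1ac1))) (.node (.node (.leaf 0x12309b01) (.leaf 0xd4fdac1)) (.node (.leaf 0xf9cdb0f) (.leaf 0x9349b01)))) (.node (.node (.node (.leaf 0x99a1b0d) (.leaf 0xc0d9ac1)) (.node (.leaf 0xefddb01) (.leaf 0x138b9b0f))) (.node (.node (.leaf 0x105a5ac1) (.leaf 0x1af6)) (.node (.leaf 0x81b5b01) (.leaf 0x0))))) (.node (.node (.node (.node (.leaf 0x8965ac1) (.leaf 0xc75db0d)) (.node (.leaf 0xae45ac1) (.leaf 0xea31b01))) (.node (.node (.leaf 0x1284db0d) (.leaf 0xd9bdb01)) (.node (.leaf 0x9a59b0f) (.leaf 0x0)))) (.node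 (.node (.node (.leaf 0x13559b0f) (.leaf 0x10171ad1)) (.node (.leaf 0x1b8a) (.leaf 0x9a59ad1))) (.node (.node (.leaf 0x80cdb01) (.leaf 0xea19b01)) (.node (.leaf 0x8815ac1) (.leaf 0x0))))))))))

/-- packed table -/
noncomputable def cov14 : BTree := (.node (.node (.node cov14_lll cov14_llr) (.node cov14_lrl cov14_lrr)) (.node (.node cov14_rll cov14_rlr) (.node cov14_rrl cov14_rrr)))

theorem cov14_ok : okCover 14 cov14 = true := by decide +kernel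

/-- straight-line program -/
def slp14 : List (Nat × Nat × Nat) :=
  [(0xb24eab84b033e911b964ab5829a240, 1, 2),
   (0xa382b35624b8ec07cd48924b0688ec, 1, 3),
   (0x9deadb48a27194c4d0703bc045a031, 5, 3),
   (0x3525669c041cd2552dc20de287c2ac, 3, 4),
   (0x53c2375404b266535da292e28a40ec, 7, 4),
   (0x698297d4a49aef175a9090c02520ec, 6, 5),
   (0xb2ce69c8a2535c01d124abd90ba031, 9, 5),
   (0x7aa4b6d4a4ba660a59c208e30320ec, 8, 5),
   (0x9d8ee5c9886be8049ae2aaa3019025, 8, 3),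
   (0xa364b31d82b8ec57a5500cc08712b1, 9, 12),
   (0x73c2951d9098ec56acc295e28a12a0, 13, 0),
   (0x5d8ef984a4a39a0ba922a9a301a24c, 11, 0),
   (0x33e5671e281a66c55db00ac04a0aa5, 14, 12),
   (0x4daad5863073e8599ae43a98818a40, 13, 0)]

/-- levels -/
def levels14 : List (Nat × List Nat) :=
  [(3, [18, 1, 2, 3, 4, 5, 6, 7, 8, 9, 10, 11]),
   (0, [18, 0, 12, 15]),
   (1, [18, 17])]

/-- stabilising facts -/
def gens14 : List Nat := [1712, 1716, 1728, 1731]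

theorem chain14_ok : okChain 14 gens14 slp14 levels14 = true := by decide +kernel

theorem chain14_size : chainSize levels14 = 96 := by decide +kernel

end CfsgLib.Spor.J4.Index
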