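import Cfsg.Agent.Lib.Spor.J4.Index.Check

/-!
Coverage and stabiliser of node 15 (generated).
-/

set_option autoImplicit false
set_option linter.all false

namespace CfsgLib.Spor.J4.Index

open CfsgLib.PresCert

/-- packed table -/
noncomputable def cov15_lll : BTree := (.node (.node (.node (.node (.node (.node (.node (.node (.node (.leaf 0xdfd5c07) (.leaf 0xc1b1bf5)) (.node (.leaf 0x1390dbf5) (.leaf 0x10f99bf5))) (.node (.node (.leaf 0x113c1c07) (.leaf 0x8b89c05)) (.node (.leaf 0x1390dc07) (.leaf 0x19b29bf7)))) (.node (.node (.node (.leaf 0x102c5bf7) (.leaf 0x113f9bf7)) (.node (.leaf 0x154a5c05) (.leaf 0xd4adbf7))) (.node (.node (.leaf 0x11bddc05) (.leaf 0x184e5c07)) (.node (.leaf 0xc5f1c07) (.leaf 0x0))))) (.node (.node (.node (.node (.leaf 0x1da15bf5) (.leaf 0x1a929bf7)) (.node (.leaf 0x12bcdc05) (.leaf 0x1ea99bf5))) (.node (.node (.leaf 0xef85c07) (.leaf 0xec69c05)) (.node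 (.leaf 0x1ad25c05) (.leaf 0x172c9bf7)))) (.node (.node (.node (.leaf 0x15c31c05) (.leaf 0xd531c05)) (.node (.leaf 0x17a89c07) (.leaf 0x1aea1c07))) (.node (.node (.leaf 0x11259c07) (.leaf 0xf78dc07)) (.node (.leaf 0x15779c05) (.leaf 0x0)))))) (.node (.node (.node (.node (.node (.leaf 0xc5cdc07) (.leaf 0x1494dbf7)) (.node (.leaf 0x11125c05) (.leaf 0x10f51c07))) (.node (.node (.leaf 0x116f1bf5) (.leaf 0x14aedc05)) (.node (.leaf 0x10fc5c05) (.leaf 0x1b611c07)))) (.node (.node (.node (.leaf 0x1381dc05) (.leaf 0x9e41bf7)) (.node (.leaf 0x10ce5c07) (.leaf 0x10a91bf5))) (.node (.node (.leaf 0x1b945bf7) (.leaf 0x1ba31bf7)) (.node (.leaf 0xe3c5bf5) (.leaf 0x0))))) (.node (.node (.node (.node (.leaf 0x16cc9bf5) (.leaf 0x143b9bf7)) (.node (.leaf 0x9641c07) (.leaf 0x126d1bf7))) (.node (.node (.leaf 0x1b611bf7) (.leaf 0x163a9bf5)) (.node (.leaf 0x1700dc05) (.leaf 0x17831c05)))) (.node (.node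 (.node (.leaf 0x11029bf7) (.leaf 0x15825bf5)) (.node (.leaf 0x14f45c05) (.leaf 0x159bdbf5))) (.node (.node (.leaf 0x1cd35bf5) (.leaf 0x169b5bf5)) (.node (.leaf 0x12b71bf5) (.leaf 0x0))))))) (.node (.node (.node (.node (.node (.node (.leaf 0x14f11bf5) (.leaf 0x1a7f1c05)) (.node (.leaf 0x14685bf5) (.leaf 0x134d5bf5))) (.node (.node (.leaf 0xf0e1c05) (.leaf 0x152e9c05)) (.node (.leaf 0x18771bf7) (.leaf 0x11fe5c05)))) (.node (.node (.node (.leaf 0x1805dc07) (.leaf 0x176d5bf7)) (.node (.leaf 0x1b1f1bf5) (.leaf 0x191bdc05))) (.node (.node (.leaf 0x1b879c05) (.leaf 0x16fedbf7)) (.node (.leaf 0x19291bf7) (.leaf 0x0))))) (.node (.node (.node (.node (.leaf 0x102e5bf7) (.leaf 0x14951bf7)) (.node (.leaf 0x1ba3dc07) (.leaf 0x10109bf7))) (.node (.node (.leaf 0x11ab1bf7) (.leaf 0x18061bf7)) (.node (.leaf 0x11c01bf7) (.leaf 0x115f5c05)))) (.node (.node (.node (.leaf 0xa2b1bf5) (.leaf 0x1a3a5bf5))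 (.node (.leaf 0x11751c07) (.leaf 0x119a1c07))) (.node (.node (.leaf 0x1208dc05) (.leaf 0x18d21c07)) (.node (.leaf 0x12badc07) (.leaf 0x0)))))) (.node (.node (.node (.node (.node (.leaf 0x169d9c07) (.leaf 0x172d5c05)) (.node (.leaf 0x19599c05) (.leaf 0x12a09c05))) (.node (.node (.leaf 0xaeadbf5) (.leaf 0x12119c05)) (.node (.leaf 0x98a5bf7) (.leaf 0x10ee1bf7)))) (.node (.node (.node (.leaf 0x11731bf7) (.leaf 0x16d6dc05)) (.node (.leaf 0x1169dbf7) (.leaf 0x17179bf5))) (.node (.node (.leaf 0xf109c05) (.leaf 0x15a5dbf7)) (.node (.leaf 0x17469c05) (.leaf 0x0))))) (.node (.node (.node (.node (.leaf 0x15ba9bf7) (.leaf 0x1cc3dbf5)) (.node (.leaf 0x1f57dc07) (.leaf 0x191bdbf7))) (.node (.node (.leaf 0x1047dc07) (.leaf 0x9efdbf7)) (.node (.leaf 0xe445bf5) (.leaf 0x0)))) (.node (.node (.node (.leaf 0x15585c07) (.leaf 0x1a101bf7)) (.node (.leaf 0x11df5c07) (.leaf 0x10fc5bf7))) (.node (.node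 (.leaf 0x1ea0dbf5) (.leaf 0x19a79bf7)) (.node (.leaf 0x140b5c05) (.leaf 0x0)))))))) (.node (.node (.node (.node (.node (.node (.node (.leaf 0xd76dbf7) (.leaf 0x1f459bf5)) (.node (.leaf 0x10ce1bf7) (.leaf 0x125fdc07))) (.node (.node (.leaf 0xb355c05) (.leaf 0x17abdbf7)) (.node (.leaf 0x103fdbf5) (.leaf 0x17169c07)))) (.node (.node (.node (.leaf 0x1abe9bf7) (.leaf 0x17aa1c05)) (.node (.leaf 0x6c4dbf5) (.leaf 0x1c575bf5))) (.node (.node (.leaf 0x121c5c07) (.leaf 0xa8a5bf7)) (.node (.leaf 0x13221bf7) (.leaf 0x0))))) (.node (.node (.node (.node (.leaf 0x1ba61c05) (.leaf 0xd7bdbf7)) (.node (.leaf 0x12b15bf7) (.leaf 0x12a75bf5))) (.node (.node (.leaf 0x171edbf7) (.leaf 0x11bc9bf5)) (.node (.leaf 0x1503dc05) (.leaf 0x12035bf7)))) (.node (.node (.node (.leaf 0x11239bf5) (.leaf 0x1b9b1bf7)) (.node (.leaf 0x65c9bf7) (.leaf 0x18985bf5))) (.node (.node (.leaf 0x1a29dc07) (.leaf 0x15e29bf7))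 (.node (.leaf 0x6399c05) (.leaf 0x0)))))) (.node (.node (.node (.node (.node (.leaf 0x18e0dc05) (.leaf 0x15399bf7)) (.node (.leaf 0xee45c07) (.leaf 0x1b39dbf7))) (.node (.node (.leaf 0x1aa05bf5) (.leaf 0x10aa1bf5)) (.node (.leaf 0x171d1bf7) (.leaf 0xf185bf5)))) (.node (.node (.node (.leaf 0x13745c07) (.leaf 0xd59dc05)) (.node (.leaf 0x1763dbf5) (.leaf 0x18df1bf7))) (.node (.node (.leaf 0x1a719bf5) (.leaf 0x1940dbf7)) (.node (.leaf 0x1335dbf7) (.leaf 0x0))))) (.node (.node (.node (.node (.leaf 0x14ca5bf5) (.leaf 0xe11dbf7)) (.node (.leaf 0x12569c05) (.leaf 0x14a15bf7))) (.node (.node (.leaf 0xddc9bf7) (.leaf 0x16c99bf5)) (.node (.leaf 0x128adc05) (.leaf 0x1a249bf5)))) (.node (.node (.node (.leaf 0x10a59c07) (.leaf 0x848dc07)) (.node (.leaf 0x17805c07) (.leaf 0x1a661bf7))) (.node (.node (.leaf 0x14125bf7) (.leaf 0x1ace1bf7)) (.node (.leaf 0x1a2edc05) (.leaf 0x0))))))) (.node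 (.node (.node (.node (.node (.node (.leaf 0x124e1bf5) (.leaf 0x1b635bf7)) (.node (.leaf 0x142f1c07) (.leaf 0x17249bf7))) (.node (.node (.leaf 0x16831bf7) (.leaf 0x11251c05)) (.node (.leaf 0x101c5c05) (.leaf 0x12f35c05)))) (.node (.node (.node (.leaf 0x1b0b5bf5) (.leaf 0x15ee9c05)) (.node (.leaf 0x17025bf5) (.leaf 0x1c6e9bf5))) (.node (.node (.leaf 0x10335bf7) (.leaf 0x1decdbf5)) (.node (.leaf 0x1623dbf5) (.leaf 0x0))))) (.node (.node (.node (.node (.leaf 0x14cadc05) (.leaf 0x108b5bf7)) (.node (.leaf 0x15231c05) (.leaf 0xc681c05))) (.node (.node (.leaf 0x1a8b1bf7) (.leaf 0x1a2b5bf5)) (.node (.leaf 0xef69c07) (.leaf 0x13aa9bf7)))) (.node (.node (.node (.leaf 0x1624dbf7) (.leaf 0x13b19c07)) (.node (.leaf 0x16b3dbf7) (.leaf 0x19121c05))) (.node (.node (.leaf 0xa8a5c07) (.leaf 0x14979bf7)) (.node (.leaf 0xc765c07) (.leaf 0x0)))))) (.node (.node (.node (.node (.node (.leaf 0x155c5bf5)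 (.leaf 0x16a31bf5)) (.node (.leaf 0x19551bf7) (.leaf 0x10101bf5))) (.node (.node (.leaf 0x16991c05) (.leaf 0xc185c05)) (.node (.leaf 0x171ddc07) (.leaf 0x13571c05)))) (.node (.node (.node (.leaf 0x1be2) (.leaf 0x14a05c05)) (.node (.leaf 0x10719bf5) (.leaf 0x1c6e1bf5))) (.node (.node (.leaf 0x11fbdbf7) (.leaf 0x16ce9bf7)) (.node (.leaf 0x11c51bf7) (.leaf 0x0))))) (.node (.node (.node (.node (.leaf 0x8499bf5) (.leaf 0x1f80dbf5)) (.node (.leaf 0xdb91c07) (.leaf 0x109cdc05))) (.node (.node (.leaf 0x12e79c05) (.leaf 0x1b975c05)) (.node (.leaf 0x1b9f5bf7) (.leaf 0x0)))) (.node (.node (.node (.leaf 0x15e79bf5) (.leaf 0x16ab5bf7)) (.node (.leaf 0x1d1ddc05) (.leaf 0x1d3a9bf5))) (.node (.node (.leaf 0x113e5bf7) (.leaf 0x6295c07)) (.node (.leaf 0x12569bf7) (.leaf 0x0))))))))) (.node (.node (.node (.node (.node (.node (.node (.node (.leaf 0x13729bf7) (.leaf 0xe501c05)) (.node (.leaf 0x1dcd9bf5)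 (.leaf 0x1d9e9c07))) (.node (.node (.leaf 0x18d21c05) (.leaf 0x116a9c07)) (.node (.leaf 0x14281c07) (.leaf 0xf7b5bf5)))) (.node (.node (.node (.leaf 0x1cd59c07) (.leaf 0x17035c05)) (.node (.leaf 0x168f9bf7) (.leaf 0x1f75dc05))) (.node (.node (.leaf 0x119b5c05) (.leaf 0x184cdc05)) (.node (.leaf 0x15c39bf5) (.leaf 0x0))))) (.node (.node (.node (.node (.leaf 0x1ba4dc05) (.leaf 0x1466dc05)) (.node (.leaf 0x1994dbf7) (.leaf 0xe801bf7))) (.node (.node (.leaf 0x176c9c05) (.leaf 0x11719c05)) (.node (.leaf 0x14e31c05) (.leaf 0xe07dc05)))) (.node (.node (.node (.leaf 0x147b1bf5) (.leaf 0x1637dbf5)) (.node (.leaf 0x17805bf7) (.leaf 0x10001bf5))) (.node (.node (.leaf 0x653dbf5) (.leaf 0x1700dbf5)) (.node (.leaf 0x9441c07) (.leaf 0x0)))))) (.node (.node (.node (.node (.node (.leaf 0x1f545bf5) (.leaf 0x16195bf5)) (.node (.leaf 0x169a5bf5) (.leaf 0x15315c07))) (.node (.node (.leaf 0xf7f5bf7)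 (.leaf 0x1a715bf7)) (.node (.leaf 0x8e21c07) (.leaf 0x1d555bf5)))) (.node (.node (.node (.leaf 0xb825c05) (.leaf 0x18eb9c07)) (.node (.leaf 0x10ce5bf7) (.leaf 0x14ab1bf5))) (.node (.node (.leaf 0x15199bf5) (.leaf 0x16561bf5)) (.node (.leaf 0x98a5c05) (.leaf 0x0))))) (.node (.node (.node (.node (.leaf 0x14fddbf7) (.leaf 0x1a141c07)) (.node (.leaf 0x1c011bf5) (.leaf 0x13251c07))) (.node (.node (.leaf 0x19761bf7) (.leaf 0x188f1bf7)) (.node (.leaf 0x13ad9c07) (.leaf 0x132c1bf5)))) (.node (.node (.node (.leaf 0x12b71c05) (.leaf 0x1dd59bf5)) (.node (.leaf 0x10f51c05) (.leaf 0xe3f5bf5))) (.node (.node (.leaf 0x1cae9c05) (.leaf 0x19551c07)) (.node (.leaf 0xe239c07) (.leaf 0x0))))))) (.node (.node (.node (.node (.node (.node (.leaf 0x10ab5c07) (.leaf 0x18bbdbf7)) (.node (.leaf 0x123d9bf5) (.leaf 0x11f7dc05))) (.node (.node (.leaf 0x1ba11bf5) (.leaf 0x13ac9c05)) (.node (.leaf 0x1a43dc07)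 (.leaf 0x1b34dbf5)))) (.node (.node (.node (.leaf 0x183c5bf7) (.leaf 0xe931bf7)) (.node (.leaf 0x134f5bf7) (.leaf 0x11c51bf5))) (.node (.node (.leaf 0x1b67dc05) (.leaf 0x17285c07)) (.node (.leaf 0x65a5bf5) (.leaf 0x0))))) (.node (.node (.node (.node (.leaf 0x65c9c05) (.leaf 0x16a31bf7)) (.node (.leaf 0x1a4a9bf5) (.leaf 0xdd21bf5))) (.node (.node (.leaf 0xf3edbf5) (.leaf 0x1a7f1bf5)) (.node (.leaf 0x15779c07) (.leaf 0x13729bf5)))) (.node (.node (.node (.leaf 0x119fdbf7) (.leaf 0x122b9bf5)) (.node (.leaf 0x1092dbf5) (.leaf 0xd0b1c07))) (.node (.node (.leaf 0x1f731c05) (.leaf 0x15a49bf5)) (.node (.leaf 0x106a5bf7) (.leaf 0x0)))))) (.node (.node (.node (.node (.node (.leaf 0x13941c05) (.leaf 0x9959bf5)) (.node (.leaf 0x138a9c05) (.leaf 0x1b69dc05))) (.node (.node (.leaf 0x11175bf5) (.leaf 0x1612dc05)) (.node (.leaf 0xf7a9bf5) (.leaf 0xec5dbf5)))) (.node (.node (.node (.leaf 0x10095c07)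 (.leaf 0x16559bf7)) (.node (.leaf 0x12e79bf7) (.leaf 0x11df5c05))) (.node (.node (.leaf 0x16549bf7) (.leaf 0x1c65dc05)) (.node (.leaf 0x11f65c05) (.leaf 0x0))))) (.node (.node (.node (.node (.leaf 0x1f4f9bf5) (.leaf 0x1ae2dbf7)) (.node (.leaf 0x19e9dbf5) (.leaf 0x13771c05))) (.node (.node (.leaf 0x11b81c05) (.leaf 0x9641c05)) (.node (.leaf 0x184f9c07) (.leaf 0x0)))) (.node (.node (.node (.leaf 0x15581c07) (.leaf 0x1dc79bf5)) (.node (.leaf 0x19a7dc05) (.leaf 0x12341bf7))) (.node (.node (.leaf 0x13771bf5) (.leaf 0x10b9dbf7)) (.node (.leaf 0x17ab1bf5) (.leaf 0x0)))))))) (.node (.node (.node (.node (.node (.node (.node (.leaf 0x16d31c05) (.leaf 0x12fe1bf5)) (.node (.leaf 0x15d4dc07) (.leaf 0xd139c07))) (.node (.node (.leaf 0x1b9adbf7) (.leaf 0x1ac7dbf5)) (.node (.leaf 0xe169c05) (.leaf 0x12079c05)))) (.node (.node (.node (.leaf 0x13949bf7) (.leaf 0x1b595bf7)) (.node (.leaf 0x1820dbf5)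 (.leaf 0x134e1c05))) (.node (.node (.leaf 0x1e4c5c05) (.leaf 0x169f1c07)) (.node (.leaf 0x1c6b9bf5) (.leaf 0x0))))) (.node (.node (.node (.node (.leaf 0x14501bf7) (.leaf 0x11ed5c07)) (.node (.leaf 0x168cdc07) (.leaf 0x15e2dbf7))) (.node (.node (.leaf 0x1872dc05) (.leaf 0x1a485c05)) (.node (.leaf 0x14d49bf5) (.leaf 0x150b9bf7)))) (.node (.node (.node (.leaf 0x15ab9bf7) (.leaf 0x15925bf7)) (.node (.leaf 0x17509bf7) (.leaf 0x168fdbf5))) (.node (.node (.leaf 0x10b9dc07) (.leaf 0x1404dc05)) (.node (.leaf 0x11125bf7) (.leaf 0x0)))))) (.node (.node (.node (.node (.node (.leaf 0x1e3cdc07) (.leaf 0x1ae21bf5)) (.node (.leaf 0x11d61c05) (.leaf 0x1218dbf7))) (.node (.node (.leaf 0x1361dbf7) (.leaf 0x1d1fdbf5)) (.node (.leaf 0x1c091c07) (.leaf 0xcdc9c07)))) (.node (.node (.node (.leaf 0xc7f9bf7) (.leaf 0x13431c05)) (.node (.leaf 0x113f1bf5) (.leaf 0xef85c05))) (.node (.node (.leaf 0x19e9dc07)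 (.leaf 0x12031c07)) (.node (.leaf 0xd7c5bf7) (.leaf 0x0))))) (.node (.node (.node (.node (.leaf 0x5949bf7) (.leaf 0x1477dbf5)) (.node (.leaf 0x1aef9bf7) (.leaf 0x134d1bf5))) (.node (.node (.leaf 0x11db1bf7) (.leaf 0x19f19bf7)) (.node (.leaf 0x19c0dbf5) (.leaf 0x0)))) (.node (.node (.node (.leaf 0x171edc07) (.leaf 0x1c00)) (.node (.leaf 0x1612dbf7) (.leaf 0x1703dbf7))) (.node (.node (.leaf 0x1ad29bf5) (.leaf 0x89edbf5)) (.node (.leaf 0x14e55bf7) (.leaf 0x0))))))) (.node (.node (.node (.node (.node (.node (.leaf 0x1a4e5bf5) (.leaf 0x11dadc07)) (.node (.leaf 0x10cc5c05) (.leaf 0x9ca1c05))) (.node (.node (.leaf 0x14625bf5) (.leaf 0x8b89c07)) (.node (.leaf 0x59e5c07) (.leaf 0x17971bf5)))) (.node (.node (.node (.leaf 0x12b45bf7) (.leaf 0xeb1dbf5)) (.node (.leaf 0xe0d5bf7) (.leaf 0xf0e1bf7))) (.node (.node (.leaf 0xc195c05) (.leaf 0x162f5bf7)) (.node (.leaf 0x15c25bf7) (.leaf 0x0)))))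 (.node (.node (.node (.node (.leaf 0x13455c07) (.leaf 0x15c35c05)) (.node (.leaf 0xd21dc05) (.leaf 0x132cdbf7))) (.node (.node (.leaf 0x168fdc07) (.leaf 0x45c1bf7)) (.node (.leaf 0x17965c07) (.leaf 0x16c31bf5)))) (.node (.node (.node (.leaf 0x1b8e1bf5) (.leaf 0x178bdbf5)) (.node (.leaf 0x18dd5bf7) (.leaf 0x1187dc05))) (.node (.node (.leaf 0xcb2dc05) (.leaf 0x109ddbf5)) (.node (.leaf 0x1d0cdbf5) (.leaf 0x0)))))) (.node (.node (.node (.node (.node (.leaf 0x16401c05) (.leaf 0x15581c05)) (.node (.leaf 0x1f5f5bf5) (.leaf 0x1193dbf5))) (.node (.node (.leaf 0x1b505bf7) (.leaf 0x15789bf5)) (.node (.leaf 0x11f21c07) (.leaf 0x10399bf7)))) (.node (.node (.node (.leaf 0x15c05c05) (.leaf 0xd631bf5)) (.node (.leaf 0x18e0dbf5) (.leaf 0x12cbdc07))) (.node (.node (.leaf 0x1afbdc07) (.leaf 0x13a8dc05)) (.node (.leaf 0x1ad45c07) (.leaf 0x0))))) (.node (.node (.node (.node (.leaf 0x13221c05)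 (.leaf 0x14a81c05)) (.node (.leaf 0x1b815bf5) (.leaf 0xd4bdbf7))) (.node (.node (.leaf 0x1d355bf5) (.leaf 0x15035c07)) (.node (.leaf 0xdd21bf7) (.leaf 0x0)))) (.node (.node (.node (.leaf 0x19cd5bf7) (.leaf 0x15c41bf7)) (.node (.leaf 0x15045bf5) (.leaf 0xaa85c05))) (.node (.node (.leaf 0x19899bf5) (.leaf 0xd549c05)) (.node (.leaf 0x10dcdbf5) (.leaf 0x0))))))))))

/-- packed table -/
noncomputable def cov15_llr : BTree := (.node (.node (.node (.node (.node (.node (.node (.node (.node (.leaf 0x1b599c05) (.leaf 0x13a49bf7)) (.node (.leaf 0x14badbf5) (.leaf 0x154e5c05))) (.node (.node (.leaf 0x18c25bf5) (.leaf 0x116b5c07)) (.node (.leaf 0x164edc07) (.leaf 0x1ba39bf7)))) (.node (.node (.node (.leaf 0x1de15bf5) (.leaf 0x1a0adc07)) (.node (.leaf 0x16f9dbf5) (.leaf 0x1350dbf5))) (.node (.node (.leaf 0x1a419bf5) (.leaf 0x6295bf7)) (.node (.leaf 0x122ddc05) (.leaf 0x0))))) (.node (.node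 (.node (.node (.leaf 0x19a3dbf5) (.leaf 0x14a2dc05)) (.node (.leaf 0x139a1c05) (.leaf 0x1035dbf7))) (.node (.node (.leaf 0x12315bf5) (.leaf 0x15255c07)) (.node (.leaf 0x1058dc07) (.leaf 0x156a1bf5)))) (.node (.node (.node (.leaf 0x1870dbf7) (.leaf 0x12fe1c05)) (.node (.leaf 0x17b2dbf7) (.leaf 0x178d5bf7))) (.node (.node (.leaf 0x138a9c07) (.leaf 0x14389bf7)) (.node (.leaf 0x18115bf5) (.leaf 0x0)))))) (.node (.node (.node (.node (.node (.leaf 0x171b9bf7) (.leaf 0x1138dc05)) (.node (.leaf 0x1376dbf7) (.leaf 0x11311c07))) (.node (.node (.leaf 0x14a95c07) (.leaf 0xcb99c07)) (.node (.leaf 0x15d15bf7) (.leaf 0xd545bf5)))) (.node (.node (.node (.leaf 0x1aa6dbf7) (.leaf 0x1404dbf5)) (.node (.leaf 0x14d0dbf7) (.leaf 0x1ae4dc07))) (.node (.node (.leaf 0x15529bf5) (.leaf 0x1a581bf5)) (.node (.leaf 0x133e1c07) (.leaf 0x0))))) (.node (.node (.node (.node (.leaf 0x17ac1c07) (.leaf 0xeccdbf5))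 (.node (.leaf 0xd631c07) (.leaf 0xdf99bf5))) (.node (.node (.leaf 0xc9d5c05) (.leaf 0x1faf1c07)) (.node (.leaf 0x1246dbf7) (.leaf 0x19121bf5)))) (.node (.node (.node (.leaf 0x11731bf5) (.leaf 0x10d5dc05)) (.node (.leaf 0x14fc9bf7) (.leaf 0x13821bf5))) (.node (.node (.leaf 0x13431c07) (.leaf 0x14759c05)) (.node (.leaf 0x1eb79bf5) (.leaf 0x0))))))) (.node (.node (.node (.node (.node (.node (.leaf 0x18f09bf5) (.leaf 0x1da95bf5)) (.node (.leaf 0x14371c07) (.leaf 0x15a91bf7))) (.node (.node (.leaf 0x19709bf7) (.leaf 0x11af9bf7)) (.node (.leaf 0x167a9bf7) (.leaf 0x14e2dc05)))) (.node (.node (.node (.leaf 0x15c85c07) (.leaf 0x1db19bf5)) (.node (.leaf 0x13955c07) (.leaf 0x1651dc05))) (.node (.node (.leaf 0x186adc05) (.leaf 0xc521bf5)) (.node (.leaf 0x166c5bf5) (.leaf 0x0))))) (.node (.node (.node (.node (.leaf 0x11829c05) (.leaf 0xec69c07)) (.node (.leaf 0x154a1c05) (.leaf 0xe9ddbf5)))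 (.node (.node (.leaf 0xe2cdbf5) (.leaf 0x1c589bf5)) (.node (.leaf 0x1208dbf7) (.leaf 0x13149bf5)))) (.node (.node (.node (.leaf 0x1acedc07) (.leaf 0x19911bf7)) (.node (.leaf 0x11765c07) (.leaf 0x1a881bf7))) (.node (.node (.leaf 0x112e1bf5) (.leaf 0x11be1c07)) (.node (.leaf 0x584dbf5) (.leaf 0x0)))))) (.node (.node (.node (.node (.node (.leaf 0x1ee35bf5) (.leaf 0x132d9c05)) (.node (.leaf 0x1acedc05) (.leaf 0xc765c05))) (.node (.node (.leaf 0xaab1c07) (.leaf 0x1187dbf7)) (.node (.leaf 0x102edc05) (.leaf 0x1523dc07)))) (.node (.node (.node (.leaf 0x18081bf5) (.leaf 0x16859bf7)) (.node (.leaf 0x14fd5bf7) (.leaf 0x13745c05))) (.node (.node (.leaf 0x15ad9bf7) (.leaf 0x15f3dc07)) (.node (.leaf 0x16a79bf7) (.leaf 0x0))))) (.node (.node (.node (.node (.leaf 0xa8a5bf5) (.leaf 0x18c5dbf5)) (.node (.leaf 0xf7adbf7) (.leaf 0x13775c05))) (.node (.node (.leaf 0x1a829c07) (.leaf 0x13049bf5))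 (.node (.leaf 0xa97dc07) (.leaf 0x0)))) (.node (.node (.node (.leaf 0x1d5b1c07) (.leaf 0x11d71c05)) (.node (.leaf 0x11ca5c07) (.leaf 0x1e575c07))) (.node (.node (.leaf 0xf12dc05) (.leaf 0xe345bf5)) (.node (.leaf 0x1e0ddc07) (.leaf 0x0)))))))) (.node (.node (.node (.node (.node (.node (.node (.leaf 0x11eadbf5) (.leaf 0xc3d5c07)) (.node (.leaf 0x1a145bf5) (.leaf 0x1a975bf7))) (.node (.node (.leaf 0x16941c07) (.leaf 0x15999bf7)) (.node (.leaf 0x176d5c07) (.leaf 0x10cddc05)))) (.node (.node (.node (.leaf 0x17a89bf7) (.leaf 0xd921bf7)) (.node (.leaf 0x16f2dbf5) (.leaf 0x12911bf7))) (.node (.node (.leaf 0x6399bf7) (.leaf 0x14ba1bf5)) (.node (.leaf 0xe2cdc07) (.leaf 0x0))))) (.node (.node (.node (.node (.leaf 0x14f39bf5) (.leaf 0x10cddc07)) (.node (.leaf 0xc71dbf5) (.leaf 0xe0edc07))) (.node (.node (.leaf 0x1fa71bf5) (.leaf 0x1335dc07)) (.node (.leaf 0xf939bf5) (.leaf 0x10349bf7))))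 (.node (.node (.node (.leaf 0x12f91c05) (.leaf 0x187a9c07)) (.node (.leaf 0xe3f5c07) (.leaf 0x15425bf7))) (.node (.node (.leaf 0x145d1c05) (.leaf 0x1b629bf5)) (.node (.leaf 0x1e521bf5) (.leaf 0x0)))))) (.node (.node (.node (.node (.node (.leaf 0xcdc9bf7) (.leaf 0x1586dc07)) (.node (.leaf 0x1add1bf5) (.leaf 0x16941bf5))) (.node (.node (.leaf 0x11471bf7) (.leaf 0x16d9dc07)) (.node (.leaf 0x171cdbf7) (.leaf 0x1b69dc07)))) (.node (.node (.node (.leaf 0x1ad45bf5) (.leaf 0xf0fdc05)) (.node (.leaf 0x16fe9c07) (.leaf 0x19071bf7))) (.node (.node (.leaf 0x10549bf5) (.leaf 0x19bf9bf5)) (.node (.leaf 0x1a841bf7) (.leaf 0x0))))) (.node (.node (.node (.node (.leaf 0x180d5bf7) (.leaf 0x11459c05)) (.node (.leaf 0xcfd9c05) (.leaf 0x12a55c05))) (.node (.node (.leaf 0xb355bf5) (.leaf 0x13135bf7)) (.node (.leaf 0x141a1bf5) (.leaf 0x0)))) (.node (.node (.node (.leaf 0xdebdc05) (.leaf 0xf45dbf7))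 (.node (.leaf 0xd6b1bf5) (.leaf 0x17411c07))) (.node (.node (.leaf 0xd039bf7) (.leaf 0x14ca9c05)) (.node (.leaf 0x11c75c05) (.leaf 0x0))))))) (.node (.node (.node (.node (.node (.node (.leaf 0x12031bf7) (.leaf 0x1b1f5bf7)) (.node (.leaf 0x83adc05) (.leaf 0x148a9c07))) (.node (.node (.leaf 0x10ef5c07) (.leaf 0x19f6dbf7)) (.node (.leaf 0x156d1c07) (.leaf 0x1e6f1bf5)))) (.node (.node (.node (.leaf 0x1c365bf5) (.leaf 0x16b29bf5)) (.node (.leaf 0x14775bf7) (.leaf 0xf45dc07))) (.node (.node (.leaf 0x1e635c05) (.leaf 0x197c9bf5)) (.node (.leaf 0x167a9c07) (.leaf 0x0))))) (.node (.node (.node (.node (.leaf 0x98e1bf7) (.leaf 0x1f75dc07)) (.node (.leaf 0x10e89bf7) (.leaf 0x17175c05))) (.node (.node (.leaf 0x16915c07) (.leaf 0x194c1c07)) (.node (.leaf 0x18a21bf5) (.leaf 0xdb09c05)))) (.node (.node (.node (.leaf 0x117fdbf7) (.leaf 0xda65bf7)) (.node (.leaf 0x113adbf5) (.leaf 0x1cc19c07)))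 (.node (.node (.leaf 0x15c7dbf7) (.leaf 0x12ba5c07)) (.node (.leaf 0x103f5c07) (.leaf 0x0)))))) (.node (.node (.node (.node (.node (.leaf 0x155c1bf5) (.leaf 0x13aa5c07)) (.node (.leaf 0x13609bf5) (.leaf 0x10e7dc07))) (.node (.node (.leaf 0x169a5c05) (.leaf 0x1c691bf5)) (.node (.leaf 0x1f989bf5) (.leaf 0x1305dc05)))) (.node (.node (.node (.leaf 0x12aedbf5) (.leaf 0x12e01c07)) (.node (.leaf 0x17301c07) (.leaf 0x11339c05))) (.node (.node (.leaf 0xdfd5bf7) (.leaf 0x14cb5c05)) (.node (.leaf 0x18ed9c07) (.leaf 0x0))))) (.node (.node (.node (.node (.leaf 0x153e9c07) (.leaf 0x1040dc07)) (.node (.leaf 0x15309bf7) (.leaf 0xdfb9bf5))) (.node (.node (.leaf 0x1a0a9bf5) (.leaf 0x10ab5bf7)) (.node (.leaf 0x16d61bf7) (.leaf 0x0)))) (.node (.node (.node (.leaf 0x14fc1bf7) (.leaf 0x1aecdbf7)) (.node (.leaf 0x12bbdc05) (.leaf 0x196bdbf5))) (.node (.node (.leaf 0x1c669bf5) (.leaf 0x1adedbf7))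 (.node (.leaf 0x1786dc07) (.leaf 0x0))))))))) (.node (.node (.node (.node (.node (.node (.node (.node (.leaf 0x126a5bf7) (.leaf 0xd095c07)) (.node (.leaf 0x146bdc05) (.leaf 0xe94dbf7))) (.node (.node (.leaf 0x15a59bf7) (.leaf 0x114e1c05)) (.node (.leaf 0x188e9bf5) (.leaf 0x10375bf7)))) (.node (.node (.node (.leaf 0xde21bf5) (.leaf 0x17469bf5)) (.node (.leaf 0x15e0dc05) (.leaf 0xc085bf5))) (.node (.node (.leaf 0xe495c05) (.leaf 0x12c91c07)) (.node (.leaf 0x10a59bf5) (.leaf 0x0))))) (.node (.node (.node (.node (.leaf 0x13a69c05) (.leaf 0x1b36dbf7)) (.node (.leaf 0x12429bf7) (.leaf 0x1a881c05))) (.node (.node (.leaf 0x1b349bf5) (.leaf 0x11251c07)) (.node (.leaf 0x183f9c05) (.leaf 0x15e2dc07)))) (.node (.node (.node (.leaf 0x14869bf7) (.leaf 0x131fdc07)) (.node (.leaf 0xa0f9c07) (.leaf 0xc689c07))) (.node (.node (.leaf 0x10829bf7) (.leaf 0x11175c07)) (.node (.leaf 0x1586dbf5)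 (.leaf 0x0)))))) (.node (.node (.node (.node (.node (.leaf 0x12035bf5) (.leaf 0x15879bf5)) (.node (.leaf 0x16b65bf7) (.leaf 0x1a841c07))) (.node (.node (.leaf 0x11abdbf7) (.leaf 0xae1dc07)) (.node (.leaf 0x171d9bf7) (.leaf 0x1902dbf5)))) (.node (.node (.node (.leaf 0x187a9bf5) (.leaf 0x1f5cdbf5)) (.node (.leaf 0x9d19c05) (.leaf 0x198adc07))) (.node (.node (.leaf 0xdd31bf7) (.leaf 0x12779c05)) (.node (.leaf 0xae1dbf7) (.leaf 0x0))))) (.node (.node (.node (.node (.leaf 0x1b74dbf7) (.leaf 0x1958dc05)) (.node (.leaf 0x988dbf5) (.leaf 0xf939c07))) (.node (.node (.leaf 0x1b8e1c07) (.leaf 0x1b279bf5)) (.node (.leaf 0x1d831c07) (.leaf 0xd039c05)))) (.node (.node (.node (.leaf 0x1cbe5bf5) (.leaf 0xe741bf5)) (.node (.leaf 0xcf35c05) (.leaf 0x1b885bf5))) (.node (.node (.leaf 0x1ac0dbf5) (.leaf 0x10695c05)) (.node (.leaf 0x10a01c07) (.leaf 0x0))))))) (.node (.node (.node (.node (.node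 (.node (.leaf 0x1cefdbf5) (.leaf 0x1241dc05)) (.node (.leaf 0x8361c07) (.leaf 0x13311c05))) (.node (.node (.leaf 0x11775c05) (.leaf 0x17abdc05)) (.node (.leaf 0x15c05c07) (.leaf 0x116f1c07)))) (.node (.node (.node (.leaf 0x1d8fdc07) (.leaf 0x1d461bf5)) (.node (.leaf 0x1b019bf7) (.leaf 0x1f5f5c07))) (.node (.node (.leaf 0x1432dbf7) (.leaf 0x13075bf7)) (.node (.leaf 0x1351dc05) (.leaf 0x0))))) (.node (.node (.node (.node (.leaf 0x12bf5bf7) (.leaf 0x6c4dc07)) (.node (.leaf 0x1267dc05) (.leaf 0x1b171bf7))) (.node (.node (.leaf 0x1137dc07) (.leaf 0x6761c07)) (.node (.leaf 0xd009bf7) (.leaf 0x128adc07)))) (.node (.node (.node (.leaf 0x1860dc05) (.leaf 0x1350dc05)) (.node (.leaf 0x9ca1c07) (.leaf 0xd605bf7))) (.node (.node (.leaf 0x16ac9c05) (.leaf 0x1a699bf5)) (.node (.leaf 0x1074dc07) (.leaf 0x0)))))) (.node (.node (.node (.node (.node (.leaf 0x98e1c07) (.leaf 0x13149c07)) (.node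 (.leaf 0x11dadbf5) (.leaf 0x176d5c05))) (.node (.node (.leaf 0x1b705bf5) (.leaf 0x10179c05)) (.node (.leaf 0x17369bf5) (.leaf 0x169f1c05)))) (.node (.node (.node (.leaf 0x119d5bf7) (.leaf 0x17845bf5)) (.node (.leaf 0x18449bf5) (.leaf 0x15dcdc05))) (.node (.node (.leaf 0xe969bf7) (.leaf 0x1c20)) (.node (.leaf 0xdb09bf7) (.leaf 0x0))))) (.node (.node (.node (.node (.leaf 0x157b5c05) (.leaf 0x1f931bf5)) (.node (.leaf 0x1e0ddbf5) (.leaf 0x1cc91bf5))) (.node (.node (.leaf 0xeb25c05) (.leaf 0x13399c05)) (.node (.leaf 0x134e1bf7) (.leaf 0x0)))) (.node (.node (.node (.leaf 0x13429bf5) (.leaf 0x183d1bf5)) (.node (.leaf 0x16cb9c05) (.leaf 0x158d5c05))) (.node (.node (.leaf 0x17779bf5) (.leaf 0x14dc1c05)) (.node (.leaf 0x175adc05) (.leaf 0x0)))))))) (.node (.node (.node (.node (.node (.node (.node (.leaf 0x13631bf5) (.leaf 0x15101bf7)) (.node (.leaf 0x15d6dc07) (.leaf 0x13819bf5))) (.node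 (.node (.leaf 0xc5f1bf5) (.leaf 0x112d9c05)) (.node (.leaf 0x1a141c05) (.leaf 0x7099bf5)))) (.node (.node (.node (.leaf 0x13925c05) (.leaf 0x19131bf7)) (.node (.leaf 0xddd9c07) (.leaf 0x1432dc07))) (.node (.node (.leaf 0xf4d9c05) (.leaf 0x1a815bf5)) (.node (.leaf 0x12241c05) (.leaf 0x0))))) (.node (.node (.node (.node (.leaf 0x140b5c07) (.leaf 0x14901bf5)) (.node (.leaf 0x15365bf5) (.leaf 0x16705bf5))) (.node (.node (.leaf 0x1019dbf7) (.leaf 0xdb95c05)) (.node (.leaf 0x1245dbf5) (.leaf 0x1a9e1bf5)))) (.node (.node (.node (.leaf 0x1a5b1c07) (.leaf 0xc689bf7)) (.node (.leaf 0x19149bf5) (.leaf 0x17a89c05))) (.node (.node (.leaf 0x15ea1bf7) (.leaf 0x17501c07)) (.node (.leaf 0x15f3dbf5) (.leaf 0x0)))))) (.node (.node (.node (.node (.node (.leaf 0x1b93dc05) (.leaf 0x1b315bf7)) (.node (.leaf 0x17a85c05) (.leaf 0x17a5dbf7))) (.node (.node (.leaf 0xd33dc07) (.leaf 0x16da5c07)) (.node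 (.leaf 0x11311bf7) (.leaf 0x12d89c05)))) (.node (.node (.node (.leaf 0x19a21c05) (.leaf 0x12bcdc07)) (.node (.leaf 0x10939bf7) (.leaf 0xddd9c05))) (.node (.node (.leaf 0x1c551bf5) (.leaf 0x131bdc07)) (.node (.leaf 0xf835bf5) (.leaf 0x0))))) (.node (.node (.node (.node (.leaf 0x134e1c07) (.leaf 0x13b19bf7)) (.node (.leaf 0x17079bf7) (.leaf 0x1919dbf7))) (.node (.node (.leaf 0x10151c05) (.leaf 0xf1c5c05)) (.node (.leaf 0x134a9bf7) (.leaf 0x0)))) (.node (.node (.node (.leaf 0x15ea5c05) (.leaf 0x174a1bf5)) (.node (.leaf 0x18659bf5) (.leaf 0xc521c05))) (.node (.node (.leaf 0x16d19bf5) (.leaf 0x89edc05)) (.node (.leaf 0xc0cdc05) (.leaf 0x0))))))) (.node (.node (.node (.node (.node (.node (.leaf 0x16219c05) (.leaf 0x19919bf7)) (.node (.leaf 0x100edc05) (.leaf 0x14cc1c05))) (.node (.node (.leaf 0x140d1bf7) (.leaf 0x17321bf7)) (.node (.leaf 0x1c619bf5) (.leaf 0x15addc07)))) (.node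 (.node (.node (.leaf 0x13775c07) (.leaf 0x119cdc05)) (.node (.leaf 0x160cdbf7) (.leaf 0x16e7dc05))) (.node (.node (.leaf 0x10a89bf7) (.leaf 0x19495bf7)) (.node (.leaf 0xf3d5c07) (.leaf 0x0))))) (.node (.node (.node (.node (.leaf 0x12d89bf5) (.leaf 0xe88dbf5)) (.node (.leaf 0x1d051bf5) (.leaf 0x1c091bf5))) (.node (.node (.leaf 0xe8f5c07) (.leaf 0x154a1c07)) (.node (.leaf 0x1a2c9bf5) (.leaf 0x1adb9bf5)))) (.node (.node (.node (.leaf 0x12cddbf7) (.leaf 0x198d1bf5)) (.node (.leaf 0xf5b5c07) (.leaf 0x1ee35c05))) (.node (.node (.leaf 0x140a5bf7) (.leaf 0x1074dc05)) (.node (.leaf 0x19a4dbf7) (.leaf 0x0)))))) (.node (.node (.node (.node (.node (.leaf 0xe3f5c05) (.leaf 0x15a49bf7)) (.node (.leaf 0x1786dc05) (.leaf 0x16251bf5))) (.node (.node (.leaf 0x18d75bf5) (.leaf 0x11dedbf7)) (.node (.leaf 0x14355bf5) (.leaf 0x176a9bf5)))) (.node (.node (.node (.leaf 0x86c9c07) (.leaf 0x10971bf7))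 (.node (.leaf 0x1f731bf5) (.leaf 0x15ccdbf5))) (.node (.node (.leaf 0x15fc1bf7) (.leaf 0x1fac5bf5)) (.node (.leaf 0x13941c07) (.leaf 0x0))))) (.node (.node (.node (.node (.leaf 0x1047dbf5) (.leaf 0x12a2dbf7)) (.node (.leaf 0xef61bf5) (.leaf 0x18905c05))) (.node (.node (.leaf 0x1e415bf5) (.leaf 0x17899c05)) (.node (.leaf 0x12cadbf5) (.leaf 0x0)))) (.node (.node (.node (.leaf 0x11bb5c07) (.leaf 0x15319bf5)) (.node (.leaf 0x14281c05) (.leaf 0x19601bf7))) (.node (.node (.leaf 0x18ef9bf7) (.leaf 0x12c1dbf5)) (.node (.leaf 0x1ab85bf7) (.leaf 0x0))))))))))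

/-- packed table -/
noncomputable def cov15_lrl : BTree := (.node (.node (.node (.node (.node (.node (.node (.node (.node (.leaf 0x135a5c05) (.leaf 0x181c1bf5)) (.node (.leaf 0x8bcdbf7) (.leaf 0x14529bf7))) (.node (.node (.leaf 0x1895dbf5) (.leaf 0xcb99c05)) (.node (.leaf 0x131fdbf7) (.leaf 0xe1a1c05)))) (.node (.node (.node (.leaf 0x11349bf7) (.leaf 0x1175dc05)) (.node (.leaf 0x16ff1c07) (.leaf 0x10d2dc07))) (.node (.node (.leaf 0x1b969bf7) (.leaf 0x184cdc07)) (.node (.leaf 0x12341c05) (.leaf 0x0))))) (.node (.node (.node (.node (.leaf 0x11a0dbf5) (.leaf 0x80fdc07)) (.node (.leaf 0x1f5fdbf5) (.leaf 0x11751c05))) (.node (.node (.leaf 0xe0d5bf5) (.leaf 0xeba1bf7)) (.node (.leaf 0x11759c05) (.leaf 0x11195c07)))) (.node (.node (.node (.leaf 0x146bdc07) (.leaf 0x161e5c07)) (.node (.leaf 0x1fa71c07) (.leaf 0xf9edc05))) (.node (.node (.leaf 0x19329c07) (.leaf 0x12da9bf7)) (.node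 (.leaf 0x19975bf7) (.leaf 0x0)))))) (.node (.node (.node (.node (.node (.leaf 0xc841bf7) (.leaf 0x1aba9bf7)) (.node (.leaf 0x1b8cdbf7) (.leaf 0x88c9bf7))) (.node (.node (.leaf 0xf3edc07) (.leaf 0x174ddbf7)) (.node (.leaf 0x156e9c07) (.leaf 0x1f839c05)))) (.node (.node (.node (.leaf 0x19b51bf5) (.leaf 0x10431c05)) (.node (.leaf 0x1de49bf5) (.leaf 0x1169dc05))) (.node (.node (.leaf 0x13609bf7) (.leaf 0x17985c07)) (.node (.leaf 0x11835bf5) (.leaf 0x0))))) (.node (.node (.node (.node (.leaf 0x19a39c07) (.leaf 0x18649c05)) (.node (.leaf 0x118b5bf7) (.leaf 0x18989c07))) (.node (.node (.leaf 0xee29c07) (.leaf 0x10a7dc05)) (.node (.leaf 0xb871c05) (.leaf 0x1a281bf7)))) (.node (.node (.node (.leaf 0x1981dbf7) (.leaf 0x1b8cdc05)) (.node (.leaf 0x14961bf7) (.leaf 0x149a5bf7))) (.node (.node (.leaf 0x17501c05) (.leaf 0x1ca8dc07)) (.node (.leaf 0xefb9bf7) (.leaf 0x0))))))) (.node (.node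 (.node (.node (.node (.node (.leaf 0x16cb1c07) (.leaf 0x10bd5bf7)) (.node (.leaf 0x1035dc07) (.leaf 0xe169c07))) (.node (.node (.leaf 0x188c5bf5) (.leaf 0x142b1bf7)) (.node (.leaf 0x16a41c07) (.leaf 0x15fc1c05)))) (.node (.node (.node (.leaf 0x1e5bdbf5) (.leaf 0x1b1b1c05)) (.node (.leaf 0x1b011bf5) (.leaf 0x10ce1bf5))) (.node (.node (.leaf 0x1092dc07) (.leaf 0x169c5bf5)) (.node (.leaf 0xddc9bf5) (.leaf 0x0))))) (.node (.node (.node (.node (.leaf 0x10f7dbf5) (.leaf 0x13af5bf5)) (.node (.leaf 0x166a1c05) (.leaf 0x10ef5bf7))) (.node (.node (.leaf 0xc71dc05) (.leaf 0x1d8fdc05)) (.node (.leaf 0x125ddc05) (.leaf 0x10a7dbf7)))) (.node (.node (.node (.leaf 0xa4f9c07) (.leaf 0xf835bf7)) (.node (.leaf 0x15569bf7) (.leaf 0x161ddbf7))) (.node (.node (.leaf 0xee0dc05) (.leaf 0x134fdc07)) (.node (.leaf 0x18d89bf5) (.leaf 0x0)))))) (.node (.node (.node (.node (.node (.leaf 0x1f931c05) (.leaf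 0x16355c05)) (.node (.leaf 0x15469bf7) (.leaf 0x172e1c07))) (.node (.node (.leaf 0x140c1bf5) (.leaf 0x1a131c05)) (.node (.leaf 0x1567dbf7) (.leaf 0x19eb9bf5)))) (.node (.node (.node (.leaf 0x19a25c05) (.leaf 0x1a841c05)) (.node (.leaf 0x107b9c05) (.leaf 0xf4d9bf5))) (.node (.node (.leaf 0x16d9dc05) (.leaf 0xd275bf5)) (.node (.leaf 0x15539c07) (.leaf 0x0))))) (.node (.node (.node (.node (.leaf 0x11775bf7) (.leaf 0x12e85c05)) (.node (.leaf 0x10aa1c05) (.leaf 0x11339c07))) (.node (.node (.leaf 0x6c4dbf7) (.leaf 0x9e41bf5)) (.node (.leaf 0x10f7dc07) (.leaf 0x0)))) (.node (.node (.node (.leaf 0x19599c07) (.leaf 0x10b41bf7)) (.node (.leaf 0x1034dbf5) (.leaf 0x184f9c05))) (.node (.node (.leaf 0x11651bf7) (.leaf 0x17981c07)) (.node (.leaf 0x1321dc07) (.leaf 0x0)))))))) (.node (.node (.node (.node (.node (.node (.node (.leaf 0x1651dbf7) (.leaf 0xe9ddc05)) (.node (.leaf 0x17555bf5)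 (.leaf 0xcd4dc05))) (.node (.node (.leaf 0x175adbf7) (.leaf 0x160e1bf5)) (.node (.leaf 0x19031bf7) (.leaf 0x16bb5bf7)))) (.node (.node (.node (.leaf 0x151b9bf5) (.leaf 0x1b5d9bf7)) (.node (.leaf 0x1efcdbf5) (.leaf 0x10ef5c05))) (.node (.node (.leaf 0x11acdbf5) (.leaf 0x1267dc07)) (.node (.leaf 0x1a2c9c07) (.leaf 0x0))))) (.node (.node (.node (.node (.leaf 0xf7e1bf5) (.leaf 0x15f05c05)) (.node (.leaf 0x16a1dc05) (.leaf 0x135a5bf7))) (.node (.node (.leaf 0x1a511c07) (.leaf 0x1a179bf7)) (.node (.leaf 0x113adc05) (.leaf 0xd531bf7)))) (.node (.node (.node (.leaf 0x152e9bf7) (.leaf 0xd095bf7)) (.node (.leaf 0x192f9c05) (.leaf 0x15241bf7))) (.node (.node (.leaf 0x146f1c07) (.leaf 0x1b701c07)) (.node (.leaf 0x1a511bf5) (.leaf 0x0)))))) (.node (.node (.node (.node (.node (.leaf 0x136a1bf7) (.leaf 0x16bf9bf5)) (.node (.leaf 0x16ee1c05) (.leaf 0xcd4dc07))) (.node (.node (.leaf 0x1cefdc07)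 (.leaf 0x19219bf7)) (.node (.leaf 0x1c0c) (.leaf 0xc185c07)))) (.node (.node (.node (.leaf 0xc391c05) (.leaf 0x10e1dbf7)) (.node (.leaf 0xaf25c05) (.leaf 0x16e55bf7))) (.node (.node (.leaf 0x12731bf5) (.leaf 0x14051c07)) (.node (.leaf 0x1f57dc05) (.leaf 0x0))))) (.node (.node (.node (.node (.leaf 0xd82dbf7) (.leaf 0x1eaa1c07)) (.node (.leaf 0xdebdbf7) (.leaf 0x15a09bf5))) (.node (.node (.leaf 0xddd9bf7) (.leaf 0x11499c07)) (.node (.leaf 0xc51dbf7) (.leaf 0x179f9bf7)))) (.node (.node (.node (.leaf 0x18491bf7) (.leaf 0x1ba05bf5)) (.node (.leaf 0x9665c05) (.leaf 0x14bddc07))) (.node (.node (.leaf 0xd0b1bf7) (.leaf 0x1ae61bf5)) (.node (.leaf 0x10bd5bf5) (.leaf 0x0))))))) (.node (.node (.node (.node (.node (.node (.leaf 0x11f5dc07) (.leaf 0x118f9c05)) (.node (.leaf 0x1b9e5bf7) (.leaf 0x1a745bf7))) (.node (.node (.leaf 0x7099c05) (.leaf 0x18ff9bf5)) (.node (.leaf 0x152fdc07) (.leaf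 0x14289bf5)))) (.node (.node (.node (.leaf 0xec05c05) (.leaf 0x1d42dbf5)) (.node (.leaf 0x13821c07) (.leaf 0x7535c07))) (.node (.node (.leaf 0x18311bf7) (.leaf 0x10881c05)) (.node (.leaf 0x134fdc05) (.leaf 0x0))))) (.node (.node (.node (.node (.leaf 0x18f1dbf5) (.leaf 0x171e1bf5)) (.node (.leaf 0x19225c05) (.leaf 0x12ba5bf7))) (.node (.node (.leaf 0x12905c07) (.leaf 0x121c5c05)) (.node (.leaf 0xe2cdc05) (.leaf 0xd7c5bf5)))) (.node (.node (.node (.leaf 0x6761bf7) (.leaf 0x14c85bf7)) (.node (.leaf 0x18761bf7) (.leaf 0x10cddbf5))) (.node (.node (.leaf 0x10d2dbf5) (.leaf 0xc991bf7)) (.node (.leaf 0xd33dbf5) (.leaf 0x0)))))) (.node (.node (.node (.node (.node (.leaf 0x158edc07) (.leaf 0x1a235bf7)) (.node (.leaf 0x13379bf5) (.leaf 0x133cdbf7))) (.node (.node (.leaf 0x1b3bdc07) (.leaf 0x18025bf7)) (.node (.leaf 0x1b2a5bf5) (.leaf 0x14ca9c07)))) (.node (.node (.node (.leaf 0x180bdbf5)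 (.leaf 0x1c1a)) (.node (.leaf 0x1cd61bf5) (.leaf 0x1de3dbf5))) (.node (.node (.leaf 0xafc1c07) (.leaf 0x1a895bf5)) (.node (.leaf 0xa899c05) (.leaf 0x0))))) (.node (.node (.node (.node (.leaf 0x19f15bf7) (.leaf 0x1e7adbf5)) (.node (.leaf 0x1b8adbf5) (.leaf 0x149a1c05))) (.node (.node (.leaf 0x1e081bf5) (.leaf 0x1957dbf5)) (.node (.leaf 0xc681bf5) (.leaf 0x0)))) (.node (.node (.node (.leaf 0xdae5bf7) (.leaf 0x1db61bf5)) (.node (.leaf 0x163bdbf5) (.leaf 0x13819bf7))) (.node (.node (.leaf 0x120b9bf7) (.leaf 0x122b9c07)) (.node (.leaf 0x10dc5bf5) (.leaf 0x0))))))))) (.node (.node (.node (.node (.node (.node (.node (.node (.leaf 0x17ac1bf7) (.leaf 0x1a211bf5)) (.node (.leaf 0xf109c07) (.leaf 0xd4d9c05))) (.node (.node (.leaf 0xe239bf7) (.leaf 0x16ea5bf5)) (.node (.leaf 0xc7f9bf5) (.leaf 0x7535bf7)))) (.node (.node (.node (.leaf 0x1e3cdc05) (.leaf 0xe0d5c07)) (.node (.leaf 0x1f7d1bf5)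 (.leaf 0xf015bf5))) (.node (.node (.leaf 0x11ac1bf5) (.leaf 0x179e1bf7)) (.node (.leaf 0xc5edc07) (.leaf 0x0))))) (.node (.node (.node (.node (.leaf 0x10b29bf7) (.leaf 0x16b09bf7)) (.node (.leaf 0x1ebb9bf5) (.leaf 0x1eaa1bf5))) (.node (.node (.leaf 0x15101c05) (.leaf 0x18b69bf7)) (.node (.leaf 0x1f60dbf5) (.leaf 0xc8a5bf7)))) (.node (.node (.node (.leaf 0x1e161bf5) (.leaf 0xcf05c05)) (.node (.leaf 0x1c425c07) (.leaf 0x14439bf5))) (.node (.node (.leaf 0x19dd5c05) (.leaf 0xa13dbf7)) (.node (.leaf 0x11455c07) (.leaf 0x0)))))) (.node (.node (.node (.node (.node (.leaf 0x1b1b1bf7) (.leaf 0x1c0e1bf5)) (.node (.leaf 0x1ee35c07) (.leaf 0x10255c05))) (.node (.node (.leaf 0xc5cdbf5) (.leaf 0x17161bf7)) (.node (.leaf 0x1074dbf7) (.leaf 0xc455c07)))) (.node (.node (.node (.leaf 0x10d5dbf7) (.leaf 0x174a1c07)) (.node (.leaf 0x10929c05) (.leaf 0x18fb1bf5))) (.node (.node (.leaf 0x194f1bf7)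 (.leaf 0x16571bf5)) (.node (.leaf 0x15be5c05) (.leaf 0x0))))) (.node (.node (.node (.node (.leaf 0x145b1c05) (.leaf 0x1b799bf5)) (.node (.leaf 0x15ea5bf7) (.leaf 0x10db1c07))) (.node (.node (.leaf 0xeb81c07) (.leaf 0x12ac5bf5)) (.node (.leaf 0x14525bf7) (.leaf 0x1b879bf5)))) (.node (.node (.node (.leaf 0x8b89bf7) (.leaf 0x11b65c05)) (.node (.leaf 0x11751bf5) (.leaf 0xd4d9c07))) (.node (.node (.leaf 0x11719c07) (.leaf 0x119fdbf5)) (.node (.leaf 0x1d9e9c05) (.leaf 0x0))))))) (.node (.node (.node (.node (.node (.node (.leaf 0x14a05bf7) (.leaf 0x17a15c07)) (.node (.leaf 0x1ac6dc05) (.leaf 0x108e5c07))) (.node (.node (.leaf 0x13a21bf5) (.leaf 0x1aba9c07)) (.node (.leaf 0x1a359c05) (.leaf 0xd21dbf7)))) (.node (.node (.node (.leaf 0x16755c05) (.leaf 0x17469c07)) (.node (.leaf 0xaae5c05) (.leaf 0xe88dbf7))) (.node (.node (.leaf 0x12c75bf5) (.leaf 0xcf05bf7)) (.node (.leaf 0x1b4f1bf7)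 (.leaf 0x0))))) (.node (.node (.node (.node (.leaf 0x16dddbf7) (.leaf 0x16891c05)) (.node (.leaf 0x12695c05) (.leaf 0x18445bf5))) (.node (.node (.leaf 0xeba1bf5) (.leaf 0x10a09c05)) (.node (.leaf 0x11775c07) (.leaf 0xe835c05)))) (.node (.node (.node (.leaf 0x10249c07) (.leaf 0x196bdc05)) (.node (.leaf 0xcbf5bf5) (.leaf 0x116a9c05))) (.node (.node (.leaf 0xe879c07) (.leaf 0x10665c05)) (.node (.leaf 0x1b975bf7) (.leaf 0x0)))))) (.node (.node (.node (.node (.node (.leaf 0x1a019bf7) (.leaf 0x1cc3dc05)) (.node (.leaf 0x108cdc05) (.leaf 0x10e89bf5))) (.node (.node (.leaf 0x1b701bf5) (.leaf 0x1e115c05)) (.node (.leaf 0x1fae9bf5) (.leaf 0x1a849c05)))) (.node (.node (.node (.leaf 0x15da9bf7) (.leaf 0x142f1bf5)) (.node (.leaf 0xcf65bf5) (.leaf 0x14031c07))) (.node (.node (.leaf 0x14b59c07) (.leaf 0xe969c05)) (.node (.leaf 0x13455c05) (.leaf 0x0))))) (.node (.node (.node (.node (.leaf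 0x170a9bf7) (.leaf 0x10c4dbf5)) (.node (.leaf 0x18805c05) (.leaf 0x1a221bf7))) (.node (.node (.leaf 0xec69bf7) (.leaf 0x15c85bf7)) (.node (.leaf 0x1246dc07) (.leaf 0x0)))) (.node (.node (.node (.leaf 0x17415bf5) (.leaf 0x11b79bf7)) (.node (.leaf 0x16cb1c05) (.leaf 0x82a1c05))) (.node (.node (.leaf 0x118f9c07) (.leaf 0xcf65c05)) (.node (.leaf 0x17451bf7) (.leaf 0x0)))))))) (.node (.node (.node (.node (.node (.node (.node (.leaf 0x1a519bf7) (.leaf 0x18cb1bf7)) (.node (.leaf 0x15d65c07) (.leaf 0x14555bf7))) (.node (.node (.leaf 0x10ce9c05) (.leaf 0x132d9c07)) (.node (.leaf 0x12a09bf7) (.leaf 0x1a071c05)))) (.node (.node (.node (.leaf 0x16ab5c07) (.leaf 0x1ee9dbf5)) (.node (.leaf 0x12be5bf7) (.leaf 0x129c1bf5))) (.node (.node (.leaf 0x14959c07) (.leaf 0x853dbf7)) (.node (.leaf 0x122bdc07) (.leaf 0x0))))) (.node (.node (.node (.node (.leaf 0xd82dc05) (.leaf 0x146f1c05)) (.node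 (.leaf 0x1ac25bf7) (.leaf 0x19f4dbf7))) (.node (.node (.leaf 0x14701bf7) (.leaf 0x15105bf7)) (.node (.leaf 0x16981bf7) (.leaf 0xe4a5c05)))) (.node (.node (.node (.leaf 0x1956dbf5) (.leaf 0x143f1c05)) (.node (.leaf 0x11759c07) (.leaf 0xd605bf5))) (.node (.node (.leaf 0x11f71bf5) (.leaf 0x12e85c07)) (.node (.leaf 0xa525bf5) (.leaf 0x0)))))) (.node (.node (.node (.node (.node (.leaf 0x1a9d5c07) (.leaf 0xae1dbf5)) (.node (.leaf 0x14a1dbf7) (.leaf 0x1292dbf5))) (.node (.node (.leaf 0x15485c07) (.leaf 0x9e41c05)) (.node (.leaf 0x1e009c07) (.leaf 0x1725dbf7)))) (.node (.node (.node (.leaf 0xaeadc07) (.leaf 0xe0edc05)) (.node (.leaf 0x13925bf7) (.leaf 0xf5d5c07))) (.node (.node (.leaf 0x17035c07) (.leaf 0x1602dc07)) (.node (.leaf 0x1c3ddbf5) (.leaf 0x0))))) (.node (.node (.node (.node (.leaf 0x153ddbf5) (.leaf 0x1a5a1bf7)) (.node (.leaf 0xcc1dbf5) (.leaf 0x12f39bf5))) (.node (.node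 (.leaf 0x175adc07) (.leaf 0xc729c07)) (.node (.leaf 0x1b5e5bf7) (.leaf 0x0)))) (.node (.node (.node (.leaf 0x14a11bf5) (.leaf 0x14495c07)) (.node (.leaf 0xd675c05) (.leaf 0xe4a5c07))) (.node (.node (.leaf 0x1ed11bf5) (.leaf 0x9405c07)) (.node (.leaf 0x1e8c9bf5) (.leaf 0x0))))))) (.node (.node (.node (.node (.node (.node (.leaf 0x11f7dc07) (.leaf 0x13379c07)) (.node (.leaf 0x1b395bf7) (.leaf 0x11769c05))) (.node (.node (.leaf 0x153e9c05) (.leaf 0x1351dc07)) (.node (.leaf 0x1c169bf5) (.leaf 0x1aaadbf5)))) (.node (.node (.node (.leaf 0xdb95c07) (.leaf 0xc0c5bf7)) (.node (.leaf 0x17719c05) (.leaf 0x18ef1c07))) (.node (.node (.leaf 0xea65c05) (.leaf 0x10a91c07)) (.node (.leaf 0x1a975c05) (.leaf 0x0))))) (.node (.node (.node (.node (.leaf 0x1c821bf5) (.leaf 0x154a1bf7)) (.node (.leaf 0x10e7dbf7) (.leaf 0x14d19c07))) (.node (.node (.leaf 0x18e65bf5) (.leaf 0x1b4f1c05)) (.node (.leaf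 0x13ad1c05) (.leaf 0x1a189bf5)))) (.node (.node (.node (.leaf 0x1b8e5bf5) (.leaf 0x1376dc05)) (.node (.leaf 0x129bdbf5) (.leaf 0x11861c05))) (.node (.node (.leaf 0x10095bf7) (.leaf 0x1ca8dbf5)) (.node (.leaf 0x11b59c05) (.leaf 0x0)))))) (.node (.node (.node (.node (.node (.leaf 0x19a39bf5) (.leaf 0x13675bf5)) (.node (.leaf 0xe209bf5) (.leaf 0x1992dbf5))) (.node (.node (.leaf 0x155a1bf7) (.leaf 0x5949bf5)) (.node (.leaf 0x18805bf5) (.leaf 0x10b0dc05)))) (.node (.node (.node (.leaf 0x15c11c05) (.leaf 0x8499bf7)) (.node (.leaf 0x10b11c05) (.leaf 0x13589c05))) (.node (.node (.leaf 0x11d01bf5) (.leaf 0x82a1bf5)) (.node (.leaf 0xd76dc05) (.leaf 0x0))))) (.node (.node (.node (.node (.leaf 0x1c481bf5) (.leaf 0x141edc07)) (.node (.leaf 0x10be9bf5) (.leaf 0x14d1dc07))) (.node (.node (.leaf 0xe07dbf5) (.leaf 0x178d5c05)) (.node (.leaf 0x13721c07) (.leaf 0x0)))) (.node (.node (.node (.leaf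 0x11b49c07) (.leaf 0x16eddbf7)) (.node (.leaf 0x10259c05) (.leaf 0x12a71c05))) (.node (.node (.leaf 0x13615c07) (.leaf 0x102edbf7)) (.node (.leaf 0x19941c07) (.leaf 0x0))))))))))

/-- packed table -/
noncomputable def cov15_lrr : BTree := (.node (.node (.node (.node (.node (.node (.node (.node (.node (.leaf 0x1486dbf7) (.leaf 0x15991c05)) (.node (.leaf 0x16f29c07) (.leaf 0x17831c07))) (.node (.node (.leaf 0x1abf1bf7) (.leaf 0x16199bf5)) (.node (.leaf 0x141a5bf5) (.leaf 0xd4a9c05)))) (.node (.node (.node (.leaf 0x1de39bf5) (.leaf 0x156e9bf5)) (.node (.leaf 0x184e5bf5) (.leaf 0x14fddc05))) (.node (.node (.leaf 0x1a431bf5) (.leaf 0x186adbf5)) (.node (.leaf 0x19891bf7) (.leaf 0x0))))) (.node (.node (.node (.node (.leaf 0x19a25bf5) (.leaf 0x11cf1bf7)) (.node (.leaf 0x152e9c07) (.leaf 0x16ee1bf5))) (.node (.node (.leaf 0x1f345bf5) (.leaf 0x1c119bf5)) (.node (.leaf 0x14741bf5) (.leaf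 0x1889dbf7)))) (.node (.node (.node (.leaf 0x1860dbf5) (.leaf 0x19fedbf5)) (.node (.leaf 0x1227dbf5) (.leaf 0x17579bf7))) (.node (.node (.leaf 0x16915c05) (.leaf 0x1d4b5bf5)) (.node (.leaf 0x10435bf7) (.leaf 0x0)))))) (.node (.node (.node (.node (.node (.leaf 0x1957dc05) (.leaf 0xd1f5bf7)) (.node (.leaf 0x109cdbf5) (.leaf 0x192f9c07))) (.node (.node (.leaf 0x1ba61bf7) (.leaf 0x1a139bf7)) (.node (.leaf 0x15c71bf7) (.leaf 0x19575bf5)))) (.node (.node (.node (.leaf 0x11a85bf7) (.leaf 0x14cadc07)) (.node (.leaf 0x18cf9bf7) (.leaf 0x168bdc05))) (.node (.node (.leaf 0x10829c07) (.leaf 0x1016dbf5)) (.node (.leaf 0x45c1bf5) (.leaf 0x0))))) (.node (.node (.node (.node (.leaf 0x11ac9bf7) (.leaf 0x194d1bf7)) (.node (.leaf 0x10c71bf5) (.leaf 0x15f05bf5))) (.node (.node (.leaf 0x18345c05) (.leaf 0x1b93dc07)) (.node (.leaf 0x1a0b5bf5) (.leaf 0xd1f5c07)))) (.node (.node (.node (.leaf 0xeb89c05)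 (.leaf 0x16a41bf5)) (.node (.leaf 0xd7bdbf5) (.leaf 0x11bbdbf7))) (.node (.node (.leaf 0x5c8dc05) (.leaf 0x156d1c05)) (.node (.leaf 0x1624dc07) (.leaf 0x0))))))) (.node (.node (.node (.node (.node (.node (.leaf 0x19941c05) (.leaf 0x111adc07)) (.node (.leaf 0x15035bf5) (.leaf 0x1bfc))) (.node (.node (.leaf 0x15901c05) (.leaf 0x6db1bf7)) (.node (.leaf 0x15561bf5) (.leaf 0x11d55bf7)))) (.node (.node (.node (.leaf 0x6761c05) (.leaf 0x16a51c07)) (.node (.leaf 0xef71bf5) (.leaf 0x10909bf5))) (.node (.node (.leaf 0x14931c07) (.leaf 0x12c1dc05)) (.node (.leaf 0x161a5bf7) (.leaf 0x0))))) (.node (.node (.node (.node (.leaf 0x1e865bf5) (.leaf 0x1ea5dbf5)) (.node (.leaf 0x15995c07) (.leaf 0x1a43dbf5))) (.node (.node (.leaf 0x1c941bf5) (.leaf 0x1a26dbf5)) (.node (.leaf 0x1a09dbf7) (.leaf 0x171a9c05)))) (.node (.node (.node (.leaf 0x14739c07) (.leaf 0x1654dc05)) (.node (.leaf 0x15aedbf5)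 (.leaf 0x1c139bf5))) (.node (.node (.leaf 0x152cdbf5) (.leaf 0x13745bf7)) (.node (.leaf 0x1a715c05) (.leaf 0x0)))))) (.node (.node (.node (.node (.node (.leaf 0x156d9c05) (.leaf 0x11ed5c05)) (.node (.leaf 0x122c5bf5) (.leaf 0x124e1c05))) (.node (.node (.leaf 0x10b29c07) (.leaf 0x16111c05)) (.node (.leaf 0x12751bf7) (.leaf 0x19b8dbf7)))) (.node (.node (.node (.leaf 0x17a35bf7) (.leaf 0x18849c07)) (.node (.leaf 0x16e7dbf7) (.leaf 0x14e2dbf5))) (.node (.node (.leaf 0x194c1c05) (.leaf 0x12979c05)) (.node (.leaf 0x1b0edbf7) (.leaf 0x0))))) (.node (.node (.node (.node (.leaf 0xd82dc07) (.leaf 0x1c10)) (.node (.leaf 0x10829c05) (.leaf 0xe209bf7))) (.node (.node (.leaf 0x988dbf7) (.leaf 0x15561c05)) (.node (.leaf 0x151c9bf5) (.leaf 0x0)))) (.node (.node (.node (.leaf 0x17411bf5) (.leaf 0xa0f9bf7)) (.node (.leaf 0x1807dbf5) (.leaf 0x16b9dc07))) (.node (.node (.leaf 0xd921c07) (.leaf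 0x1ce29bf5)) (.node (.leaf 0x88c9bf5) (.leaf 0x0)))))))) (.node (.node (.node (.node (.node (.node (.node (.leaf 0x13b31bf5) (.leaf 0x17041bf5)) (.node (.leaf 0x18879bf7) (.leaf 0x1a0d9bf5))) (.node (.node (.leaf 0x146e5bf5) (.leaf 0x13589c07)) (.node (.leaf 0xe931bf5) (.leaf 0x14b61bf7)))) (.node (.node (.node (.leaf 0x10939c05) (.leaf 0x1f57dbf5)) (.node (.leaf 0xe4a5bf7) (.leaf 0x1890dbf5))) (.node (.node (.leaf 0x15ae9bf5) (.leaf 0x1cb7dbf5)) (.node (.leaf 0xc6f5bf5) (.leaf 0x0))))) (.node (.node (.node (.node (.leaf 0xede9bf5) (.leaf 0xde69bf5)) (.node (.leaf 0xe70dbf7) (.leaf 0x128ddbf7))) (.node (.node (.leaf 0xe741c07) (.leaf 0x1c2d9bf5)) (.node (.leaf 0x11ec9c07) (.leaf 0x17415c05)))) (.node (.node (.node (.leaf 0x14de9bf5) (.leaf 0x12105c05)) (.node (.leaf 0x19badc07) (.leaf 0x12595c05))) (.node (.node (.leaf 0x1a015c05) (.leaf 0x11db1c05)) (.node (.leaf 0xe94dc07)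 (.leaf 0x0)))))) (.node (.node (.node (.node (.node (.leaf 0x19bd9bf7) (.leaf 0x10c71bf7)) (.node (.leaf 0x1a685bf7) (.leaf 0x119cdc07))) (.node (.node (.leaf 0x12311bf5) (.leaf 0x170b1bf5)) (.node (.leaf 0x6295bf5) (.leaf 0x136a1c07)))) (.node (.node (.node (.leaf 0x18d69bf7) (.leaf 0x116b5c05)) (.node (.leaf 0x16fd9c07) (.leaf 0x1b635c07))) (.node (.node (.leaf 0x18545bf5) (.leaf 0x12025c07)) (.node (.leaf 0x1a1adbf5) (.leaf 0x0))))) (.node (.node (.node (.node (.leaf 0x134d5c07) (.leaf 0x15001bf5)) (.node (.leaf 0x10ab5c05) (.leaf 0x19a21bf7))) (.node (.node (.leaf 0x134b9bf5) (.leaf 0x1f299bf5)) (.node (.leaf 0xea65bf7) (.leaf 0x0)))) (.node (.node (.node (.leaf 0x113c1bf5) (.leaf 0x1eaa1c05)) (.node (.leaf 0xd675bf5) (.leaf 0x10339bf5))) (.node (.node (.leaf 0x12b5dbf5) (.leaf 0x1b6cdbf5)) (.node (.leaf 0x19e6dbf7) (.leaf 0x0))))))) (.node (.node (.node (.node (.node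 (.node (.leaf 0x1bb49c05) (.leaf 0x15505bf5)) (.node (.leaf 0x14d9dbf5) (.leaf 0xd4bdbf5))) (.node (.node (.leaf 0x10751c05) (.leaf 0x19f61bf7)) (.node (.leaf 0x1989dbf7) (.leaf 0xfb39bf5)))) (.node (.node (.node (.leaf 0xeccdc07) (.leaf 0x1f459c07)) (.node (.leaf 0x9441bf5) (.leaf 0x8e21bf5))) (.node (.node (.leaf 0x169d9bf7) (.leaf 0x144bdc05)) (.node (.leaf 0x18a75bf5) (.leaf 0x0))))) (.node (.node (.node (.node (.leaf 0x1867dbf5) (.leaf 0x167a5bf5)) (.node (.leaf 0xd20dc05) (.leaf 0xfab9bf5))) (.node (.node (.leaf 0x14e35bf5) (.leaf 0xd4adc07)) (.node (.leaf 0x10c4dbf7) (.leaf 0xd4a9bf7)))) (.node (.node (.node (.leaf 0x1b651c05) (.leaf 0x165e5c07)) (.node (.leaf 0x12ad9bf7) (.leaf 0x18cd9c05))) (.node (.node (.leaf 0x16cb5bf5) (.leaf 0x12339c05)) (.node (.leaf 0x16ea5c07) (.leaf 0x0)))))) (.node (.node (.node (.node (.node (.leaf 0x16011bf7) (.leaf 0xdfb9c07)) (.node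 (.leaf 0x9cbdc05) (.leaf 0x122ddbf7))) (.node (.node (.leaf 0x11835bf7) (.leaf 0x107c9c07)) (.node (.leaf 0x1d8fdbf5) (.leaf 0x1857dbf5)))) (.node (.node (.node (.leaf 0x1aacdbf5) (.leaf 0x1a555c05)) (.node (.leaf 0x181d5bf7) (.leaf 0x16b39bf7))) (.node (.node (.leaf 0x1dd35bf5) (.leaf 0x1ed11c07)) (.node (.leaf 0x9641bf7) (.leaf 0x0))))) (.node (.node (.node (.node (.leaf 0x16219c07) (.leaf 0xc415c07)) (.node (.leaf 0x10909c07) (.leaf 0x15565bf7))) (.node (.node (.leaf 0x1a995bf7) (.leaf 0x131f9c07)) (.node (.leaf 0x17965c05) (.leaf 0x0)))) (.node (.node (.node (.leaf 0x131b5c07) (.leaf 0x14825bf5)) (.node (.leaf 0x183bdc07) (.leaf 0x12049bf7))) (.node (.node (.leaf 0xa0f9c05) (.leaf 0x10b11bf5)) (.node (.leaf 0x1cde1bf5) (.leaf 0x0))))))))) (.node (.node (.node (.node (.node (.node (.node (.node (.leaf 0x11fbdc07) (.leaf 0x18445c05)) (.node (.leaf 0xa9fdc05) (.leaf 0x1cd59c05)))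 (.node (.node (.leaf 0x1335dc05) (.leaf 0x1c811bf5)) (.node (.leaf 0x18ba5bf7) (.leaf 0x190c1bf5)))) (.node (.node (.node (.leaf 0x1171dbf5) (.leaf 0x161b5c05)) (.node (.leaf 0x1a4c1bf7) (.leaf 0x1756dbf7))) (.node (.node (.leaf 0x112edbf7) (.leaf 0xdf9dbf7)) (.node (.leaf 0x122c5c07) (.leaf 0x0))))) (.node (.node (.node (.node (.leaf 0x139a1c07) (.leaf 0xaae1bf7)) (.node (.leaf 0xd331c05) (.leaf 0xd4a9bf5))) (.node (.node (.leaf 0x17639bf7) (.leaf 0x14645bf7)) (.node (.leaf 0x17255bf5) (.leaf 0x16789bf7)))) (.node (.node (.node (.leaf 0x162f5c07) (.leaf 0x1279dbf5)) (.node (.leaf 0x1527dbf7) (.leaf 0x10665c07))) (.node (.node (.leaf 0x16061c07) (.leaf 0x11b65c07)) (.node (.leaf 0x1901dc05) (.leaf 0x0)))))) (.node (.node (.node (.node (.node (.leaf 0x19dd5c07) (.leaf 0x16991c07)) (.node (.leaf 0x9665c07) (.leaf 0xe879c05))) (.node (.node (.leaf 0xcfd9bf7) (.leaf 0x1714dbf7))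 (.node (.leaf 0xc09dc07) (.leaf 0xaf25bf5)))) (.node (.node (.node (.leaf 0x16fc9bf5) (.leaf 0x18e25bf7)) (.node (.leaf 0x10ce9bf7) (.leaf 0x15571bf7))) (.node (.node (.leaf 0xc7f9c07) (.leaf 0x132c1c05)) (.node (.leaf 0x1b4e5bf7) (.leaf 0x0))))) (.node (.node (.node (.node (.leaf 0xcec1c07) (.leaf 0xf78dbf5)) (.node (.leaf 0xc0c5bf5) (.leaf 0x17209bf5))) (.node (.node (.leaf 0xf125c07) (.leaf 0x114e1bf7)) (.node (.leaf 0x184f9bf7) (.leaf 0x98e1bf5)))) (.node (.node (.node (.leaf 0x11769bf5) (.leaf 0xd749c05)) (.node (.leaf 0x13669c07) (.leaf 0x1598dc07))) (.node (.node (.leaf 0x10d3dbf5) (.leaf 0xdf99c05)) (.node (.leaf 0x10a09c07) (.leaf 0x0))))))) (.node (.node (.node (.node (.node (.node (.leaf 0x124cdbf5) (.leaf 0xf5d5bf7)) (.node (.leaf 0x102edc07) (.leaf 0x1cb1dbf5))) (.node (.node (.leaf 0x1e925bf5) (.leaf 0x142adc05)) (.node (.leaf 0x159adbf7) (.leaf 0x166e9bf7))))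 (.node (.node (.node (.leaf 0x139a1bf5) (.leaf 0x16991bf7)) (.node (.leaf 0x1aacdc05) (.leaf 0xc185bf5))) (.node (.node (.leaf 0x1602dc05) (.leaf 0x13571bf7)) (.node (.leaf 0x15df1bf5) (.leaf 0x0))))) (.node (.node (.node (.node (.leaf 0x16871bf5) (.leaf 0xec5dc07)) (.node (.leaf 0x14e95bf7) (.leaf 0x12be5c05))) (.node (.node (.leaf 0x11369c07) (.leaf 0x12751c07)) (.node (.leaf 0x13769c07) (.leaf 0xa899c07)))) (.node (.node (.node (.leaf 0x1b195bf5) (.leaf 0x1ba61c07)) (.node (.leaf 0x1241dbf7) (.leaf 0x1204dbf5))) (.node (.node (.leaf 0x151b1bf5) (.leaf 0x1a4b9c07)) (.node (.leaf 0x1534dbf5) (.leaf 0x0)))))) (.node (.node (.node (.node (.node (.leaf 0x155e9bf5) (.leaf 0x1585dbf7)) (.node (.leaf 0x10971bf5) (.leaf 0x134b9c05))) (.node (.node (.leaf 0x1d28dbf5) (.leaf 0x1ce75bf5)) (.node (.leaf 0x1f931c07) (.leaf 0x11c89c05)))) (.node (.node (.node (.leaf 0x140d1c07) (.leaf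 0x16e95bf5)) (.node (.leaf 0xc1b1bf7) (.leaf 0x147d9bf7))) (.node (.node (.leaf 0x18f71c07) (.leaf 0x17979c05)) (.node (.leaf 0x15b71bf7) (.leaf 0x0))))) (.node (.node (.node (.node (.leaf 0x10751bf7) (.leaf 0x14409c07)) (.node (.leaf 0x1a0adbf5) (.leaf 0xcb2dbf5))) (.node (.node (.leaf 0x115fdc07) (.leaf 0x1ba05c05)) (.node (.leaf 0x13061bf5) (.leaf 0x0)))) (.node (.node (.node (.leaf 0xd545bf7) (.leaf 0xc3c1c05)) (.node (.leaf 0xc391c07) (.leaf 0x1d3b9bf5))) (.node (.node (.leaf 0x16fa1bf7) (.leaf 0xa2b1c07)) (.node (.leaf 0xaab1bf5) (.leaf 0x0)))))))) (.node (.node (.node (.node (.node (.node (.node (.leaf 0x1193dc05) (.leaf 0xe239c05)) (.node (.leaf 0x10249c05) (.leaf 0x11bc5c07))) (.node (.node (.leaf 0x145b1bf7) (.leaf 0x82a1bf7)) (.node (.leaf 0x120c5bf5) (.leaf 0x170a9bf5)))) (.node (.node (.node (.leaf 0x165e5bf5) (.leaf 0x1daf1bf5)) (.node (.leaf 0x175e9bf7) (.leaf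 0x10335c07))) (.node (.node (.leaf 0x18945c07) (.leaf 0x19329c05)) (.node (.leaf 0x19c21bf5) (.leaf 0x0))))) (.node (.node (.node (.node (.leaf 0x12f45bf5) (.leaf 0xc195bf7)) (.node (.leaf 0x1ad81bf7) (.leaf 0x171a9c07))) (.node (.node (.leaf 0x10fa5bf5) (.leaf 0x12cddc05)) (.node (.leaf 0x14f8dc07) (.leaf 0xd301bf5)))) (.node (.node (.node (.leaf 0x118f9bf7) (.leaf 0x1f72dbf5)) (.node (.leaf 0x111e9c05) (.leaf 0xcec1bf5))) (.node (.node (.leaf 0x13a79c05) (.leaf 0xd549bf7)) (.node (.leaf 0x11f2dbf5) (.leaf 0x0)))))) (.node (.node (.node (.node (.node (.leaf 0xefb9bf5) (.leaf 0x16cb9c07)) (.node (.leaf 0x15885bf7) (.leaf 0x10e15bf5))) (.node (.node (.leaf 0x11b0dbf7) (.leaf 0xc569bf7)) (.node (.leaf 0x154f5bf7) (.leaf 0x11ec9bf5)))) (.node (.node (.node (.leaf 0x12955bf5) (.leaf 0x12429c07)) (.node (.leaf 0x124a1c05) (.leaf 0x12be5c07))) (.node (.node (.leaf 0x11939c07) (.leaf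 0x11165c05)) (.node (.leaf 0x1a74dbf7) (.leaf 0x0))))) (.node (.node (.node (.node (.leaf 0x1d74dbf5) (.leaf 0x1704dbf7)) (.node (.leaf 0x10a9dc05) (.leaf 0xd331c07))) (.node (.node (.leaf 0x15319c05) (.leaf 0x1872dc07)) (.node (.leaf 0xec41bf7) (.leaf 0x0)))) (.node (.node (.node (.leaf 0x11eadc05) (.leaf 0xe0edbf7)) (.node (.leaf 0x10929bf5) (.leaf 0x134fdbf5))) (.node (.node (.leaf 0x1ad21bf5) (.leaf 0x18b35bf5)) (.node (.leaf 0x10be9c07) (.leaf 0x0))))))) (.node (.node (.node (.node (.node (.node (.leaf 0x171c9bf7) (.leaf 0x65a5bf7)) (.node (.leaf 0x11195c05) (.leaf 0x1dd95bf5))) (.node (.node (.leaf 0x113f1c05) (.leaf 0x10afdc05)) (.node (.leaf 0xcbf5bf7) (.leaf 0x1cd59bf5)))) (.node (.node (.node (.leaf 0x16ca5bf7) (.leaf 0x7099c07)) (.node (.leaf 0x1700dc07) (.leaf 0x1a5a9c07))) (.node (.node (.leaf 0x14951c05) (.leaf 0x11bb5c05)) (.node (.leaf 0x11b4dc05) (.leaf 0x0)))))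 (.node (.node (.node (.node (.leaf 0x17555c07) (.leaf 0xdf9dc07)) (.node (.leaf 0x15c05bf5) (.leaf 0x1cb19bf5))) (.node (.node (.leaf 0x18e3dbf5) (.leaf 0x1d9e9bf5)) (.node (.leaf 0xe495bf7) (.leaf 0x1620dc07)))) (.node (.node (.node (.leaf 0x11861bf5) (.leaf 0x10dd1c07)) (.node (.leaf 0x12119bf7) (.leaf 0x159c5bf5))) (.node (.node (.leaf 0x15b11c05) (.leaf 0x15a1dbf7)) (.node (.leaf 0x13221c07) (.leaf 0x0)))))) (.node (.node (.node (.node (.node (.leaf 0x17861bf7) (.leaf 0x1f685bf5)) (.node (.leaf 0x1b5f1bf5) (.leaf 0xc195bf5))) (.node (.node (.leaf 0x15201bf5) (.leaf 0xd0d1bf5)) (.node (.leaf 0x13b31bf7) (.leaf 0x12779bf7)))) (.node (.node (.node (.leaf 0x19c21c05) (.leaf 0x1b0d1bf5)) (.node (.leaf 0x1afbdbf5) (.leaf 0x12bd5c05))) (.node (.node (.leaf 0x1b619bf7) (.leaf 0x125e1c05)) (.node (.leaf 0x19225bf5) (.leaf 0x0))))) (.node (.node (.node (.node (.leaf 0x1481dbf7)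 (.leaf 0x16371c05)) (.node (.leaf 0xd981bf7) (.leaf 0x17831bf7))) (.node (.node (.leaf 0x13955bf7) (.leaf 0x12935c05)) (.node (.leaf 0x14465bf5) (.leaf 0x0)))) (.node (.node (.node (.leaf 0x9395c07) (.leaf 0x11abdc05)) (.node (.leaf 0x12e01bf7) (.leaf 0x15eb5c07))) (.node (.node (.leaf 0x142f1c05) (.leaf 0x1db61c07)) (.node (.leaf 0xd981c05) (.leaf 0x0))))))))))

/-- packed table -/
noncomputable def cov15_rll : BTree := (.node (.node (.node (.node (.node (.node (.node (.node (.node (.leaf 0x1ecd1bf5) (.leaf 0x191bdc07)) (.node (.leaf 0xb825c07) (.leaf 0x16b65c07))) (.node (.node (.leaf 0x148a9bf5) (.leaf 0x10b9dc05)) (.node (.leaf 0x14f59bf5) (.leaf 0x12595bf7)))) (.node (.node (.node (.leaf 0x134b9c07) (.leaf 0x19e71bf5)) (.node (.leaf 0x6db1c07) (.leaf 0x17845bf7))) (.node (.node (.leaf 0x13191c05) (.leaf 0x8361bf7)) (.node (.leaf 0x11bc5bf5) (.leaf 0x0))))) (.node (.node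 (.node (.node (.leaf 0x1a3ddc05) (.leaf 0x173a1bf5)) (.node (.leaf 0x107cdbf5) (.leaf 0x1a855bf5))) (.node (.node (.leaf 0x13425bf7) (.leaf 0x14e2dc07)) (.node (.leaf 0x1503dbf7) (.leaf 0x16859bf5)))) (.node (.node (.node (.leaf 0xc2d1bf7) (.leaf 0x130e5bf5)) (.node (.leaf 0x8bcdc05) (.leaf 0x1ab2dc07))) (.node (.node (.leaf 0x17899c07) (.leaf 0x10561bf7)) (.node (.leaf 0x138ddc07) (.leaf 0x0)))))) (.node (.node (.node (.node (.node (.leaf 0x19c91bf5) (.leaf 0xc569bf5)) (.node (.leaf 0x108e5c05) (.leaf 0x188c1bf7))) (.node (.node (.leaf 0x16d31bf7) (.leaf 0xd981c07)) (.node (.leaf 0x12339c07) (.leaf 0xcd4dbf5)))) (.node (.node (.node (.leaf 0x19afdc05) (.leaf 0x14045bf5)) (.node (.leaf 0x13721c05) (.leaf 0x161cdc05))) (.node (.node (.leaf 0x15525bf5) (.leaf 0x16da5bf7)) (.node (.leaf 0xa2b1bf7) (.leaf 0x0))))) (.node (.node (.node (.node (.leaf 0x10f85c07) (.leaf 0x1241dc07))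 (.node (.leaf 0x14931c05) (.leaf 0x14961c07))) (.node (.node (.leaf 0x15809bf7) (.leaf 0x12badc05)) (.node (.leaf 0x14e85c07) (.leaf 0x1227dbf7)))) (.node (.node (.node (.leaf 0x15745c05) (.leaf 0x10e4dc07)) (.node (.leaf 0x182b5bf5) (.leaf 0x15199c07))) (.node (.node (.leaf 0x808dbf7) (.leaf 0xe7ddc07)) (.node (.leaf 0x108b5bf5) (.leaf 0x0))))))) (.node (.node (.node (.node (.node (.node (.leaf 0x9959c05) (.leaf 0x10325c07)) (.node (.leaf 0xe169bf5) (.leaf 0x17aa1bf5))) (.node (.node (.leaf 0x9395bf7) (.leaf 0x142a5bf7)) (.node (.leaf 0x12bbdbf7) (.leaf 0x151b1c07)))) (.node (.node (.node (.leaf 0x12751c05) (.leaf 0x176e1bf7)) (.node (.leaf 0x12079bf7) (.leaf 0x111adc05))) (.node (.node (.leaf 0x10939c07) (.leaf 0x189f9bf5)) (.node (.leaf 0x10fc5c07) (.leaf 0x0))))) (.node (.node (.node (.node (.leaf 0x1f2a9bf5) (.leaf 0x106fdc05)) (.node (.leaf 0x17aa1c07) (.leaf 0x12649c07)))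 (.node (.node (.leaf 0x1482dbf7) (.leaf 0x5c8dbf7)) (.node (.leaf 0xec41c05) (.leaf 0x11e45bf5)))) (.node (.node (.node (.leaf 0x11fadbf5) (.leaf 0x17899bf7)) (.node (.leaf 0x194c1bf5) (.leaf 0x18ed9bf5))) (.node (.node (.leaf 0x112d9bf5) (.leaf 0xd59dbf5)) (.node (.leaf 0x178c5c07) (.leaf 0x0)))))) (.node (.node (.node (.node (.node (.leaf 0xb825bf5) (.leaf 0x17735bf7)) (.node (.leaf 0x12001c05) (.leaf 0x9e91c05))) (.node (.node (.leaf 0x15669bf5) (.leaf 0x15505bf7)) (.node (.leaf 0x19e25bf7) (.leaf 0x11b55bf5)))) (.node (.node (.node (.leaf 0xe94dbf5) (.leaf 0x12665c07)) (.node (.leaf 0x10881bf5) (.leaf 0x182c1c05))) (.node (.node (.leaf 0x1cae9bf5) (.leaf 0x1d245bf5)) (.node (.leaf 0x18ef1c05) (.leaf 0x0))))) (.node (.node (.node (.node (.leaf 0x15789c07) (.leaf 0x14c35bf5)) (.node (.leaf 0x10aa9c05) (.leaf 0x1c9f1bf5))) (.node (.node (.leaf 0x19fb1c05) (.leaf 0x16ca5c05))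 (.node (.leaf 0x1a4e5c07) (.leaf 0x0)))) (.node (.node (.node (.leaf 0x115a9c07) (.leaf 0x1ee49bf5)) (.node (.leaf 0x11dedc07) (.leaf 0x1aea1bf5))) (.node (.node (.leaf 0xe5e9c07) (.leaf 0x8f19bf7)) (.node (.leaf 0x1c1e9bf5) (.leaf 0x0)))))))) (.node (.node (.node (.node (.node (.node (.node (.leaf 0x12d2dc05) (.leaf 0x1a43dc05)) (.node (.leaf 0x12739c05) (.leaf 0x1f75dbf5))) (.node (.node (.leaf 0x17361c05) (.leaf 0x1ec19c07)) (.node (.leaf 0x11b49bf7) (.leaf 0x11a51c05)))) (.node (.node (.node (.leaf 0x15be9bf5) (.leaf 0x98a5bf5)) (.node (.leaf 0x16d6dbf5) (.leaf 0x10ba9bf7))) (.node (.node (.leaf 0x1639dbf7) (.leaf 0x15cfdbf5)) (.node (.leaf 0x122ddc07) (.leaf 0x0))))) (.node (.node (.node (.node (.leaf 0x163a9c07) (.leaf 0x11f0dc05)) (.node (.leaf 0x19e75bf5) (.leaf 0x15645bf7))) (.node (.node (.leaf 0x136b1c05) (.leaf 0x19941bf7)) (.node (.leaf 0x1b991bf5) (.leaf 0x1afddbf5))))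 (.node (.node (.node (.leaf 0x10921bf7) (.leaf 0x1902dc05)) (.node (.leaf 0x125ddbf7) (.leaf 0x1c669c07))) (.node (.node (.leaf 0x18acdbf7) (.leaf 0xaab1bf7)) (.node (.leaf 0xd76dbf5) (.leaf 0x0)))))) (.node (.node (.node (.node (.node (.leaf 0x115fdc05) (.leaf 0x15879c07)) (.node (.leaf 0x15e19bf7) (.leaf 0x1ab2dbf5))) (.node (.node (.leaf 0x14cadbf7) (.leaf 0x1a3ddc07)) (.node (.leaf 0x19741bf7) (.leaf 0x179f9c05)))) (.node (.node (.node (.leaf 0x16f29bf5) (.leaf 0x18dfdbf7)) (.node (.leaf 0x9efdc05) (.leaf 0x18895c05))) (.node (.node (.leaf 0x1481dc07) (.leaf 0x17175bf5)) (.node (.leaf 0x159bdbf7) (.leaf 0x0))))) (.node (.node (.node (.node (.leaf 0x14cb5bf5) (.leaf 0xaee5c07)) (.node (.leaf 0x1c9a9bf5) (.leaf 0x1a9d5bf5))) (.node (.node (.leaf 0x1126dc07) (.leaf 0xf12dbf7)) (.node (.leaf 0x18515bf7) (.leaf 0x11e59bf5)))) (.node (.node (.node (.leaf 0x1c615bf5) (.leaf 0x17301bf7))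 (.node (.leaf 0x1126dbf7) (.leaf 0xe675bf7))) (.node (.node (.leaf 0x1137dbf5) (.leaf 0xdfb9c05)) (.node (.leaf 0x1c0ddbf5) (.leaf 0x0))))))) (.node (.node (.node (.node (.node (.node (.leaf 0x8361c05) (.leaf 0xd4d9bf5)) (.node (.leaf 0xc2d1c07) (.leaf 0x110e5c07))) (.node (.node (.leaf 0x15779bf5) (.leaf 0x11db1c07)) (.node (.leaf 0xf7b5c07) (.leaf 0x126f5bf7)))) (.node (.node (.node (.leaf 0xe88dc07) (.leaf 0x19435bf5)) (.node (.leaf 0x1b419bf7) (.leaf 0x1b539bf7))) (.node (.node (.leaf 0xc981c05) (.leaf 0x197d5c07)) (.node (.leaf 0x1a7c1c07) (.leaf 0x0))))) (.node (.node (.node (.node (.leaf 0xe675c07) (.leaf 0xe1a1bf5)) (.node (.leaf 0x14e9dbf7) (.leaf 0xf9edbf5))) (.node (.node (.leaf 0x14fc1c05) (.leaf 0xc24dc05)) (.node (.leaf 0x1ceb5bf5) (.leaf 0x1830dc05)))) (.node (.node (.node (.leaf 0x17199bf5) (.leaf 0x120e5bf5)) (.node (.leaf 0x1bb49c07) (.leaf 0x1a059bf5)))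 (.node (.node (.leaf 0x10db1c05) (.leaf 0x1b69dbf5)) (.node (.leaf 0x1b97dbf7) (.leaf 0x0)))))) (.node (.node (.node (.node (.node (.leaf 0xd1d9c05) (.leaf 0xe741bf7)) (.node (.leaf 0x14c39c07) (.leaf 0x80fdbf5))) (.node (.node (.leaf 0x18e3dc05) (.leaf 0x1016dc05)) (.node (.leaf 0x13905c05) (.leaf 0x19e5dbf5)))) (.node (.node (.node (.leaf 0x10109c05) (.leaf 0x1d635bf5)) (.node (.leaf 0x12051bf5) (.leaf 0x1a1c1c05))) (.node (.node (.leaf 0xefb9c07) (.leaf 0x128adbf5)) (.node (.leaf 0x160b1c05) (.leaf 0x0))))) (.node (.node (.node (.node (.leaf 0x15399c05) (.leaf 0x8bcdbf5)) (.node (.leaf 0x17621c05) (.leaf 0x1204dbf7))) (.node (.node (.leaf 0x10549c05) (.leaf 0x1429dbf5)) (.node (.leaf 0xee0dbf5) (.leaf 0x0)))) (.node (.node (.node (.leaf 0x129bdc05) (.leaf 0x11ca5c05)) (.node (.leaf 0x83b5c07) (.leaf 0x1d3a1bf5))) (.node (.node (.leaf 0xc729bf7) (.leaf 0x1cde5c05)) (.node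 (.leaf 0x14df5bf5) (.leaf 0x0))))))))) (.node (.node (.node (.node (.node (.node (.node (.node (.leaf 0x15fc1c07) (.leaf 0xf7f5bf5)) (.node (.leaf 0x11b49c05) (.leaf 0x13941bf5))) (.node (.node (.leaf 0x10d2dc05) (.leaf 0x18955bf7)) (.node (.leaf 0x10259bf5) (.leaf 0x59e5bf5)))) (.node (.node (.node (.leaf 0x19e31bf5) (.leaf 0x131b5c05)) (.node (.leaf 0x10b49c05) (.leaf 0xc885c05))) (.node (.node (.leaf 0x16435bf5) (.leaf 0x15295bf7)) (.node (.leaf 0x10665bf7) (.leaf 0x0))))) (.node (.node (.node (.node (.leaf 0x1f9a9bf5) (.leaf 0x12689bf7)) (.node (.leaf 0x176c9bf5) (.leaf 0x1826dbf7))) (.node (.node (.leaf 0x155c5c05) (.leaf 0x1a9a1bf7)) (.node (.leaf 0x17079bf5) (.leaf 0xd009c05)))) (.node (.node (.node (.leaf 0x11d9dbf5) (.leaf 0xf185c05)) (.node (.leaf 0xe5e9bf7) (.leaf 0x153cdc07))) (.node (.node (.leaf 0x15425c05) (.leaf 0x16941c05)) (.node (.leaf 0x14409bf7) (.leaf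 0x0)))))) (.node (.node (.node (.node (.node (.leaf 0x131b5bf7) (.leaf 0x103edbf5)) (.node (.leaf 0xe35dbf7) (.leaf 0x9405bf5))) (.node (.node (.leaf 0x101f1bf7) (.leaf 0x19d81bf5)) (.node (.leaf 0x124e9c07) (.leaf 0xda65c05)))) (.node (.node (.node (.leaf 0x12ca9bf7) (.leaf 0x65c9c07)) (.node (.leaf 0x1247dc07) (.leaf 0x1a5edc07))) (.node (.node (.leaf 0x14a71bf7) (.leaf 0x14f8dbf7)) (.node (.leaf 0x189c1bf7) (.leaf 0x0))))) (.node (.node (.node (.node (.leaf 0xc885bf7) (.leaf 0x16ed1c07)) (.node (.leaf 0x122c5c05) (.leaf 0x16435bf7))) (.node (.node (.leaf 0x10a4dc05) (.leaf 0xa4f9bf7)) (.node (.leaf 0x15119c05) (.leaf 0x1a481c07)))) (.node (.node (.node (.leaf 0xeb81c05) (.leaf 0x1c8fdbf5)) (.node (.leaf 0x14925bf7) (.leaf 0x14fc9c07))) (.node (.node (.leaf 0x14f89bf7) (.leaf 0x6761bf5)) (.node (.leaf 0x159edc05) (.leaf 0x0))))))) (.node (.node (.node (.node (.node (.node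 (.leaf 0x11459bf7) (.leaf 0x149d9bf7)) (.node (.leaf 0x1cb31bf5) (.leaf 0xc391bf5))) (.node (.node (.leaf 0xa525c07) (.leaf 0x65a5c07)) (.node (.leaf 0x7535c05) (.leaf 0x18181bf7)))) (.node (.node (.node (.leaf 0x1a74dc05) (.leaf 0x87a5bf7)) (.node (.leaf 0x11351bf7) (.leaf 0x19735c05))) (.node (.node (.leaf 0x109cdc07) (.leaf 0x12c3dc05)) (.node (.leaf 0xf78dbf7) (.leaf 0x0))))) (.node (.node (.node (.node (.leaf 0x134a9c05) (.leaf 0x1e3cdbf5)) (.node (.leaf 0x18905bf7) (.leaf 0x16d59bf5))) (.node (.node (.leaf 0x10255bf7) (.leaf 0x16765c07)) (.node (.leaf 0x1724dbf5) (.leaf 0xede9c07)))) (.node (.node (.node (.leaf 0xeb81bf7) (.leaf 0xe1bdc05)) (.node (.leaf 0x10a4dc07) (.leaf 0x11369c05))) (.node (.node (.leaf 0x152b5bf5) (.leaf 0x11a51bf5)) (.node (.leaf 0x10e7dc05) (.leaf 0x0)))))) (.node (.node (.node (.node (.node (.leaf 0x118c5c07) (.leaf 0x11259bf7)) (.node (.leaf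 0xcf65bf7) (.leaf 0x186c1bf7))) (.node (.node (.leaf 0x1299dc05) (.leaf 0x11759bf5)) (.node (.leaf 0x17985c05) (.leaf 0x19219c07)))) (.node (.node (.node (.leaf 0x1eaddbf5) (.leaf 0x1bee)) (.node (.leaf 0x11029c07) (.leaf 0xeb1dbf7))) (.node (.node (.leaf 0x16ea5c05) (.leaf 0x10605bf7)) (.node (.leaf 0x1c5d9bf5) (.leaf 0x0))))) (.node (.node (.node (.node (.leaf 0x11bddc07) (.leaf 0x17169c05)) (.node (.leaf 0x12119c07) (.leaf 0x161fdbf7))) (.node (.node (.leaf 0x140a5c05) (.leaf 0xd675bf7)) (.node (.leaf 0x17081bf5) (.leaf 0x0)))) (.node (.node (.node (.leaf 0x584dbf7) (.leaf 0x11939bf5)) (.node (.leaf 0x10399c07) (.leaf 0x1ddfdbf5))) (.node (.node (.leaf 0xd605c05) (.leaf 0x19989bf7)) (.node (.leaf 0x12f35c07) (.leaf 0x0)))))))) (.node (.node (.node (.node (.node (.node (.node (.leaf 0x11d1dc05) (.leaf 0x173e5bf5)) (.node (.leaf 0x15539c05) (.leaf 0x11b4dbf7))) (.node (.node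 (.leaf 0xe931c07) (.leaf 0x1aefdbf5)) (.node (.leaf 0x1d2a1bf5) (.leaf 0x15825c07)))) (.node (.node (.node (.leaf 0x1390dc05) (.leaf 0x1759dbf5)) (.node (.leaf 0x14009c05) (.leaf 0xeb25bf7))) (.node (.node (.leaf 0x17ac1c05) (.leaf 0x14b81bf5)) (.node (.leaf 0x1b83dc05) (.leaf 0x0))))) (.node (.node (.node (.node (.leaf 0x130a5bf5) (.leaf 0x18a41bf7)) (.node (.leaf 0x1e8c9c07) (.leaf 0x13961bf5))) (.node (.node (.leaf 0x13061c07) (.leaf 0xa899bf7)) (.node (.leaf 0x80fdbf7) (.leaf 0x1c02dbf5)))) (.node (.node (.node (.leaf 0xd1d9bf7) (.leaf 0xd21dbf5)) (.node (.leaf 0x6399bf5) (.leaf 0x1258dc05))) (.node (.node (.leaf 0x1549dbf5) (.leaf 0x1130dbf5)) (.node (.leaf 0x12fa9bf7) (.leaf 0x0)))))) (.node (.node (.node (.node (.node (.leaf 0x12025bf5) (.leaf 0x1187dc07)) (.node (.leaf 0xc689bf5) (.leaf 0x14ee9bf7))) (.node (.node (.leaf 0x1d051c05) (.leaf 0x11e45c05)) (.node (.leaf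 0x1b47dbf5) (.leaf 0x13251bf7)))) (.node (.node (.node (.leaf 0x15845bf7) (.leaf 0x16d0dbf7)) (.node (.leaf 0x12f0dc05) (.leaf 0x10f49c07))) (.node (.node (.leaf 0x1852dbf5) (.leaf 0x150b9c07)) (.node (.leaf 0x12d2dbf5) (.leaf 0x0))))) (.node (.node (.node (.node (.leaf 0x19099c05) (.leaf 0x100edbf5)) (.node (.leaf 0x10a91c05) (.leaf 0x18b8dbf7))) (.node (.node (.leaf 0x1ba3dbf5) (.leaf 0x11f21bf7)) (.node (.leaf 0xc9d5bf7) (.leaf 0x0)))) (.node (.node (.node (.leaf 0xaeadbf7) (.leaf 0x13905bf5)) (.node (.leaf 0xcf35bf5) (.leaf 0x18341bf5))) (.node (.node (.leaf 0x8f19c05) (.leaf 0x15f51bf7)) (.node (.leaf 0xc0c5c05) (.leaf 0x0))))))) (.node (.node (.node (.node (.node (.node (.leaf 0x1e4ddbf5) (.leaf 0xe775bf5)) (.node (.leaf 0xef71bf7) (.leaf 0xc8a5c07))) (.node (.node (.leaf 0xf0fdbf5) (.leaf 0x10871c05)) (.node (.leaf 0x14079bf5) (.leaf 0x15035c05)))) (.node (.node (.node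 (.leaf 0x16f75bf5) (.leaf 0x144b9bf5)) (.node (.leaf 0x12475bf5) (.leaf 0x172e1bf7))) (.node (.node (.leaf 0xf835c07) (.leaf 0x144e1c05)) (.node (.leaf 0x15bb9c05) (.leaf 0x0))))) (.node (.node (.node (.node (.leaf 0xd0d1c05) (.leaf 0x1cc3dc07)) (.node (.leaf 0x1e865c07) (.leaf 0x1ba99bf5))) (.node (.node (.leaf 0x15205c05) (.leaf 0x653dc05)) (.node (.leaf 0x8c51bf7) (.leaf 0xf1c5c07)))) (.node (.node (.node (.leaf 0x138d9bf5) (.leaf 0x155cdc05)) (.node (.leaf 0x1e7b1bf5) (.leaf 0x11859c05))) (.node (.node (.leaf 0x1cb65bf5) (.leaf 0x6399c07)) (.node (.leaf 0x132a1c07) (.leaf 0x0)))))) (.node (.node (.node (.node (.node (.leaf 0x107b9c07) (.leaf 0x12c3dc07)) (.node (.leaf 0x146edc07) (.leaf 0x1b39dc05))) (.node (.node (.leaf 0x18a39bf7) (.leaf 0x1e161c07)) (.node (.leaf 0x1c08) (.leaf 0x1785dbf7)))) (.node (.node (.node (.leaf 0x140b5bf7) (.leaf 0x11651bf5)) (.node (.leaf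 0x133b9c05) (.leaf 0x16891bf7))) (.node (.node (.leaf 0x18da9bf5) (.leaf 0x142cdbf5)) (.node (.leaf 0x1478dbf7) (.leaf 0x0))))) (.node (.node (.node (.node (.leaf 0x10d39c07) (.leaf 0x1b83dbf7)) (.node (.leaf 0xcb99bf7) (.leaf 0x13aa5bf5))) (.node (.node (.leaf 0x1805dc05) (.leaf 0xe1bdbf7)) (.node (.leaf 0x12c91bf5) (.leaf 0x0)))) (.node (.node (.node (.leaf 0x18f15bf7) (.leaf 0x197cdbf5)) (.node (.leaf 0x1ad25c07) (.leaf 0x15539bf7))) (.node (.node (.leaf 0x11b15c07) (.leaf 0x1b3f9bf7)) (.node (.leaf 0xcdc9bf5) (.leaf 0x0))))))))))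

/-- packed table -/
noncomputable def cov15_rlr : BTree := (.node (.node (.node (.node (.node (.node (.node (.node (.node (.leaf 0x179e9bf5) (.leaf 0x17285bf7)) (.node (.leaf 0x15d09c05) (.leaf 0x808dbf5))) (.node (.node (.leaf 0xe3b5bf7) (.leaf 0x15205bf5)) (.node (.leaf 0x14265c07) (.leaf 0x1549dc05)))) (.node (.node (.node (.leaf 0xb4c9c07) (.leaf 0x1a0d9c07)) (.node (.leaf 0x1a0adc05) (.leaf 0x13431bf5))) (.node (.node (.leaf 0x15211bf5) (.leaf 0x1c4c1c07)) (.node (.leaf 0x1973dbf7) (.leaf 0x0))))) (.node (.node (.node (.node (.leaf 0x1477dbf7) (.leaf 0xcec1bf7)) (.node (.leaf 0x15341bf7) (.leaf 0x168c1bf7))) (.node (.node (.leaf 0x129c1bf7) (.leaf 0x10871c07)) (.node (.leaf 0x19271bf5) (.leaf 0x101f1bf5)))) (.node (.node (.node (.leaf 0x1a2edbf5) (.leaf 0x1d5f9bf5)) (.node (.leaf 0x1b82dbf5) (.leaf 0xd005bf5))) (.node (.node (.leaf 0xc5cdc05) (.leaf 0x16155bf7)) (.node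 (.leaf 0x19445c07) (.leaf 0x0)))))) (.node (.node (.node (.node (.node (.leaf 0x15801bf5) (.leaf 0x198b1bf5)) (.node (.leaf 0x136b1c07) (.leaf 0x15319c07))) (.node (.node (.leaf 0x12689c07) (.leaf 0x13311bf5)) (.node (.leaf 0x19851bf7) (.leaf 0x170bdc05)))) (.node (.node (.node (.leaf 0x17781c07) (.leaf 0x1c055bf5)) (.node (.leaf 0x1e619bf5) (.leaf 0x18769bf5))) (.node (.node (.leaf 0x1814dbf7) (.leaf 0x1e575bf5)) (.node (.leaf 0x116b5bf7) (.leaf 0x0))))) (.node (.node (.node (.node (.leaf 0x104c5c07) (.leaf 0xdb95bf5)) (.node (.leaf 0x11085bf5) (.leaf 0x16e05bf7))) (.node (.node (.leaf 0x14525c05) (.leaf 0xe495c07)) (.node (.leaf 0xd4adbf5) (.leaf 0x13ad9c05)))) (.node (.node (.node (.leaf 0x189adbf7) (.leaf 0x14d19bf7)) (.node (.leaf 0x1d3e1bf5) (.leaf 0x114e1c07))) (.node (.node (.leaf 0x140a1bf7) (.leaf 0x1a7e1bf7)) (.node (.leaf 0x156f9bf7) (.leaf 0x0))))))) (.node (.node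 (.node (.node (.node (.node (.leaf 0xf12dc07) (.leaf 0x1ba11c07)) (.node (.leaf 0xac11bf7) (.leaf 0x1cc19c05))) (.node (.node (.leaf 0x17a15bf5) (.leaf 0x16b55bf5)) (.node (.leaf 0x108cdbf5) (.leaf 0x1ac6dc07)))) (.node (.node (.node (.leaf 0x119b5c07) (.leaf 0x89edbf7)) (.node (.leaf 0x16b51c05) (.leaf 0x102c5c07))) (.node (.node (.leaf 0x138fdbf5) (.leaf 0x1c2d9c05)) (.node (.leaf 0x15365bf7) (.leaf 0x0))))) (.node (.node (.node (.node (.leaf 0x1fae9c07) (.leaf 0x1c1e)) (.node (.leaf 0x12689c05) (.leaf 0x124e9c05))) (.node (.node (.leaf 0x13ad1bf5) (.leaf 0x18e0dc07)) (.node (.leaf 0x1b2adbf5) (.leaf 0x1aabdbf7)))) (.node (.node (.node (.leaf 0xc5edc05) (.leaf 0xc4ddbf5)) (.node (.leaf 0x16805c05) (.leaf 0x183bdbf7))) (.node (.node (.leaf 0x12541c05) (.leaf 0x107cdc05)) (.node (.leaf 0x1df41bf5) (.leaf 0x0)))))) (.node (.node (.node (.node (.node (.leaf 0x808dc05) (.leaf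 0x12625c05)) (.node (.leaf 0xd20dbf7) (.leaf 0x14cb5c07))) (.node (.node (.leaf 0x1e4ddc07) (.leaf 0x15d11bf7)) (.node (.leaf 0x13721bf5) (.leaf 0x19225c07)))) (.node (.node (.node (.leaf 0x17065bf7) (.leaf 0xf3d5c05)) (.node (.leaf 0x147b1c05) (.leaf 0x16b51bf7))) (.node (.node (.leaf 0x1a6c9bf7) (.leaf 0x1c425bf5)) (.node (.leaf 0x1a0b5c05) (.leaf 0x0))))) (.node (.node (.node (.node (.leaf 0x1bae1bf5) (.leaf 0x14229bf7)) (.node (.leaf 0x59e5bf7) (.leaf 0x16225bf7))) (.node (.node (.leaf 0x1f529bf5) (.leaf 0x1ec19bf5)) (.node (.leaf 0xafc1bf5) (.leaf 0x0)))) (.node (.node (.node (.leaf 0x1958dc07) (.leaf 0x160e1bf7)) (.node (.leaf 0x10695bf5) (.leaf 0x1ddf9bf5))) (.node (.node (.leaf 0x16dbdbf7) (.leaf 0x18649c07)) (.node (.leaf 0x16fd5bf7) (.leaf 0x0)))))))) (.node (.node (.node (.node (.node (.node (.node (.leaf 0x1b891bf5) (.leaf 0x18a29bf7)) (.node (.leaf 0x11d55c07)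 (.leaf 0x18a75c05))) (.node (.node (.leaf 0x1fb11bf5) (.leaf 0x16261bf5)) (.node (.leaf 0x1534dbf7) (.leaf 0x11829c07)))) (.node (.node (.node (.leaf 0xb4c9bf7) (.leaf 0x144e1bf7)) (.node (.leaf 0xe35dc07) (.leaf 0xe8e1bf7))) (.node (.node (.leaf 0x19a7dc07) (.leaf 0x14231bf7)) (.node (.leaf 0x1d22dbf5) (.leaf 0x0))))) (.node (.node (.node (.node (.leaf 0xcb2dbf7) (.leaf 0x1c211bf5)) (.node (.leaf 0x11de9bf5) (.leaf 0x11369bf5))) (.node (.node (.leaf 0x18d45bf7) (.leaf 0xd1d9bf5)) (.node (.leaf 0x18f9dbf7) (.leaf 0x17411c05)))) (.node (.node (.node (.leaf 0x158c1bf7) (.leaf 0x147b1c07)) (.node (.leaf 0x1a519c07) (.leaf 0x12c75bf7))) (.node (.node (.leaf 0x10afdbf7) (.leaf 0x1258dbf7)) (.node (.leaf 0x15c69bf7) (.leaf 0x0)))))) (.node (.node (.node (.node (.node (.leaf 0xf7e1c05) (.leaf 0x13075c05)) (.node (.leaf 0x1abc5bf5) (.leaf 0x178bdc07))) (.node (.node (.leaf 0x14e55c07)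 (.leaf 0xde69c05)) (.node (.leaf 0x140a5c07) (.leaf 0xd631bf7)))) (.node (.node (.node (.leaf 0x11cf1c07) (.leaf 0x14e31bf7)) (.node (.leaf 0x1b219bf5) (.leaf 0x1387dbf5))) (.node (.node (.leaf 0x138fdbf7) (.leaf 0x1dbd5bf5)) (.node (.leaf 0xe799c07) (.leaf 0x0))))) (.node (.node (.node (.node (.leaf 0x134d1c07) (.leaf 0x108e5bf5)) (.node (.leaf 0x19aa5bf5) (.leaf 0x7535bf5))) (.node (.node (.leaf 0xc24dc07) (.leaf 0x11b81bf5)) (.node (.leaf 0xd331bf5) (.leaf 0x0)))) (.node (.node (.node (.leaf 0x14959bf5) (.leaf 0x1299dbf7)) (.node (.leaf 0x1a071bf7) (.leaf 0x10041c05))) (.node (.node (.leaf 0x10be9c05) (.leaf 0x167f9bf7)) (.node (.leaf 0x1f145bf5) (.leaf 0x0))))))) (.node (.node (.node (.node (.node (.node (.leaf 0x169f1bf7) (.leaf 0x8c51c07)) (.node (.leaf 0x12ec9c05) (.leaf 0x165f1bf7))) (.node (.node (.leaf 0x16351c05) (.leaf 0x15f79bf7)) (.node (.leaf 0x1316dbf7) (.leaf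 0x12649c05)))) (.node (.node (.node (.leaf 0x1ec19c05) (.leaf 0x14801bf5)) (.node (.leaf 0x18799bf5) (.leaf 0xe445c07))) (.node (.node (.leaf 0x138ddc05) (.leaf 0x1f2e5bf5)) (.node (.leaf 0x16b0dbf7) (.leaf 0x0))))) (.node (.node (.node (.node (.leaf 0x110e5c05) (.leaf 0x14fddc07)) (.node (.leaf 0x1523dc05) (.leaf 0x107c9c05))) (.node (.node (.leaf 0x14db5bf7) (.leaf 0x154a5c07)) (.node (.leaf 0x1c4c1bf5) (.leaf 0x11b15c05)))) (.node (.node (.node (.leaf 0x18849c05) (.leaf 0x17281bf7)) (.node (.leaf 0x178c5c05) (.leaf 0x10b49bf7))) (.node (.node (.leaf 0x1b67dbf7) (.leaf 0x11c59c07)) (.node (.leaf 0xf89dbf5) (.leaf 0x0)))))) (.node (.node (.node (.node (.node (.leaf 0x158d5c07) (.leaf 0x115b9c05)) (.node (.leaf 0x1f601bf5) (.leaf 0x1a2e9bf7))) (.node (.node (.leaf 0xa97dc05) (.leaf 0x14f55bf5)) (.node (.leaf 0xf109bf7) (.leaf 0x1567dc07)))) (.node (.node (.node (.leaf 0x147c5bf5)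 (.leaf 0x18ed9c05)) (.node (.leaf 0x172edc07) (.leaf 0xafc1bf7))) (.node (.node (.leaf 0x1432dc05) (.leaf 0x111a5c07)) (.node (.leaf 0x14b59bf5) (.leaf 0x0))))) (.node (.node (.node (.node (.leaf 0x848dbf5) (.leaf 0x10431c07)) (.node (.leaf 0x1321dbf5) (.leaf 0x83adbf7))) (.node (.node (.leaf 0xf7a9c05) (.leaf 0xc455c05)) (.node (.leaf 0x1a5a9c05) (.leaf 0x0)))) (.node (.node (.node (.leaf 0x1f5c5bf5) (.leaf 0x16ef1c05)) (.node (.leaf 0x172d5bf7) (.leaf 0x12a75c05))) (.node (.node (.leaf 0x134f5c07) (.leaf 0x12905bf7)) (.node (.leaf 0xb871c07) (.leaf 0x0))))))))) (.node (.node (.node (.node (.node (.node (.node (.node (.leaf 0x13809bf7) (.leaf 0xdd21c05)) (.node (.leaf 0x1019dbf5) (.leaf 0x104c9bf7))) (.node (.node (.leaf 0x158d5bf7) (.leaf 0x86c9bf7)) (.node (.leaf 0xc3d5c05) (.leaf 0xac11c07)))) (.node (.node (.node (.leaf 0xe3b5c07) (.leaf 0x120c5c07)) (.node (.leaf 0x16355c07)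 (.leaf 0x1d1ddbf5))) (.node (.node (.leaf 0x11ac9bf5) (.leaf 0x1ae11bf7)) (.node (.leaf 0x12cbdbf7) (.leaf 0x0))))) (.node (.node (.node (.node (.leaf 0x17a51c05) (.leaf 0x1671dbf7)) (.node (.leaf 0x10ea9c07) (.leaf 0x1718dc07))) (.node (.node (.leaf 0x151b9c07) (.leaf 0x1d245c07)) (.node (.leaf 0x18c25c05) (.leaf 0x126f5c05)))) (.node (.node (.node (.leaf 0x14035bf7) (.leaf 0x1ae71bf5)) (.node (.leaf 0x19eb9c07) (.leaf 0x1466dc07))) (.node (.node (.leaf 0x11f5dbf5) (.leaf 0x1a385bf5)) (.node (.leaf 0x13a49c05) (.leaf 0x0)))))) (.node (.node (.node (.node (.node (.leaf 0x1e039bf5) (.leaf 0x16765bf5)) (.node (.leaf 0x16e39c07) (.leaf 0xe835c07))) (.node (.node (.leaf 0x159e1bf7) (.leaf 0xc841c05)) (.node (.leaf 0x14df5c05) (.leaf 0x1016dc07)))) (.node (.node (.node (.leaf 0x14d6dbf7) (.leaf 0x189c1c05)) (.node (.leaf 0x1abe1bf5) (.leaf 0x1bf8))) (.node (.node (.leaf 0x1a735bf5)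 (.leaf 0xe7ddbf7)) (.node (.leaf 0x18da5bf5) (.leaf 0x0))))) (.node (.node (.node (.node (.leaf 0xfab9c07) (.leaf 0x13455bf7)) (.node (.leaf 0x15eb5bf7) (.leaf 0x1245dc07))) (.node (.node (.leaf 0x14165c05) (.leaf 0x1c619c07)) (.node (.leaf 0xdd31c07) (.leaf 0x15cc9bf5)))) (.node (.node (.node (.leaf 0x18a75c07) (.leaf 0x1585dbf5)) (.node (.leaf 0x15e61bf7) (.leaf 0x13135c07))) (.node (.node (.leaf 0x8499c05) (.leaf 0xe801bf5)) (.node (.leaf 0x19e85bf7) (.leaf 0x0))))))) (.node (.node (.node (.node (.node (.node (.leaf 0x118ddbf7) (.leaf 0x154f5bf5)) (.node (.leaf 0x10b55bf5) (.leaf 0x14b59c05))) (.node (.node (.leaf 0xc71dc07) (.leaf 0x17985bf5)) (.node (.leaf 0xe501c07) (.leaf 0x1a6fdbf7)))) (.node (.node (.node (.leaf 0x16bd1bf7) (.leaf 0x160c9c05)) (.node (.leaf 0x19afdc07) (.leaf 0x14401c05))) (.node (.node (.leaf 0x13809bf5) (.leaf 0x11ed5bf5)) (.node (.leaf 0x15111c05)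 (.leaf 0x0))))) (.node (.node (.node (.node (.leaf 0x174a1c05) (.leaf 0x15315bf5)) (.node (.leaf 0x114fdbf5) (.leaf 0x15c3dc07))) (.node (.node (.leaf 0xf7e1bf7) (.leaf 0x12c3dbf7)) (.node (.leaf 0x14c39bf7) (.leaf 0x16245bf5)))) (.node (.node (.node (.leaf 0x1a42dbf7) (.leaf 0x19cf5c05)) (.node (.leaf 0xfab9bf7) (.leaf 0x14021bf7))) (.node (.node (.leaf 0x1b115bf5) (.leaf 0x18969bf7)) (.node (.leaf 0x1396dbf7) (.leaf 0x0)))))) (.node (.node (.node (.node (.node (.leaf 0x1d5e1bf5) (.leaf 0x104c5bf7)) (.node (.leaf 0x11d1dbf7) (.leaf 0xc4ddbf7))) (.node (.node (.leaf 0x133b9c07) (.leaf 0x1112dbf5)) (.node (.leaf 0xd749bf7) (.leaf 0x15bb1bf7)))) (.node (.node (.node (.leaf 0x15da1bf7) (.leaf 0x17289bf7)) (.node (.leaf 0x19171bf5) (.leaf 0x9efdbf5))) (.node (.node (.leaf 0x10a01bf7) (.leaf 0x17981c05)) (.node (.leaf 0x171edc05) (.leaf 0x0))))) (.node (.node (.node (.node (.leaf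 0x5949c07) (.leaf 0xaae5bf7)) (.node (.leaf 0x1a139c07) (.leaf 0x1c9b1c05))) (.node (.node (.leaf 0x10d39bf7) (.leaf 0x119b5bf7)) (.node (.leaf 0xd0b1bf5) (.leaf 0x0)))) (.node (.node (.node (.leaf 0x109ddbf7) (.leaf 0x148f9bf5)) (.node (.leaf 0x1247dbf5) (.leaf 0xaf25c07))) (.node (.node (.leaf 0x1bb0dc05) (.leaf 0x12291c07)) (.node (.leaf 0x17a91bf5) (.leaf 0x0)))))))) (.node (.node (.node (.node (.node (.node (.node (.leaf 0x1ad45c05) (.leaf 0x1193dc07)) (.node (.leaf 0x1ca61bf5) (.leaf 0xddc9c05))) (.node (.node (.leaf 0xde69c07) (.leaf 0x14779bf5)) (.node (.leaf 0x112e1bf7) (.leaf 0x11c89c07)))) (.node (.node (.node (.leaf 0x16765c05) (.leaf 0xdb09bf5)) (.node (.leaf 0x1cc19bf5) (.leaf 0x111a5c05))) (.node (.node (.leaf 0x14951c07) (.leaf 0xcb51c05)) (.node (.leaf 0xc5f1bf7) (.leaf 0x0))))) (.node (.node (.node (.node (.leaf 0x18989bf5) (.leaf 0x156f5bf7)) (.node (.leaf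 0xa97dbf5) (.leaf 0x156e9c05))) (.node (.node (.leaf 0x17a85bf5) (.leaf 0xeccdc05)) (.node (.leaf 0xfb39c07) (.leaf 0x1b66dc07)))) (.node (.node (.node (.leaf 0x14485c05) (.leaf 0x87a5c07)) (.node (.leaf 0x848dc05) (.leaf 0xe345c07))) (.node (.node (.leaf 0x192d5bf5) (.leaf 0x1661dbf7)) (.node (.leaf 0x15199c05) (.leaf 0x0)))))) (.node (.node (.node (.node (.node (.leaf 0x1b945c05) (.leaf 0x17169bf5)) (.node (.leaf 0xe70dc07) (.leaf 0x1342dbf5))) (.node (.node (.leaf 0x1eec5bf5) (.leaf 0x15e61c05)) (.node (.leaf 0x16335bf7) (.leaf 0x16fe9c05)))) (.node (.node (.node (.leaf 0x1a951bf5) (.leaf 0x19fc5bf5)) (.node (.leaf 0x16f29c05) (.leaf 0x102fdc05))) (.node (.node (.leaf 0x14c35c07) (.leaf 0x14c7dbf7)) (.node (.leaf 0xe775c07) (.leaf 0x0))))) (.node (.node (.node (.node (.leaf 0xd095c05) (.leaf 0x19445c05)) (.node (.leaf 0x16b51c07) (.leaf 0x10b41c05))) (.node (.node (.leaf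 0x1547dbf5) (.leaf 0x19ce1bf7)) (.node (.leaf 0x1e115bf5) (.leaf 0x0)))) (.node (.node (.node (.leaf 0x12241bf7) (.leaf 0xaee5bf5)) (.node (.leaf 0xd301bf7) (.leaf 0xd1f5bf5))) (.node (.node (.leaf 0x1175dbf7) (.leaf 0x10431bf5)) (.node (.leaf 0x168c1bf5) (.leaf 0x0))))))) (.node (.node (.node (.node (.node (.node (.leaf 0x131bdbf7) (.leaf 0x18ed1bf7)) (.node (.leaf 0x10bb1c05) (.leaf 0x188d5bf7))) (.node (.node (.leaf 0x16611bf5) (.leaf 0x83b5bf5)) (.node (.leaf 0x14405bf7) (.leaf 0x129f9c05)))) (.node (.node (.node (.leaf 0x1aca1bf7) (.leaf 0xdd05c07)) (.node (.leaf 0x11a51c07) (.leaf 0xec05c07))) (.node (.node (.leaf 0x19541bf5) (.leaf 0xec41c07)) (.node (.leaf 0x153e9bf5) (.leaf 0x0))))) (.node (.node (.node (.node (.leaf 0x12fa9bf5) (.leaf 0x112adbf7)) (.node (.leaf 0x19935bf5) (.leaf 0x1a175bf5))) (.node (.node (.leaf 0x12911c07) (.leaf 0x185a9bf7)) (.node (.leaf 0x1c505bf5)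 (.leaf 0xe209c07)))) (.node (.node (.node (.leaf 0xb65dc05) (.leaf 0xe35dc05)) (.node (.leaf 0x102e5c05) (.leaf 0x12731c07))) (.node (.node (.leaf 0xc085bf7) (.leaf 0x1aba9c05)) (.node (.leaf 0x125e1c07) (.leaf 0x0)))))) (.node (.node (.node (.node (.node (.leaf 0x1da35bf5) (.leaf 0x1b66dbf5)) (.node (.leaf 0x9cbdc07) (.leaf 0x17719bf7))) (.node (.node (.leaf 0x1e645bf5) (.leaf 0x1b06dbf7)) (.node (.leaf 0x157e9bf5) (.leaf 0x172bdbf7)))) (.node (.node (.node (.leaf 0x18835bf7) (.leaf 0x170e9bf5)) (.node (.leaf 0xc8a5bf5) (.leaf 0x1af19bf5))) (.node (.node (.leaf 0x10e1dbf5) (.leaf 0x1a819bf5)) (.node (.leaf 0xf7a9bf7) (.leaf 0x0))))) (.node (.node (.node (.node (.leaf 0xe3c5c07) (.leaf 0x9e91bf5)) (.node (.leaf 0x1b611c05) (.leaf 0x14c7dc07))) (.node (.node (.leaf 0xb355c07) (.leaf 0xd139bf7)) (.node (.leaf 0x1a4b9c05) (.leaf 0x0)))) (.node (.node (.node (.leaf 0x19ff5bf5)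 (.leaf 0x11c01c07)) (.node (.leaf 0x150b5bf5) (.leaf 0xa9e9c05))) (.node (.node (.leaf 0x13239c07) (.leaf 0x10ea9bf7)) (.node (.leaf 0x1598dc05) (.leaf 0x0))))))))))

/-- packed table -/
noncomputable def cov15_rrl : BTree := (.node (.node (.node (.node (.node (.node (.node (.node (.node (.leaf 0x1e329c05) (.leaf 0x1b7e5bf7)) (.node (.leaf 0x18ba5c05) (.leaf 0x13949bf5))) (.node (.node (.leaf 0x1138dc07) (.leaf 0x103f5bf5)) (.node (.leaf 0x187c1bf5) (.leaf 0x19019bf5)))) (.node (.node (.node (.leaf 0xdf99c07) (.leaf 0x18c0dbf7)) (.node (.leaf 0x171d1c07) (.leaf 0x1ba4dc07))) (.node (.node (.leaf 0x17965bf7) (.leaf 0x1401dbf5)) (.node (.leaf 0x15879c05) (.leaf 0x0))))) (.node (.node (.node (.node (.leaf 0x15d09c07) (.leaf 0x10109c07)) (.node (.leaf 0x9441c05) (.leaf 0x183f9c07))) (.node (.node (.leaf 0x147edbf5) (.leaf 0x19271c07)) (.node (.leaf 0xc569c07) (.leaf 0x18899bf7))))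 (.node (.node (.node (.leaf 0x16d9dbf5) (.leaf 0x15485c05)) (.node (.leaf 0x13a79c07) (.leaf 0x190edbf5))) (.node (.node (.leaf 0x1654dbf5) (.leaf 0xb871bf5)) (.node (.leaf 0x10dd1c05) (.leaf 0x0)))))) (.node (.node (.node (.node (.node (.leaf 0x1a221c05) (.leaf 0x1a8b5bf5)) (.node (.leaf 0x183bdc05) (.leaf 0x1d419bf5))) (.node (.node (.leaf 0x1598dbf5) (.leaf 0x19cf5c07)) (.node (.leaf 0x1a361bf5) (.leaf 0xd549bf5)))) (.node (.node (.node (.leaf 0x19b25bf5) (.leaf 0x12475c07)) (.node (.leaf 0x12241c07) (.leaf 0xc09dbf5))) (.node (.node (.leaf 0x11195bf7) (.leaf 0x10f85bf7)) (.node (.leaf 0x15addc05) (.leaf 0x0))))) (.node (.node (.node (.node (.leaf 0x14ca9bf5) (.leaf 0x1c619c05)) (.node (.leaf 0xf125c05) (.leaf 0x16355bf5))) (.node (.node (.leaf 0xc24dbf5) (.leaf 0x124e9bf7)) (.node (.leaf 0xdd31c05) (.leaf 0x17979bf5)))) (.node (.node (.node (.leaf 0x16b65c05) (.leaf 0x9e91c07))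 (.node (.leaf 0x10f49c05) (.leaf 0x11be1c05))) (.node (.node (.leaf 0x1342dc07) (.leaf 0xf7adc05)) (.node (.leaf 0xeb89bf5) (.leaf 0x0))))))) (.node (.node (.node (.node (.node (.node (.leaf 0x5949c05) (.leaf 0xe7ddc05)) (.node (.leaf 0x1693dbf7) (.leaf 0x148d1c07))) (.node (.node (.leaf 0x130d9c05) (.leaf 0xaa85c07)) (.node (.leaf 0x6295c05) (.leaf 0x10f99c07)))) (.node (.node (.node (.leaf 0x65c9bf5) (.leaf 0x19b01bf5)) (.node (.leaf 0x179c1bf7) (.leaf 0x1cc81bf5))) (.node (.node (.leaf 0x1c6b1bf5) (.leaf 0x144fdbf5)) (.node (.leaf 0x1be8) (.leaf 0x0))))) (.node (.node (.node (.node (.leaf 0xf1c5bf5) (.leaf 0x1684dbf7)) (.node (.leaf 0x1a735c07) (.leaf 0x176e1c05))) (.node (.node (.leaf 0x1b46dbf5) (.leaf 0x172ddbf7)) (.node (.leaf 0x1c12dc07) (.leaf 0xf185bf7)))) (.node (.node (.node (.leaf 0x19121c07) (.leaf 0x1911dbf5)) (.node (.leaf 0x19735c07) (.leaf 0x13955c05))) (.node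 (.node (.leaf 0x1b30dc07) (.leaf 0x1da45bf5)) (.node (.leaf 0x163f1bf7) (.leaf 0x0)))))) (.node (.node (.node (.node (.node (.leaf 0x15521c05) (.leaf 0xe879bf7)) (.node (.leaf 0x16d6dc07) (.leaf 0x13a8dc07))) (.node (.node (.leaf 0x15be9bf7) (.leaf 0x1e635bf5)) (.node (.leaf 0x12a2dbf5) (.leaf 0x11f71c05)))) (.node (.node (.node (.leaf 0xe969bf5) (.leaf 0xdf9dc05)) (.node (.leaf 0x161cdbf7) (.leaf 0xd039bf5))) (.node (.node (.leaf 0x156b9bf7) (.leaf 0x1476dbf5)) (.node (.leaf 0x1c5c9bf5) (.leaf 0x0))))) (.node (.node (.node (.node (.leaf 0x1c671bf5) (.leaf 0x14c49bf5)) (.node (.leaf 0xf7b5bf7) (.leaf 0x1a701bf5))) (.node (.node (.leaf 0x1682dbf7) (.leaf 0x14f75bf7)) (.node (.leaf 0x177a1bf7) (.leaf 0x0)))) (.node (.node (.node (.leaf 0x1138dbf7) (.leaf 0x1c219bf5)) (.node (.leaf 0x18451bf7) (.leaf 0xaae1c07))) (.node (.node (.leaf 0x11125c07) (.leaf 0x17445c05)) (.node (.leaf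 0x188ddbf7) (.leaf 0x0)))))))) (.node (.node (.node (.node (.node (.node (.node (.leaf 0x125fdbf5) (.leaf 0xd545c05)) (.node (.leaf 0x19ab5bf7) (.leaf 0x12551bf7))) (.node (.node (.leaf 0x1fb1dbf5) (.leaf 0x121c5bf7)) (.node (.leaf 0x1bf0) (.leaf 0x19a69bf7)))) (.node (.node (.node (.leaf 0x1c275bf5) (.leaf 0x13031c05)) (.node (.leaf 0x1a359c07) (.leaf 0x19fb1bf7))) (.node (.node (.leaf 0xe1a1c07) (.leaf 0x1c16)) (.node (.leaf 0x10aadbf7) (.leaf 0x0))))) (.node (.node (.node (.node (.leaf 0xb65dbf5) (.leaf 0x12f0dbf7)) (.node (.leaf 0x1ad75bf7) (.leaf 0x116a9bf5))) (.node (.node (.leaf 0xf9edbf7) (.leaf 0x1a481c05)) (.node (.leaf 0x16e99bf7) (.leaf 0x15119bf5)))) (.node (.node (.node (.leaf 0x19621bf7) (.leaf 0xe5e9c05)) (.node (.leaf 0x171c1bf5) (.leaf 0x146e5c07))) (.node (.node (.leaf 0xde21c07) (.leaf 0x16e7dc07)) (.node (.leaf 0x16509bf5) (.leaf 0x0)))))) (.node (.node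 (.node (.node (.node (.leaf 0x1768dbf7) (.leaf 0x19851c07)) (.node (.leaf 0x1b505c05) (.leaf 0x1034dbf7))) (.node (.node (.leaf 0x11c75bf7) (.leaf 0xa13dc07)) (.node (.leaf 0x171ddbf7) (.leaf 0x18049bf7)))) (.node (.node (.node (.leaf 0x122f1c05) (.leaf 0x12bcdbf5)) (.node (.leaf 0x1f119bf5) (.leaf 0x1b661bf5))) (.node (.node (.leaf 0x853dbf5) (.leaf 0x198adc05)) (.node (.leaf 0x12935bf5) (.leaf 0x0))))) (.node (.node (.node (.node (.leaf 0xf4d9c07) (.leaf 0x129f9c07)) (.node (.leaf 0x11dadc05) (.leaf 0x171b9bf5))) (.node (.node (.leaf 0x11d01c05) (.leaf 0x17161c05)) (.node (.leaf 0xc521bf7) (.leaf 0x0)))) (.node (.node (.node (.leaf 0xd6b1bf7) (.leaf 0x16ab5c05)) (.node (.leaf 0x19299bf5) (.leaf 0x17035bf7))) (.node (.node (.leaf 0x1172dc07) (.leaf 0x17001c05)) (.node (.leaf 0x14a05c07) (.leaf 0x0))))))) (.node (.node (.node (.node (.node (.node (.leaf 0xa4f9bf5) (.leaf 0x10f49bf7))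 (.node (.leaf 0x1ba4dbf5) (.leaf 0x1a609bf7))) (.node (.node (.leaf 0xe8f5c05) (.leaf 0x11f65bf7)) (.node (.leaf 0x1c12dbf5) (.leaf 0x146edbf7)))) (.node (.node (.node (.leaf 0x15ee9bf7) (.leaf 0xc991c07)) (.node (.leaf 0x1e90dbf5) (.leaf 0x1ac81bf7))) (.node (.node (.leaf 0x14319bf7) (.leaf 0xb4c9bf5)) (.node (.leaf 0x11f0dbf5) (.leaf 0x0))))) (.node (.node (.node (.node (.leaf 0x11de9c05) (.leaf 0xa9e9bf5)) (.node (.leaf 0x1286dc07) (.leaf 0xc06dbf7))) (.node (.node (.leaf 0x14dadbf7) (.leaf 0x15a59bf5)) (.node (.leaf 0xf3edc05) (.leaf 0x11b0dc05)))) (.node (.node (.node (.leaf 0x12279c07) (.leaf 0x18f41bf7)) (.node (.leaf 0x10fa5bf7) (.leaf 0x1586dc05))) (.node (.node (.leaf 0xda65c07) (.leaf 0x17211bf7)) (.node (.leaf 0x1b93dbf5) (.leaf 0x0)))))) (.node (.node (.node (.node (.node (.leaf 0x118ddc07) (.leaf 0x11391bf7)) (.node (.leaf 0x1516dbf7) (.leaf 0x10041bf7))) (.node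 (.node (.leaf 0xd749bf5) (.leaf 0x14679bf7)) (.node (.leaf 0xe675bf5) (.leaf 0x1e749bf5)))) (.node (.node (.node (.leaf 0xaae5bf5) (.leaf 0x1d649bf5)) (.node (.leaf 0x101c5bf7) (.leaf 0x1a359bf5))) (.node (.node (.leaf 0xf015c05) (.leaf 0x1513dbf7)) (.node (.leaf 0x131fdc05) (.leaf 0x0))))) (.node (.node (.node (.node (.leaf 0x12955c05) (.leaf 0x19099bf5)) (.node (.leaf 0x10921c07) (.leaf 0xdd05c05))) (.node (.node (.leaf 0x45c1c05) (.leaf 0xd20dbf5)) (.node (.leaf 0x1d555c07) (.leaf 0x0)))) (.node (.node (.node (.leaf 0xf5b5bf5) (.leaf 0x1a141bf7)) (.node (.leaf 0x16cb5c05) (.leaf 0x1a885bf7))) (.node (.node (.leaf 0x17805c05) (.leaf 0x1956dc05)) (.node (.leaf 0x1cde5bf5) (.leaf 0x0))))))))) (.node (.node (.node (.node (.node (.node (.node (.node (.leaf 0x1af51bf5) (.leaf 0x10155bf7)) (.node (.leaf 0x1523dbf5) (.leaf 0x18fb1c07))) (.node (.node (.leaf 0x113adc07) (.leaf 0x12a09c07))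 (.node (.leaf 0xa9fdbf7) (.leaf 0x17025c05)))) (.node (.node (.node (.leaf 0xe3b5c05) (.leaf 0x14bf9bf7)) (.node (.leaf 0x1a361c07) (.leaf 0xc841bf5))) (.node (.node (.leaf 0x197ddbf7) (.leaf 0x166ddc07)) (.node (.leaf 0x19761c05) (.leaf 0x0))))) (.node (.node (.node (.node (.leaf 0x1035dc05) (.leaf 0x11f09c05)) (.node (.leaf 0x1b9c9bf5) (.leaf 0x14de9c07))) (.node (.node (.leaf 0x13331bf5) (.leaf 0xd275c07)) (.node (.leaf 0x10ee1c05) (.leaf 0x1e6f1c05)))) (.node (.node (.node (.leaf 0x122f1c07) (.leaf 0x1ee81bf5)) (.node (.leaf 0x152fdc05) (.leaf 0xc681c07))) (.node (.node (.leaf 0x12551bf5) (.leaf 0x15485bf7)) (.node (.leaf 0x11459c07) (.leaf 0x0)))))) (.node (.node (.node (.node (.node (.leaf 0x185e1bf5) (.leaf 0x11391c05)) (.node (.leaf 0xef61c05) (.leaf 0xb65dbf7))) (.node (.node (.leaf 0xd921bf5) (.leaf 0xee0dc07)) (.node (.leaf 0x163a9c05) (.leaf 0x13029bf7)))) (.node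 (.node (.node (.leaf 0x16dc5c05) (.leaf 0x197c9c07)) (.node (.leaf 0x18cd9bf7) (.leaf 0x15389bf5))) (.node (.node (.leaf 0xe70dbf5) (.leaf 0xc085c05)) (.node (.leaf 0x19cc1bf5) (.leaf 0x0))))) (.node (.node (.node (.node (.leaf 0x13769bf7) (.leaf 0x19cb9bf5)) (.node (.leaf 0x18469c07) (.leaf 0x133e1c05))) (.node (.node (.leaf 0x86c9c05) (.leaf 0x15a71bf5)) (.node (.leaf 0x14519bf7) (.leaf 0x13331bf7)))) (.node (.node (.node (.leaf 0x15995bf5) (.leaf 0x15e79c07)) (.node (.leaf 0xd005bf7) (.leaf 0x18545c05))) (.node (.node (.leaf 0x1d151bf5) (.leaf 0x12aedc07)) (.node (.leaf 0xf125bf5) (.leaf 0x0))))))) (.node (.node (.node (.node (.node (.node (.leaf 0x1873dbf7) (.leaf 0x154e5bf5)) (.node (.leaf 0x19189bf7) (.leaf 0x1d6adbf5))) (.node (.node (.leaf 0x17a09c07) (.leaf 0xc9d5bf5)) (.node (.leaf 0x1466dbf7) (.leaf 0x14265bf5)))) (.node (.node (.node (.leaf 0x183f9bf7) (.leaf 0x1836dbf7))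 (.node (.leaf 0xb829c07) (.leaf 0x1b651bf7))) (.node (.node (.leaf 0x10325bf7) (.leaf 0xd7c5c07)) (.node (.leaf 0x19badc05) (.leaf 0x0))))) (.node (.node (.node (.node (.leaf 0x1286dbf5) (.leaf 0x15841bf5)) (.node (.leaf 0xc765bf7) (.leaf 0x15105bf5))) (.node (.node (.leaf 0xee29c05) (.leaf 0x158edbf5)) (.node (.leaf 0x6db1bf5) (.leaf 0x17659bf7)))) (.node (.node (.node (.leaf 0x171a9bf5) (.leaf 0x1f2f5bf5)) (.node (.leaf 0x1a829c05) (.leaf 0x14a2dc07))) (.node (.node (.leaf 0x1b689bf7) (.leaf 0x5c8dc07)) (.node (.leaf 0xf7f5c05) (.leaf 0x0)))))) (.node (.node (.node (.node (.node (.leaf 0x1e7b1c05) (.leaf 0x14c35c05)) (.node (.leaf 0xcfd9bf5) (.leaf 0x15b11c07))) (.node (.node (.leaf 0x147e9bf7) (.leaf 0x184edbf5)) (.node (.leaf 0x11b65bf7) (.leaf 0x16ffdc07)))) (.node (.node (.node (.leaf 0x1c3ddc07) (.leaf 0x1f059bf5)) (.node (.leaf 0x187a9c05) (.leaf 0x107c9bf7))) (.node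 (.node (.leaf 0x12c39bf7) (.leaf 0x10561c07)) (.node (.leaf 0xcb51bf5) (.leaf 0x0))))) (.node (.node (.node (.node (.leaf 0x7099bf7) (.leaf 0x10435c07)) (.node (.leaf 0xc3d5bf5) (.leaf 0x155cdc07))) (.node (.node (.leaf 0x1245dc05) (.leaf 0xcf35bf7)) (.node (.leaf 0x17781bf7) (.leaf 0x0)))) (.node (.node (.node (.leaf 0x12671c05) (.leaf 0x19015bf5)) (.node (.leaf 0x12601bf5) (.leaf 0xb829bf7))) (.node (.node (.leaf 0x153d5bf5) (.leaf 0x14de9c05)) (.node (.leaf 0xf5b5c05) (.leaf 0x0)))))))) (.node (.node (.node (.node (.node (.node (.node (.leaf 0xa525bf7) (.leaf 0x1c9c5bf5)) (.node (.leaf 0x19a7dbf7) (.leaf 0x14aa5bf7))) (.node (.node (.leaf 0x13a8dbf7) (.leaf 0xcc1dc07)) (.node (.leaf 0x117fdbf5) (.leaf 0x12541bf7)))) (.node (.node (.node (.leaf 0x1c669c05) (.leaf 0xea65c07)) (.node (.leaf 0x16b55c05) (.leaf 0x151b1c05))) (.node (.node (.leaf 0x147b5bf7) (.leaf 0x16ffdbf7))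 (.node (.leaf 0x14a11c07) (.leaf 0x0))))) (.node (.node (.node (.node (.leaf 0x178c5bf7) (.leaf 0x14a2dbf5)) (.node (.leaf 0xe8e1c07) (.leaf 0x1e375bf5))) (.node (.node (.leaf 0x1172dbf7) (.leaf 0x15b11bf7)) (.node (.leaf 0xeb25c07) (.leaf 0x1b67dc07)))) (.node (.node (.node (.leaf 0x11b59bf7) (.leaf 0x1c9b1bf5)) (.node (.leaf 0x19761c07) (.leaf 0x14ec9bf5))) (.node (.node (.leaf 0x15111c07) (.leaf 0x1d5b1bf5)) (.node (.leaf 0x16401bf7) (.leaf 0x0)))))) (.node (.node (.node (.node (.node (.leaf 0xdfd5bf5) (.leaf 0x1b151bf5)) (.node (.leaf 0x12d89c07) (.leaf 0xe799c05))) (.node (.node (.leaf 0x1eb31bf5) (.leaf 0x18565bf7)) (.node (.leaf 0x16159bf7) (.leaf 0xee29bf7)))) (.node (.node (.node (.leaf 0x1c65dbf5) (.leaf 0x15fe1bf5)) (.node (.leaf 0x15d09bf5) (.leaf 0x11351c05))) (.node (.node (.leaf 0x12b69c07) (.leaf 0x11251bf5)) (.node (.leaf 0x12779c07) (.leaf 0x0))))) (.node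 (.node (.node (.node (.leaf 0x15869bf7) (.leaf 0x189d1bf5)) (.node (.leaf 0x10aadc05) (.leaf 0x151b5bf7))) (.node (.node (.leaf 0x19955c07) (.leaf 0x1a621bf5)) (.node (.leaf 0x18945c05) (.leaf 0x0)))) (.node (.node (.node (.leaf 0x11b55c05) (.leaf 0x1f8a1bf5)) (.node (.leaf 0x9aadc05) (.leaf 0xc51dc05))) (.node (.node (.leaf 0x14a81bf7) (.leaf 0x1f5fdc07)) (.node (.leaf 0x140d1c05) (.leaf 0x0))))))) (.node (.node (.node (.node (.node (.node (.leaf 0xfb39c05) (.leaf 0xaa85bf7)) (.node (.leaf 0x15729bf5) (.leaf 0x148b1bf7))) (.node (.node (.leaf 0x15785bf7) (.leaf 0x15561c07)) (.node (.leaf 0x107bdbf5) (.leaf 0x14149c05)))) (.node (.node (.node (.leaf 0x15b41bf5) (.leaf 0x11b4dc07)) (.node (.leaf 0x12ad9c07) (.leaf 0x152d1bf7))) (.node (.node (.leaf 0x1d535bf5) (.leaf 0x17501bf5)) (.node (.leaf 0x19955bf7) (.leaf 0x0))))) (.node (.node (.node (.node (.leaf 0xec05bf7) (.leaf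 0x16ce9bf5)) (.node (.leaf 0xee45bf7) (.leaf 0x12625bf5))) (.node (.node (.leaf 0x10e4dbf5) (.leaf 0xd005c07)) (.node (.leaf 0x12601c05) (.leaf 0x10865bf5)))) (.node (.node (.node (.leaf 0x11b59c07) (.leaf 0x14fa1c07)) (.node (.leaf 0x1680dbf5) (.leaf 0x1671dc07))) (.node (.node (.leaf 0x180a9bf7) (.leaf 0x127edc07)) (.node (.leaf 0x12279c05) (.leaf 0x0)))))) (.node (.node (.node (.node (.node (.leaf 0x12e79c07) (.leaf 0x125fdc05)) (.node (.leaf 0x17655bf7) (.leaf 0x13a69bf7))) (.node (.node (.leaf 0x584dc05) (.leaf 0x15c4dbf7)) (.node (.leaf 0x118c5bf5) (.leaf 0x88c9c05)))) (.node (.node (.node (.leaf 0xa13dbf5) (.leaf 0x161cdc07)) (.node (.leaf 0x14bb5c05) (.leaf 0x191e5bf7))) (.node (.node (.leaf 0x136ddc05) (.leaf 0x17a51bf7)) (.node (.leaf 0xdae5c07) (.leaf 0x0))))) (.node (.node (.node (.node (.leaf 0xe775c05) (.leaf 0x1de89bf5)) (.node (.leaf 0x18905c07) (.leaf 0xa9fdbf5)))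 (.node (.node (.leaf 0x1f2f5c07) (.leaf 0x1a29dc05)) (.node (.leaf 0x1ad65bf7) (.leaf 0x0)))) (.node (.node (.node (.leaf 0x1040dbf5) (.leaf 0xd009c07)) (.node (.leaf 0x1b261bf7) (.leaf 0xdebdc07))) (.node (.node (.leaf 0x1f919bf5) (.leaf 0x1003dbf7)) (.node (.leaf 0x15995c05) (.leaf 0x0))))))))))

/-- packed table -/
noncomputable def cov15_rrr : BTree := (.node (.node (.node (.node (.node (.node (.node (.node (.node (.leaf 0x12025c05) (.leaf 0x17499bf5)) (.node (.leaf 0x1482dbf5) (.leaf 0x1b83dc07))) (.node (.node (.leaf 0x11391c07) (.leaf 0x1f839bf5)) (.node (.leaf 0x146bdbf7) (.leaf 0xd4bdc05)))) (.node (.node (.node (.leaf 0x1ac6dbf7) (.leaf 0xcc1dbf7)) (.node (.leaf 0x1b2adc07) (.leaf 0x10b55c07))) (.node (.node (.leaf 0x9959c07) (.leaf 0xf89dc05)) (.node (.leaf 0x103edc05) (.leaf 0x0))))) (.node (.node (.node (.node (.leaf 0x1c5f9bf5) (.leaf 0x10101c07)) (.node (.leaf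 0x853dc05) (.leaf 0xc3c1c07))) (.node (.node (.leaf 0x12bd5bf7) (.leaf 0x1172dc05)) (.node (.leaf 0x10561c05) (.leaf 0x18755bf5)))) (.node (.node (.node (.leaf 0x15971c05) (.leaf 0x1292dbf7)) (.node (.leaf 0x1b2e9bf7) (.leaf 0xc455bf7))) (.node (.node (.leaf 0xcb51c07) (.leaf 0x653dc07)) (.node (.leaf 0xc415bf7) (.leaf 0x0)))))) (.node (.node (.node (.node (.node (.leaf 0x12215c05) (.leaf 0x9395c05)) (.node (.leaf 0x15001c05) (.leaf 0x19411bf5))) (.node (.node (.leaf 0x13401c07) (.leaf 0x157adc07)) (.node (.leaf 0x19fa1bf5) (.leaf 0x14439c07)))) (.node (.node (.node (.leaf 0xb829c05) (.leaf 0x11625bf7)) (.node (.leaf 0x14cf1bf7) (.leaf 0xe11dbf5))) (.node (.node (.leaf 0x12739bf5) (.leaf 0x14f55bf7)) (.node (.leaf 0xd59dbf7) (.leaf 0x0))))) (.node (.node (.node (.node (.leaf 0x15325bf7) (.leaf 0x16ee1c07)) (.node (.leaf 0x1b7fdbf7) (.leaf 0x12a71bf5))) (.node (.node (.leaf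 0x1bb0dc07) (.leaf 0x9aadc07)) (.node (.leaf 0x1a485bf7) (.leaf 0x1a5b1bf5)))) (.node (.node (.node (.leaf 0x9ca1bf5) (.leaf 0x10d31bf7)) (.node (.leaf 0xc981bf5) (.leaf 0x114fdc07))) (.node (.node (.leaf 0x161edbf5) (.leaf 0x1ae4dbf7)) (.node (.leaf 0x1623dc07) (.leaf 0x0))))))) (.node (.node (.node (.node (.node (.node (.leaf 0x8f19bf5) (.leaf 0x14bddbf7)) (.node (.leaf 0xdd05bf7) (.leaf 0x188ddc07))) (.node (.node (.leaf 0x14e31c07) (.leaf 0x166c5c07)) (.node (.leaf 0x1570dbf7) (.leaf 0x8e21c05)))) (.node (.node (.node (.leaf 0x10aa9c07) (.leaf 0x1ea99c07)) (.node (.leaf 0x128ddbf5) (.leaf 0x1a511c05))) (.node (.node (.leaf 0x18321bf7) (.leaf 0x1e619c07)) (.node (.leaf 0x1a849bf5) (.leaf 0x0))))) (.node (.node (.node (.node (.leaf 0x12475c05) (.leaf 0x15d6dbf7)) (.node (.leaf 0x1e6b5bf5) (.leaf 0x1dd35c07))) (.node (.node (.leaf 0xe345bf7) (.leaf 0x16755c07)) (.node (.leaf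 0x16e31bf5) (.leaf 0x12bf5c07)))) (.node (.node (.node (.leaf 0x1889dc07) (.leaf 0x1a29dbf7)) (.node (.leaf 0xe801c05) (.leaf 0x14165bf5))) (.node (.node (.leaf 0x13191bf7) (.leaf 0x19a61bf5)) (.node (.leaf 0x15325bf5) (.leaf 0x0)))))) (.node (.node (.node (.node (.node (.leaf 0xf939c05) (.leaf 0x1d41dbf5)) (.node (.leaf 0x16085c07) (.leaf 0x1ce8dbf5))) (.node (.node (.leaf 0x1583dbf7) (.leaf 0xe11dc05)) (.node (.leaf 0x1a071c07) (.leaf 0x13a29c05)))) (.node (.node (.node (.leaf 0x18621bf5) (.leaf 0x1b651c07)) (.node (.leaf 0x87a5c05) (.leaf 0x10001c07))) (.node (.node (.leaf 0x13429c05) (.leaf 0x13029bf5)) (.node (.leaf 0xe445c05) (.leaf 0x0))))) (.node (.node (.node (.node (.leaf 0x197d5c05) (.leaf 0x10155c05)) (.node (.leaf 0x1a131c07) (.leaf 0x17781c05))) (.node (.node (.leaf 0xec5dbf7) (.leaf 0x13589bf5)) (.node (.leaf 0x1af65bf7) (.leaf 0x0)))) (.node (.node (.node (.leaf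 0x140f5bf7) (.leaf 0xc1b1c07)) (.node (.leaf 0x11a85c05) (.leaf 0x19dddbf5))) (.node (.node (.leaf 0x17445bf7) (.leaf 0x1342dc05)) (.node (.leaf 0x83b5bf7) (.leaf 0x0)))))))) (.node (.node (.node (.node (.node (.node (.node (.leaf 0x16b9dbf5) (.leaf 0x1624dc05)) (.node (.leaf 0x11d71c07) (.leaf 0xc991bf5))) (.node (.node (.leaf 0xc0cdbf5) (.leaf 0x182c1bf7)) (.node (.leaf 0x11bc5c05) (.leaf 0x13401bf7)))) (.node (.node (.node (.leaf 0x14dadc07) (.leaf 0xf45dbf5)) (.node (.leaf 0x11e1dc05) (.leaf 0x9d19c07))) (.node (.node (.leaf 0x15addbf5) (.leaf 0xa9e9c07)) (.node (.leaf 0x15a2dbf7) (.leaf 0x0))))) (.node (.node (.node (.node (.leaf 0x15825c05) (.leaf 0x1faf1bf5)) (.node (.leaf 0x168c5c07) (.leaf 0x10b41c07))) (.node (.node (.leaf 0x19a05bf7) (.leaf 0x1b34dc07)) (.node (.leaf 0x13401c05) (.leaf 0x10255c07)))) (.node (.node (.node (.leaf 0x1918dbf5) (.leaf 0x18e65c05)) (.node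 (.leaf 0x1ad25bf7) (.leaf 0x65a5c05))) (.node (.node (.leaf 0x19f75bf5) (.leaf 0x1cfb5bf5)) (.node (.leaf 0x1650dbf5) (.leaf 0x0)))))) (.node (.node (.node (.node (.node (.leaf 0x1b8cdc07) (.leaf 0x18cd9c07)) (.node (.leaf 0x1a441bf5) (.leaf 0x1a181bf7))) (.node (.node (.leaf 0x16915bf5) (.leaf 0x11c75c07)) (.node (.leaf 0x1e989bf5) (.leaf 0x17259bf7)))) (.node (.node (.node (.leaf 0x14641bf5) (.leaf 0x12ba5c05)) (.node (.leaf 0x19711bf7) (.leaf 0x15055bf7))) (.node (.node (.leaf 0xee45c05) (.leaf 0x1b28dbf7)) (.node (.leaf 0x18029bf7) (.leaf 0x0))))) (.node (.node (.node (.node (.leaf 0xd0d1bf7) (.leaf 0x9cbdbf7)) (.node (.leaf 0x1c8a1bf5) (.leaf 0xf89dbf7))) (.node (.node (.leaf 0x15dc1bf7) (.leaf 0xede9c05)) (.node (.leaf 0x1cb91bf5) (.leaf 0x0)))) (.node (.node (.node (.leaf 0x15ea1c05) (.leaf 0x1abddbf5)) (.node (.leaf 0xc2d1c05) (.leaf 0x18345bf5))) (.node (.node (.leaf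 0x19f81bf7) (.leaf 0x16fedc05)) (.node (.leaf 0xef61c07) (.leaf 0x0))))))) (.node (.node (.node (.node (.node (.node (.leaf 0x19f75c07) (.leaf 0x1a771bf5)) (.node (.leaf 0x1ba59bf5) (.leaf 0x1a5edbf7))) (.node (.node (.leaf 0x179f9c07) (.leaf 0xd275c05)) (.node (.leaf 0xf7adc07) (.leaf 0xc6f5bf7)))) (.node (.node (.node (.leaf 0xac11c05) (.leaf 0x1ab01bf5)) (.node (.leaf 0x1e5f9bf5) (.leaf 0x10375c05))) (.node (.node (.leaf 0xd531bf5) (.leaf 0xc4ddc05)) (.node (.leaf 0x12731c05) (.leaf 0x0))))) (.node (.node (.node (.node (.leaf 0x1c2bdbf5) (.leaf 0xdb91bf7)) (.node (.leaf 0x1b2d1bf5) (.leaf 0x1316dc05))) (.node (.node (.leaf 0x1ce5dbf5) (.leaf 0x1901dbf5)) (.node (.leaf 0x10b0dbf5) (.leaf 0x1e009bf5)))) (.node (.node (.node (.leaf 0x19335bf7) (.leaf 0x13a49c07)) (.node (.leaf 0x15ccdc07) (.leaf 0xef69bf7))) (.node (.node (.leaf 0x124e1c07) (.leaf 0x12051bf7)) (.node (.leaf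 0x15205c07) (.leaf 0x0)))))) (.node (.node (.node (.node (.node (.leaf 0x1a015bf7) (.leaf 0x11ca5bf7)) (.node (.leaf 0x19ed9bf5) (.leaf 0x122bdbf7))) (.node (.node (.leaf 0xe07dc07) (.leaf 0x988dc05)) (.node (.leaf 0x15f05c07) (.leaf 0x1e329bf5)))) (.node (.node (.node (.leaf 0x12da9bf5) (.leaf 0xc06dc05)) (.node (.leaf 0x1b3bdc05) (.leaf 0x19d29bf5))) (.node (.node (.leaf 0x14e55c05) (.leaf 0x13aa9c05)) (.node (.leaf 0x15789c05) (.leaf 0x0))))) (.node (.node (.node (.node (.leaf 0x18479bf5) (.leaf 0x16165bf7)) (.node (.leaf 0x13615c05) (.leaf 0x14461bf7))) (.node (.node (.leaf 0x1109dbf7) (.leaf 0x17a15c05)) (.node (.leaf 0xe9ddbf7) (.leaf 0x0)))) (.node (.node (.node (.leaf 0x1358dc07) (.leaf 0xaee5bf7)) (.node (.leaf 0x15e61c07) (.leaf 0x1e75dbf5))) (.node (.node (.leaf 0x12b69bf7) (.leaf 0x173c1bf5)) (.node (.leaf 0x14031c05) (.leaf 0x0))))))))) (.node (.node (.node (.node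 (.node (.node (.node (.node (.leaf 0xe501bf7) (.leaf 0x1d831bf5)) (.node (.leaf 0x10815bf7) (.leaf 0x10dd1bf7))) (.node (.node (.leaf 0x1fb29bf5) (.leaf 0x1a6e1bf5)) (.node (.leaf 0x127edbf7) (.leaf 0x15991bf7)))) (.node (.node (.node (.leaf 0x12a55c07) (.leaf 0x15be5bf5)) (.node (.leaf 0x146d1bf7) (.leaf 0x18469bf7))) (.node (.node (.leaf 0x1830dbf5) (.leaf 0xf3d5bf7)) (.node (.leaf 0x10041c07) (.leaf 0x0))))) (.node (.node (.node (.node (.leaf 0x135a5c07) (.leaf 0x12259bf5)) (.node (.leaf 0x10a89bf5) (.leaf 0x18b69c07))) (.node (.node (.leaf 0x1792dbf7) (.leaf 0x18f6dbf7)) (.node (.leaf 0x148a9c05) (.leaf 0x17711bf5)))) (.node (.node (.node (.leaf 0x1d685bf5) (.leaf 0x1ebc9bf5)) (.node (.leaf 0x1130dc05) (.leaf 0x12c91c05))) (.node (.node (.leaf 0x15f79bf5) (.leaf 0x1a455bf7)) (.node (.leaf 0x1a385c05) (.leaf 0x0)))))) (.node (.node (.node (.node (.node (.leaf 0x12049bf5)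 (.leaf 0x584dc07)) (.node (.leaf 0x13425c05) (.leaf 0x157f9c05))) (.node (.node (.leaf 0x150bdbf7) (.leaf 0x12291bf7)) (.node (.leaf 0xd139bf5) (.leaf 0x16dc5bf5)))) (.node (.node (.node (.leaf 0x6db1c05) (.leaf 0x1be6)) (.node (.leaf 0x1cae9c07) (.leaf 0x118b5c07))) (.node (.node (.leaf 0xc09dc05) (.leaf 0xc06dc07)) (.node (.leaf 0x1d4b9bf5) (.leaf 0x0))))) (.node (.node (.node (.node (.leaf 0x10cc5bf5) (.leaf 0x13679c05)) (.node (.leaf 0x9665bf5) (.leaf 0x133cdc05))) (.node (.node (.leaf 0x19db9bf7) (.leaf 0x11471c07)) (.node (.leaf 0x19a61c07) (.leaf 0xc0cdc07)))) (.node (.node (.node (.leaf 0x15089bf7) (.leaf 0x1dc9dbf5)) (.node (.leaf 0x167c5bf7) (.leaf 0x176a5bf5))) (.node (.node (.leaf 0x197d5bf7) (.leaf 0x166b1bf5)) (.node (.leaf 0x1085dbf5) (.leaf 0x0))))))) (.node (.node (.node (.node (.node (.node (.leaf 0x1549dc07) (.leaf 0x1a485c07)) (.node (.leaf 0x13a21bf7)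 (.leaf 0x12451c05))) (.node (.node (.leaf 0x19329bf7) (.leaf 0x11259c05)) (.node (.leaf 0x17971bf7) (.leaf 0x1028dbf5)))) (.node (.node (.node (.leaf 0x12bf5c05) (.leaf 0x132c5c07)) (.node (.leaf 0xaae1c05) (.leaf 0x12451bf7))) (.node (.node (.leaf 0x13291c07) (.leaf 0xd7bdc07)) (.node (.leaf 0x653dbf7) (.leaf 0x0))))) (.node (.node (.node (.node (.leaf 0x18eb9c05) (.leaf 0xc885c07)) (.node (.leaf 0x18e71bf7) (.leaf 0x11d1dc07))) (.node (.node (.leaf 0x190edc07) (.leaf 0x179bdbf7)) (.node (.leaf 0xeba1c05) (.leaf 0x10325c05)))) (.node (.node (.node (.leaf 0x11455bf7) (.leaf 0x18a25bf5)) (.node (.leaf 0x14405bf5) (.leaf 0x184cdbf7))) (.node (.node (.leaf 0x18515c07) (.leaf 0x10585c05)) (.node (.leaf 0x9405bf7) (.leaf 0x0)))))) (.node (.node (.node (.node (.node (.leaf 0x1a7c1c05) (.leaf 0x8c51c05)) (.node (.leaf 0x15901bf7) (.leaf 0xcf05c07))) (.node (.node (.leaf 0x15d41bf7)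 (.leaf 0xc3c1bf5)) (.node (.leaf 0x120c5c05) (.leaf 0x133e1bf7)))) (.node (.node (.node (.leaf 0x19d89bf7) (.leaf 0x18b79bf5)) (.node (.leaf 0x141cdbf7) (.leaf 0x187d1bf7))) (.node (.node (.leaf 0x1caf9bf5) (.leaf 0x10bb1bf7)) (.node (.leaf 0x14b4dbf5) (.leaf 0x0))))) (.node (.node (.node (.node (.leaf 0x16351bf7) (.leaf 0x13615bf5)) (.node (.leaf 0x14a65bf5) (.leaf 0x16fe9bf7))) (.node (.node (.leaf 0x16219bf7) (.leaf 0xf5d5c05)) (.node (.leaf 0xef85bf7) (.leaf 0x0)))) (.node (.node (.node (.leaf 0xc5edbf5) (.leaf 0x15ccdc05)) (.node (.leaf 0x83adc07) (.leaf 0x1d39dbf5))) (.node (.node (.leaf 0x1f785bf5) (.leaf 0x175e9bf5)) (.node (.leaf 0xd301c07) (.leaf 0x0)))))))) (.node (.node (.node (.node (.node (.node (.node (.leaf 0x14f0dbf5) (.leaf 0x9aadbf5)) (.node (.leaf 0x1e1f5bf5) (.leaf 0x16165c07))) (.node (.node (.leaf 0x146a1bf7) (.leaf 0x19aa5c07)) (.node (.leaf 0xe799bf7)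 (.leaf 0xe8f5bf5)))) (.node (.node (.node (.leaf 0xd6b1c07) (.leaf 0xcbf5c07)) (.node (.leaf 0x1092dc05) (.leaf 0x151b9c05))) (.node (.node (.leaf 0x12d35bf7) (.leaf 0x17851bf5)) (.node (.leaf 0x12341c07) (.leaf 0x0))))) (.node (.node (.node (.node (.leaf 0x197ddc07) (.leaf 0xc6f5c05)) (.node (.leaf 0x126a5c05) (.leaf 0x1a135bf5))) (.node (.node (.leaf 0xc729c05) (.leaf 0x18859bf5)) (.node (.leaf 0x16085bf7) (.leaf 0x14a6dbf7)))) (.node (.node (.node (.leaf 0x17979c07) (.leaf 0xc51dbf5)) (.node (.leaf 0x13465bf7) (.leaf 0x161e5bf7))) (.node (.node (.leaf 0xe835bf7) (.leaf 0x12649bf7)) (.node (.leaf 0x1a3ddbf7) (.leaf 0x0)))))) (.node (.node (.node (.node (.node (.leaf 0x1b5b9bf7) (.leaf 0x14df5c07)) (.node (.leaf 0x184b5bf7) (.leaf 0x1ad05bf7))) (.node (.node (.leaf 0x1b07dbf7) (.leaf 0x5c8dbf5)) (.node (.leaf 0x1a015c07) (.leaf 0x15ef9bf7)))) (.node (.node (.node (.leaf 0x16965bf5)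 (.leaf 0x12b15c07)) (.node (.leaf 0x1516dbf5) (.leaf 0x1b599bf5))) (.node (.node (.leaf 0x1c531bf5) (.leaf 0x13911c07)) (.node (.leaf 0x162c1bf7) (.leaf 0x0))))) (.node (.node (.node (.node (.leaf 0x1e65dbf5) (.leaf 0x11e45c07)) (.node (.leaf 0xeb1dc07) (.leaf 0x180f1bf7))) (.node (.node (.leaf 0x1a431c05) (.leaf 0x12f45c05)) (.node (.leaf 0x12695c07) (.leaf 0x0)))) (.node (.node (.node (.leaf 0x11ec9c05) (.leaf 0x15c39bf7)) (.node (.leaf 0x15a81c05) (.leaf 0x1adfdbf5))) (.node (.node (.leaf 0xeb89c07) (.leaf 0x1a555c07)) (.node (.leaf 0xe8e1bf5) (.leaf 0x0))))))) (.node (.node (.node (.node (.node (.node (.leaf 0x45c1c07) (.leaf 0x1b261c05)) (.node (.leaf 0x155c5c07) (.leaf 0x9d19bf5))) (.node (.node (.leaf 0x1a1c1bf5) (.leaf 0x133d1bf5)) (.node (.leaf 0x18895bf5) (.leaf 0xef71c05)))) (.node (.node (.node (.leaf 0x13821c05) (.leaf 0x134a9c07)) (.node (.leaf 0xf015c07) (.leaf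 0xdb91bf5))) (.node (.node (.leaf 0x1b261c07) (.leaf 0x16b55c07)) (.node (.leaf 0x127b9bf5) (.leaf 0x0))))) (.node (.node (.node (.node (.leaf 0xef69bf5) (.leaf 0x15929bf7)) (.node (.leaf 0x1381dbf7) (.leaf 0xc981c07))) (.node (.node (.leaf 0xdae5c05) (.leaf 0x185e5bf7)) (.node (.leaf 0x156d1bf5) (.leaf 0x1d74dc05)))) (.node (.node (.node (.leaf 0xc415bf5) (.leaf 0x17591bf7)) (.node (.leaf 0x1d90dbf5) (.leaf 0x1a715c07))) (.node (.node (.leaf 0x1b085bf5) (.leaf 0x16b9dc05)) (.node (.leaf 0x59e5c05) (.leaf 0x0)))))) (.node (.node (.node (.node (.node (.leaf 0x174bdbf7) (.leaf 0x104c9c05)) (.node (.leaf 0x1b30dc05) (.leaf 0xde21bf7))) (.node (.node (.leaf 0x1e4c5bf5) (.leaf 0x6c4dc05)) (.node (.leaf 0xd33dc05) (.leaf 0x1e6a9bf5)))) (.node (.node (.node (.leaf 0x16b91bf5) (.leaf 0xf0e1bf5)) (.node (.leaf 0xe1bdbf5) (.leaf 0x1b319bf5))) (.node (.node (.leaf 0x16cb9bf7) (.leaf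 0x165e5c05)) (.node (.leaf 0x18f71bf5) (.leaf 0x0))))) (.node (.node (.node (.node (.leaf 0xe3c5c05) (.leaf 0x15cddbf5)) (.node (.leaf 0x1788dbf5) (.leaf 0x10921c05))) (.node (.node (.leaf 0x168cdc05) (.leaf 0x1cbd1bf5)) (.node (.leaf 0x19049bf5) (.leaf 0x0)))) (.node (.node (.node (.leaf 0x1d191bf5) (.leaf 0x16ff5bf7)) (.node (.leaf 0xf0fdc07) (.leaf 0x171ddc05))) (.node (.node (.leaf 0x130d9c07) (.leaf 0x10b49c07)) (.node (.leaf 0x12451c07) (.leaf 0x0))))))))))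

/-- packed table -/
noncomputable def cov15 : BTree := (.node (.node (.node cov15_lll cov15_llr) (.node cov15_lrl cov15_lrr)) (.node (.node cov15_rll cov15_rlr) (.node cov15_rrl cov15_rrr)))

theorem cov15_ok : okCover 15 cov15 = true := by decide +kernel

/-- straight-line program -/
def slp15 : List (Nat × Nat × Nat) :=
  [(0x7aec50244d248c1756289dd4c1d0f0, 1, 1),
   (0x2d2f15250634b732033b10f51c5ca, 1, 2),
   (0x128c725eb15826cb390f814291d24d, 3, 2),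
   (0x1464d6217751dc57853305a9019895, 3, 2),
   (0x252a05b94c686533a0cf142f11d8a9, 5, 2),
   (0x64502598f585db674ca0928811a5f4, 5, 3),
   (0x5a4f784e36a11ed11500648d51b941, 7, 3),
   (0x5d1c4558298b01093e62ab4a8198f7, 7, 4),
   (0x5d9416a2934dcb201aaf209cc19e11, 9, 4),
   (0x5182c8be90b94e024dc25d6c91c9a8, 9, 4),
   (0x6d90ba1ef164c222be44526061d40e, 11, 4),
   (0x8266b8b881adaf2781ac3d1451a046, 11, 5),
   (0x8a096a8132328575b66c81dc11be85, 12, 5),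
   (0xa38b0488d5b348c501eb8864819ef3, 14, 5),
   (0x899eaa48a84c1953880b0ddb31b896, 14, 6),
   (0xbca71312c9800ab688eaa22ae1858f, 15, 4),
   (0x655f4b160688a6a0102dbb9321a167, 17, 4),
   (0xb2202892aa3a573a05ed65ca6181d2, 18, 4),
   (0xb1c0972a48ab1b1bac9434c2f19602, 19, 3),
   (0x15c952a5488b4369d20e3bcc01c98b, 20, 0),
   (0x33db542dc195d50a3051494f3192c0, 20, 6),
   (0x9a9f63c055612540aee972225199a0, 22, 5),
   (0x7164caacf11060d49014b19481de6f, 23, 8),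
   (0x2c94d8d2f659981ac08e11d281cde0, 24, 0),
   (0x505225561828e62c6c87cd2d1baec, 25, 23),
   (0x2396a84686626e79584803ea11966d, 26, 0),
   (0x53e34aa4ce822c43c973608251b417, 26, 0),
   (0x482ce8d4e562050baa8f6acd218493, 28, 0),
   (0x4324f4848d84d75b50c2bc5c719540, 28, 0),
   (0xa9045b46f26a16c9a5c00d0ea19a0f, 30, 1),
   (0x8c17215a6a0a28d7d4a433ae919d80, 31, 0),
   (0xa56f363ec2740015c9046a8f119526, 32, 24),
   (0x7466f6804b2b086a29100a6f61caa7, 33, 0),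
   (0x2d9e009174936077250c356621aa37, 34, 0),
   (0x908043428e505972d50d3c5eb1a6d3, 35, 0),
   (0x3ad8a754cfa161668677224511a240, 35, 0),
   (0x91cae6110158ad549a6053ef41c5b0, 36, 36),
   (0x391af82a658ae414380ca0ac61a6f5, 37, 0),
   (0xbc020625f2b51464148d72c471d671, 39, 0),
   (0xb54ac8204791a8e9b5577c56418409, 39, 0),
   (0x905b0acd643b8cf05e961262a19588, 40, 0),
   (0x396f50822a23dc2658d25a1341b613, 41, 0),
   (0x236c12b134509eb849c78cd061dea0, 42, 0),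
   (0x52c903b1c5499b394501bd8141d44f, 44, 8),
   (0x4d20cbb4b2a9c2f559069888e1c560, 45, 0),
   (0x81689659c76d67750968202261c9e1, 46, 19),
   (0x649d5688b70c5f34ae88812c71a806, 47, 0),
   (0x6a8b10ae533580fad1c8640571a487, 48, 0),
   (0xa6563514f388808b8a86b1731d617, 49, 0),
   (0x355423b920bae04b16480b68f1c593, 50, 0),
   (0x7068b23d0cb46aa934f32dcc21a600, 50, 0),
   (0xab4c8849e4b8416a2e335312e19c45, 51, 5),
   (0x884e86281099882752cf4b6a51dd72, 53, 0),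
   (0x49493851950394b79a4245c2d1da27, 53, 0),
   (0xaca0f639b12153401d4b44cc118ad7, 55, 0),
   (0x8a9806943684aae25d3443ce61ac53, 56, 0),
   (0xb25a40c8c262a2584eae402e71d16f, 57, 0),
   (0x15430328eb6a6d263e25412771ba80, 58, 0)]

/-- levels -/
def levels15 : List (Nat × List Nat) :=
  [(0, [60, 0, 1, 2, 3, 4, 5, 6, 7, 8, 9, 10, 11, 12, 13, 14, 15, 16, 17, 18, 19, 20, 21]),
   (1, [60, 22, 23, 25, 30, 32, 37, 44, 46, 52, 59])]

/-- stabilising facts -/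
def gens15 : List Nat := [1789, 1793]

theorem chain15_ok : okChain 15 gens15 slp15 levels15 = true := by decide +kernel

theorem chain15_size : chainSize levels15 = 253 := by decide +kernel

end CfsgLib.Spor.J4.Index
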