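import Cfsg.Agent.Lib.Spor.J4.Index.Check

/-!
Coverage and stabiliser of node 16 (generated).
-/

set_option autoImplicit false
set_option linter.all false

namespace CfsgLib.Spor.J4.Index

open CfsgLib.PresCert

/-- packed table -/
noncomputable def cov16_lll : BTree := (.node (.node (.node (.node (.node (.node (.node (.node (.node (.leaf 0x19af1c2d) (.leaf 0x1f7d5c2d)) (.node (.leaf 0x1e45dc29) (.leaf 0x18f15c29))) (.node (.node (.leaf 0x14de5c29) (.leaf 0x22111c2f)) (.node (.leaf 0x10861c2f) (.leaf 0x16b41c2b)))) (.node (.node (.node (.leaf 0x1abf9c29) (.leaf 0x14f45c2d)) (.node (.leaf 0x1e35dc2d) (.leaf 0x20d31c2f))) (.node (.node (.leaf 0x13475c29) (.leaf 0x80bdc2d)) (.node (.leaf 0x20375c2d) (.leaf 0x0))))) (.node (.node (.node (.node (.leaf 0x2a519c29) (.leaf 0x219cdc2d)) (.node (.leaf 0x1e6fdc2d) (.leaf 0x1dd51c2d))) (.node (.node (.leaf 0x17455c29) (.leaf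 0x25e25c2b)) (.node (.leaf 0x18f49c2d) (.leaf 0x26fd5c29)))) (.node (.node (.node (.leaf 0x2315dc2f) (.leaf 0x23869c2f)) (.node (.leaf 0x232e5c2b) (.leaf 0x235e9c2f))) (.node (.node (.leaf 0x8aedc2d) (.leaf 0x171edc2d)) (.node (.leaf 0x1c699c2d) (.leaf 0x0)))))) (.node (.node (.node (.node (.node (.leaf 0x179d1c2f) (.leaf 0x1a68dc29)) (.node (.leaf 0x20391c2f) (.leaf 0x1d125c2b))) (.node (.node (.leaf 0x20285c29) (.leaf 0x1506dc29)) (.node (.leaf 0x1e3a9c2f) (.leaf 0x226a9c2d)))) (.node (.node (.node (.leaf 0x187d5c29) (.leaf 0x1a5cdc2f)) (.node (.leaf 0x20cddc2f) (.leaf 0xcdbdc29))) (.node (.node (.leaf 0x19f91c2b) (.leaf 0x29371c2d)) (.node (.leaf 0x1b78dc2b) (.leaf 0x0))))) (.node (.node (.node (.node (.leaf 0xefa9c2d) (.leaf 0x21cb9c2d)) (.node (.leaf 0x1b2f5c29) (.leaf 0x129e1c2b))) (.node (.node (.leaf 0x11afdc2d) (.leaf 0x23555c2b)) (.node (.leaf 0x1ec5dc2d)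 (.leaf 0x1f82dc2b)))) (.node (.node (.node (.leaf 0x1bad9c2f) (.leaf 0x1e9d1c2d)) (.node (.leaf 0x1ad69c2d) (.leaf 0x15819c2d))) (.node (.node (.leaf 0x1525dc29) (.leaf 0x21df9c2b)) (.node (.leaf 0x2396dc2f) (.leaf 0x0))))))) (.node (.node (.node (.node (.node (.node (.leaf 0x1793dc2f) (.leaf 0x20465c2d)) (.node (.leaf 0x19049c29) (.leaf 0x27aa1c2d))) (.node (.node (.leaf 0x1c7b1c29) (.leaf 0x26335c2b)) (.node (.leaf 0x22509c2b) (.leaf 0x1c1f1c2b)))) (.node (.node (.node (.leaf 0x16c55c2f) (.leaf 0x1b769c2f)) (.node (.leaf 0x2647dc2b) (.leaf 0x1f6b9c29))) (.node (.node (.leaf 0x1d6f1c2f) (.leaf 0x1abbdc2b)) (.node (.leaf 0x1c27dc2f) (.leaf 0x0))))) (.node (.node (.node (.node (.leaf 0x1a1b9c29) (.leaf 0x25de1c2d)) (.node (.leaf 0x23425c2b) (.leaf 0x16d51c2f))) (.node (.node (.leaf 0x18789c2d) (.leaf 0x151edc2b)) (.node (.leaf 0xf229c2d) (.leaf 0x1e7c9c2d)))) (.node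 (.node (.node (.leaf 0x23101c2d) (.leaf 0x1f6a9c29)) (.node (.leaf 0xb62dc2f) (.leaf 0x1fb39c2f))) (.node (.node (.leaf 0x1bafdc2f) (.leaf 0x26421c2f)) (.node (.leaf 0x16e85c2d) (.leaf 0x0)))))) (.node (.node (.node (.node (.node (.leaf 0x18cc9c2b) (.leaf 0x1ab6dc2f)) (.node (.leaf 0x1dfc1c29) (.leaf 0x23959c2b))) (.node (.node (.leaf 0x10589c2f) (.leaf 0x1ef2dc2f)) (.node (.leaf 0x15641c2b) (.leaf 0x1f3fdc2f)))) (.node (.node (.node (.leaf 0x17301c2f) (.leaf 0x14569c29)) (.node (.leaf 0x22bc1c29) (.leaf 0x27055c29))) (.node (.node (.leaf 0x168fdc2f) (.leaf 0x1cfb1c2d)) (.node (.leaf 0x21a61c2f) (.leaf 0x0))))) (.node (.node (.node (.node (.leaf 0x1e249c2b) (.leaf 0x18d21c2d)) (.node (.leaf 0x20051c29) (.leaf 0x27651c2f))) (.node (.node (.leaf 0x189ddc2d) (.leaf 0x22195c2d)) (.node (.leaf 0x1c979c2f) (.leaf 0x0)))) (.node (.node (.node (.leaf 0xab49c2d) (.leaf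 0x137cdc2f)) (.node (.leaf 0x14981c2b) (.leaf 0x27119c2b))) (.node (.node (.leaf 0x1e371c2b) (.leaf 0x1c8e5c2b)) (.node (.leaf 0x184b5c2f) (.leaf 0x0)))))))) (.node (.node (.node (.node (.node (.node (.node (.leaf 0x19fb9c2d) (.leaf 0x1496dc2f)) (.node (.leaf 0x18971c29) (.leaf 0x19209c2f))) (.node (.node (.leaf 0x16ba5c2f) (.leaf 0x1a6c9c2f)) (.node (.leaf 0x18765c29) (.leaf 0x1e45dc2b)))) (.node (.node (.node (.leaf 0x8d5dc2f) (.leaf 0x21001c2d)) (.node (.leaf 0x20141c2f) (.leaf 0x1a9f1c2b))) (.node (.node (.leaf 0x20ee5c2d) (.leaf 0x1e455c2d)) (.node (.leaf 0x1e829c2d) (.leaf 0x0))))) (.node (.node (.node (.node (.leaf 0x1fa05c2d) (.leaf 0x1f719c29)) (.node (.leaf 0x1e189c2b) (.leaf 0x1ad4dc2b))) (.node (.node (.leaf 0x20d0dc2f) (.leaf 0x265c5c2f)) (.node (.leaf 0x20b71c2d) (.leaf 0x110a9c2d)))) (.node (.node (.node (.leaf 0x20abdc2f) (.leaf 0x1e751c2b)) (.node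 (.leaf 0x117d5c2d) (.leaf 0x2169dc2f))) (.node (.node (.leaf 0x1b791c2f) (.leaf 0x19d99c29)) (.node (.leaf 0x181b1c2d) (.leaf 0x0)))))) (.node (.node (.node (.node (.node (.leaf 0x1f485c2f) (.leaf 0x26805c2d)) (.node (.leaf 0x1decdc2b) (.leaf 0x2224dc2d))) (.node (.node (.leaf 0x1a211c2b) (.leaf 0x1d3fdc2d)) (.node (.leaf 0x1b315c29) (.leaf 0x1dad1c2f)))) (.node (.node (.node (.leaf 0x1c69dc2f) (.leaf 0x25fc5c29)) (.node (.leaf 0x27049c2d) (.leaf 0x2af51c2f))) (.node (.node (.leaf 0x1baf1c2b) (.leaf 0x1dd65c2f)) (.node (.leaf 0x182bdc2f) (.leaf 0x0))))) (.node (.node (.node (.node (.leaf 0xe89dc2d) (.leaf 0x2242dc2f)) (.node (.leaf 0x1c6b5c29) (.leaf 0x20751c2d))) (.node (.node (.leaf 0xd4a1c29) (.leaf 0x12ac1c2d)) (.node (.leaf 0xc74dc2d) (.leaf 0xd089c29)))) (.node (.node (.node (.leaf 0x13a7dc29) (.leaf 0x2a7f1c2d)) (.node (.leaf 0x24c7dc2f) (.leaf 0x1c701c2b)))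 (.node (.node (.leaf 0x19549c2d) (.leaf 0x1e8f1c2f)) (.node (.leaf 0x10649c2f) (.leaf 0x0))))))) (.node (.node (.node (.node (.node (.node (.leaf 0x1480dc29) (.leaf 0x219bdc2f)) (.node (.leaf 0x211b5c2f) (.leaf 0x1a901c2f))) (.node (.node (.leaf 0x171edc2f) (.leaf 0x2734dc29)) (.node (.leaf 0x20ef1c2f) (.leaf 0x1cf31c29)))) (.node (.node (.node (.leaf 0x1df75c2d) (.leaf 0x20f11c2f)) (.node (.leaf 0x201c1c2f) (.leaf 0x232a9c2d))) (.node (.node (.leaf 0x232e5c2f) (.leaf 0x14c11c29)) (.node (.leaf 0x1d0adc29) (.leaf 0x0))))) (.node (.node (.node (.node (.leaf 0x232c1c2b) (.leaf 0x1b505c2d)) (.node (.leaf 0x264b1c2f) (.leaf 0x1dd09c2d))) (.node (.node (.leaf 0x14191c2d) (.leaf 0xd52dc2d)) (.node (.leaf 0x1f85dc2d) (.leaf 0x2ed01c2d)))) (.node (.node (.node (.leaf 0x18785c2b) (.leaf 0x1b791c2d)) (.node (.leaf 0x2ba49c2f) (.leaf 0x222e5c2b))) (.node (.node (.leaf 0x1cfcdc2f)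 (.leaf 0x259edc2d)) (.node (.leaf 0x1bac5c2d) (.leaf 0x0)))))) (.node (.node (.node (.node (.node (.leaf 0x1cef5c2b) (.leaf 0x20289c2b)) (.node (.leaf 0x1d0c5c2d) (.leaf 0x183e1c2d))) (.node (.node (.leaf 0x1c985c2d) (.leaf 0x156d9c2d)) (.node (.leaf 0x10431c29) (.leaf 0x2680dc29)))) (.node (.node (.node (.leaf 0x15e15c2d) (.leaf 0x117d5c2b)) (.node (.leaf 0x293e5c29) (.leaf 0x16995c29))) (.node (.node (.leaf 0x1dd79c29) (.leaf 0x1d895c2f)) (.node (.leaf 0x205f1c2f) (.leaf 0x0))))) (.node (.node (.node (.node (.leaf 0x14935c2d) (.leaf 0x25fd9c29)) (.node (.leaf 0x1e521c2b) (.leaf 0x1cb09c2b))) (.node (.node (.leaf 0x1c48) (.leaf 0x1d8a5c2f)) (.node (.leaf 0x1cb55c2d) (.leaf 0x0)))) (.node (.node (.node (.leaf 0x1ced9c2d) (.leaf 0x1faedc2b)) (.node (.leaf 0x1d639c2f) (.leaf 0x1c6d5c2b))) (.node (.node (.leaf 0x1acd9c2d) (.leaf 0x19781c2f)) (.node (.leaf 0x19981c2f)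 (.leaf 0x0))))))))) (.node (.node (.node (.node (.node (.node (.node (.node (.leaf 0xd4a1c2d) (.leaf 0x1490dc2d)) (.node (.leaf 0x1aa6dc2d) (.leaf 0x2242dc2d))) (.node (.node (.leaf 0xf5b1c2f) (.leaf 0x22f7dc29)) (.node (.leaf 0x176a1c2d) (.leaf 0x10b29c2f)))) (.node (.node (.node (.leaf 0x1ebf1c2d) (.leaf 0x22f81c2f)) (.node (.leaf 0x26855c2b) (.leaf 0x13b45c2b))) (.node (.node (.leaf 0x14e45c29) (.leaf 0x20289c29)) (.node (.leaf 0x1f319c2b) (.leaf 0x0))))) (.node (.node (.node (.node (.leaf 0x13b45c29) (.leaf 0x27291c29)) (.node (.leaf 0x207f1c2d) (.leaf 0x2994dc29))) (.node (.node (.leaf 0x23921c2d) (.leaf 0x8bb5c29)) (.node (.leaf 0x2545dc2d) (.leaf 0x18f49c2b)))) (.node (.node (.node (.leaf 0x18bb1c2f) (.leaf 0x10099c29)) (.node (.leaf 0x26e4dc29) (.leaf 0x18b25c2d))) (.node (.node (.leaf 0x49f9c2f) (.leaf 0x181a9c2f)) (.node (.leaf 0x1d559c2d) (.leaf 0x0))))))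 (.node (.node (.node (.node (.node (.leaf 0x19ea1c29) (.leaf 0x1cc79c2b)) (.node (.leaf 0x18ac1c2b) (.leaf 0x23785c29))) (.node (.node (.leaf 0x26e51c29) (.leaf 0x29421c2d)) (.node (.leaf 0x21dedc2d) (.leaf 0x1d149c2d)))) (.node (.node (.node (.leaf 0x16891c29) (.leaf 0x192b1c2d)) (.node (.leaf 0x13af5c2f) (.leaf 0x25ef1c2b))) (.node (.node (.leaf 0x1793dc2b) (.leaf 0x1683dc2f)) (.node (.leaf 0x265d5c2f) (.leaf 0x0))))) (.node (.node (.node (.node (.leaf 0xca31c2f) (.leaf 0x1c3b9c2f)) (.node (.leaf 0x2add5c29) (.leaf 0x26235c2d))) (.node (.node (.leaf 0x1f611c2f) (.leaf 0x26c39c29)) (.node (.leaf 0x1f74dc2d) (.leaf 0x18c35c2d)))) (.node (.node (.node (.leaf 0x1cc2dc2d) (.leaf 0xf9b1c29)) (.node (.leaf 0x1f7bdc2d) (.leaf 0x1b2f5c2f))) (.node (.node (.leaf 0x23385c2b) (.leaf 0x2979dc2d)) (.node (.leaf 0x23981c2f) (.leaf 0x0))))))) (.node (.node (.node (.node (.node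 (.node (.leaf 0x15521c2f) (.leaf 0x21e09c2b)) (.node (.leaf 0xf7f5c2f) (.leaf 0x14bf1c29))) (.node (.node (.leaf 0x24795c29) (.leaf 0x176edc2d)) (.node (.leaf 0x1ec81c2f) (.leaf 0x25439c2d)))) (.node (.node (.node (.leaf 0x1df85c2b) (.leaf 0x18f01c2f)) (.node (.leaf 0x8359c2d) (.leaf 0x25949c29))) (.node (.node (.leaf 0x1f9f1c29) (.leaf 0x1d791c2d)) (.node (.leaf 0x14269c2f) (.leaf 0x0))))) (.node (.node (.node (.node (.leaf 0x23681c29) (.leaf 0x14811c2f)) (.node (.leaf 0x182e1c29) (.leaf 0x1e829c2b))) (.node (.node (.leaf 0x1ac69c2d) (.leaf 0x21175c29)) (.node (.leaf 0x2f225c2d) (.leaf 0x21155c2d)))) (.node (.node (.node (.leaf 0x151ddc29) (.leaf 0x23565c2d)) (.node (.leaf 0x260f1c2f) (.leaf 0x120edc29))) (.node (.node (.leaf 0x18165c29) (.leaf 0x1e8a9c2d)) (.node (.leaf 0x1750dc2f) (.leaf 0x0)))))) (.node (.node (.node (.node (.node (.leaf 0x1d0f1c29) (.leaf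 0x2597dc2f)) (.node (.leaf 0x19591c29) (.leaf 0x2021dc29))) (.node (.node (.leaf 0x1ed25c2d) (.leaf 0x1ef45c2f)) (.node (.leaf 0x230bdc2f) (.leaf 0x19911c2d)))) (.node (.node (.node (.leaf 0x22055c2d) (.leaf 0xe505c2d)) (.node (.leaf 0x14cf5c2d) (.leaf 0x1ce55c2f))) (.node (.node (.leaf 0x4bc1c2b) (.leaf 0x27111c29)) (.node (.leaf 0x14741c2d) (.leaf 0x0))))) (.node (.node (.node (.node (.leaf 0x140c5c2f) (.leaf 0x19289c2d)) (.node (.leaf 0x272b9c29) (.leaf 0x18d21c2f))) (.node (.node (.leaf 0x89fdc2f) (.leaf 0x1c86dc2d)) (.node (.leaf 0x1cb35c2f) (.leaf 0x0)))) (.node (.node (.node (.leaf 0x1c89dc2b) (.leaf 0x1a98dc2d)) (.node (.leaf 0x2b081c2d) (.leaf 0x1e6f1c2f))) (.node (.node (.leaf 0x2231dc2f) (.leaf 0x1a0ddc2d)) (.node (.leaf 0x1c34dc2f) (.leaf 0x0)))))))) (.node (.node (.node (.node (.node (.node (.node (.leaf 0x1d15dc2f) (.leaf 0x1cc85c2b)) (.node (.leaf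 0x1a8bdc2f) (.leaf 0x1fa95c2d))) (.node (.node (.leaf 0xc74dc2f) (.leaf 0x2050dc2b)) (.node (.leaf 0x2b4c9c2b) (.leaf 0x22611c2d)))) (.node (.node (.node (.leaf 0x10321c2f) (.leaf 0x1f82dc29)) (.node (.leaf 0x1b88dc2f) (.leaf 0x1ac69c2b))) (.node (.node (.leaf 0x1c16dc2d) (.leaf 0xf76dc2b)) (.node (.leaf 0x20895c29) (.leaf 0x0))))) (.node (.node (.node (.node (.leaf 0x29c71c2d) (.leaf 0x26291c2d)) (.node (.leaf 0x1ae79c29) (.leaf 0x271f9c2d))) (.node (.node (.leaf 0x16695c2f) (.leaf 0x1c8f1c29)) (.node (.leaf 0x1c8f1c2f) (.leaf 0x148c9c29)))) (.node (.node (.node (.leaf 0x29ed9c29) (.leaf 0x1e4a1c29)) (.node (.leaf 0x20361c2d) (.leaf 0x1e395c29))) (.node (.node (.leaf 0x18ffdc2b) (.leaf 0x189b1c2f)) (.node (.leaf 0x1ca25c2d) (.leaf 0x0)))))) (.node (.node (.node (.node (.node (.leaf 0x6d59c2b) (.leaf 0x275d9c2b)) (.node (.leaf 0x21b2dc2f) (.leaf 0x229ddc2b))) (.node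 (.node (.leaf 0x1db19c2d) (.leaf 0x15d39c2d)) (.node (.leaf 0x20725c2b) (.leaf 0x21141c2d)))) (.node (.node (.node (.leaf 0x25c91c29) (.leaf 0x1550dc29)) (.node (.leaf 0x29fe9c2d) (.leaf 0x16689c2f))) (.node (.node (.leaf 0x16a29c2d) (.leaf 0x23785c2b)) (.node (.leaf 0x22849c29) (.leaf 0x0))))) (.node (.node (.node (.node (.leaf 0x1c5e9c29) (.leaf 0x1616dc2f)) (.node (.leaf 0xdce5c2f) (.leaf 0x2a91dc2b))) (.node (.node (.leaf 0x119ddc2d) (.leaf 0x1ad19c29)) (.node (.leaf 0x1d3d9c2f) (.leaf 0x0)))) (.node (.node (.node (.leaf 0x161e9c29) (.leaf 0x22f41c29)) (.node (.leaf 0x21229c2d) (.leaf 0x22929c2b))) (.node (.node (.leaf 0x28c55c29) (.leaf 0x18bf5c29)) (.node (.leaf 0x1c4e9c2f) (.leaf 0x0))))))) (.node (.node (.node (.node (.node (.node (.leaf 0x14509c2d) (.leaf 0x226a9c29)) (.node (.leaf 0x22765c2d) (.leaf 0x26439c2f))) (.node (.node (.leaf 0x1af11c2f) (.leaf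 0x1cfd1c2b)) (.node (.leaf 0x1e419c2d) (.leaf 0x1a69dc2d)))) (.node (.node (.node (.leaf 0x19f6dc2d) (.leaf 0x22a61c2f)) (.node (.leaf 0x10b41c2f) (.leaf 0x1467dc29))) (.node (.node (.leaf 0x195a5c2f) (.leaf 0x22da9c2d)) (.node (.leaf 0x17125c2d) (.leaf 0x0))))) (.node (.node (.node (.node (.leaf 0x17a85c2d) (.leaf 0x23309c2d)) (.node (.leaf 0x1e4c9c2f) (.leaf 0x21ffdc2d))) (.node (.node (.leaf 0xc815c2d) (.leaf 0xc819c2d)) (.node (.leaf 0x27251c2f) (.leaf 0x25fedc2f)))) (.node (.node (.node (.leaf 0x17079c29) (.leaf 0x1fb49c29)) (.node (.leaf 0x1d1b1c2d) (.leaf 0x21849c2d))) (.node (.node (.leaf 0x230bdc29) (.leaf 0x227d9c2b)) (.node (.leaf 0x1b2d1c2f) (.leaf 0x0)))))) (.node (.node (.node (.node (.node (.leaf 0x14981c29) (.leaf 0x1d815c29)) (.node (.leaf 0x2a161c2d) (.leaf 0x20d2dc2f))) (.node (.node (.leaf 0x1436dc2d) (.leaf 0xd285c2f)) (.node (.leaf 0x23059c2d)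 (.leaf 0xe015c2f)))) (.node (.node (.node (.leaf 0x23015c29) (.leaf 0x204d5c29)) (.node (.leaf 0x2e22dc2f) (.leaf 0x25d9dc29))) (.node (.node (.leaf 0x10b95c2d) (.leaf 0x1c77dc2d)) (.node (.leaf 0x206bdc2d) (.leaf 0x0))))) (.node (.node (.node (.node (.leaf 0x15cf1c2b) (.leaf 0x21471c2f)) (.node (.leaf 0x27605c2f) (.leaf 0x23661c2f))) (.node (.node (.leaf 0xcbddc2d) (.leaf 0x18571c29)) (.node (.leaf 0x1af75c2f) (.leaf 0x0)))) (.node (.node (.node (.leaf 0x10301c2d) (.leaf 0x231bdc29)) (.node (.leaf 0x1cf85c2d) (.leaf 0x18471c29))) (.node (.node (.leaf 0x1afb5c2b) (.leaf 0x24ee1c2f)) (.node (.leaf 0x10e49c2d) (.leaf 0x0))))))))))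

/-- packed table -/
noncomputable def cov16_llr : BTree := (.node (.node (.node (.node (.node (.node (.node (.node (.node (.leaf 0x2664dc29) (.leaf 0x1d295c2d)) (.node (.leaf 0x20c4dc29) (.leaf 0x15865c2f))) (.node (.node (.leaf 0x131f1c2f) (.leaf 0x22f89c2b)) (.node (.leaf 0x1e21dc2f) (.leaf 0x12d2dc2b)))) (.node (.node (.node (.leaf 0x16bedc2d) (.leaf 0x10021c2b)) (.node (.leaf 0x19a0dc29) (.leaf 0x1810dc2d))) (.node (.node (.leaf 0x13795c2d) (.leaf 0x140cdc2d)) (.node (.leaf 0x265b9c2f) (.leaf 0x0))))) (.node (.node (.node (.node (.leaf 0x18d91c2d) (.leaf 0x15d39c2f)) (.node (.leaf 0x19759c2f) (.leaf 0x208bdc2d))) (.node (.node (.leaf 0x1b089c2d) (.leaf 0xb62dc2b)) (.node (.leaf 0x21989c2b) (.leaf 0x1ddd1c2d)))) (.node (.node (.node (.leaf 0x1ce55c29) (.leaf 0x1ddfdc2b)) (.node (.leaf 0x1c9a9c2b) (.leaf 0x1bac5c2b))) (.node (.node (.leaf 0x21e85c29) (.leaf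 0x1542dc2f)) (.node (.leaf 0x1ea09c29) (.leaf 0x0)))))) (.node (.node (.node (.node (.node (.leaf 0x1e501c29) (.leaf 0x1dfc1c2b)) (.node (.leaf 0x24c99c2b) (.leaf 0x238c1c2d))) (.node (.node (.leaf 0x14a7dc29) (.leaf 0x1d061c29)) (.node (.leaf 0x1646dc2b) (.leaf 0x1907dc29)))) (.node (.node (.node (.leaf 0x20961c2d) (.leaf 0x20129c2d)) (.node (.leaf 0x26f09c2d) (.leaf 0x19eb5c2d))) (.node (.node (.leaf 0x210edc29) (.leaf 0x18479c2d)) (.node (.leaf 0x1c46dc2f) (.leaf 0x0))))) (.node (.node (.node (.node (.leaf 0xead9c29) (.leaf 0x1dca5c2d)) (.node (.leaf 0x26239c2d) (.leaf 0x24aadc29))) (.node (.node (.leaf 0x17815c2d) (.leaf 0x17455c2b)) (.node (.leaf 0x21129c2f) (.leaf 0x1b829c2f)))) (.node (.node (.node (.leaf 0x21fb5c29) (.leaf 0x1b2edc29)) (.node (.leaf 0x1d99dc29) (.leaf 0x10c0dc2d))) (.node (.node (.leaf 0x1df39c2f) (.leaf 0x14629c29)) (.node (.leaf 0x1862dc2f)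 (.leaf 0x0))))))) (.node (.node (.node (.node (.node (.node (.leaf 0x1e6ddc2b) (.leaf 0x1a405c29)) (.node (.leaf 0x19ce1c29) (.leaf 0x23335c2f))) (.node (.node (.leaf 0x1f441c2f) (.leaf 0x11b65c2d)) (.node (.leaf 0x10eddc2b) (.leaf 0x19445c2d)))) (.node (.node (.node (.leaf 0xf615c2d) (.leaf 0x22251c2b)) (.node (.leaf 0x1a27dc29) (.leaf 0x171a5c2d))) (.node (.node (.leaf 0x29745c2d) (.leaf 0x1f27dc2d)) (.node (.leaf 0x20285c2f) (.leaf 0x0))))) (.node (.node (.node (.node (.leaf 0x20069c2f) (.leaf 0x21f19c29)) (.node (.leaf 0x142e5c29) (.leaf 0x201ddc2d))) (.node (.node (.leaf 0x10af9c29) (.leaf 0x1cac9c29)) (.node (.leaf 0x1bac5c29) (.leaf 0x278c9c2b)))) (.node (.node (.node (.leaf 0x1496dc29) (.leaf 0x1dc39c2b)) (.node (.leaf 0x10449c2f) (.leaf 0xd835c2f))) (.node (.node (.leaf 0x1ae99c2b) (.leaf 0x223c9c2d)) (.node (.leaf 0x17285c2f) (.leaf 0x0)))))) (.node (.node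 (.node (.node (.node (.leaf 0x10021c2d) (.leaf 0x1ce59c2d)) (.node (.leaf 0x1b281c29) (.leaf 0x1e289c2b))) (.node (.node (.leaf 0x18789c2b) (.leaf 0x1eaa5c2f)) (.node (.leaf 0x1dbfdc2f) (.leaf 0x161adc2d)))) (.node (.node (.node (.leaf 0x1e03dc2b) (.leaf 0x22a69c29)) (.node (.leaf 0x14a2dc2f) (.leaf 0xce65c2f))) (.node (.node (.leaf 0x16f35c2d) (.leaf 0xd089c2d)) (.node (.leaf 0x1c991c2d) (.leaf 0x0))))) (.node (.node (.node (.node (.leaf 0x1f675c29) (.leaf 0x20c81c2b)) (.node (.leaf 0x1b919c2b) (.leaf 0x15bf5c2d))) (.node (.node (.leaf 0x16891c2b) (.leaf 0x235b9c29)) (.node (.leaf 0x1b13dc29) (.leaf 0x0)))) (.node (.node (.node (.leaf 0x1ca71c2f) (.leaf 0x220d1c2b)) (.node (.leaf 0x1b9c9c2b) (.leaf 0x15cf1c29))) (.node (.node (.leaf 0x1dd79c2b) (.leaf 0x149e5c2b)) (.node (.leaf 0x174b9c2d) (.leaf 0x0)))))))) (.node (.node (.node (.node (.node (.node (.node (.leaf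 0x1df29c2d) (.leaf 0x2502dc29)) (.node (.leaf 0x22659c29) (.leaf 0x1c9e9c2b))) (.node (.node (.leaf 0x10e29c29) (.leaf 0x1f095c2f)) (.node (.leaf 0x1d9e9c29) (.leaf 0x16339c29)))) (.node (.node (.node (.leaf 0x19ea1c2f) (.leaf 0x1caa1c29)) (.node (.leaf 0x12d91c2d) (.leaf 0x21ab9c2d))) (.node (.node (.leaf 0x1cb7dc2d) (.leaf 0x244f9c2d)) (.node (.leaf 0x216d5c2f) (.leaf 0x0))))) (.node (.node (.node (.node (.leaf 0xa5e9c29) (.leaf 0x1ccfdc2f)) (.node (.leaf 0x1ed9dc2f) (.leaf 0x224b5c29))) (.node (.node (.leaf 0x10341c29) (.leaf 0x1a4e5c2d)) (.node (.leaf 0x1c929c2b) (.leaf 0x148d5c29)))) (.node (.node (.node (.leaf 0x22dedc2b) (.leaf 0x1aeedc2d)) (.node (.leaf 0x1e9edc2f) (.leaf 0x21505c2b))) (.node (.node (.leaf 0xf58dc2d) (.leaf 0x20759c2f)) (.node (.leaf 0x19af5c29) (.leaf 0x0)))))) (.node (.node (.node (.node (.node (.leaf 0x1f5f1c2b) (.leaf 0x2725dc2d)) (.node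 (.leaf 0x12e09c2f) (.leaf 0x23179c2f))) (.node (.node (.leaf 0x24cd9c2f) (.leaf 0x1baf1c2f)) (.node (.leaf 0x23809c2f) (.leaf 0x1973dc29)))) (.node (.node (.node (.leaf 0x18101c2f) (.leaf 0x268f5c2f)) (.node (.leaf 0x26391c2f) (.leaf 0x14db1c2d))) (.node (.node (.leaf 0x11965c2b) (.leaf 0x10749c2f)) (.node (.leaf 0x19405c2b) (.leaf 0x0))))) (.node (.node (.node (.node (.leaf 0x1cc31c2f) (.leaf 0x217cdc2b)) (.node (.leaf 0x1c085c2b) (.leaf 0x679dc2b))) (.node (.node (.leaf 0x1b13dc2b) (.leaf 0x207b5c2f)) (.node (.leaf 0x25f59c29) (.leaf 0x0)))) (.node (.node (.node (.leaf 0x1cc2dc29) (.leaf 0x190b9c2f)) (.node (.leaf 0x24c89c2f) (.leaf 0x1f145c2f))) (.node (.node (.leaf 0x1d391c2d) (.leaf 0x26a65c29)) (.node (.leaf 0x22435c2f) (.leaf 0x0))))))) (.node (.node (.node (.node (.node (.node (.leaf 0x8bd9c2b) (.leaf 0x1cd01c2f)) (.node (.leaf 0x1b9f9c2b) (.leaf 0x1c105c2d)))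 (.node (.node (.leaf 0x15151c2f) (.leaf 0x111d9c2b)) (.node (.leaf 0x25c49c2d) (.leaf 0x1b019c2f)))) (.node (.node (.node (.leaf 0x1df71c2d) (.leaf 0x22a69c2b)) (.node (.leaf 0x15519c2d) (.leaf 0x89fdc2b))) (.node (.node (.leaf 0x139edc29) (.leaf 0x24195c29)) (.node (.leaf 0x1d8a5c2b) (.leaf 0x0))))) (.node (.node (.node (.node (.leaf 0x9e69c29) (.leaf 0x261c9c2d)) (.node (.leaf 0x1ced1c29) (.leaf 0x16f6dc2b))) (.node (.node (.leaf 0x18545c2d) (.leaf 0x16815c2d)) (.node (.leaf 0x194fdc29) (.leaf 0x21901c2f)))) (.node (.node (.node (.leaf 0x20ea9c2d) (.leaf 0x26e0dc2f)) (.node (.leaf 0x1e9bdc2f) (.leaf 0x1a3c5c2f))) (.node (.node (.leaf 0x1ab99c2d) (.leaf 0x26821c2d)) (.node (.leaf 0x24679c2b) (.leaf 0x0)))))) (.node (.node (.node (.node (.node (.leaf 0x204c1c29) (.leaf 0x10775c2b)) (.node (.leaf 0x22171c2b) (.leaf 0x25db5c29))) (.node (.node (.leaf 0x22d81c29)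 (.leaf 0x196e5c29)) (.node (.leaf 0x1f739c2d) (.leaf 0x12049c29)))) (.node (.node (.node (.leaf 0x1e6c1c2b) (.leaf 0x18949c29)) (.node (.leaf 0x1480dc2f) (.leaf 0x1586dc2d))) (.node (.node (.leaf 0x1d38dc2f) (.leaf 0x1b7e9c29)) (.node (.leaf 0x1baf1c29) (.leaf 0x0))))) (.node (.node (.node (.node (.leaf 0x17875c2f) (.leaf 0x1a30dc2b)) (.node (.leaf 0x21bcdc2b) (.leaf 0x11a81c2d))) (.node (.node (.leaf 0xce15c29) (.leaf 0x1ca89c2d)) (.node (.leaf 0x21da5c2b) (.leaf 0x0)))) (.node (.node (.node (.leaf 0x212c9c2f) (.leaf 0x1e785c2b)) (.node (.leaf 0x22705c2d) (.leaf 0x214f1c2b))) (.node (.node (.leaf 0x19409c2d) (.leaf 0xb879c2b)) (.node (.leaf 0x1c369c2f) (.leaf 0x0))))))))) (.node (.node (.node (.node (.node (.node (.node (.node (.leaf 0x222bdc29) (.leaf 0x18841c2f)) (.node (.leaf 0x1e9adc2d) (.leaf 0x1cd41c2d))) (.node (.node (.leaf 0xa11dc2d) (.leaf 0x1d12dc29))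 (.node (.leaf 0x161e9c2b) (.leaf 0x154e1c2f)))) (.node (.node (.node (.leaf 0xdb0dc2f) (.leaf 0x18fe9c2b)) (.node (.leaf 0x1cde9c2d) (.leaf 0x1d1e9c29))) (.node (.node (.leaf 0x1a4edc29) (.leaf 0x1aa35c29)) (.node (.leaf 0x216f9c2b) (.leaf 0x0))))) (.node (.node (.node (.node (.leaf 0x19c69c29) (.leaf 0x21989c2f)) (.node (.leaf 0x25755c2f) (.leaf 0x2020dc2b))) (.node (.node (.leaf 0xab49c29) (.leaf 0x1670dc29)) (.node (.leaf 0x1b5c9c2b) (.leaf 0x22331c2f)))) (.node (.node (.node (.leaf 0x21001c2f) (.leaf 0x1e3a1c2d)) (.node (.leaf 0x257d1c2d) (.leaf 0x23aadc2b))) (.node (.node (.leaf 0x1929dc29) (.leaf 0x21b2dc2d)) (.node (.leaf 0x14269c2d) (.leaf 0x0)))))) (.node (.node (.node (.node (.node (.leaf 0x1cc39c2f) (.leaf 0x26231c2b)) (.node (.leaf 0x13501c2d) (.leaf 0x1b89dc29))) (.node (.node (.leaf 0x181e1c2f) (.leaf 0x234e9c29)) (.node (.leaf 0x21dc5c2f) (.leaf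 0x4bc1c29)))) (.node (.node (.node (.leaf 0x18b85c2f) (.leaf 0x21975c2f)) (.node (.leaf 0x149e5c29) (.leaf 0x16f65c2f))) (.node (.node (.leaf 0x1e3a1c29) (.leaf 0x150a5c2d)) (.node (.leaf 0x21dc5c2b) (.leaf 0x0))))) (.node (.node (.node (.node (.leaf 0x18545c2f) (.leaf 0x1f94dc2f)) (.node (.leaf 0x16935c2d) (.leaf 0x21955c2f))) (.node (.node (.leaf 0x8d99c2d) (.leaf 0x22aadc2d)) (.node (.leaf 0x22ff1c2f) (.leaf 0x1f675c2d)))) (.node (.node (.node (.leaf 0x161edc2d) (.leaf 0xb62dc29)) (.node (.leaf 0x1f999c2b) (.leaf 0x11385c2f))) (.node (.node (.leaf 0x1a63dc2d) (.leaf 0x2697dc2d)) (.node (.leaf 0x22285c2f) (.leaf 0x0))))))) (.node (.node (.node (.node (.node (.node (.leaf 0x1d11dc29) (.leaf 0x2a261c2d)) (.node (.leaf 0x15785c2f) (.leaf 0x210cdc29))) (.node (.node (.leaf 0x20695c2d) (.leaf 0x1528dc2d)) (.node (.leaf 0x21811c2b) (.leaf 0x17125c2f)))) (.node (.node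 (.node (.leaf 0x15f79c2d) (.leaf 0x20ee9c2f)) (.node (.leaf 0x1cd89c2b) (.leaf 0x1dfadc2f))) (.node (.node (.leaf 0x21731c2d) (.leaf 0x28519c2d)) (.node (.leaf 0x2a2edc2f) (.leaf 0x0))))) (.node (.node (.node (.node (.leaf 0x1ea8dc2d) (.leaf 0x25c0dc2b)) (.node (.leaf 0x17685c2b) (.leaf 0x16aedc2d))) (.node (.node (.leaf 0x1f659c2f) (.leaf 0x1a1b9c2d)) (.node (.leaf 0x273e1c2f) (.leaf 0x261c1c2d)))) (.node (.node (.node (.leaf 0x21de5c2f) (.leaf 0x2625dc2f)) (.node (.leaf 0x1f3b9c2f) (.leaf 0x1d701c2d))) (.node (.node (.leaf 0x1f0c1c29) (.leaf 0x2340dc2d)) (.node (.leaf 0x1b51dc2f) (.leaf 0x0)))))) (.node (.node (.node (.node (.node (.leaf 0x15521c2b) (.leaf 0x19fc9c29)) (.node (.leaf 0x1b919c29) (.leaf 0x2b969c2d))) (.node (.node (.leaf 0x15fe1c2b) (.leaf 0x196e5c2d)) (.node (.leaf 0x1e985c2b) (.leaf 0x87e5c2d)))) (.node (.node (.node (.leaf 0x15cbdc2f) (.leaf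 0x25cedc2d)) (.node (.leaf 0x22bc5c29) (.leaf 0x87e5c2f))) (.node (.node (.leaf 0x112a9c2d) (.leaf 0x218a1c2f)) (.node (.leaf 0x28519c2b) (.leaf 0x0))))) (.node (.node (.node (.node (.leaf 0x24719c2d) (.leaf 0x18005c2b)) (.node (.leaf 0x23779c2b) (.leaf 0x17a1dc2d))) (.node (.node (.leaf 0x16de5c2f) (.leaf 0x235b5c29)) (.node (.leaf 0x1b895c2b) (.leaf 0x0)))) (.node (.node (.node (.leaf 0x1ab59c2d) (.leaf 0x177adc2d)) (.node (.leaf 0x1e5b5c2d) (.leaf 0x1547dc29))) (.node (.node (.leaf 0x1ae79c2d) (.leaf 0x13795c2f)) (.node (.leaf 0x1c965c2f) (.leaf 0x0)))))))) (.node (.node (.node (.node (.node (.node (.node (.leaf 0x12f39c2b) (.leaf 0x125a1c2b)) (.node (.leaf 0x21c21c2d) (.leaf 0x25881c2f))) (.node (.node (.leaf 0x1b491c2d) (.leaf 0x211f1c2b)) (.node (.leaf 0x259d9c29) (.leaf 0x15891c2d)))) (.node (.node (.node (.leaf 0x1464dc2d) (.leaf 0x18471c2d)) (.node (.leaf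 0x1dbddc2b) (.leaf 0x8da1c2f))) (.node (.node (.leaf 0x22f29c2b) (.leaf 0x1cdadc2f)) (.node (.leaf 0x2454dc2b) (.leaf 0x0))))) (.node (.node (.node (.node (.leaf 0x2a1a9c29) (.leaf 0x1a0c9c2f)) (.node (.leaf 0x1873dc2d) (.leaf 0x17559c2f))) (.node (.node (.leaf 0x1a4e5c2f) (.leaf 0x1cac5c29)) (.node (.leaf 0x248fdc2f) (.leaf 0x21b3dc29)))) (.node (.node (.node (.leaf 0x154bdc2b) (.leaf 0x2a295c2f)) (.node (.leaf 0x19e45c29) (.leaf 0x143cdc2b))) (.node (.node (.leaf 0x1c6c9c29) (.leaf 0x203a5c2b)) (.node (.leaf 0x1dfc1c2f) (.leaf 0x0)))))) (.node (.node (.node (.node (.node (.leaf 0x1c365c2d) (.leaf 0x1c699c2f)) (.node (.leaf 0xc39dc2f) (.leaf 0x24631c29))) (.node (.node (.leaf 0x16b25c2d) (.leaf 0x22f7dc2d)) (.node (.leaf 0x25f89c2f) (.leaf 0x1e779c29)))) (.node (.node (.node (.leaf 0x16c65c2f) (.leaf 0x1b78dc2d)) (.node (.leaf 0x1deb1c29) (.leaf 0x1c7bdc2f)))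 (.node (.node (.leaf 0x1aa19c2d) (.leaf 0x1c6d5c29)) (.node (.leaf 0x209a1c29) (.leaf 0x0))))) (.node (.node (.node (.node (.leaf 0x14a91c2f) (.leaf 0x181e1c2d)) (.node (.leaf 0x264fdc29) (.leaf 0x1d36dc2f))) (.node (.node (.leaf 0x1db95c2d) (.leaf 0x1ed11c29)) (.node (.leaf 0x1c2c9c2d) (.leaf 0x0)))) (.node (.node (.node (.leaf 0x19821c2b) (.leaf 0x205b5c2f)) (.node (.leaf 0x1ae15c2b) (.leaf 0x20111c2d))) (.node (.node (.leaf 0x1cac9c2b) (.leaf 0x1f595c29)) (.node (.leaf 0x1818dc2b) (.leaf 0x0))))))) (.node (.node (.node (.node (.node (.node (.leaf 0x12721c2f) (.leaf 0x22195c2f)) (.node (.leaf 0x19981c2d) (.leaf 0x18ac1c29))) (.node (.node (.leaf 0x1aa3dc2f) (.leaf 0x18971c2b)) (.node (.leaf 0x21bcdc2f) (.leaf 0x14b61c29)))) (.node (.node (.node (.leaf 0x24fc9c2d) (.leaf 0x18bf5c2f)) (.node (.leaf 0x1caa1c2d) (.leaf 0x1a2c9c2d))) (.node (.node (.leaf 0x1d585c2f)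 (.leaf 0x25369c2d)) (.node (.leaf 0x1311dc2d) (.leaf 0x0))))) (.node (.node (.node (.node (.leaf 0x271e9c2d) (.leaf 0x25cb5c2d)) (.node (.leaf 0x1ae15c2f) (.leaf 0x1a021c2b))) (.node (.node (.leaf 0xea11c2f) (.leaf 0x1a961c2d)) (.node (.leaf 0x14b61c2b) (.leaf 0x1769dc2f)))) (.node (.node (.node (.leaf 0x20541c2f) (.leaf 0x185b9c29)) (.node (.leaf 0x1a9d5c2b) (.leaf 0x22fc5c29))) (.node (.node (.leaf 0x1d3ddc29) (.leaf 0x1c8ddc2d)) (.node (.leaf 0x20729c2d) (.leaf 0x0)))))) (.node (.node (.node (.node (.node (.leaf 0x1a361c2f) (.leaf 0x1de51c2d)) (.node (.leaf 0x1d039c2d) (.leaf 0xdbc5c2b))) (.node (.node (.leaf 0xa11dc29) (.leaf 0x14835c2f)) (.node (.leaf 0x22c7dc2f) (.leaf 0x1b97dc2d)))) (.node (.node (.node (.leaf 0x1cf31c2b) (.leaf 0x2707dc2b)) (.node (.leaf 0x12f0dc29) (.leaf 0x1a585c2f))) (.node (.node (.leaf 0x179d1c2d) (.leaf 0x8359c2f)) (.node (.leaf 0x1c6c1c2d)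 (.leaf 0x0))))) (.node (.node (.node (.node (.leaf 0xc4a9c29) (.leaf 0x29fe9c29)) (.node (.leaf 0x1eb65c2d) (.leaf 0x18da5c2f))) (.node (.node (.leaf 0x10eddc2d) (.leaf 0x195a1c29)) (.node (.leaf 0x187edc2f) (.leaf 0x0)))) (.node (.node (.node (.leaf 0x1e501c2b) (.leaf 0x26c39c2d)) (.node (.leaf 0x24f59c2d) (.leaf 0x14a2dc29))) (.node (.node (.leaf 0x1a2f9c2d) (.leaf 0x1d4b5c2b)) (.node (.leaf 0x180a1c29) (.leaf 0x0))))))))))

/-- packed table -/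
noncomputable def cov16_lrl : BTree := (.node (.node (.node (.node (.node (.node (.node (.node (.node (.leaf 0x189e1c2d) (.leaf 0x26f09c29)) (.node (.leaf 0x22c91c2d) (.leaf 0x1d3ddc2b))) (.node (.node (.leaf 0x22691c2f) (.leaf 0x201c5c2d)) (.node (.leaf 0x24f75c2d) (.leaf 0x1ce91c2f)))) (.node (.node (.node (.leaf 0x1ab11c2f) (.leaf 0x1a09dc2b)) (.node (.leaf 0x147e1c2d) (.leaf 0x1dbe1c2f))) (.node (.node (.leaf 0xb931c2d) (.leaf 0xc41dc2b)) (.node (.leaf 0x1f275c2b) (.leaf 0x0))))) (.node (.node (.node (.node (.leaf 0x1b9c9c29) (.leaf 0x21dedc29)) (.node (.leaf 0x15801c29) (.leaf 0x1dbf1c2b))) (.node (.node (.leaf 0x199d5c2f) (.leaf 0x192b1c2f)) (.node (.leaf 0x1f3a1c2f) (.leaf 0x822dc2f)))) (.node (.node (.node (.leaf 0x26e91c2d) (.leaf 0x1b851c2f)) (.node (.leaf 0x216f9c2f) (.leaf 0x1ebe5c2f))) (.node (.node (.leaf 0x14b59c2f) (.leaf 0xe99dc29)) (.node (.leaf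 0x1c69dc2d) (.leaf 0x0)))))) (.node (.node (.node (.node (.node (.leaf 0x20c51c2d) (.leaf 0x14071c2f)) (.node (.leaf 0x180c1c2f) (.leaf 0x26c85c2d))) (.node (.node (.leaf 0x16d51c29) (.leaf 0x19069c29)) (.node (.leaf 0x23129c2f) (.leaf 0x21b01c2b)))) (.node (.node (.node (.leaf 0x10df9c2d) (.leaf 0x1df9dc2f)) (.node (.leaf 0x1c2d5c2f) (.leaf 0x189b5c2f))) (.node (.node (.leaf 0x18475c29) (.leaf 0x25381c2d)) (.node (.leaf 0x18581c29) (.leaf 0x0))))) (.node (.node (.node (.node (.leaf 0x24f79c2f) (.leaf 0x1eab9c2f)) (.node (.leaf 0x1d10dc2f) (.leaf 0x1ed95c2d))) (.node (.node (.leaf 0x19db9c2f) (.leaf 0x1b575c2b)) (.node (.leaf 0x1a62dc2b) (.leaf 0x10ab9c29)))) (.node (.node (.node (.leaf 0x161e9c2d) (.leaf 0xc39dc29)) (.node (.leaf 0x25cb5c2f) (.leaf 0x1d8f5c2d))) (.node (.node (.leaf 0x1c365c29) (.leaf 0x2191dc2d)) (.node (.leaf 0x257d1c29) (.leaf 0x0))))))) (.node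 (.node (.node (.node (.node (.node (.leaf 0x1ae01c2d) (.leaf 0x22559c2b)) (.node (.leaf 0x98d5c2d) (.leaf 0x1480dc2b))) (.node (.node (.leaf 0x18789c29) (.leaf 0x22555c2f)) (.node (.leaf 0x1d0adc2b) (.leaf 0x1cea1c2f)))) (.node (.node (.node (.leaf 0x74f5c2d) (.leaf 0x1a84dc2d)) (.node (.leaf 0x19245c2d) (.leaf 0x14c15c2b))) (.node (.node (.leaf 0x229a1c2f) (.leaf 0x14c15c2f)) (.node (.leaf 0x2025dc2f) (.leaf 0x0))))) (.node (.node (.node (.node (.leaf 0x1ea09c2f) (.leaf 0x1a561c2d)) (.node (.leaf 0x169fdc2d) (.leaf 0x1f8f5c2f))) (.node (.node (.leaf 0x18785c2d) (.leaf 0x49f9c2b)) (.node (.leaf 0x23aadc29) (.leaf 0x18ac1c2d)))) (.node (.node (.node (.leaf 0x1f0f1c2d) (.leaf 0x120edc2b)) (.node (.leaf 0x2763dc2f) (.leaf 0x23565c29))) (.node (.node (.leaf 0x1aff9c2d) (.leaf 0x20ab1c2f)) (.node (.leaf 0x20245c2d) (.leaf 0x0)))))) (.node (.node (.node (.node (.node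 (.leaf 0x1d4b5c2d) (.leaf 0x1ab89c2f)) (.node (.leaf 0x2a141c2b) (.leaf 0xc9f1c2f))) (.node (.node (.leaf 0x22171c29) (.leaf 0x245f5c29)) (.node (.leaf 0x1df75c2f) (.leaf 0x232fdc2f)))) (.node (.node (.node (.leaf 0xe99dc2f) (.leaf 0x1d579c2f)) (.node (.leaf 0x18ce9c2d) (.leaf 0x2a52dc2b))) (.node (.node (.leaf 0x194fdc2d) (.leaf 0x234e9c2b)) (.node (.leaf 0x21a45c2f) (.leaf 0x0))))) (.node (.node (.node (.node (.leaf 0x1b011c29) (.leaf 0x16621c2f)) (.node (.leaf 0x264fdc2f) (.leaf 0x238f9c2f))) (.node (.node (.leaf 0x213f9c29) (.leaf 0x16d1dc29)) (.node (.leaf 0x1a2c9c2f) (.leaf 0x0)))) (.node (.node (.node (.leaf 0x1492dc2d) (.leaf 0x189ddc29)) (.node (.leaf 0x1ac89c2f) (.leaf 0x27111c2b))) (.node (.node (.leaf 0x1a5ddc29) (.leaf 0x1dbf1c2f)) (.node (.leaf 0x204d5c2f) (.leaf 0x0)))))))) (.node (.node (.node (.node (.node (.node (.node (.leaf 0x1dd41c2b) (.leaf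 0xc72dc2d)) (.node (.leaf 0x168d1c2f) (.leaf 0x2137dc29))) (.node (.node (.leaf 0x1eec9c2b) (.leaf 0x1d061c2f)) (.node (.leaf 0x1c77dc29) (.leaf 0x21509c2f)))) (.node (.node (.node (.leaf 0xedf1c29) (.leaf 0x1cfcdc2d)) (.node (.leaf 0x1c5cdc2d) (.leaf 0x1c5c9c2b))) (.node (.node (.leaf 0x245f5c2f) (.leaf 0x14919c29)) (.node (.leaf 0x23785c2d) (.leaf 0x0))))) (.node (.node (.node (.node (.leaf 0x2071dc2d) (.leaf 0x1b4d9c2d)) (.node (.leaf 0x1ee21c2f) (.leaf 0x142f9c2d))) (.node (.node (.leaf 0x1b13dc2f) (.leaf 0x26869c2f)) (.node (.leaf 0x20939c2b) (.leaf 0x26341c2f)))) (.node (.node (.node (.leaf 0xcdbdc2f) (.leaf 0x14f45c2f)) (.node (.leaf 0x1c9a5c2b) (.leaf 0xc2d1c2d))) (.node (.node (.leaf 0xf9a9c29) (.leaf 0x1ca09c2f)) (.node (.leaf 0x19669c2d) (.leaf 0x0)))))) (.node (.node (.node (.node (.node (.leaf 0xf58dc29) (.leaf 0x2b261c2d)) (.node (.leaf 0x18005c29)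 (.leaf 0x1ec81c2d))) (.node (.node (.leaf 0x15d75c2d) (.leaf 0x1070dc2d)) (.node (.leaf 0x23339c2d) (.leaf 0x1a389c29)))) (.node (.node (.node (.leaf 0x1cf99c2f) (.leaf 0x1b575c29)) (.node (.leaf 0x15641c29) (.leaf 0x26675c2d))) (.node (.node (.leaf 0x14b61c2d) (.leaf 0x21159c2d)) (.node (.leaf 0x219bdc2b) (.leaf 0x0))))) (.node (.node (.node (.node (.leaf 0x1a755c2d) (.leaf 0x25d9dc2f)) (.node (.leaf 0x20999c2f) (.leaf 0x29945c2f))) (.node (.node (.leaf 0x1a4edc2b) (.leaf 0x40f9c2d)) (.node (.leaf 0x18d8dc2d) (.leaf 0x1966dc2f)))) (.node (.node (.node (.leaf 0xe1ddc29) (.leaf 0x1f975c2b)) (.node (.leaf 0x1eab1c2b) (.leaf 0x143cdc29))) (.node (.node (.leaf 0x16621c2d) (.leaf 0x5515c2f)) (.node (.leaf 0x1de2dc2d) (.leaf 0x0))))))) (.node (.node (.node (.node (.node (.node (.leaf 0x147d9c2d) (.leaf 0x16815c2f)) (.node (.leaf 0x211c9c2f) (.leaf 0x1cfa9c29))) (.node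 (.node (.leaf 0x10311c2d) (.leaf 0x21045c2d)) (.node (.leaf 0x298d1c2d) (.leaf 0x21c3dc2d)))) (.node (.node (.node (.leaf 0x2539dc2f) (.leaf 0x18481c29)) (.node (.leaf 0x1d5cdc2f) (.leaf 0x25f99c2f))) (.node (.node (.leaf 0x17421c2d) (.leaf 0x182e1c2b)) (.node (.leaf 0x182e1c2d) (.leaf 0x0))))) (.node (.node (.node (.node (.leaf 0x1a8adc2d) (.leaf 0x1451dc2b)) (.node (.leaf 0x1c27dc29) (.leaf 0x20051c2b))) (.node (.node (.leaf 0x181fdc2d) (.leaf 0x1f705c29)) (.node (.leaf 0x204c1c2b) (.leaf 0x21ec5c2f)))) (.node (.node (.node (.leaf 0x19329c2d) (.leaf 0x16b25c2b)) (.node (.leaf 0x2250dc2b) (.leaf 0x2021dc2d))) (.node (.node (.leaf 0x263adc2d) (.leaf 0x1b7f1c2d)) (.node (.leaf 0x18df1c2b) (.leaf 0x0)))))) (.node (.node (.node (.node (.node (.leaf 0x29ed9c2b) (.leaf 0x229b9c29)) (.node (.leaf 0x1d99dc2b) (.leaf 0x1ac6dc2d))) (.node (.node (.leaf 0x22f81c2d) (.leaf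 0x216f5c29)) (.node (.leaf 0x22905c2d) (.leaf 0x1456dc2f)))) (.node (.node (.node (.leaf 0x1a8bdc2d) (.leaf 0x210e9c2b)) (.node (.leaf 0x20729c29) (.leaf 0x142f9c2f))) (.node (.node (.leaf 0x1a109c29) (.leaf 0x1e609c2b)) (.node (.leaf 0x1c225c2d) (.leaf 0x0))))) (.node (.node (.node (.node (.leaf 0x1616dc2d) (.leaf 0x1e399c29)) (.node (.leaf 0xd089c2b) (.leaf 0x11361c29))) (.node (.node (.leaf 0x4bc1c2d) (.leaf 0x13649c2d)) (.node (.leaf 0x2b44dc2f) (.leaf 0x0)))) (.node (.node (.node (.leaf 0x201f5c2f) (.leaf 0x1b2b1c2b)) (.node (.leaf 0x10ccdc2d) (.leaf 0x1e571c2d))) (.node (.node (.leaf 0x20cf9c2b) (.leaf 0x1b831c2b)) (.node (.leaf 0x14b15c2d) (.leaf 0x0))))))))) (.node (.node (.node (.node (.node (.node (.node (.node (.leaf 0x18a01c2f) (.leaf 0x239cdc2b)) (.node (.leaf 0x1eca5c2d) (.leaf 0x1657dc2d))) (.node (.node (.leaf 0x1af91c2d) (.leaf 0x1b769c2d)) (.node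 (.leaf 0x1f6a9c2d) (.leaf 0x14b15c2f)))) (.node (.node (.node (.leaf 0x14045c2d) (.leaf 0x25265c29)) (.node (.leaf 0x20725c2d) (.leaf 0x185b9c2b))) (.node (.node (.leaf 0x1cf99c2b) (.leaf 0x1ddfdc29)) (.node (.leaf 0x26255c2f) (.leaf 0x0))))) (.node (.node (.node (.node (.leaf 0x1ec59c2f) (.leaf 0x21b3dc2b)) (.node (.leaf 0x1eca5c29) (.leaf 0xb351c2d))) (.node (.node (.leaf 0x21711c2d) (.leaf 0x10a55c29)) (.node (.leaf 0x1f0c1c2b) (.leaf 0x1dbddc2f)))) (.node (.node (.node (.leaf 0x125a1c2d) (.leaf 0x211f1c29)) (.node (.leaf 0x21989c29) (.leaf 0x1b315c2b))) (.node (.node (.leaf 0xc065c2d) (.leaf 0xe6cdc2d)) (.node (.leaf 0x229ddc29) (.leaf 0x0)))))) (.node (.node (.node (.node (.node (.leaf 0x1e471c29) (.leaf 0x2743dc29)) (.node (.leaf 0x1cce5c2b) (.leaf 0x1dcddc2f))) (.node (.node (.leaf 0x188adc2f) (.leaf 0x1cfe1c2f)) (.node (.leaf 0x21241c2f) (.leaf 0x27045c2d))))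 (.node (.node (.node (.leaf 0x22061c2d) (.leaf 0x14071c2d)) (.node (.leaf 0x17685c2f) (.leaf 0x2de9dc2d))) (.node (.node (.leaf 0x299c5c29) (.leaf 0x22831c2f)) (.node (.leaf 0x14bf1c2d) (.leaf 0x0))))) (.node (.node (.node (.node (.leaf 0x49d9c2b) (.leaf 0x24e69c2f)) (.node (.leaf 0x1496dc2b) (.leaf 0x245a1c2b))) (.node (.node (.leaf 0xf625c2f) (.leaf 0x216f5c2b)) (.node (.leaf 0x13a7dc2b) (.leaf 0x21e71c2b)))) (.node (.node (.node (.leaf 0x1e1cdc2d) (.leaf 0xc441c2b)) (.node (.leaf 0x232fdc2d) (.leaf 0x14c11c2d))) (.node (.node (.leaf 0x1a639c2d) (.leaf 0x1caa9c2f)) (.node (.leaf 0x1bb0dc2d) (.leaf 0x0))))))) (.node (.node (.node (.node (.node (.node (.leaf 0x1a09dc2d) (.leaf 0x1f02dc2d)) (.node (.leaf 0xdbc5c29) (.leaf 0xe731c2d))) (.node (.node (.leaf 0x1879dc29) (.leaf 0x1b701c2d)) (.node (.leaf 0x21eedc2f) (.leaf 0x1c655c2d)))) (.node (.node (.node (.leaf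 0xb38dc2f) (.leaf 0x20f09c2f)) (.node (.leaf 0x15679c29) (.leaf 0x1c889c2f))) (.node (.node (.leaf 0x1cef5c29) (.leaf 0x1b6f9c2b)) (.node (.leaf 0x18005c2f) (.leaf 0x0))))) (.node (.node (.node (.node (.leaf 0x1c7e9c2d) (.leaf 0x22d55c29)) (.node (.leaf 0xc305c29) (.leaf 0x1c1d9c2d))) (.node (.node (.leaf 0x19275c29) (.leaf 0x22fc5c2b)) (.node (.leaf 0x26235c2f) (.leaf 0x21365c29)))) (.node (.node (.node (.leaf 0x26355c2d) (.leaf 0x1df39c2d)) (.node (.leaf 0x21181c2d) (.leaf 0x18235c2d))) (.node (.node (.leaf 0x1cfa9c2b) (.leaf 0x1ad4dc2f)) (.node (.leaf 0x1b2f5c2b) (.leaf 0x0)))))) (.node (.node (.node (.node (.node (.leaf 0x1504dc29) (.leaf 0x24905c2d)) (.node (.leaf 0x20245c2f) (.leaf 0x1ca05c2f))) (.node (.node (.leaf 0x183a9c2d) (.leaf 0x275ddc2b)) (.node (.leaf 0x194a9c2f) (.leaf 0x8161c2f)))) (.node (.node (.node (.leaf 0x1a7cdc2d) (.leaf 0x263b9c2d)) (.node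 (.leaf 0x229e9c2f) (.leaf 0x10e49c2f))) (.node (.node (.leaf 0x1f4f1c2b) (.leaf 0x1eab9c29)) (.node (.leaf 0x1ae01c2b) (.leaf 0x0))))) (.node (.node (.node (.node (.leaf 0x16411c2d) (.leaf 0x19549c2f)) (.node (.leaf 0x1a7a5c2d) (.leaf 0x181b1c2f))) (.node (.node (.leaf 0x19bf9c29) (.leaf 0x1083dc2d)) (.node (.leaf 0x26c85c2f) (.leaf 0x0)))) (.node (.node (.node (.leaf 0x14a51c2f) (.leaf 0x1a92dc2d)) (.node (.leaf 0x18ff9c2d) (.leaf 0x25e0dc2d))) (.node (.node (.leaf 0x185c1c2d) (.leaf 0x822dc2b)) (.node (.leaf 0x245e1c2f) (.leaf 0x0)))))))) (.node (.node (.node (.node (.node (.node (.node (.leaf 0x1e619c2f) (.leaf 0x2241dc2b)) (.node (.leaf 0x16ba9c2d) (.leaf 0x24039c2d))) (.node (.node (.leaf 0x26d65c2b) (.leaf 0x20721c29)) (.node (.leaf 0x274c1c2b) (.leaf 0x1e93dc2b)))) (.node (.node (.node (.leaf 0x1fa89c29) (.leaf 0x17839c29)) (.node (.leaf 0x1e279c29) (.leaf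 0x1d771c2d))) (.node (.node (.leaf 0x20dddc29) (.leaf 0x1400dc2d)) (.node (.leaf 0x142e5c2f) (.leaf 0x0))))) (.node (.node (.node (.node (.leaf 0x11afdc2b) (.leaf 0x1e651c2d)) (.node (.leaf 0x27119c29) (.leaf 0xdbc5c2f))) (.node (.node (.leaf 0x157c9c2b) (.leaf 0x1e4cdc2d)) (.node (.leaf 0x199d5c2d) (.leaf 0x26565c2d)))) (.node (.node (.node (.leaf 0x1ca35c2f) (.leaf 0x26efdc2d)) (.node (.leaf 0x15519c2b) (.leaf 0x2681dc2f))) (.node (.node (.leaf 0x2301dc2f) (.leaf 0xc831c2b)) (.node (.leaf 0x5515c2d) (.leaf 0x0)))))) (.node (.node (.node (.node (.node (.leaf 0x1d225c2d) (.leaf 0x1f595c2b)) (.node (.leaf 0x1d941c2f) (.leaf 0x1e455c29))) (.node (.node (.leaf 0x1879dc2f) (.leaf 0x26c95c29)) (.node (.leaf 0x19f65c2f) (.leaf 0x24631c2b)))) (.node (.node (.node (.leaf 0x137ddc2f) (.leaf 0x17b09c2f)) (.node (.leaf 0x26439c2d) (.leaf 0x23031c2d))) (.node (.node (.leaf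 0xce01c2d) (.leaf 0x16339c2b)) (.node (.leaf 0x1b7b1c2d) (.leaf 0x0))))) (.node (.node (.node (.node (.leaf 0x190f5c2f) (.leaf 0x1c209c2d)) (.node (.leaf 0x21e71c29) (.leaf 0x2d3d5c2b))) (.node (.node (.leaf 0x1d461c2f) (.leaf 0x26889c2f)) (.node (.leaf 0x26861c2f) (.leaf 0x0)))) (.node (.node (.node (.leaf 0x23101c2f) (.leaf 0x1f5d5c2b)) (.node (.leaf 0x1b991c2b) (.leaf 0x16959c2b))) (.node (.node (.leaf 0x1a361c2b) (.leaf 0x1ea51c29)) (.node (.leaf 0x201d5c29) (.leaf 0x0))))))) (.node (.node (.node (.node (.node (.node (.leaf 0xcba1c2b) (.leaf 0x1a69dc2f)) (.node (.leaf 0x1d1b1c2f) (.leaf 0x24e85c2d))) (.node (.node (.leaf 0x1da69c2d) (.leaf 0x255d5c2f)) (.node (.leaf 0x2e6e5c2d) (.leaf 0x196e5c2b)))) (.node (.node (.node (.leaf 0x1a51dc2b) (.leaf 0x16f65c29)) (.node (.leaf 0x1b835c2d) (.leaf 0x1d14dc2f))) (.node (.node (.leaf 0x14b01c29) (.leaf 0x2153dc2f))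 (.node (.leaf 0x2ada1c2f) (.leaf 0x0))))) (.node (.node (.node (.node (.leaf 0x23425c29) (.leaf 0x25c31c2d)) (.node (.leaf 0x1e4a1c2f) (.leaf 0x1ce89c2d))) (.node (.node (.leaf 0x1aa31c2f) (.leaf 0x175adc2f)) (.node (.leaf 0x204d5c2b) (.leaf 0x184fdc29)))) (.node (.node (.node (.leaf 0x1ad31c2b) (.leaf 0x1fb3dc29)) (.node (.leaf 0xf229c29) (.leaf 0x20255c2d))) (.node (.node (.leaf 0x1d225c29) (.leaf 0x1e7fdc2d)) (.node (.leaf 0x2065dc2b) (.leaf 0x0)))))) (.node (.node (.node (.node (.node (.leaf 0x1504dc2d) (.leaf 0x1192dc2d)) (.node (.leaf 0x18ff9c2f) (.leaf 0x23609c29))) (.node (.node (.leaf 0x192edc2f) (.leaf 0x1d295c2f)) (.node (.leaf 0x194f5c2f) (.leaf 0x22045c29)))) (.node (.node (.node (.leaf 0x1b14dc2f) (.leaf 0x6d59c2d)) (.node (.leaf 0x21efdc2f) (.leaf 0x1e829c29))) (.node (.node (.leaf 0x18199c29) (.leaf 0x1e189c29)) (.node (.leaf 0x1c89dc2f) (.leaf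 0x0))))) (.node (.node (.node (.node (.leaf 0x1f245c2f) (.leaf 0x21e09c29)) (.node (.leaf 0x1af5dc2d) (.leaf 0x2ba75c2f))) (.node (.node (.leaf 0x8bbdc2f) (.leaf 0x255a9c2b)) (.node (.leaf 0x25d49c2d) (.leaf 0x0)))) (.node (.node (.node (.leaf 0x1ae99c2d) (.leaf 0x22ca1c29)) (.node (.leaf 0x20f6dc2d) (.leaf 0x17a85c2f))) (.node (.node (.leaf 0x16689c2d) (.leaf 0x157fdc29)) (.node (.leaf 0x25fedc2d) (.leaf 0x0))))))))))

/-- packed table -/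
noncomputable def cov16_lrr : BTree := (.node (.node (.node (.node (.node (.node (.node (.node (.node (.leaf 0x1efc9c2f) (.leaf 0x1961dc2f)) (.node (.leaf 0x1df11c29) (.leaf 0x15131c29))) (.node (.node (.leaf 0xaa89c2d) (.leaf 0x1b729c2d)) (.node (.leaf 0x13695c2d) (.leaf 0x1646dc29)))) (.node (.node (.node (.leaf 0x8aedc2f) (.leaf 0x1a1b9c2b)) (.node (.leaf 0x209a1c2b) (.leaf 0x1d6adc2d))) (.node (.node (.leaf 0x1e15dc2b) (.leaf 0x180e1c2d)) (.node (.leaf 0x15fe1c2d) (.leaf 0x0))))) (.node (.node (.node (.node (.leaf 0x1d10dc29) (.leaf 0x1dd41c2f)) (.node (.leaf 0x10615c2d) (.leaf 0x25265c2b))) (.node (.node (.leaf 0x16b41c29) (.leaf 0x16735c29)) (.node (.leaf 0x25c75c2f) (.leaf 0x19dadc2d)))) (.node (.node (.node (.leaf 0x1e289c29) (.leaf 0x1b859c2f)) (.node (.leaf 0x1b87dc2d) (.leaf 0x1cb2dc2d))) (.node (.node (.leaf 0x19fd5c2d) (.leaf 0x18081c2b)) (.node (.leaf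 0x129e1c29) (.leaf 0x0)))))) (.node (.node (.node (.node (.node (.leaf 0x23959c2f) (.leaf 0x258f1c2f)) (.node (.leaf 0x20c61c2b) (.leaf 0x21cfdc2f))) (.node (.node (.leaf 0x129e1c2f) (.leaf 0x27759c2d)) (.node (.leaf 0x1d079c2f) (.leaf 0x17285c2d)))) (.node (.node (.node (.leaf 0x24711c2d) (.leaf 0x2458dc2f)) (.node (.leaf 0x12e09c2d) (.leaf 0x27a31c2f))) (.node (.node (.leaf 0x28ecdc2d) (.leaf 0x14221c2d)) (.node (.leaf 0x26229c2d) (.leaf 0x0))))) (.node (.node (.node (.node (.leaf 0x181fdc2f) (.leaf 0x222d5c2b)) (.node (.leaf 0x14981c2f) (.leaf 0x1b4e1c2f))) (.node (.node (.leaf 0x17811c2d) (.leaf 0x17495c2b)) (.node (.leaf 0x18fedc2b) (.leaf 0x175a9c2f)))) (.node (.node (.node (.leaf 0x20019c2b) (.leaf 0x1b5d1c29)) (.node (.leaf 0x1f3fdc2d) (.leaf 0x18c05c2d))) (.node (.node (.leaf 0x1e4c9c2d) (.leaf 0x29621c2d)) (.node (.leaf 0x1f8e1c2d) (.leaf 0x0))))))) (.node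 (.node (.node (.node (.node (.node (.leaf 0xc251c2d) (.leaf 0x1d345c2f)) (.node (.leaf 0xce15c2d) (.leaf 0x207b5c2b))) (.node (.node (.leaf 0x17499c2d) (.leaf 0x19bf9c2b)) (.node (.leaf 0x1ca49c2f) (.leaf 0x1d455c2d)))) (.node (.node (.node (.leaf 0xa5e9c2b) (.leaf 0x1f765c2f)) (.node (.leaf 0x1e409c2d) (.leaf 0x1109dc2d))) (.node (.node (.leaf 0x20169c2d) (.leaf 0x20241c2d)) (.node (.leaf 0x1c281c2f) (.leaf 0x0))))) (.node (.node (.node (.node (.leaf 0x29b69c2f) (.leaf 0x2118dc2d)) (.node (.leaf 0x22a05c2d) (.leaf 0x27a39c2f))) (.node (.node (.leaf 0x21fa1c2f) (.leaf 0x10af1c29)) (.node (.leaf 0x23ab9c29) (.leaf 0x1a00dc2d)))) (.node (.node (.node (.leaf 0x1932dc2b) (.leaf 0x1b801c2f)) (.node (.leaf 0x1f915c2b) (.leaf 0x183d9c2d))) (.node (.node (.leaf 0x22615c2f) (.leaf 0x1467dc2d)) (.node (.leaf 0x25d81c2f) (.leaf 0x0)))))) (.node (.node (.node (.node (.node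 (.leaf 0x14075c2f) (.leaf 0x26b85c2f)) (.node (.leaf 0x1c029c2f) (.leaf 0x1f2f1c2f))) (.node (.node (.leaf 0x1e9b1c29) (.leaf 0x16f35c2f)) (.node (.leaf 0x19f6dc2f) (.leaf 0x1ba9dc2d)))) (.node (.node (.node (.leaf 0x23aadc2f) (.leaf 0x2e149c2d)) (.node (.leaf 0x1ebd9c29) (.leaf 0x1a649c29))) (.node (.node (.leaf 0x74f5c2b) (.leaf 0x2181dc2d)) (.node (.leaf 0x1424dc2d) (.leaf 0x0))))) (.node (.node (.node (.node (.leaf 0x212bdc2f) (.leaf 0x1a639c2f)) (.node (.leaf 0x29ab1c2f) (.leaf 0x1961dc2d))) (.node (.node (.leaf 0x15115c2f) (.leaf 0x16995c2b)) (.node (.leaf 0x1b89dc2b) (.leaf 0x0)))) (.node (.node (.node (.leaf 0x20a65c2f) (.leaf 0x231bdc2b)) (.node (.leaf 0x241f9c29) (.leaf 0x211f5c2f))) (.node (.node (.leaf 0x1ad85c2f) (.leaf 0x26259c2f)) (.node (.leaf 0x20695c2f) (.leaf 0x0)))))))) (.node (.node (.node (.node (.node (.node (.node (.leaf 0x1033dc2d) (.leaf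 0x15f41c2b)) (.node (.leaf 0x23385c29) (.leaf 0x1f57dc2b))) (.node (.node (.leaf 0x1ebadc2f) (.leaf 0x19405c29)) (.node (.leaf 0x25d89c2b) (.leaf 0x16411c2f)))) (.node (.node (.node (.leaf 0x1ce79c2f) (.leaf 0x1ac11c2b)) (.node (.leaf 0x22045c2b) (.leaf 0x187a9c2b))) (.node (.node (.leaf 0x1cd89c2d) (.leaf 0x1b561c29)) (.node (.leaf 0x222fdc29) (.leaf 0x0))))) (.node (.node (.node (.node (.leaf 0xead9c2b) (.leaf 0x2021dc2b)) (.node (.leaf 0x25459c2d) (.leaf 0x1eb0dc29))) (.node (.node (.leaf 0x110a1c2b) (.leaf 0x1dff5c2f)) (.node (.leaf 0x1490dc2f) (.leaf 0x1c8e5c29)))) (.node (.node (.node (.leaf 0x1decdc29) (.leaf 0x1f539c2f)) (.node (.leaf 0x217b1c2d) (.leaf 0x18471c2b))) (.node (.node (.leaf 0x19c69c2b) (.leaf 0x247d1c2f)) (.node (.leaf 0x1c36) (.leaf 0x0)))))) (.node (.node (.node (.node (.node (.leaf 0x1b991c2d) (.leaf 0x1e839c2d)) (.node (.leaf 0x1c041c29)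 (.leaf 0x2b16dc2f))) (.node (.node (.leaf 0x1f085c2d) (.leaf 0x139e1c2f)) (.node (.leaf 0x26069c2f) (.leaf 0x1cdedc2f)))) (.node (.node (.node (.leaf 0x20dd1c2b) (.leaf 0x1d559c2f)) (.node (.leaf 0x19e81c29) (.leaf 0x10099c2b))) (.node (.node (.leaf 0x15fa5c2f) (.leaf 0x1c38)) (.node (.leaf 0x22851c29) (.leaf 0x0))))) (.node (.node (.node (.node (.leaf 0x5e59c2b) (.leaf 0x201e5c2d)) (.node (.leaf 0x1a109c2b) (.leaf 0x1b21dc2f))) (.node (.node (.leaf 0x10af9c2b) (.leaf 0x14a2dc2b)) (.node (.leaf 0x220b5c2f) (.leaf 0x0)))) (.node (.node (.node (.leaf 0x1d2d5c2f) (.leaf 0x1e7d5c2d)) (.node (.leaf 0x148c9c2b) (.leaf 0x21699c2d))) (.node (.node (.leaf 0x217cdc29) (.leaf 0x2b549c2d)) (.node (.leaf 0x21da5c2f) (.leaf 0x0))))))) (.node (.node (.node (.node (.node (.node (.leaf 0x2097dc2d) (.leaf 0x22285c2d)) (.node (.leaf 0x17495c29) (.leaf 0x1bad9c2d))) (.node (.node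 (.leaf 0x22dedc2f) (.leaf 0x1506dc2d)) (.node (.leaf 0x190fdc2f) (.leaf 0x22d55c2f)))) (.node (.node (.node (.leaf 0x25ed5c2f) (.leaf 0x1ea51c2b)) (.node (.leaf 0x22d41c29) (.leaf 0x157fdc2b))) (.node (.node (.leaf 0x20961c29) (.leaf 0x17711c2b)) (.node (.leaf 0x21811c29) (.leaf 0x0))))) (.node (.node (.node (.node (.leaf 0x1f461c2f) (.leaf 0x1f8e9c2d)) (.node (.leaf 0x23129c29) (.leaf 0x20465c2b))) (.node (.node (.leaf 0x12a1dc2f) (.leaf 0x98d5c2f)) (.node (.leaf 0x1e7ddc2f) (.leaf 0x1451dc29)))) (.node (.node (.node (.leaf 0x24529c2d) (.leaf 0x1b845c2b)) (.node (.leaf 0x10099c2d) (.leaf 0x1f7e1c2d))) (.node (.node (.leaf 0x1afe9c2d) (.leaf 0x1b271c2b)) (.node (.leaf 0x27b05c2f) (.leaf 0x0)))))) (.node (.node (.node (.node (.node (.leaf 0x1818dc2d) (.leaf 0x5e59c2d)) (.node (.leaf 0xf9b1c2d) (.leaf 0x275fdc29))) (.node (.node (.leaf 0x1c44) (.leaf 0x196ddc29))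 (.node (.leaf 0x21b3dc2f) (.leaf 0x10ccdc2f)))) (.node (.node (.node (.leaf 0x21325c2d) (.leaf 0x1b7f1c2f)) (.node (.leaf 0x2126dc2d) (.leaf 0x20dd1c2f))) (.node (.node (.leaf 0x1c621c2f) (.leaf 0x6d59c29)) (.node (.leaf 0x183c9c2d) (.leaf 0x0))))) (.node (.node (.node (.node (.leaf 0x17731c2b) (.leaf 0x15131c2d)) (.node (.leaf 0x184fdc2b) (.leaf 0x1f4ddc2f))) (.node (.node (.leaf 0x49d9c2f) (.leaf 0x1abb9c2d)) (.node (.leaf 0x1d841c2f) (.leaf 0x0)))) (.node (.node (.node (.leaf 0x10e29c2d) (.leaf 0x1e751c2f)) (.node (.leaf 0x2a135c2d) (.leaf 0x14455c29))) (.node (.node (.leaf 0x1d061c2b) (.leaf 0x2ced5c2f)) (.node (.leaf 0x21e11c2d) (.leaf 0x0))))))))) (.node (.node (.node (.node (.node (.node (.node (.node (.leaf 0x20171c2d) (.leaf 0x20f9dc2f)) (.node (.leaf 0x1a5cdc29) (.leaf 0x1afe9c2f))) (.node (.node (.leaf 0x23571c29) (.leaf 0x1ad19c2d)) (.node (.leaf 0x19ee5c2f)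 (.leaf 0x12c61c2d)))) (.node (.node (.node (.leaf 0x1c501c2f) (.leaf 0x22099c29)) (.node (.leaf 0x201d5c2d) (.leaf 0x15801c2b))) (.node (.node (.leaf 0x1bb19c2f) (.leaf 0x221b5c2d)) (.node (.leaf 0x1b8b1c2f) (.leaf 0x0))))) (.node (.node (.node (.node (.leaf 0x1ea95c29) (.leaf 0x23061c29)) (.node (.leaf 0x22179c2b) (.leaf 0x1683dc2d))) (.node (.node (.leaf 0x1492dc29) (.leaf 0x18afdc2d)) (.node (.leaf 0x1c4b9c29) (.leaf 0x20549c29)))) (.node (.node (.node (.leaf 0x1adcdc2b) (.leaf 0x14cbdc29)) (.node (.leaf 0x18e3dc2b) (.leaf 0x1ae7dc2f))) (.node (.node (.leaf 0x1ad21c2f) (.leaf 0x1b551c2b)) (.node (.leaf 0x20dddc2b) (.leaf 0x0)))))) (.node (.node (.node (.node (.node (.leaf 0x1c53dc2d) (.leaf 0x29621c2f)) (.node (.leaf 0x1e5b5c2f) (.leaf 0x29259c29))) (.node (.node (.leaf 0x1ca15c2f) (.leaf 0x1ca85c29)) (.node (.leaf 0x1cd1dc2d) (.leaf 0xcdbdc2b)))) (.node (.node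 (.node (.leaf 0x1cb49c2f) (.leaf 0x26b01c2f)) (.node (.leaf 0x18731c2d) (.leaf 0x1af5dc2f))) (.node (.node (.leaf 0x1abb9c29) (.leaf 0x2638dc29)) (.node (.leaf 0x13269c29) (.leaf 0x0))))) (.node (.node (.node (.node (.leaf 0x1929dc2d) (.leaf 0x13775c2f)) (.node (.leaf 0x151ddc2b) (.leaf 0x1c89dc29))) (.node (.node (.leaf 0x190fdc29) (.leaf 0x1ca49c2b)) (.node (.leaf 0x21d15c2d) (.leaf 0x19669c2f)))) (.node (.node (.node (.leaf 0x2f3e5c29) (.leaf 0x18709c2d)) (.node (.leaf 0x25221c2d) (.leaf 0x1af3dc2b))) (.node (.node (.leaf 0x23a11c29) (.leaf 0xefa9c2f)) (.node (.leaf 0x1ad19c2b) (.leaf 0x0))))))) (.node (.node (.node (.node (.node (.node (.leaf 0x130a9c2b) (.leaf 0x1b87dc29)) (.node (.leaf 0x179d9c2b) (.leaf 0x21a95c29))) (.node (.node (.leaf 0x245e1c2d) (.leaf 0x213f9c2b)) (.node (.leaf 0x2a10dc2d) (.leaf 0x21de9c2b)))) (.node (.node (.node (.leaf 0x19f65c2d)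 (.leaf 0x1ad31c29)) (.node (.leaf 0x14a95c2d) (.leaf 0x12709c2d))) (.node (.node (.leaf 0x21e85c2b) (.leaf 0x26239c2f)) (.node (.leaf 0x1d585c2d) (.leaf 0x0))))) (.node (.node (.node (.node (.leaf 0x22bddc2d) (.leaf 0x226e1c2f)) (.node (.leaf 0x149edc2d) (.leaf 0x22701c2d))) (.node (.node (.leaf 0xedf1c2f) (.leaf 0x1ab59c2f)) (.node (.leaf 0x1f9bdc2d) (.leaf 0x1deb1c2f)))) (.node (.node (.node (.leaf 0x19635c2d) (.leaf 0x19595c2d)) (.node (.leaf 0x267e9c2f) (.leaf 0x199a5c2f))) (.node (.node (.leaf 0x210cdc2b) (.leaf 0x1e6f1c2d)) (.node (.leaf 0x2add5c2b) (.leaf 0x0)))))) (.node (.node (.node (.node (.node (.leaf 0x24a21c29) (.leaf 0x16695c2d)) (.node (.leaf 0x20939c29) (.leaf 0x1a3c5c2d))) (.node (.node (.leaf 0x27021c2d) (.leaf 0x1d6cdc2d)) (.node (.leaf 0x1f3f9c2d) (.leaf 0x1d3adc29)))) (.node (.node (.node (.leaf 0x15679c2f) (.leaf 0x21c3dc2f)) (.node (.leaf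 0x20b71c2b) (.leaf 0x1e6f9c2d))) (.node (.node (.leaf 0xf92dc29) (.leaf 0x2239dc29)) (.node (.leaf 0x17a1dc2f) (.leaf 0x0))))) (.node (.node (.node (.node (.leaf 0x19445c29) (.leaf 0x22309c2b)) (.node (.leaf 0x1eb61c2d) (.leaf 0x19a85c29))) (.node (.node (.leaf 0x10bd1c2f) (.leaf 0x14835c2d)) (.node (.leaf 0x29259c2b) (.leaf 0x0)))) (.node (.node (.node (.leaf 0x1c871c2b) (.leaf 0xf4d1c2f)) (.node (.leaf 0x25de1c29) (.leaf 0x1d791c2f))) (.node (.node (.leaf 0x23abdc2b) (.leaf 0x237a1c2f)) (.node (.leaf 0x174adc2d) (.leaf 0x0)))))))) (.node (.node (.node (.node (.node (.node (.node (.leaf 0x10775c29) (.leaf 0x20dd9c2b)) (.node (.leaf 0x18f5dc2f) (.leaf 0x10615c2f))) (.node (.node (.leaf 0xc781c29) (.leaf 0x1b87dc2b)) (.node (.leaf 0x25a05c29) (.leaf 0x6d59c2f)))) (.node (.node (.node (.leaf 0x17559c2d) (.leaf 0x1339dc2d)) (.node (.leaf 0x207c1c2d) (.leaf 0x1e15dc29)))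 (.node (.node (.leaf 0x1973dc2d) (.leaf 0x22bc5c2b)) (.node (.leaf 0x1c265c2f) (.leaf 0x0))))) (.node (.node (.node (.node (.leaf 0x2619dc29) (.leaf 0x18a69c2d)) (.node (.leaf 0x1f639c29) (.leaf 0x27a35c2f))) (.node (.node (.leaf 0x25ee9c2f) (.leaf 0x18afdc29)) (.node (.leaf 0x188f5c2f) (.leaf 0x22c41c2d)))) (.node (.node (.node (.leaf 0x21779c2d) (.leaf 0x14629c2b)) (.node (.leaf 0x11ff9c2f) (.leaf 0x1c445c2b))) (.node (.node (.leaf 0x1bb2dc2f) (.leaf 0x15e19c2d)) (.node (.leaf 0x20f09c2d) (.leaf 0x0)))))) (.node (.node (.node (.node (.node (.leaf 0x171cdc2b) (.leaf 0x1eb61c2f)) (.node (.leaf 0x25465c2d) (.leaf 0x1fb21c29))) (.node (.node (.leaf 0x1a32dc2f) (.leaf 0x204d1c29)) (.node (.leaf 0x259a1c29) (.leaf 0x19ce1c2d)))) (.node (.node (.node (.leaf 0x2601dc29) (.leaf 0x1ac49c2f)) (.node (.leaf 0x1adcdc29) (.leaf 0x292fdc2f))) (.node (.node (.leaf 0x16095c29)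 (.leaf 0x26801c2f)) (.node (.leaf 0x1b88dc2d) (.leaf 0x0))))) (.node (.node (.node (.node (.leaf 0x232f9c2d) (.leaf 0x20219c2d)) (.node (.leaf 0x1c415c29) (.leaf 0x22915c29))) (.node (.node (.leaf 0x1d999c29) (.leaf 0x227f9c2f)) (.node (.leaf 0x22981c2f) (.leaf 0x0)))) (.node (.node (.node (.leaf 0x1d839c2b) (.leaf 0x195a5c2d)) (.node (.leaf 0x1d10dc2b) (.leaf 0x1e419c2f))) (.node (.node (.leaf 0x217edc2f) (.leaf 0x23ab9c2b)) (.node (.leaf 0x12d91c29) (.leaf 0x0))))))) (.node (.node (.node (.node (.node (.node (.leaf 0x1c40) (.leaf 0x23149c2d)) (.node (.leaf 0x1c1d9c2b) (.leaf 0xd835c2d))) (.node (.node (.leaf 0x19a4dc2d) (.leaf 0x238b5c2d)) (.node (.leaf 0x1b465c2f) (.leaf 0x1de2dc2f)))) (.node (.node (.node (.leaf 0x21905c29) (.leaf 0x26a65c2b)) (.node (.leaf 0x195d1c2b) (.leaf 0x1cd89c29))) (.node (.node (.leaf 0x1d58dc2f) (.leaf 0x1a8d9c2b)) (.node (.leaf 0x2619dc2d)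 (.leaf 0x0))))) (.node (.node (.node (.node (.leaf 0x12ac1c29) (.leaf 0x16ba5c2b)) (.node (.leaf 0x1f5cdc29) (.leaf 0x1caa9c2d))) (.node (.node (.leaf 0xc441c2f) (.leaf 0x19c15c2f)) (.node (.leaf 0x1f6adc2d) (.leaf 0x264c1c29)))) (.node (.node (.node (.leaf 0x27addc2f) (.leaf 0x1b4e1c2d)) (.node (.leaf 0x1e9d1c2f) (.leaf 0x15695c2d))) (.node (.node (.leaf 0x2050dc29) (.leaf 0x1b729c2b)) (.node (.leaf 0x15f0dc2f) (.leaf 0x0)))))) (.node (.node (.node (.node (.node (.leaf 0x204c1c2d) (.leaf 0x19e3dc2d)) (.node (.leaf 0xf7f5c2d) (.leaf 0x226e1c2d))) (.node (.node (.leaf 0x1c94) (.leaf 0x112a9c2f)) (.node (.leaf 0x20355c29) (.leaf 0x1424dc2f)))) (.node (.node (.node (.leaf 0x2379dc29) (.leaf 0x1aeadc2d)) (.node (.leaf 0x1f02dc29) (.leaf 0x113c9c2d))) (.node (.node (.leaf 0xdb0dc2d) (.leaf 0x23191c2d)) (.node (.leaf 0x1c6b5c2d) (.leaf 0x0))))) (.node (.node (.node (.node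 (.leaf 0x1af3dc29) (.leaf 0x1d491c2f)) (.node (.leaf 0x1cb49c2d) (.leaf 0x1879dc2b))) (.node (.node (.leaf 0x1f721c2f) (.leaf 0x140b9c2d)) (.node (.leaf 0x174adc2f) (.leaf 0x0)))) (.node (.node (.node (.leaf 0x80bdc2b) (.leaf 0x1e779c2b)) (.node (.leaf 0x1e4f1c2f) (.leaf 0x1dd01c2d))) (.node (.node (.leaf 0x16b25c29) (.leaf 0x1525dc2b)) (.node (.leaf 0xe99dc2b) (.leaf 0x0))))))))))

/-- packed table -/
noncomputable def cov16_rll : BTree := (.node (.node (.node (.node (.node (.node (.node (.node (.node (.leaf 0x148d5c2f) (.leaf 0x18671c2d)) (.node (.leaf 0x19af5c2d) (.leaf 0x1d225c2b))) (.node (.node (.leaf 0x23a81c2d) (.leaf 0x219bdc29)) (.node (.leaf 0x24f55c2d) (.leaf 0x20e95c2d)))) (.node (.node (.node (.leaf 0x195a1c2b) (.leaf 0x1547dc2f)) (.node (.leaf 0x15f0dc2d) (.leaf 0x188d1c2b))) (.node (.node (.leaf 0x178adc2b) (.leaf 0x140c5c2d)) (.node (.leaf 0x2a5e5c2f)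 (.leaf 0x0))))) (.node (.node (.node (.node (.leaf 0x20ca9c2d) (.leaf 0x21d2dc2f)) (.node (.leaf 0x21a39c2f) (.leaf 0x24b8dc2d))) (.node (.node (.leaf 0x19245c2f) (.leaf 0x1ddfdc2d)) (.node (.leaf 0x213b9c2d) (.leaf 0x1b89dc2d)))) (.node (.node (.node (.leaf 0x1f1b9c2d) (.leaf 0x23865c2f)) (.node (.leaf 0x18199c2f) (.leaf 0x229e9c2b))) (.node (.node (.leaf 0x18ec5c2f) (.leaf 0xf635c2b)) (.node (.leaf 0x206a5c2d) (.leaf 0x0)))))) (.node (.node (.node (.node (.node (.leaf 0x187d5c2b) (.leaf 0x14cd1c2f)) (.node (.leaf 0x20229c2f) (.leaf 0x20669c2f))) (.node (.node (.leaf 0x21a51c2d) (.leaf 0x1d079c29)) (.node (.leaf 0x1db6dc2d) (.leaf 0x1cfb1c29)))) (.node (.node (.node (.leaf 0x270cdc2f) (.leaf 0x8161c2d)) (.node (.leaf 0x1c43dc2f) (.leaf 0x156d9c2b))) (.node (.node (.leaf 0x246cdc29) (.leaf 0x19529c2f)) (.node (.leaf 0x20891c29) (.leaf 0x0))))) (.node (.node (.node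 (.node (.leaf 0xa5e9c2d) (.leaf 0x192b9c29)) (.node (.leaf 0x25501c29) (.leaf 0x248c5c2b))) (.node (.node (.leaf 0x1b3b1c29) (.leaf 0x22659c2f)) (.node (.leaf 0x19e81c2b) (.leaf 0x21bd9c2f)))) (.node (.node (.node (.leaf 0x20e71c2d) (.leaf 0x1e6b9c2b)) (.node (.leaf 0x1c3bdc2d) (.leaf 0x1a8adc2f))) (.node (.node (.leaf 0x10021c29) (.leaf 0x173d1c2d)) (.node (.leaf 0x1b3a5c2d) (.leaf 0x0))))))) (.node (.node (.node (.node (.node (.node (.leaf 0x1b935c2f) (.leaf 0x1a401c29)) (.node (.leaf 0x12f0dc2b) (.leaf 0x1b5c1c2d))) (.node (.node (.leaf 0x1b235c2b) (.leaf 0x20721c2d)) (.node (.leaf 0x20689c2b) (.leaf 0x18665c2d)))) (.node (.node (.node (.leaf 0x1ae75c2f) (.leaf 0x1e0d5c2d)) (.node (.leaf 0x1d191c2f) (.leaf 0x19eddc2f))) (.node (.node (.leaf 0x18645c2f) (.leaf 0x22bc1c2b)) (.node (.leaf 0x20539c2b) (.leaf 0x0))))) (.node (.node (.node (.node (.leaf 0x1c771c2f)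 (.leaf 0x1dbddc29)) (.node (.leaf 0x9e69c2b) (.leaf 0x11171c2b))) (.node (.node (.leaf 0x18f7dc2f) (.leaf 0x183a1c2b)) (.node (.leaf 0x15015c2f) (.leaf 0x11b41c29)))) (.node (.node (.node (.leaf 0x1dee1c29) (.leaf 0x258cdc29)) (.node (.leaf 0x1fb3dc2d) (.leaf 0x13b45c2f))) (.node (.node (.leaf 0x22981c2b) (.leaf 0x11ff9c2d)) (.node (.leaf 0x1cd71c2d) (.leaf 0x0)))))) (.node (.node (.node (.node (.node (.leaf 0x12d91c2b) (.leaf 0x24679c2d)) (.node (.leaf 0x21471c2d) (.leaf 0x20019c29))) (.node (.node (.leaf 0x188adc2b) (.leaf 0x1a0ddc2f)) (.node (.leaf 0x25f69c2f) (.leaf 0x232c1c29)))) (.node (.node (.node (.leaf 0x222adc2b) (.leaf 0x15bf5c2f)) (.node (.leaf 0x1abbdc29) (.leaf 0x293c5c2b))) (.node (.node (.leaf 0x1df05c2b) (.leaf 0x16949c29)) (.node (.leaf 0x25a49c2f) (.leaf 0x0))))) (.node (.node (.node (.node (.leaf 0x23abdc29) (.leaf 0x1d391c2f)) (.node (.leaf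 0xf9a9c2b) (.leaf 0x1f0f1c2f))) (.node (.node (.leaf 0x14c5dc29) (.leaf 0x21ac5c2b)) (.node (.leaf 0x1d8a5c29) (.leaf 0x0)))) (.node (.node (.node (.leaf 0x16b41c2d) (.leaf 0x1b7e9c2f)) (.node (.leaf 0x116e9c2f) (.leaf 0x1f765c2d))) (.node (.node (.leaf 0x19209c2d) (.leaf 0x1b701c2b)) (.node (.leaf 0x184e5c2f) (.leaf 0x0)))))))) (.node (.node (.node (.node (.node (.node (.node (.leaf 0x1042dc2b) (.leaf 0x1cce5c2f)) (.node (.leaf 0x1ced1c2d) (.leaf 0x20d45c2d))) (.node (.node (.leaf 0x26b91c2f) (.leaf 0x1f9a5c2f)) (.node (.leaf 0xe1ddc2b) (.leaf 0x16c65c2d)))) (.node (.node (.node (.leaf 0x1a5bdc2f) (.leaf 0x1b831c29)) (.node (.leaf 0x171cdc2d) (.leaf 0x1c885c2d))) (.node (.node (.leaf 0x140cdc2f) (.leaf 0x27035c2d)) (.node (.leaf 0x260f1c29) (.leaf 0x0))))) (.node (.node (.node (.node (.leaf 0x1d2d5c2b) (.leaf 0x1f9b5c29)) (.node (.leaf 0x16095c2b) (.leaf 0x1b755c29)))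 (.node (.node (.leaf 0x263fdc2f) (.leaf 0x2a4f5c2d)) (.node (.leaf 0x1ccfdc29) (.leaf 0x259a1c2f)))) (.node (.node (.node (.leaf 0x14919c2b) (.leaf 0x2239dc2d)) (.node (.leaf 0x11965c29) (.leaf 0x2165dc2d))) (.node (.node (.leaf 0x1013dc2d) (.leaf 0x23059c2f)) (.node (.leaf 0x161d1c2f) (.leaf 0x0)))))) (.node (.node (.node (.node (.node (.leaf 0x185b1c2f) (.leaf 0x27251c2d)) (.node (.leaf 0x1c929c29) (.leaf 0x1b895c29))) (.node (.node (.leaf 0x1ce75c2f) (.leaf 0x1d12dc2d)) (.node (.leaf 0x26f79c2f) (.leaf 0x14079c2d)))) (.node (.node (.node (.leaf 0x15c8dc29) (.leaf 0x1c401c2d)) (.node (.leaf 0x237b9c29) (.leaf 0x22f4dc2f))) (.node (.node (.leaf 0x1d3adc2d) (.leaf 0x24aa5c2f)) (.node (.leaf 0x29a2dc2f) (.leaf 0x0))))) (.node (.node (.node (.node (.leaf 0x18709c2b) (.leaf 0x1c3bdc29)) (.node (.leaf 0x18c35c2b) (.leaf 0x21775c2d))) (.node (.node (.leaf 0x18ad5c2d)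 (.leaf 0x177edc29)) (.node (.leaf 0x21851c2d) (.leaf 0xc2d1c2f)))) (.node (.node (.node (.leaf 0x1e1f9c29) (.leaf 0x1e7ddc2d)) (.node (.leaf 0x278c9c29) (.leaf 0x19c69c2f))) (.node (.node (.leaf 0x13725c2b) (.leaf 0x1af9dc2f)) (.node (.leaf 0x22385c29) (.leaf 0x0))))))) (.node (.node (.node (.node (.node (.node (.leaf 0x10821c29) (.leaf 0x182bdc2b)) (.node (.leaf 0x1a021c29) (.leaf 0x1ced9c2b))) (.node (.node (.leaf 0x208edc2d) (.leaf 0x2828dc29)) (.node (.leaf 0x2a91dc29) (.leaf 0x1c931c2f)))) (.node (.node (.node (.leaf 0x29f7dc2d) (.leaf 0x24efdc2f)) (.node (.leaf 0xd285c2d) (.leaf 0x1d9e9c2b))) (.node (.node (.leaf 0x1b801c2d) (.leaf 0x1c9e9c2f)) (.node (.leaf 0x22309c2f) (.leaf 0x0))))) (.node (.node (.node (.node (.leaf 0x1ae7dc2b) (.leaf 0x26b29c2d)) (.node (.leaf 0x1e455c2b) (.leaf 0x1402dc29))) (.node (.node (.leaf 0x1aa35c2f) (.leaf 0x1c969c2f)) (.node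 (.leaf 0x1fb49c2f) (.leaf 0x17711c2d)))) (.node (.node (.node (.leaf 0x19331c2b) (.leaf 0xfa09c2b)) (.node (.leaf 0x220bdc2b) (.leaf 0x2170dc2d))) (.node (.node (.leaf 0x140b9c2f) (.leaf 0x23971c2d)) (.node (.leaf 0x1ee55c2b) (.leaf 0x0)))))) (.node (.node (.node (.node (.node (.leaf 0x1e951c2b) (.leaf 0x29d8dc2f)) (.node (.leaf 0x22245c2f) (.leaf 0x25c59c2f))) (.node (.node (.leaf 0x29569c2d) (.leaf 0xf229c2b)) (.node (.leaf 0x25299c2d) (.leaf 0x1d2d5c29)))) (.node (.node (.node (.leaf 0x1d255c2d) (.leaf 0x20725c29)) (.node (.leaf 0x25729c2d) (.leaf 0x20d35c2f))) (.node (.node (.leaf 0x19fb9c29) (.leaf 0x20035c29)) (.node (.leaf 0x1ce81c2f) (.leaf 0x0))))) (.node (.node (.node (.node (.leaf 0x19f95c2d) (.leaf 0x16ba5c29)) (.node (.leaf 0x25db5c2f) (.leaf 0x1cb2dc2b))) (.node (.node (.leaf 0x103ddc29) (.leaf 0x1ee3dc2f)) (.node (.leaf 0xb351c2f) (.leaf 0x0))))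 (.node (.node (.node (.leaf 0x10321c2b) (.leaf 0x173d1c29)) (.node (.leaf 0x21649c2f) (.leaf 0x21431c2b))) (.node (.node (.leaf 0x1b749c2d) (.leaf 0x1dff5c2d)) (.node (.leaf 0x21309c2f) (.leaf 0x0))))))))) (.node (.node (.node (.node (.node (.node (.node (.node (.leaf 0x2502dc2b) (.leaf 0x1873dc29)) (.node (.leaf 0x2241dc29) (.leaf 0x1810dc2f))) (.node (.node (.leaf 0x130a9c29) (.leaf 0x1eecdc2f)) (.node (.leaf 0x27119c2f) (.leaf 0x20c75c29)))) (.node (.node (.node (.leaf 0x19531c2f) (.leaf 0x2533dc2f)) (.node (.leaf 0x22849c2b) (.leaf 0x1d525c2d))) (.node (.node (.leaf 0x1cf69c2f) (.leaf 0x1cfa9c2d)) (.node (.leaf 0x25615c2d) (.leaf 0x0))))) (.node (.node (.node (.node (.leaf 0x1b5c9c29) (.leaf 0x21d1dc2f)) (.node (.leaf 0x194d1c2d) (.leaf 0x2a185c29))) (.node (.node (.leaf 0x1951dc2b) (.leaf 0xc7f9c2f)) (.node (.leaf 0x22d41c2b) (.leaf 0x1cf41c2b)))) (.node (.node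 (.node (.leaf 0x20c61c29) (.leaf 0x22c91c2b)) (.node (.leaf 0x197adc2d) (.leaf 0xb879c29))) (.node (.node (.leaf 0x19dbdc29) (.leaf 0x1e6b5c2d)) (.node (.leaf 0x21829c2d) (.leaf 0x0)))))) (.node (.node (.node (.node (.node (.leaf 0x147e1c2b) (.leaf 0x201f5c2b)) (.node (.leaf 0x182ddc2f) (.leaf 0x13775c29))) (.node (.node (.leaf 0x1ccfdc2b) (.leaf 0x1c1d9c29)) (.node (.leaf 0x218a1c29) (.leaf 0x1ca25c2f)))) (.node (.node (.node (.leaf 0x21129c2d) (.leaf 0x263edc2f)) (.node (.leaf 0x1b029c2d) (.leaf 0x24249c2b))) (.node (.node (.leaf 0x25f59c2b) (.leaf 0x188b5c2b)) (.node (.leaf 0x1e8a5c2f) (.leaf 0x0))))) (.node (.node (.node (.node (.leaf 0x10565c2b) (.leaf 0x1d93dc2b)) (.node (.leaf 0x1e489c2d) (.leaf 0x25c55c2f))) (.node (.node (.leaf 0x14935c29) (.leaf 0x1345dc2d)) (.node (.leaf 0x256fdc2d) (.leaf 0x234c5c2f)))) (.node (.node (.node (.leaf 0x1e1f9c2d) (.leaf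 0x8e21c2f)) (.node (.leaf 0x1f6b9c2f) (.leaf 0xefd1c2f))) (.node (.node (.leaf 0x22851c2f) (.leaf 0x23925c2f)) (.node (.leaf 0x279e9c2d) (.leaf 0x0))))))) (.node (.node (.node (.node (.node (.node (.leaf 0x1b239c29) (.leaf 0x1e3a9c2b)) (.node (.leaf 0x11a81c29) (.leaf 0x2a975c2d))) (.node (.node (.leaf 0x2743dc2f) (.leaf 0x1a00dc2f)) (.node (.leaf 0x1a041c2f) (.leaf 0x23905c2f)))) (.node (.node (.node (.leaf 0x1a09dc29) (.leaf 0x192cdc2d)) (.node (.leaf 0x1d3ddc2f) (.leaf 0x1ce91c2d))) (.node (.node (.leaf 0x1f441c2d) (.leaf 0x1b51dc2d)) (.node (.leaf 0x186a1c2d) (.leaf 0x0))))) (.node (.node (.node (.node (.leaf 0x1f3bdc2b) (.leaf 0x1ca71c29)) (.node (.leaf 0x1e8e5c2b) (.leaf 0x253edc2b))) (.node (.node (.leaf 0x21505c29) (.leaf 0x1b6f9c29)) (.node (.leaf 0x29addc2b) (.leaf 0x1e9adc29)))) (.node (.node (.node (.leaf 0x1df05c2d) (.leaf 0x263f5c2f)) (.node (.leaf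 0x1fa95c2b) (.leaf 0x2183dc2f))) (.node (.node (.leaf 0x1ee39c2d) (.leaf 0x241d1c2f)) (.node (.leaf 0x2b521c2f) (.leaf 0x0)))))) (.node (.node (.node (.node (.node (.leaf 0x1aad1c2b) (.leaf 0x2b20dc2f)) (.node (.leaf 0x1932dc29) (.leaf 0x10301c2b))) (.node (.node (.leaf 0x1b465c2d) (.leaf 0x17301c2d)) (.node (.leaf 0x15891c2f) (.leaf 0x18ffdc29)))) (.node (.node (.node (.leaf 0x254e5c2d) (.leaf 0x2126dc29)) (.node (.leaf 0x1456dc29) (.leaf 0x1190dc2d))) (.node (.node (.leaf 0x16479c2b) (.leaf 0x24119c2f)) (.node (.leaf 0x1da75c2f) (.leaf 0x0))))) (.node (.node (.node (.node (.leaf 0x1c5e9c2f) (.leaf 0x21c09c2d)) (.node (.leaf 0x214b1c2d) (.leaf 0x14cd1c2d))) (.node (.node (.leaf 0x204f5c2d) (.leaf 0x126c5c2f)) (.node (.leaf 0x154e1c29) (.leaf 0x0)))) (.node (.node (.node (.leaf 0x14a59c2f) (.leaf 0x175f9c29)) (.node (.leaf 0x18df1c2d) (.leaf 0x29cf9c29))) (.node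 (.node (.leaf 0x2b789c2d) (.leaf 0x18b85c2d)) (.node (.leaf 0x10311c2f) (.leaf 0x0)))))))) (.node (.node (.node (.node (.node (.node (.node (.leaf 0x89fdc29) (.leaf 0x18e1dc2b)) (.node (.leaf 0x1ebd9c2d) (.leaf 0x1ccadc2f))) (.node (.node (.leaf 0x1dbf1c29) (.leaf 0x22559c2f)) (.node (.leaf 0x119ddc29) (.leaf 0x1f9f1c2b)))) (.node (.node (.node (.leaf 0x1cf4dc2d) (.leaf 0x1b845c29)) (.node (.leaf 0x223ddc2d) (.leaf 0x148d5c2b))) (.node (.node (.leaf 0x21dcdc2f) (.leaf 0x13649c29)) (.node (.leaf 0x1caa1c2b) (.leaf 0x0))))) (.node (.node (.node (.node (.leaf 0x19fc9c2b) (.leaf 0x21485c2b)) (.node (.leaf 0x21341c2f) (.leaf 0x22aadc29))) (.node (.node (.leaf 0x1d839c2f) (.leaf 0x20cf1c2f)) (.node (.leaf 0x260c1c29) (.leaf 0x272e1c2d)))) (.node (.node (.node (.leaf 0x171ddc2b) (.leaf 0x26f01c2d)) (.node (.leaf 0x5e59c29) (.leaf 0x23a11c2b))) (.node (.node (.leaf 0x8489c29)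 (.leaf 0x212e9c2b)) (.node (.leaf 0x2004dc2d) (.leaf 0x0)))))) (.node (.node (.node (.node (.node (.leaf 0x1746dc2f) (.leaf 0x20049c2d)) (.node (.leaf 0x25479c2d) (.leaf 0x1eab1c29))) (.node (.node (.leaf 0x188d1c2f) (.leaf 0x1c369c29)) (.node (.leaf 0xc9f1c2d) (.leaf 0x246e5c2b)))) (.node (.node (.node (.leaf 0xe731c2f) (.leaf 0x215edc29)) (.node (.leaf 0x18d79c2d) (.leaf 0x1c771c2d))) (.node (.node (.leaf 0x8bb5c2b) (.leaf 0x237f9c2d)) (.node (.leaf 0x1a84dc29) (.leaf 0x0))))) (.node (.node (.node (.node (.leaf 0x194b9c2d) (.leaf 0x181e9c2d)) (.node (.leaf 0x1e77dc2d) (.leaf 0x29ed1c2f))) (.node (.node (.leaf 0x10e2dc2f) (.leaf 0x1aa3dc29)) (.node (.leaf 0xc72dc29) (.leaf 0x0)))) (.node (.node (.node (.leaf 0x17421c2f) (.leaf 0x1fa15c2b)) (.node (.leaf 0x2123dc2d) (.leaf 0x1ad4dc29))) (.node (.node (.leaf 0x1c8a9c2d) (.leaf 0x113c9c2f)) (.node (.leaf 0x14191c2b)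 (.leaf 0x0))))))) (.node (.node (.node (.node (.node (.node (.leaf 0x14de5c2b) (.leaf 0x258cdc2b)) (.node (.leaf 0x22475c29) (.leaf 0x18b91c2d))) (.node (.node (.leaf 0x1adcdc2f) (.leaf 0x1a9f1c2f)) (.node (.leaf 0x229b9c2d) (.leaf 0x246f1c2b)))) (.node (.node (.node (.leaf 0x15d55c2f) (.leaf 0x1429dc2b)) (.node (.leaf 0x23841c2d) (.leaf 0x22001c2d))) (.node (.node (.leaf 0x19595c2f) (.leaf 0x1882dc2b)) (.node (.leaf 0xb879c2f) (.leaf 0x0))))) (.node (.node (.node (.node (.leaf 0x1311dc2f) (.leaf 0x1ec3dc2d)) (.node (.leaf 0x1649dc2f) (.leaf 0x1c93dc2f))) (.node (.node (.leaf 0x1aa19c2f) (.leaf 0x10341c2b)) (.node (.leaf 0x25a25c2f) (.leaf 0x204f5c29)))) (.node (.node (.node (.leaf 0x20c29c2d) (.leaf 0x2a1a9c2b)) (.node (.leaf 0x14cbdc2d) (.leaf 0x22ee9c2d))) (.node (.node (.leaf 0x1d4b5c29) (.leaf 0x26809c2d)) (.node (.leaf 0x1467dc2b) (.leaf 0x0)))))) (.node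 (.node (.node (.node (.node (.leaf 0x1ef15c29) (.leaf 0x19821c29)) (.node (.leaf 0x21991c2f) (.leaf 0x1cba9c2d))) (.node (.node (.leaf 0x130a9c2d) (.leaf 0x22ebdc29)) (.node (.leaf 0x174b9c29) (.leaf 0x1873dc2b)))) (.node (.node (.node (.leaf 0x28ec9c2d) (.leaf 0x25765c2b)) (.node (.leaf 0x258a9c29) (.leaf 0x27291c2b))) (.node (.node (.leaf 0x12721c2d) (.leaf 0x12f39c29)) (.node (.leaf 0x1c5cdc2f) (.leaf 0x0))))) (.node (.node (.node (.node (.leaf 0x15fe1c29) (.leaf 0x22555c2d)) (.node (.leaf 0x260adc2d) (.leaf 0x2895dc2f))) (.node (.node (.leaf 0x10e51c29) (.leaf 0x1959dc2b)) (.node (.leaf 0x1ebe5c2d) (.leaf 0x0)))) (.node (.node (.node (.leaf 0x40f9c29) (.leaf 0x220d1c29)) (.node (.leaf 0x29541c2b) (.leaf 0x1c445c29))) (.node (.node (.leaf 0x1aa75c2d) (.leaf 0x20859c29)) (.node (.leaf 0x22331c2b) (.leaf 0x0))))))))))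

/-- packed table -/
noncomputable def cov16_rlr : BTree := (.node (.node (.node (.node (.node (.node (.node (.node (.node (.leaf 0x23009c2f) (.leaf 0xaf49c29)) (.node (.leaf 0x125a1c29) (.leaf 0x1d261c2f))) (.node (.node (.leaf 0x8329c2d) (.leaf 0x13269c2b)) (.node (.leaf 0x18b99c2f) (.leaf 0x1360dc2d)))) (.node (.node (.node (.leaf 0x1ac11c2d) (.leaf 0x1f509c2f)) (.node (.leaf 0x1e839c2b) (.leaf 0xc39dc2b))) (.node (.node (.leaf 0x13725c2f) (.leaf 0x1c405c2f)) (.node (.leaf 0x150a5c2f) (.leaf 0x0))))) (.node (.node (.node (.node (.leaf 0x1d20dc2f) (.leaf 0x1d3adc2b)) (.node (.leaf 0x1c34dc2b) (.leaf 0x26b15c29))) (.node (.node (.leaf 0x19635c2b) (.leaf 0x18addc2d)) (.node (.leaf 0x1cfc1c2d) (.leaf 0x1b7b1c2f)))) (.node (.node (.node (.leaf 0xe505c2b) (.leaf 0x1f85dc2f)) (.node (.leaf 0x232e9c2b) (.leaf 0x8bc9c29))) (.node (.node (.leaf 0xaaddc2d) (.leaf 0x14569c2f))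 (.node (.leaf 0x10589c2b) (.leaf 0x0)))))) (.node (.node (.node (.node (.node (.leaf 0x275d9c2f) (.leaf 0x2131dc2f)) (.node (.leaf 0x130f9c29) (.leaf 0x1dd01c2f))) (.node (.node (.leaf 0x29a65c2d) (.leaf 0x1f3f9c2f)) (.node (.leaf 0x22bd1c2d) (.leaf 0x1b2c5c2d)))) (.node (.node (.node (.leaf 0x1c001c2d) (.leaf 0x18435c2d)) (.node (.leaf 0x1c26) (.leaf 0x1dea9c2d))) (.node (.node (.leaf 0x114c5c29) (.leaf 0x1d1d5c2d)) (.node (.leaf 0x1e839c29) (.leaf 0x0))))) (.node (.node (.node (.node (.leaf 0xc419c2f) (.leaf 0x1e399c2b)) (.node (.leaf 0x26089c2d) (.leaf 0x171ddc2f))) (.node (.node (.leaf 0x11361c2b) (.leaf 0x23385c2f)) (.node (.leaf 0x1409dc2b) (.leaf 0x1cc3dc2d)))) (.node (.node (.node (.leaf 0x1f085c29) (.leaf 0x13189c2f)) (.node (.leaf 0x237b9c2b) (.leaf 0x1360dc29))) (.node (.node (.leaf 0x1649dc2d) (.leaf 0x18581c2f)) (.node (.leaf 0x23971c2f) (.leaf 0x0)))))))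 (.node (.node (.node (.node (.node (.node (.leaf 0xb931c2f) (.leaf 0x12f0dc2d)) (.node (.leaf 0xce01c29) (.leaf 0x19319c2b))) (.node (.node (.leaf 0x1ccadc2d) (.leaf 0x21bc1c2b)) (.node (.leaf 0x183c1c29) (.leaf 0x15451c2d)))) (.node (.node (.node (.leaf 0x1b019c2d) (.leaf 0x1e3a1c2b)) (.node (.leaf 0x21181c2f) (.leaf 0x111f9c2d))) (.node (.node (.leaf 0x1cf41c29) (.leaf 0x211f5c2d)) (.node (.leaf 0x20555c2b) (.leaf 0x0))))) (.node (.node (.node (.node (.leaf 0x1cfb1c2b) (.leaf 0x26591c2f)) (.node (.leaf 0x194d1c2b) (.leaf 0x1b9f9c2f))) (.node (.node (.leaf 0x12e05c2d) (.leaf 0x182edc2f)) (.node (.leaf 0x1e6b5c2f) (.leaf 0x1ac49c2d)))) (.node (.node (.node (.leaf 0x1cce5c29) (.leaf 0x13691c29)) (.node (.leaf 0x13691c2b) (.leaf 0xd4a1c2b))) (.node (.node (.leaf 0x1ca89c29) (.leaf 0x18165c2b)) (.node (.leaf 0x2608dc29) (.leaf 0x0)))))) (.node (.node (.node (.node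 (.node (.leaf 0x2050dc2d) (.leaf 0x1ef45c2b)) (.node (.leaf 0x1f27dc29) (.leaf 0x1d301c2d))) (.node (.node (.leaf 0x183c1c2b) (.leaf 0x12f39c2f)) (.node (.leaf 0x18e3dc29) (.leaf 0x10149c2f)))) (.node (.node (.node (.leaf 0x1dda9c2f) (.leaf 0x2f3e5c2b)) (.node (.leaf 0x16bc9c29) (.leaf 0x19eddc2d))) (.node (.node (.leaf 0x19e45c2b) (.leaf 0x1ae79c2b)) (.node (.leaf 0x21a55c2f) (.leaf 0x0))))) (.node (.node (.node (.node (.leaf 0x214a5c2f) (.leaf 0x1a63dc2f)) (.node (.leaf 0x25cd9c2f) (.leaf 0xf4edc2f))) (.node (.node (.leaf 0xe89dc2b) (.leaf 0x265a5c2f)) (.node (.leaf 0x1ba51c2d) (.leaf 0x0)))) (.node (.node (.node (.leaf 0x22b55c2d) (.leaf 0x24cedc2f)) (.node (.leaf 0x24205c29) (.leaf 0xdce5c29))) (.node (.node (.leaf 0x1d999c2b) (.leaf 0x1d525c29)) (.node (.leaf 0x14b01c2b) (.leaf 0x0)))))))) (.node (.node (.node (.node (.node (.node (.node (.leaf 0x1c4e1c2d)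 (.leaf 0x1f095c2d)) (.node (.leaf 0x262a9c2d) (.leaf 0x222e5c2d))) (.node (.node (.leaf 0x1ab99c2f) (.leaf 0x20cf9c2f)) (.node (.leaf 0x20355c2b) (.leaf 0x2660dc2d)))) (.node (.node (.node (.leaf 0x10341c2d) (.leaf 0x18fe9c2d)) (.node (.leaf 0x1b3a5c29) (.leaf 0x111d9c2d))) (.node (.node (.leaf 0x27b29c2f) (.leaf 0x1339dc29)) (.node (.leaf 0x238c1c2f) (.leaf 0x0))))) (.node (.node (.node (.node (.leaf 0x1c181c2d) (.leaf 0x22d41c2f)) (.node (.leaf 0x18581c2b) (.leaf 0x19035c2d))) (.node (.node (.leaf 0xc781c2d) (.leaf 0x16f65c2b)) (.node (.leaf 0x1c931c2b) (.leaf 0x188d1c29)))) (.node (.node (.node (.leaf 0x19ef9c29) (.leaf 0x2e921c2d)) (.node (.leaf 0x259a1c2b) (.leaf 0x1dbb1c2d))) (.node (.node (.leaf 0x1b671c2f) (.leaf 0x1ad85c2d)) (.node (.leaf 0x2924dc29) (.leaf 0x0)))))) (.node (.node (.node (.node (.node (.leaf 0x19e75c2f) (.leaf 0x29631c2d)) (.node (.leaf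 0x1f00dc2b) (.leaf 0x1ccc5c29))) (.node (.node (.leaf 0x1f9e5c2d) (.leaf 0x21df9c29)) (.node (.leaf 0x1f319c29) (.leaf 0x183e5c2d)))) (.node (.node (.node (.leaf 0x1cf41c2d) (.leaf 0x1f57dc29)) (.node (.leaf 0x1d8d9c2b) (.leaf 0x1d359c2f))) (.node (.node (.leaf 0xea11c2d) (.leaf 0x1e5d9c2f)) (.node (.leaf 0x13501c2f) (.leaf 0x0))))) (.node (.node (.node (.node (.leaf 0x1fa89c2d) (.leaf 0x2098dc2b)) (.node (.leaf 0x223ddc29) (.leaf 0x26165c2d))) (.node (.node (.leaf 0x188b5c29) (.leaf 0x1eab1c2d)) (.node (.leaf 0x29311c29) (.leaf 0x0)))) (.node (.node (.node (.leaf 0x1a1f5c29) (.leaf 0x14455c2b)) (.node (.leaf 0x20c95c2f) (.leaf 0x1646dc2d))) (.node (.node (.leaf 0x2098dc29) (.leaf 0x293e1c2f)) (.node (.leaf 0x22499c2f) (.leaf 0x0))))))) (.node (.node (.node (.node (.node (.node (.leaf 0x1ebf1c2f) (.leaf 0x1a27dc2d)) (.node (.leaf 0x140f1c2f) (.leaf 0x26075c2f)))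 (.node (.node (.leaf 0x10ab9c2f) (.leaf 0x1aa81c2f)) (.node (.leaf 0x679dc29) (.leaf 0x22f41c2b)))) (.node (.node (.node (.leaf 0x1d3fdc2f) (.leaf 0x18bf5c2b)) (.node (.leaf 0x1547dc2b) (.leaf 0x26e31c2d))) (.node (.node (.leaf 0x201a1c2d) (.leaf 0x220a5c2d)) (.node (.leaf 0x25a11c2f) (.leaf 0x0))))) (.node (.node (.node (.node (.leaf 0x194d1c29) (.leaf 0x1f1c9c2d)) (.node (.leaf 0x1a4bdc2f) (.leaf 0x1c159c2b))) (.node (.node (.leaf 0x151edc29) (.leaf 0x1832dc2b)) (.node (.leaf 0x184b5c2b) (.leaf 0x20515c29)))) (.node (.node (.node (.leaf 0x18b91c2f) (.leaf 0x197adc2f)) (.node (.leaf 0x1e9adc2b) (.leaf 0x1e3b1c2f))) (.node (.node (.leaf 0x286d9c29) (.leaf 0x2500dc2d)) (.node (.leaf 0x23a59c2f) (.leaf 0x0)))))) (.node (.node (.node (.node (.node (.leaf 0x1f429c2d) (.leaf 0x29825c29)) (.node (.leaf 0x1a9f1c29) (.leaf 0x19acdc2f))) (.node (.node (.leaf 0x1eea9c29)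 (.leaf 0x169fdc2f)) (.node (.leaf 0x1586dc2b) (.leaf 0x22705c2f)))) (.node (.node (.node (.leaf 0x21a29c2f) (.leaf 0x220bdc29)) (.node (.leaf 0x20849c2f) (.leaf 0x199e5c2f))) (.node (.node (.leaf 0x24291c29) (.leaf 0x2606dc2f)) (.node (.leaf 0x23a25c2f) (.leaf 0x0))))) (.node (.node (.node (.node (.leaf 0x1e5f9c2d) (.leaf 0x222d5c29)) (.node (.leaf 0x2a119c2f) (.leaf 0x1e019c2f))) (.node (.node (.leaf 0xc41dc29) (.leaf 0x1b945c2d)) (.node (.leaf 0x235e9c2d) (.leaf 0x0)))) (.node (.node (.node (.leaf 0x15b7dc2d) (.leaf 0x19e91c29)) (.node (.leaf 0xe015c2d) (.leaf 0x194b9c2b))) (.node (.node (.leaf 0x2644dc2f) (.leaf 0x222d5c2d)) (.node (.leaf 0x149edc29) (.leaf 0x0))))))))) (.node (.node (.node (.node (.node (.node (.node (.node (.leaf 0x1db91c2d) (.leaf 0x1b9ddc2b)) (.node (.leaf 0x15f41c29) (.leaf 0x20d31c2d))) (.node (.node (.leaf 0x10301c29) (.leaf 0x1070dc29))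 (.node (.leaf 0xa1d9c2b) (.leaf 0x16c55c2d)))) (.node (.node (.node (.leaf 0x16bf5c29) (.leaf 0x1f405c2f)) (.node (.leaf 0x1bb0dc29) (.leaf 0x111f9c29))) (.node (.node (.leaf 0x14d15c2d) (.leaf 0x1ca81c29)) (.node (.leaf 0x20669c2b) (.leaf 0x0))))) (.node (.node (.node (.node (.leaf 0x16d1dc2b) (.leaf 0x225adc29)) (.node (.leaf 0x292adc2d) (.leaf 0x179d9c2f))) (.node (.node (.leaf 0x1a4edc2f) (.leaf 0x14d51c2f)) (.node (.leaf 0x29c71c2f) (.leaf 0x20ca1c2f)))) (.node (.node (.node (.leaf 0x100edc2f) (.leaf 0x10565c2f)) (.node (.leaf 0x157c9c2d) (.leaf 0x9665c2d))) (.node (.node (.leaf 0x1a059c2d) (.leaf 0x26299c2b)) (.node (.leaf 0x169f9c29) (.leaf 0x0)))))) (.node (.node (.node (.node (.node (.leaf 0x1f9a1c2d) (.leaf 0x27641c29)) (.node (.leaf 0x1c3c5c29) (.leaf 0x1a105c2f))) (.node (.node (.leaf 0x13a7dc2d) (.leaf 0x1141dc2d)) (.node (.leaf 0x2f7a5c2f) (.leaf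 0x16479c29)))) (.node (.node (.node (.leaf 0x25011c2f) (.leaf 0x183d9c2f)) (.node (.leaf 0x16f8dc2b) (.leaf 0x22f69c2f))) (.node (.node (.leaf 0x1f705c2b) (.leaf 0x263d5c2d)) (.node (.leaf 0x1eb0dc2b) (.leaf 0x0))))) (.node (.node (.node (.node (.leaf 0x80bdc29) (.leaf 0x22045c2f)) (.node (.leaf 0x1c6adc29) (.leaf 0x1ecedc29))) (.node (.node (.leaf 0x199a5c2b) (.leaf 0x1951dc29)) (.node (.leaf 0x1ca09c29) (.leaf 0x21905c2d)))) (.node (.node (.node (.leaf 0x221f1c2d) (.leaf 0x10259c2d)) (.node (.leaf 0x1cc85c2f) (.leaf 0x17715c2d))) (.node (.node (.leaf 0x26645c2d) (.leaf 0x139edc2b)) (.node (.leaf 0x2daa5c2d) (.leaf 0x0))))))) (.node (.node (.node (.node (.node (.node (.leaf 0x1c829c29) (.leaf 0x1eb0dc2f)) (.node (.leaf 0x20eb1c2d) (.leaf 0x1ced1c2b))) (.node (.node (.leaf 0x1402dc2f) (.leaf 0x1b6f9c2d)) (.node (.leaf 0x219cdc2b) (.leaf 0x1fa99c29)))) (.node (.node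 (.node (.leaf 0x1528dc2f) (.leaf 0x1cef5c2f)) (.node (.leaf 0x194a9c2d) (.leaf 0x19f95c2f))) (.node (.node (.leaf 0x1efc1c2f) (.leaf 0x260a1c2d)) (.node (.leaf 0x219cdc29) (.leaf 0x0))))) (.node (.node (.node (.node (.leaf 0x21cfdc2b) (.leaf 0x263e1c2f)) (.node (.leaf 0x1e579c2b) (.leaf 0x21031c2d))) (.node (.node (.leaf 0x20515c2d) (.leaf 0x1b701c29)) (.node (.leaf 0x1cdedc29) (.leaf 0x11a81c2b)))) (.node (.node (.node (.leaf 0x19781c2d) (.leaf 0x1a9a5c2b)) (.node (.leaf 0x2680dc2b) (.leaf 0x21721c2d))) (.node (.node (.leaf 0x1e951c29) (.leaf 0x25e1dc2d)) (.node (.leaf 0x17ab5c2d) (.leaf 0x0)))))) (.node (.node (.node (.node (.node (.leaf 0x1acc1c2d) (.leaf 0x1c27dc2b)) (.node (.leaf 0x1f915c29) (.leaf 0x18da5c2d))) (.node (.node (.leaf 0x1409dc29) (.leaf 0x1dd09c2f)) (.node (.leaf 0x23a25c2d) (.leaf 0x187d5c2d)))) (.node (.node (.node (.leaf 0x1c45dc29) (.leaf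 0x1a9a5c29)) (.node (.leaf 0x1d839c29) (.leaf 0x1ef85c2f))) (.node (.node (.leaf 0x1a389c2b) (.leaf 0x2589dc2f)) (.node (.leaf 0x23a29c2f) (.leaf 0x0))))) (.node (.node (.node (.node (.leaf 0x1a405c2b) (.leaf 0x276e9c2d)) (.node (.leaf 0x25c31c2f) (.leaf 0xcb31c2b))) (.node (.node (.leaf 0x49d9c2d) (.leaf 0x1d3e9c2b)) (.node (.leaf 0x1cd9dc2d) (.leaf 0x0)))) (.node (.node (.node (.leaf 0x1ca6dc2f) (.leaf 0xaa89c2f)) (.node (.leaf 0x21f19c2b) (.leaf 0x189ddc2b))) (.node (.node (.leaf 0x245a1c29) (.leaf 0x16835c2d)) (.node (.leaf 0x1c929c2f) (.leaf 0x0)))))))) (.node (.node (.node (.node (.node (.node (.node (.leaf 0x12709c2f) (.leaf 0x20c9dc2f)) (.node (.leaf 0x268ddc2f) (.leaf 0x1eec9c29))) (.node (.node (.leaf 0x207b5c29) (.leaf 0x19d29c29)) (.node (.leaf 0x1cdb5c2f) (.leaf 0x133b5c2f)))) (.node (.node (.node (.leaf 0x1451dc2f) (.leaf 0x1eec9c2d)) (.node (.leaf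 0x2bb1dc2b) (.leaf 0xc15dc2d))) (.node (.node (.leaf 0x1d769c2d) (.leaf 0x1ebd9c2b)) (.node (.leaf 0x20549c2b) (.leaf 0x0))))) (.node (.node (.node (.node (.leaf 0x2a119c2b) (.leaf 0x21019c2d)) (.node (.leaf 0x1750dc2d) (.leaf 0x1b9f5c2f))) (.node (.node (.leaf 0x1c2c9c29) (.leaf 0x159c1c2d)) (.node (.leaf 0x18909c2f) (.leaf 0x260d9c2b)))) (.node (.node (.node (.leaf 0x2b109c2d) (.leaf 0x21bcdc29)) (.node (.leaf 0x23b31c2d) (.leaf 0x19ba5c2d))) (.node (.node (.leaf 0x1a9d5c2f) (.leaf 0x161adc2f)) (.node (.leaf 0x178adc29) (.leaf 0x0)))))) (.node (.node (.node (.node (.node (.leaf 0x20219c2f) (.leaf 0x1eb65c2f)) (.node (.leaf 0x1e899c2f) (.leaf 0x27b25c29))) (.node (.node (.leaf 0x1df05c29) (.leaf 0x24f3dc2d)) (.node (.leaf 0x1df71c2f) (.leaf 0x19f1dc2d)))) (.node (.node (.node (.leaf 0x21325c29) (.leaf 0x16a99c2f)) (.node (.leaf 0x18b99c2b) (.leaf 0x151ddc2d)))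 (.node (.node (.leaf 0x19eb5c29) (.leaf 0x1cfd1c29)) (.node (.leaf 0x1070dc2b) (.leaf 0x0))))) (.node (.node (.node (.node (.leaf 0x1c9a9c29) (.leaf 0x241f9c2d)) (.node (.leaf 0x1ea09c2b) (.leaf 0x16ae5c2f))) (.node (.node (.leaf 0x19bf9c2f) (.leaf 0x1e18dc2d)) (.node (.leaf 0x1aa6dc2f) (.leaf 0x0)))) (.node (.node (.node (.leaf 0xc499c2f) (.leaf 0x22ca1c2b)) (.node (.leaf 0x1ef15c2b) (.leaf 0xead9c2f))) (.node (.node (.leaf 0x2103dc2d) (.leaf 0x16e85c2b)) (.node (.leaf 0x18cc9c29) (.leaf 0x0))))))) (.node (.node (.node (.node (.node (.node (.leaf 0x10b95c2f) (.leaf 0x2323dc2f)) (.node (.leaf 0x1400dc2f) (.leaf 0x24cd5c29))) (.node (.node (.leaf 0x16f8dc29) (.leaf 0x23339c2f)) (.node (.leaf 0x1b8f1c2d) (.leaf 0x1a62dc29)))) (.node (.node (.node (.leaf 0x1cdc5c2d) (.leaf 0x24f39c2d)) (.node (.leaf 0x14d15c2f) (.leaf 0x1c3c))) (.node (.node (.leaf 0x10df9c29) (.leaf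 0x23031c2b)) (.node (.leaf 0x1d121c2f) (.leaf 0x0))))) (.node (.node (.node (.node (.leaf 0x2127dc2b) (.leaf 0x15cbdc2d)) (.node (.leaf 0x25eadc2b) (.leaf 0x16071c2f))) (.node (.node (.leaf 0x14059c2d) (.leaf 0x15f3dc2f)) (.node (.leaf 0x16dfdc2d) (.leaf 0xc305c2b)))) (.node (.node (.node (.leaf 0x1c105c2f) (.leaf 0x22315c2d)) (.node (.leaf 0x1cce1c2f) (.leaf 0x107fdc2f))) (.node (.node (.leaf 0x18235c2f) (.leaf 0x26971c29)) (.node (.leaf 0x2e3f1c2f) (.leaf 0x0)))))) (.node (.node (.node (.node (.node (.leaf 0x1d969c2f) (.leaf 0x14741c2f)) (.node (.leaf 0x1c5c9c29) (.leaf 0x22681c2d))) (.node (.node (.leaf 0xc335c2d) (.leaf 0x1acfdc29)) (.node (.leaf 0x271f5c2d) (.leaf 0x14221c2f)))) (.node (.node (.node (.leaf 0x23169c2f) (.leaf 0x1d93dc2f)) (.node (.leaf 0x272e1c2b) (.leaf 0x1d3e9c2d))) (.node (.node (.leaf 0x220a9c29) (.leaf 0x1af11c2d)) (.node (.leaf 0x16bf5c2b)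 (.leaf 0x0))))) (.node (.node (.node (.node (.leaf 0x173c9c2d) (.leaf 0x22099c2b)) (.node (.leaf 0x26209c2f) (.leaf 0x207ddc2f))) (.node (.node (.leaf 0x15b29c2f) (.leaf 0x10431c2f)) (.node (.leaf 0x10649c2b) (.leaf 0x0)))) (.node (.node (.node (.leaf 0x180fdc29) (.leaf 0x20d45c29)) (.node (.leaf 0x1a649c2b) (.leaf 0xab49c2b))) (.node (.node (.leaf 0x22159c2b) (.leaf 0x20da9c2f)) (.node (.leaf 0x18731c29) (.leaf 0x0))))))))))

/-- packed table -/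
noncomputable def cov16_rrl : BTree := (.node (.node (.node (.node (.node (.node (.node (.node (.node (.leaf 0x11171c29) (.leaf 0x14a7dc2b)) (.node (.leaf 0x20dd9c29) (.leaf 0x18765c2f))) (.node (.node (.leaf 0x13b41c2f) (.leaf 0x237c9c2d)) (.node (.leaf 0x2da35c2f) (.leaf 0xcb1dc2f)))) (.node (.node (.node (.leaf 0x14b65c2f) (.leaf 0x16935c29)) (.node (.leaf 0x22929c2f) (.leaf 0x1fb3dc2b))) (.node (.node (.leaf 0xe505c29) (.leaf 0x1c425c2b)) (.node (.leaf 0x22941c2d) (.leaf 0x0))))) (.node (.node (.node (.node (.leaf 0x1cf29c2d) (.leaf 0x1f3edc29)) (.node (.leaf 0x18f7dc29) (.leaf 0x27345c2b))) (.node (.node (.leaf 0x195d1c29) (.leaf 0x16715c29)) (.node (.leaf 0x15c8dc2f) (.leaf 0x2a56dc2f)))) (.node (.node (.node (.leaf 0x2b965c2d) (.leaf 0x203edc2d)) (.node (.leaf 0x25ed5c2b) (.leaf 0xcb31c2d))) (.node (.node (.leaf 0x14461c29) (.leaf 0x215edc2b)) (.node (.leaf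 0x22ebdc2b) (.leaf 0x0)))))) (.node (.node (.node (.node (.node (.leaf 0x1637dc29) (.leaf 0x2707dc29)) (.node (.leaf 0x18571c2f) (.leaf 0x1c501c2d))) (.node (.node (.leaf 0x10861c29) (.leaf 0x20f51c2d)) (.node (.leaf 0xdce5c2b) (.leaf 0x18a1dc2f)))) (.node (.node (.node (.leaf 0x1d005c2d) (.leaf 0x1d579c2d)) (.node (.leaf 0x12e29c2d) (.leaf 0x12049c2b))) (.node (.node (.leaf 0x1dca9c2b) (.leaf 0x26855c2f)) (.node (.leaf 0x21cb9c2b) (.leaf 0x0))))) (.node (.node (.node (.node (.leaf 0x184b1c2b) (.leaf 0x169f9c2f)) (.node (.leaf 0x27231c2f) (.leaf 0x1e085c2d))) (.node (.node (.leaf 0x1e535c29) (.leaf 0x1a569c2f)) (.node (.leaf 0xa11dc2b) (.leaf 0x14c5dc2d)))) (.node (.node (.node (.leaf 0xe1ddc2d) (.leaf 0x12e69c2f)) (.node (.leaf 0x1e93dc2d) (.leaf 0xcc09c2d))) (.node (.node (.leaf 0x1e4a5c2d) (.leaf 0xc831c2d)) (.node (.leaf 0x117d5c29) (.leaf 0x0))))))) (.node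 (.node (.node (.node (.node (.node (.leaf 0x74f5c29) (.leaf 0x2098dc2d)) (.node (.leaf 0x19831c2f) (.leaf 0x225f5c2f))) (.node (.node (.leaf 0x18ad5c2f) (.leaf 0x236fdc2d)) (.node (.leaf 0x1b831c2f) (.leaf 0x154e1c2b)))) (.node (.node (.node (.leaf 0x1b239c2d) (.leaf 0x22d5dc2b)) (.node (.leaf 0x217e1c2d) (.leaf 0x230c5c2d))) (.node (.node (.leaf 0x22611c2f) (.leaf 0x21019c2f)) (.node (.leaf 0x10259c2f) (.leaf 0x0))))) (.node (.node (.node (.node (.leaf 0x26799c2f) (.leaf 0x25b9dc2b)) (.node (.leaf 0x12ac1c2b) (.leaf 0x201bdc2d))) (.node (.node (.leaf 0x14d7dc29) (.leaf 0x18c45c2b)) (.node (.leaf 0x1c451c29) (.leaf 0x1b8b1c2b)))) (.node (.node (.node (.leaf 0x25ef1c29) (.leaf 0x17821c2f)) (.node (.leaf 0x1de49c29) (.leaf 0x13af5c2d))) (.node (.node (.leaf 0x245d9c29) (.leaf 0x1aeedc2f)) (.node (.leaf 0x17731c29) (.leaf 0x0)))))) (.node (.node (.node (.node (.node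 (.leaf 0x1525dc2d) (.leaf 0x18f7dc2b)) (.node (.leaf 0x1f275c29) (.leaf 0x20169c29))) (.node (.node (.leaf 0x1e45dc2d) (.leaf 0x16735c2b)) (.node (.leaf 0x1df85c2f) (.leaf 0x1013dc2f)))) (.node (.node (.node (.leaf 0x21031c2b) (.leaf 0x29971c2f)) (.node (.leaf 0x18571c2b) (.leaf 0x8da1c2d))) (.node (.node (.leaf 0x156d9c29) (.leaf 0x17711c29)) (.node (.leaf 0x27601c2b) (.leaf 0x0))))) (.node (.node (.node (.node (.leaf 0x180c9c2d) (.leaf 0x21ac1c2d)) (.node (.leaf 0x1b859c2b) (.leaf 0x74f5c2f))) (.node (.node (.leaf 0x21bc1c29) (.leaf 0x22849c2f)) (.node (.leaf 0x25dd5c2f) (.leaf 0x0)))) (.node (.node (.node (.leaf 0x22b39c2d) (.leaf 0x20d45c2b)) (.node (.leaf 0x201f5c29) (.leaf 0x16891c2d))) (.node (.node (.leaf 0x24651c2d) (.leaf 0x10775c2f)) (.node (.leaf 0x234c5c2d) (.leaf 0x0)))))))) (.node (.node (.node (.node (.node (.node (.node (.leaf 0x1efa5c29) (.leaf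 0x1ee55c2d)) (.node (.leaf 0x126c5c2d) (.leaf 0x1c755c2f))) (.node (.node (.leaf 0x1c225c2f) (.leaf 0x16d1dc2d)) (.node (.leaf 0x174b9c2b) (.leaf 0x1c3bdc2b)))) (.node (.node (.node (.leaf 0x21c65c2d) (.leaf 0x21b01c29)) (.node (.leaf 0x18cc9c2d) (.leaf 0x26b29c2f))) (.node (.node (.leaf 0x1c2d5c2d) (.leaf 0x180fdc2d)) (.node (.leaf 0x245d9c2d) (.leaf 0x0))))) (.node (.node (.node (.node (.leaf 0x11b41c2b) (.leaf 0x1efc1c29)) (.node (.leaf 0x254c1c2f) (.leaf 0x21dc5c29))) (.node (.node (.leaf 0x1b8f1c2f) (.leaf 0x1e025c2f)) (.node (.leaf 0x14935c2b) (.leaf 0x1c8e1c29)))) (.node (.node (.node (.leaf 0x10ab9c2b) (.leaf 0x22ef1c2d)) (.node (.leaf 0x18f5dc2b) (.leaf 0x1339dc2b))) (.node (.node (.leaf 0x19ca1c2b) (.leaf 0x22d81c2d)) (.node (.leaf 0x14a95c29) (.leaf 0x0)))))) (.node (.node (.node (.node (.node (.leaf 0x1b551c29) (.leaf 0x2724dc2d)) (.node (.leaf 0x1b5c1c2f)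 (.leaf 0x14191c29))) (.node (.node (.leaf 0x1d041c2f) (.leaf 0x213c1c2f)) (.node (.leaf 0x27345c2d) (.leaf 0x1b011c2f)))) (.node (.node (.node (.leaf 0x2250dc2d) (.leaf 0x18c05c2f)) (.node (.leaf 0x1c369c2b) (.leaf 0x1e699c2f))) (.node (.node (.leaf 0x19a0dc2b) (.leaf 0x165c1c2f)) (.node (.leaf 0x22845c29) (.leaf 0x0))))) (.node (.node (.node (.node (.leaf 0x188b5c2f) (.leaf 0x212c5c2f)) (.node (.leaf 0x18841c2b) (.leaf 0x21ab5c2d))) (.node (.node (.leaf 0x214cdc2f) (.leaf 0x20791c2f)) (.node (.leaf 0x24f21c2d) (.leaf 0x0)))) (.node (.node (.node (.leaf 0xa1d9c29) (.leaf 0x1b9adc29)) (.node (.leaf 0x21215c2d) (.leaf 0x1b249c2b))) (.node (.node (.leaf 0x1a62dc2d) (.leaf 0x1c8f1c2b)) (.node (.leaf 0x265e1c2d) (.leaf 0x0))))))) (.node (.node (.node (.node (.node (.node (.leaf 0x13189c2b) (.leaf 0x180a1c2f)) (.node (.leaf 0x1c5a9c2d) (.leaf 0x22589c2f))) (.node (.node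 (.leaf 0x20659c2d) (.leaf 0x1e031c2f)) (.node (.leaf 0x2181dc2f) (.leaf 0x21bb5c2d)))) (.node (.node (.node (.leaf 0x1c181c2f) (.leaf 0x18f01c2d)) (.node (.leaf 0x1d605c2f) (.leaf 0x18899c29))) (.node (.node (.leaf 0xfa09c29) (.leaf 0x2337dc2d)) (.node (.leaf 0x22315c2f) (.leaf 0x0))))) (.node (.node (.node (.node (.leaf 0x1d345c2d) (.leaf 0x2191dc2f)) (.node (.leaf 0x16e85c29) (.leaf 0x1f02dc2b))) (.node (.node (.leaf 0x10d69c29) (.leaf 0x1aa55c2d)) (.node (.leaf 0x17811c2f) (.leaf 0x286d9c2d)))) (.node (.node (.node (.leaf 0x20295c2d) (.leaf 0xaf49c2b)) (.node (.leaf 0x18909c2d) (.leaf 0x1a8b1c2d))) (.node (.node (.leaf 0x26201c29) (.leaf 0x1b281c2b)) (.node (.leaf 0x192cdc2f) (.leaf 0x0)))))) (.node (.node (.node (.node (.node (.leaf 0x1ed9dc2d) (.leaf 0x18765c2b)) (.node (.leaf 0x1dca5c2b) (.leaf 0x13415c2d))) (.node (.node (.leaf 0x2b305c2d) (.leaf 0x1d6f1c2d))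 (.node (.leaf 0x1eecdc2d) (.leaf 0x1e6d5c2f)))) (.node (.node (.node (.leaf 0x1818dc29) (.leaf 0x1464dc2f)) (.node (.leaf 0x18f15c2b) (.leaf 0x1a059c2f))) (.node (.node (.leaf 0x194d5c2f) (.leaf 0x16dfdc2f)) (.node (.leaf 0x1fa15c2f) (.leaf 0x0))))) (.node (.node (.node (.node (.leaf 0x12c61c2f) (.leaf 0x25b9dc2d)) (.node (.leaf 0x190fdc2b) (.leaf 0x26791c2f))) (.node (.node (.leaf 0x1c4c) (.leaf 0x1b489c2d)) (.node (.leaf 0x1ed95c2f) (.leaf 0x0)))) (.node (.node (.node (.leaf 0x25d7dc2b) (.leaf 0x14569c2b)) (.node (.leaf 0x1e465c2d) (.leaf 0xc441c29))) (.node (.node (.leaf 0x19319c29) (.leaf 0x1b755c2b)) (.node (.leaf 0x1c639c2f) (.leaf 0x0))))))))) (.node (.node (.node (.node (.node (.node (.node (.node (.leaf 0x12e05c2f) (.leaf 0x241f9c2b)) (.node (.leaf 0x22ca1c2d) (.leaf 0x18d49c2d))) (.node (.node (.leaf 0x17ab5c2f) (.leaf 0x23841c2f)) (.node (.leaf 0x1a1f5c2b)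 (.leaf 0x1a5bdc2d)))) (.node (.node (.node (.leaf 0xc065c2f) (.leaf 0x1d44dc29)) (.node (.leaf 0x12e29c29) (.leaf 0x111d9c29))) (.node (.node (.leaf 0x18eadc2d) (.leaf 0x1a30dc29)) (.node (.leaf 0x20e9dc2d) (.leaf 0x0))))) (.node (.node (.node (.node (.leaf 0x5e59c2f) (.leaf 0x2b081c29)) (.node (.leaf 0x25659c2d) (.leaf 0x279d5c2f))) (.node (.node (.leaf 0x13695c2f) (.leaf 0x1cad1c2d)) (.node (.leaf 0x25c95c2f) (.leaf 0x23479c2d)))) (.node (.node (.node (.leaf 0x1402dc2b) (.leaf 0x1637dc2d)) (.node (.leaf 0x29511c2b) (.leaf 0x679dc2f))) (.node (.node (.leaf 0xe89dc29) (.leaf 0x256a9c2d)) (.node (.leaf 0x184b5c29) (.leaf 0x0)))))) (.node (.node (.node (.node (.node (.leaf 0x1b489c2f) (.leaf 0x255e9c2f)) (.node (.leaf 0x18949c2d) (.leaf 0x18521c2d))) (.node (.node (.leaf 0x12abdc2d) (.leaf 0x1670dc2b)) (.node (.leaf 0xd681c2b) (.leaf 0x808dc2d)))) (.node (.node (.node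 (.leaf 0x25c89c29) (.leaf 0x25fc5c2f)) (.node (.leaf 0x822dc29) (.leaf 0x1a679c2d))) (.node (.node (.leaf 0x1e521c29) (.leaf 0xf9a9c2f)) (.node (.leaf 0x1e579c2f) (.leaf 0x0))))) (.node (.node (.node (.node (.leaf 0x14185c2f) (.leaf 0x1657dc2f)) (.node (.leaf 0x14f05c2d) (.leaf 0x1f041c2b))) (.node (.node (.leaf 0x19291c2d) (.leaf 0x1ca4dc2b)) (.node (.leaf 0x1fa89c2b) (.leaf 0x15691c2f)))) (.node (.node (.node (.leaf 0xa1d9c2d) (.leaf 0x1aa35c2b)) (.node (.leaf 0x26255c29) (.leaf 0xf92dc2d))) (.node (.node (.leaf 0x248c5c29) (.leaf 0x1a561c2f)) (.node (.leaf 0x22eb9c2b) (.leaf 0x0))))))) (.node (.node (.node (.node (.node (.node (.leaf 0x808dc2f) (.leaf 0x22269c2d)) (.node (.leaf 0x1b2b1c2d) (.leaf 0x26601c2f))) (.node (.node (.leaf 0x14919c2f) (.leaf 0x14c5dc2b)) (.node (.leaf 0x25ccdc29) (.leaf 0x11361c2f)))) (.node (.node (.node (.leaf 0x1f3edc2f) (.leaf 0x212bdc2d))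 (.node (.leaf 0x214edc2f) (.leaf 0x119ddc2b))) (.node (.node (.leaf 0x1b9f9c29) (.leaf 0x25ef1c2d)) (.node (.leaf 0x222fdc2f) (.leaf 0x0))))) (.node (.node (.node (.node (.leaf 0x2db55c2f) (.leaf 0x1dd51c2f)) (.node (.leaf 0x269e5c2d) (.leaf 0x1b819c2f))) (.node (.node (.leaf 0x23009c2d) (.leaf 0x1e0c5c2d)) (.node (.leaf 0x26955c2d) (.leaf 0x1dec9c2f)))) (.node (.node (.node (.leaf 0x19df5c2f) (.leaf 0x2196dc2f)) (.node (.leaf 0x1ae75c29) (.leaf 0x1ac69c29))) (.node (.node (.leaf 0x15679c2b) (.leaf 0x17079c2b)) (.node (.leaf 0x23abdc2d) (.leaf 0x0)))))) (.node (.node (.node (.node (.node (.leaf 0x19591c2b) (.leaf 0x11afdc29)) (.node (.leaf 0x2286dc2f) (.leaf 0x270b9c2d))) (.node (.node (.leaf 0x1d3e9c29) (.leaf 0x196ddc2d)) (.node (.leaf 0x1ca49c29) (.leaf 0x147c5c2d)))) (.node (.node (.node (.leaf 0x1c6b5c2b) (.leaf 0x1cf31c2d)) (.node (.leaf 0x1cd09c2d) (.leaf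 0x110a1c2f))) (.node (.node (.leaf 0x1b945c29) (.leaf 0x225f5c2b)) (.node (.leaf 0x1506dc2b) (.leaf 0x0))))) (.node (.node (.node (.node (.leaf 0x10e29c2b) (.leaf 0x222fdc2b)) (.node (.leaf 0x199e5c2d) (.leaf 0x8bbdc29))) (.node (.node (.leaf 0x1d461c29) (.leaf 0x18731c2b)) (.node (.leaf 0x23149c29) (.leaf 0x0)))) (.node (.node (.node (.leaf 0x18a69c2f) (.leaf 0x8329c2f)) (.node (.leaf 0x1550dc2b) (.leaf 0x10a55c2b))) (.node (.node (.leaf 0x1fa05c2b) (.leaf 0x1eacdc2d)) (.node (.leaf 0x1807dc2f) (.leaf 0x0)))))))) (.node (.node (.node (.node (.node (.node (.node (.leaf 0x1a405c2f) (.leaf 0x20295c2f)) (.node (.leaf 0x11b41c2d) (.leaf 0x24525c2d))) (.node (.node (.leaf 0x1ae99c29) (.leaf 0x1e549c2f)) (.node (.leaf 0x131f1c2d) (.leaf 0x13591c2f)))) (.node (.node (.node (.leaf 0x1b7e9c2b) (.leaf 0x11385c2d)) (.node (.leaf 0x1b3b1c2b) (.leaf 0x1190dc2f))) (.node (.node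 (.leaf 0x23b31c2b) (.leaf 0x16bc9c2b)) (.node (.leaf 0x20dd1c29) (.leaf 0x0))))) (.node (.node (.node (.node (.leaf 0x25c95c2d) (.leaf 0x1e0cdc2f)) (.node (.leaf 0x1f2f1c2d) (.leaf 0x19e75c2d))) (.node (.node (.leaf 0x1b78dc29) (.leaf 0x14509c2b)) (.node (.leaf 0x18911c2f) (.leaf 0x27985c2d)))) (.node (.node (.node (.leaf 0x22925c2d) (.leaf 0x1cc39c2b)) (.node (.leaf 0x15e19c2f) (.leaf 0x18481c2b))) (.node (.node (.leaf 0x14629c2d) (.leaf 0x24769c2f)) (.node (.leaf 0x25fc5c2b) (.leaf 0x0)))))) (.node (.node (.node (.node (.node (.leaf 0x1ae11c2b) (.leaf 0x10b29c2b)) (.node (.leaf 0x1a389c2f) (.leaf 0x246e5c29))) (.node (.node (.leaf 0x120edc2f) (.leaf 0x209c1c2d)) (.node (.leaf 0x1d49dc2f) (.leaf 0x1f2adc29)))) (.node (.node (.node (.leaf 0x1345dc2f) (.leaf 0x25465c29)) (.node (.leaf 0x19c19c2b) (.leaf 0x25855c2d))) (.node (.node (.leaf 0x1aa31c2d) (.leaf 0x22929c29))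 (.node (.leaf 0x22de1c2d) (.leaf 0x0))))) (.node (.node (.node (.node (.leaf 0x10821c2b) (.leaf 0x28c55c2b)) (.node (.leaf 0x1acfdc2f) (.leaf 0x16781c2f))) (.node (.node (.leaf 0x1d575c2f) (.leaf 0x16715c2b)) (.node (.leaf 0x194f5c29) (.leaf 0x0)))) (.node (.node (.node (.leaf 0xd52dc2f) (.leaf 0x1a4bdc2b)) (.node (.leaf 0x20381c2d) (.leaf 0xadd9c2d))) (.node (.node (.leaf 0x1d191c2d) (.leaf 0x13939c2d)) (.node (.leaf 0x171cdc29) (.leaf 0x0))))))) (.node (.node (.node (.node (.node (.node (.leaf 0xc831c29) (.leaf 0xe6cdc2f)) (.node (.leaf 0x1db05c2d) (.leaf 0x1c655c2f))) (.node (.node (.leaf 0x1f00dc29) (.leaf 0x23199c2f)) (.node (.leaf 0x26c21c2d) (.leaf 0x21bc1c2d)))) (.node (.node (.node (.leaf 0x1c979c29) (.leaf 0x1429dc2f)) (.node (.leaf 0x1c16dc2f) (.leaf 0x8d99c2f))) (.node (.node (.leaf 0x21fa1c2b) (.leaf 0x1b4d9c2f)) (.node (.leaf 0x2379dc2b) (.leaf 0x0)))))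 (.node (.node (.node (.node (.leaf 0x159c1c2f) (.leaf 0x25fd9c2b)) (.node (.leaf 0x16635c2f) (.leaf 0x16095c2d))) (.node (.node (.leaf 0x49f9c29) (.leaf 0x129c5c2d)) (.node (.leaf 0x21829c29) (.leaf 0x1aad1c2d)))) (.node (.node (.node (.leaf 0x24e85c2f) (.leaf 0x1d575c2d)) (.node (.leaf 0x18d8dc2f) (.leaf 0x110a1c29))) (.node (.node (.leaf 0x1cb55c2f) (.leaf 0x16959c29)) (.node (.leaf 0x1f131c2f) (.leaf 0x0)))))) (.node (.node (.node (.node (.node (.leaf 0x210f9c2d) (.leaf 0x1076dc2b)) (.node (.leaf 0x10e2dc2d) (.leaf 0x10649c29))) (.node (.node (.leaf 0x12e69c2d) (.leaf 0x19291c2f)) (.node (.leaf 0x22509c29) (.leaf 0xc251c2f)))) (.node (.node (.node (.leaf 0x23165c2f) (.leaf 0x20035c2b)) (.node (.leaf 0x1f275c2f) (.leaf 0x213f9c2d))) (.node (.node (.leaf 0x1984dc2f) (.leaf 0x1d9a9c2f)) (.node (.leaf 0x1c6c9c2d) (.leaf 0x0))))) (.node (.node (.node (.node (.leaf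 0x1f3b9c2d) (.leaf 0x20619c2f)) (.node (.leaf 0x22f69c2d) (.leaf 0x19911c2f))) (.node (.node (.leaf 0x16071c2d) (.leaf 0x10431c2b)) (.node (.leaf 0x1c2c5c2f) (.leaf 0x0)))) (.node (.node (.node (.leaf 0x1637dc2b) (.leaf 0x22749c2f)) (.node (.leaf 0x1fb21c2b) (.leaf 0x1109dc2f))) (.node (.node (.leaf 0x16bc9c2d) (.leaf 0x1d605c2b)) (.node (.leaf 0x2137dc2b) (.leaf 0x0))))))))))

/-- packed table -/
noncomputable def cov16_rrr : BTree := (.node (.node (.node (.node (.node (.node (.node (.node (.node (.leaf 0x14a91c2d) (.leaf 0x22159c2d)) (.node (.leaf 0x2454dc29) (.leaf 0x1d6adc2f))) (.node (.node (.leaf 0x180c9c2b) (.leaf 0x21c09c2f)) (.node (.leaf 0x1e1f9c2b) (.leaf 0x1ec2dc2d)))) (.node (.node (.node (.leaf 0xaaddc2f) (.leaf 0x1e521c2d)) (.node (.leaf 0xc499c2d) (.leaf 0x27b35c2b))) (.node (.node (.leaf 0x1a401c2b) (.leaf 0x26e45c2f)) (.node (.leaf 0x21159c2f)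 (.leaf 0x0))))) (.node (.node (.node (.node (.leaf 0x1f9f1c2d) (.leaf 0x194f5c2b)) (.node (.leaf 0x1d769c2f) (.leaf 0x14c15c29))) (.node (.node (.leaf 0x177edc2b) (.leaf 0xf9b1c2b)) (.node (.leaf 0x19ca1c2f) (.leaf 0x13725c29)))) (.node (.node (.node (.leaf 0x15151c2b) (.leaf 0x263a5c2d)) (.node (.leaf 0x16f6dc29) (.leaf 0x1cc79c29))) (.node (.node (.leaf 0x14635c2f) (.leaf 0x1a585c29)) (.node (.leaf 0x23905c2d) (.leaf 0x0)))))) (.node (.node (.node (.node (.node (.leaf 0x1f0e5c2d) (.leaf 0x679dc2d)) (.node (.leaf 0x19c19c2d) (.leaf 0xf76dc29))) (.node (.node (.leaf 0x1c451c2f) (.leaf 0x26115c2f)) (.node (.leaf 0x1ed05c2b) (.leaf 0x2502dc2d)))) (.node (.node (.node (.leaf 0x12d2dc2f) (.leaf 0x15f41c2f)) (.node (.leaf 0x171a5c2f) (.leaf 0x16949c2b))) (.node (.node (.leaf 0x1b0a1c2d) (.leaf 0x10749c2d)) (.node (.leaf 0x1e395c2f) (.leaf 0x0))))) (.node (.node (.node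 (.node (.leaf 0x143adc2d) (.leaf 0x1e93dc29)) (.node (.leaf 0x1ef15c2f) (.leaf 0x21141c2f))) (.node (.node (.leaf 0x8bbdc2b) (.leaf 0x1e445c2d)) (.node (.leaf 0x20729c2b) (.leaf 0x27909c2f)))) (.node (.node (.node (.leaf 0x1e1e5c2d) (.leaf 0xce01c2b)) (.node (.leaf 0x216a5c2f) (.leaf 0x1f52dc29))) (.node (.node (.leaf 0x26629c2d) (.leaf 0x2f139c2f)) (.node (.leaf 0x157c9c29) (.leaf 0x0))))))) (.node (.node (.node (.node (.node (.node (.leaf 0x13939c2f) (.leaf 0x16f6dc2d)) (.node (.leaf 0xf5b1c2b) (.leaf 0x2adb5c2b))) (.node (.node (.leaf 0x1b439c2f) (.leaf 0x8d5dc2d)) (.node (.leaf 0x22ebdc2f) (.leaf 0x1542dc2d)))) (.node (.node (.node (.leaf 0x19535c2f) (.leaf 0x12d2dc29)) (.node (.leaf 0x1ae11c29) (.leaf 0x20881c2f))) (.node (.node (.leaf 0x1fa05c29) (.leaf 0x225f5c29)) (.node (.leaf 0x24529c2b) (.leaf 0x0))))) (.node (.node (.node (.node (.leaf 0x11b65c2f) (.leaf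 0x1c53dc2f)) (.node (.leaf 0x14d51c2d) (.leaf 0x1f5d5c29))) (.node (.node (.leaf 0x1efc9c2d) (.leaf 0x1ea51c2d)) (.node (.leaf 0x2b219c2d) (.leaf 0x142e5c2b)))) (.node (.node (.node (.leaf 0x18c35c29) (.leaf 0x1769dc29)) (.node (.leaf 0x1de51c2f) (.leaf 0x11845c2f))) (.node (.node (.leaf 0x1eea9c2b) (.leaf 0x1c0a5c2f)) (.node (.leaf 0x2b0d5c2b) (.leaf 0x0)))))) (.node (.node (.node (.node (.node (.leaf 0x1df85c29) (.leaf 0x238bdc2d)) (.node (.leaf 0x1907dc2b) (.leaf 0x19ef9c2b))) (.node (.node (.leaf 0x19759c2d) (.leaf 0xaf49c2f)) (.node (.leaf 0x1b439c2d) (.leaf 0x1cfc5c29)))) (.node (.node (.node (.leaf 0x26125c2d) (.leaf 0x173d1c2b)) (.node (.leaf 0x16959c2f) (.leaf 0x18f49c29))) (.node (.node (.leaf 0x1b2d1c2d) (.leaf 0x185c1c2b)) (.node (.leaf 0x21a51c2f) (.leaf 0x0))))) (.node (.node (.node (.node (.leaf 0x9665c2f) (.leaf 0x1db99c2d)) (.node (.leaf 0x21849c2f)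 (.leaf 0xc305c2d))) (.node (.node (.leaf 0x1c551c2f) (.leaf 0x14851c2d)) (.node (.leaf 0x23a59c2d) (.leaf 0x0)))) (.node (.node (.node (.leaf 0x14a7dc2f) (.leaf 0x1c32)) (.node (.leaf 0x241edc29) (.leaf 0x1e481c2f))) (.node (.node (.leaf 0x1c6c9c2b) (.leaf 0x15d75c2f)) (.node (.leaf 0x1861dc2f) (.leaf 0x0)))))))) (.node (.node (.node (.node (.node (.node (.node (.leaf 0x24fb9c2f) (.leaf 0x1a5cdc2b)) (.node (.leaf 0x168fdc2b) (.leaf 0x26531c29))) (.node (.node (.leaf 0x1083dc2f) (.leaf 0x26359c2d)) (.node (.leaf 0x1b315c2f) (.leaf 0x1a32dc29)))) (.node (.node (.node (.leaf 0x19275c2d) (.leaf 0x18fedc2d)) (.node (.leaf 0x22e5dc2b) (.leaf 0xf635c29))) (.node (.node (.leaf 0x10b41c2d) (.leaf 0x182ddc2d)) (.node (.leaf 0x178adc2f) (.leaf 0x0))))) (.node (.node (.node (.node (.leaf 0x1e9d9c2f) (.leaf 0x212b5c2f)) (.node (.leaf 0x114c5c2d) (.leaf 0x21d2dc2b))) (.node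 (.node (.leaf 0x25cc5c2f) (.leaf 0x264d1c2d)) (.node (.leaf 0x2091dc2f) (.leaf 0x19ba5c2f)))) (.node (.node (.node (.leaf 0x1f0fdc2d) (.leaf 0x2154dc2d)) (.node (.leaf 0x1d625c29) (.leaf 0x2648dc2f))) (.node (.node (.leaf 0x19e8dc2f) (.leaf 0x1decdc2f)) (.node (.leaf 0x25aedc2f) (.leaf 0x0)))))) (.node (.node (.node (.node (.node (.leaf 0x8489c2d) (.leaf 0x18ce9c2f)) (.node (.leaf 0x1b011c2b) (.leaf 0x1e785c29))) (.node (.node (.leaf 0x24f55c2f) (.leaf 0x1b729c29)) (.node (.leaf 0x20459c2f) (.leaf 0x21029c2d)))) (.node (.node (.node (.leaf 0x22121c2d) (.leaf 0x1a679c2f)) (.node (.leaf 0x20dddc2f) (.leaf 0x26e45c29))) (.node (.node (.leaf 0x40f9c2b) (.leaf 0x1e5d1c2f)) (.node (.leaf 0x26855c29) (.leaf 0x0))))) (.node (.node (.node (.node (.leaf 0x1db91c2f) (.leaf 0x1a5ddc2b)) (.node (.leaf 0x25cadc2f) (.leaf 0x258f1c29))) (.node (.node (.leaf 0x20215c2b) (.leaf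 0x1e859c2f)) (.node (.leaf 0x254adc2f) (.leaf 0x0)))) (.node (.node (.node (.leaf 0x271a1c2f) (.leaf 0x267e5c2d)) (.node (.leaf 0x26c39c2b) (.leaf 0x1ef2dc29))) (.node (.node (.leaf 0x15801c2f) (.leaf 0x1429dc29)) (.node (.leaf 0x20f0dc29) (.leaf 0x0))))))) (.node (.node (.node (.node (.node (.node (.leaf 0x8e21c2b) (.leaf 0x1769dc2b)) (.node (.leaf 0x234a5c29) (.leaf 0x1fae9c2d))) (.node (.node (.leaf 0x183a9c29) (.leaf 0x204ddc29)) (.node (.leaf 0x28845c2f) (.leaf 0x24205c2b)))) (.node (.node (.node (.leaf 0x1dbfdc2d) (.leaf 0x25025c2d)) (.node (.leaf 0x1b845c2d) (.leaf 0x182bdc29))) (.node (.node (.leaf 0x1d005c29) (.leaf 0x22de9c2d)) (.node (.leaf 0x1b281c2f) (.leaf 0x0))))) (.node (.node (.node (.node (.leaf 0x17685c29) (.leaf 0x23aa5c2d)) (.node (.leaf 0x27035c2b) (.leaf 0x26e4dc2b))) (.node (.node (.leaf 0x14509c29) (.leaf 0x49d9c29)) (.node (.leaf 0x2708dc2f)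 (.leaf 0x21905c2b)))) (.node (.node (.node (.leaf 0x27ad5c2f) (.leaf 0x19035c2f)) (.node (.leaf 0x15641c2d) (.leaf 0x2b521c2d))) (.node (.node (.leaf 0xefd1c2d) (.leaf 0x1e819c2d)) (.node (.leaf 0x171ddc29) (.leaf 0x0)))))) (.node (.node (.node (.node (.node (.leaf 0x1cf29c29) (.leaf 0x9e69c2d)) (.node (.leaf 0x12049c2d) (.leaf 0x10c0dc2f))) (.node (.node (.leaf 0x14de5c2d) (.leaf 0x1e371c2d)) (.node (.leaf 0xf635c2d) (.leaf 0x14825c2f)))) (.node (.node (.node (.leaf 0x16715c2f) (.leaf 0x17731c2f)) (.node (.leaf 0x262e1c2d) (.leaf 0x21145c2d))) (.node (.node (.leaf 0x1c531c2f) (.leaf 0x1764dc2f)) (.node (.leaf 0x1c6c5c2d) (.leaf 0x0))))) (.node (.node (.node (.node (.leaf 0xf3adc2d) (.leaf 0x1e6d9c2d)) (.node (.leaf 0x18179c2f) (.leaf 0x256c5c2f))) (.node (.node (.leaf 0x8bc9c2d) (.leaf 0x1cf99c29)) (.node (.leaf 0x1ac6dc2f) (.leaf 0x0)))) (.node (.node (.node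 (.leaf 0x1e471c2b) (.leaf 0x1a4bdc29)) (.node (.leaf 0x20f65c2d) (.leaf 0xedf1c2b))) (.node (.node (.leaf 0x16479c2d) (.leaf 0x20ec1c2f)) (.node (.leaf 0x1db05c2f) (.leaf 0x0))))))))) (.node (.node (.node (.node (.node (.node (.node (.node (.leaf 0x246fdc2f) (.leaf 0x1a9c1c2d)) (.node (.leaf 0x1cc85c29) (.leaf 0x20d2dc2d))) (.node (.node (.leaf 0xf5b1c29) (.leaf 0x1141dc29)) (.node (.leaf 0x1cc2dc2b) (.leaf 0x22449c2b)))) (.node (.node (.node (.leaf 0x194b9c29) (.leaf 0x18ffdc2d)) (.node (.leaf 0x20f0dc2d) (.leaf 0x21699c2f))) (.node (.node (.leaf 0x18101c2b) (.leaf 0x1af75c2d)) (.node (.leaf 0x1e4a1c2b) (.leaf 0x0))))) (.node (.node (.node (.node (.leaf 0x22de1c2b) (.leaf 0x190b1c29)) (.node (.leaf 0x1ef45c29) (.leaf 0x1ef2dc2b))) (.node (.node (.leaf 0x18d61c2b) (.leaf 0x16835c2f)) (.node (.leaf 0x2153dc2d) (.leaf 0x1d15dc2d)))) (.node (.node (.node (.leaf 0x2241dc2d)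 (.leaf 0x16d51c2b)) (.node (.leaf 0x1dcddc2b) (.leaf 0x23681c2b))) (.node (.node (.leaf 0x175a5c2d) (.leaf 0x1b561c2b)) (.node (.leaf 0x15519c29) (.leaf 0x0)))))) (.node (.node (.node (.node (.node (.leaf 0xcb31c29) (.leaf 0x2aeb5c2b)) (.node (.leaf 0x21bbdc2f) (.leaf 0x15695c2f))) (.node (.node (.leaf 0x188adc29) (.leaf 0x19405c2d)) (.node (.leaf 0x1aff9c2f) (.leaf 0x139edc2f)))) (.node (.node (.node (.leaf 0x19ca1c29) (.leaf 0x26861c2d)) (.node (.leaf 0x1d5bdc29) (.leaf 0x2c675c29))) (.node (.node (.leaf 0x22011c29) (.leaf 0x264c1c2b)) (.node (.leaf 0x180a1c2b) (.leaf 0x0))))) (.node (.node (.node (.node (.leaf 0xc781c2b) (.leaf 0x1ce4dc2d)) (.node (.leaf 0x209d5c2f) (.leaf 0x25961c2f))) (.node (.node (.leaf 0x18521c2f) (.leaf 0x1ca35c2b)) (.node (.leaf 0x1cd41c2f) (.leaf 0x1b671c2d)))) (.node (.node (.node (.leaf 0x161d1c2d) (.leaf 0x1fa99c2b)) (.node (.leaf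 0x15219c2d) (.leaf 0x21731c2f))) (.node (.node (.leaf 0x23a29c29) (.leaf 0x16f8dc2f)) (.node (.leaf 0x110a9c2f) (.leaf 0x0))))))) (.node (.node (.node (.node (.node (.node (.leaf 0x49f9c2d) (.leaf 0x1e289c2d)) (.node (.leaf 0x25949c2b) (.leaf 0x1f00dc2f))) (.node (.node (.leaf 0x1c389c2d) (.leaf 0x1456dc2b)) (.node (.leaf 0x24b89c2f) (.leaf 0x1fa95c29)))) (.node (.node (.node (.leaf 0x1d0f1c2d) (.leaf 0x14f05c2f)) (.node (.leaf 0x10d55c2d) (.leaf 0x21fb1c2f))) (.node (.node (.leaf 0x11845c2d) (.leaf 0x25951c29)) (.node (.leaf 0x10eddc29) (.leaf 0x0))))) (.node (.node (.node (.node (.leaf 0x15b7dc2f) (.leaf 0x1c3b5c2f)) (.node (.leaf 0x1c365c2b) (.leaf 0x1ebe1c2d))) (.node (.node (.leaf 0x1cf4dc29) (.leaf 0xc72dc2b)) (.node (.leaf 0x22661c2f) (.leaf 0x1f891c2d)))) (.node (.node (.node (.leaf 0x1e9b1c2d) (.leaf 0x1b935c2d)) (.node (.leaf 0x23aa5c2f) (.leaf 0x212e9c29)))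 (.node (.node (.leaf 0x1efcdc2d) (.leaf 0x1e985c2f)) (.node (.leaf 0x25501c2b) (.leaf 0x0)))))) (.node (.node (.node (.node (.node (.leaf 0x1c45dc2d) (.leaf 0x20285c2b)) (.node (.leaf 0x20669c29) (.leaf 0x1dd69c2d))) (.node (.node (.leaf 0x1f405c2d) (.leaf 0x1a581c2f)) (.node (.leaf 0x1e951c2f) (.leaf 0x187edc2d)))) (.node (.node (.node (.leaf 0x14325c2d) (.leaf 0x147e1c29)) (.node (.leaf 0x1a9a5c2d) (.leaf 0x1abb9c2b))) (.node (.node (.leaf 0xadd9c2f) (.leaf 0x20b71c29)) (.node (.leaf 0x14325c2f) (.leaf 0x0))))) (.node (.node (.node (.node (.leaf 0x1862dc2d) (.leaf 0x1f6cdc2d)) (.node (.leaf 0x26341c2b) (.leaf 0x183e5c2f))) (.node (.node (.leaf 0x4bc1c2f) (.leaf 0x16949c2d)) (.node (.leaf 0x1e985c29) (.leaf 0x0)))) (.node (.node (.node (.leaf 0x1b9c9c2f) (.leaf 0x1b531c29)) (.node (.leaf 0x15645c2f) (.leaf 0x1b859c29))) (.node (.node (.leaf 0x21f49c2d) (.leaf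 0x2379dc2f)) (.node (.leaf 0x21cf5c2f) (.leaf 0x0)))))))) (.node (.node (.node (.node (.node (.node (.node (.leaf 0x15131c2b) (.leaf 0x26e4dc2d)) (.node (.leaf 0x1742dc2d) (.leaf 0x21bbdc2d))) (.node (.node (.leaf 0x1a021c2d) (.leaf 0x22449c2d)) (.node (.leaf 0x20469c2f) (.leaf 0x15015c2d)))) (.node (.node (.node (.leaf 0x1a585c2b) (.leaf 0x23a11c2d)) (.node (.leaf 0x11171c2f) (.leaf 0x19da1c29))) (.node (.node (.leaf 0x2250dc29) (.leaf 0x1cd39c2f)) (.node (.leaf 0x25a25c2d) (.leaf 0x0))))) (.node (.node (.node (.node (.leaf 0x19e91c2f) (.leaf 0x165c1c2d)) (.node (.leaf 0x1ddd1c2f) (.leaf 0x19e81c2d))) (.node (.node (.leaf 0x1076dc2f) (.leaf 0x11095c2f)) (.node (.leaf 0x24291c2b) (.leaf 0xf625c2d)))) (.node (.node (.node (.leaf 0x130f9c2d) (.leaf 0x25025c2f)) (.node (.leaf 0x242e9c2d) (.leaf 0x2457dc2f))) (.node (.node (.leaf 0x1ca4dc29) (.leaf 0x1409dc2f)) (.node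 (.leaf 0x230c9c2d) (.leaf 0x0)))))) (.node (.node (.node (.node (.node (.leaf 0x1cb39c2f) (.leaf 0x26b79c2f)) (.node (.leaf 0x29481c2d) (.leaf 0x1f955c2b))) (.node (.node (.leaf 0x1cac5c2b) (.leaf 0x21375c2d)) (.node (.leaf 0x21735c29) (.leaf 0x1550dc2d)))) (.node (.node (.node (.leaf 0x21de5c29) (.leaf 0x12e29c2b)) (.node (.leaf 0x20d0dc2d) (.leaf 0x1abbdc2d))) (.node (.node (.leaf 0x12a1dc2d) (.leaf 0x1ca85c2b)) (.node (.leaf 0x20469c2d) (.leaf 0x0))))) (.node (.node (.node (.node (.leaf 0x19af1c2f) (.leaf 0x10449c2d)) (.node (.leaf 0x1ed05c2f) (.leaf 0x1c9a5c2d))) (.node (.node (.leaf 0x194d5c2d) (.leaf 0x242c1c2f)) (.node (.leaf 0x10861c2b) (.leaf 0x0)))) (.node (.node (.node (.leaf 0x18645c2d) (.leaf 0x19e91c2b)) (.node (.leaf 0x2020dc29) (.leaf 0x23129c2b))) (.node (.node (.leaf 0x157fdc2f) (.leaf 0x1e5d1c2d)) (.node (.leaf 0x24195c2b) (.leaf 0x0))))))) (.node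 (.node (.node (.node (.node (.node (.leaf 0x15115c2d) (.leaf 0x1e699c29)) (.node (.leaf 0x143cdc2f) (.leaf 0x190f5c2b))) (.node (.node (.leaf 0x22325c2f) (.leaf 0x1033dc2f)) (.node (.leaf 0x27a71c2d) (.leaf 0x15e15c2f)))) (.node (.node (.node (.leaf 0x14b01c2d) (.leaf 0x21fcdc2f)) (.node (.leaf 0x17839c2d) (.leaf 0x1b945c2b))) (.node (.node (.leaf 0x1959dc2f) (.leaf 0x16995c2f)) (.node (.leaf 0x1eea9c2f) (.leaf 0x0))))) (.node (.node (.node (.node (.leaf 0x1ab89c2d) (.leaf 0x1e189c2f)) (.node (.leaf 0x26125c2f) (.leaf 0x1d93dc29))) (.node (.node (.leaf 0x14185c2d) (.leaf 0x20ef1c2d)) (.node (.leaf 0xf76dc2d) (.leaf 0x176a1c2f)))) (.node (.node (.node (.leaf 0x203a5c29) (.leaf 0x1bb2dc29)) (.node (.leaf 0x23061c2b) (.leaf 0x1cff1c29))) (.node (.node (.leaf 0x21ac5c2f) (.leaf 0x2065dc29)) (.node (.leaf 0x1e651c2b) (.leaf 0x0)))))) (.node (.node (.node (.node (.node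 (.leaf 0x15785c2b) (.leaf 0x2b06dc29)) (.node (.leaf 0x1e365c29) (.leaf 0x21da5c29))) (.node (.node (.leaf 0x40f9c2f) (.leaf 0x10589c29)) (.node (.leaf 0x271e1c2f) (.leaf 0x1c231c2f)))) (.node (.node (.node (.leaf 0x2b8e5c2d) (.leaf 0x2384dc2f)) (.node (.leaf 0x1f319c2f) (.leaf 0x213f1c2d))) (.node (.node (.leaf 0x154bdc29) (.leaf 0x13649c2b)) (.node (.leaf 0x18691c2d) (.leaf 0x0))))) (.node (.node (.node (.node (.leaf 0xec01c2d) (.leaf 0x20b6dc29)) (.node (.leaf 0x1a84dc2b) (.leaf 0x1a32dc2b))) (.node (.node (.leaf 0x19da1c2b) (.leaf 0x1042dc2f)) (.node (.leaf 0x18199c2b) (.leaf 0x0)))) (.node (.node (.node (.leaf 0xcba1c29) (.leaf 0x1959dc29)) (.node (.leaf 0x12abdc2f) (.leaf 0x23065c2f))) (.node (.node (.leaf 0x15cf1c2d) (.leaf 0x214edc2b)) (.node (.leaf 0x1ed05c29) (.leaf 0x0))))))))))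

/-- packed table -/
noncomputable def cov16 : BTree := (.node (.node (.node cov16_lll cov16_llr) (.node cov16_lrl cov16_lrr)) (.node (.node cov16_rll cov16_rlr) (.node cov16_rrl cov16_rrr)))

theorem cov16_ok : okCover 16 cov16 = true := by decide +kernel

/-- straight-line program -/
def slp16 : List (Nat × Nat × Nat) :=
  [(0x58201554d22c537610547b8f3b3503, 1, 1),
   (0x98291786eca952a9216d338f610c90, 2, 1),
   (0xa36717a6aabbac00988c3ae1210ca8, 2, 2),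
   (0xacaf3a06287ad8a202c681dc51892d, 3, 2),
   (0x2590e3d18b93db3806e2898a348155, 5, 2),
   (0x2c8cb84d440bd94426a289dc3b3417, 5, 3),
   (0x4088e3b65361876a454b2deb0481e1, 7, 3),
   (0x308ab8303451c729c404756e8b35e9, 7, 4),
   (0x94184451c13dd7355871a94cf025a2, 9, 4),
   (0x7c237a926aa1d680b649714c018acc, 10, 3),
   (0x7a235b96809c0864b0365b8ed18a4a, 10, 4),
   (0xa54628a045c40343a777b2556d8f4, 12, 4),
   (0x4d80770905245a332e957a83764a13, 12, 5),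
   (0x3d5cc92893416e1a0a0d33e360246b, 14, 3),
   (0x85d6a080b433aa99890c3be326d864, 14, 4),
   (0x9b2917dae0aae4d49caa8110110dc6, 15, 3),
   (0x60e4e3d92f02c4d8d4c18526a222e5, 16, 3),
   (0x22d0e38d9695e02695f3aa834480d1, 18, 1),
   (0x5820628da7b5d2274a34aa0935058f, 19, 1),
   (0x55c2628163832a913ce494e886da2e, 20, 1),
   (0xbdab1780451b1a9341c8905449d167, 21, 1),
   (0x2350905ce1746d5514537ae14930c3, 21, 22),
   (0x5082db30b4338729bd243dea882e20, 23, 0),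
   (0x9a6821ade88981021daa2b241addd6, 24, 0),
   (0x2b0d66d6095c65703854791130a8e3, 24, 0),
   (0x7ae2314aadbba0cb19283a824a4ca0, 26, 0),
   (0xbaab49c9e689c2c2d9247416810da0, 26, 11),
   (0x8d9f5b9266a39a82ae403854918a0c, 27, 19),
   (0x58e01500b131c497d51274e8c6dae4, 28, 0),
   (0xab6f3a49eb8bacc80528394c410d40, 29, 0),
   (0x45c80498f372aa5a0dab0be3093056, 30, 21),
   (0x4a812645c53d02f334559c177412c3, 31, 0),
   (0x6ced05b8cf2a28788932256ec0a860, 33, 0),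
   (0xa14534d698549404871bb8ef6d982, 33, 29),
   (0x9a68f896acb8406921ab51dd010c96, 34, 0),
   (0x2350773e4b652d180457994d548143, 36, 0),
   (0x5082531e175a06ead12c23e326da60, 37, 0),
   (0x2b0d05bc2454e5142455a38f7b3403, 37, 2),
   (0x7ae35b9e8a9920e0b532418ac18ac0, 39, 0),
   (0x92c929d33ac61a3ec5856e64122d, 39, 17),
   (0xb25ab84cc42dc1441c6fac9910a9c2, 41, 0),
   (0x1b055b96207aa464b9b00a08b9d0f6, 41, 0),
   (0x2d3263dd63ce1169855a0557220a3, 43, 0),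
   (0xb5db059cc3292ae145324526c505e0, 44, 0),
   (0x692c153d728511161c579a415299c3, 44, 2),
   (0x1287499ef0aa02e5952c236d27c4c0, 46, 0),
   (0x95984450e5755b33406fb855148162, 46, 6),
   (0x40c80499cf384458ddb054e8b64ab6, 47, 0),
   (0x81566c4c72d12f73055991175c243, 49, 0),
   (0xa5a6313a257a1a732d322282cbd600, 50, 0),
   (0x4b412644f074ecf5a857a14d522023, 50, 2),
   (0x68ad05b8b531067bcd2c43e3250680, 52, 0),
   (0xd277189544045bcd565c5ed64a81, 52, 47),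
   (0x9358e3c4014decf51683aae02220d3, 53, 0),
   (0x809662bad46b0679bd0095ea950624, 55, 0),
   (0xbdab179c66111ae2c1324282ca4d60, 55, 0),
   (0x1b457a922a7b2c8094079416ea4cc9, 57, 15),
   (0x68aca08174810699be4e45ea73162c, 57, 0),
   (0x158749caa6b81ac2c1074a82e8bd64, 58, 0),
   (0xb0da62a031548447dd2e652675c2a0, 59, 0),
   (0x3ddd26151322aa6a09b00c5eb02476, 61, 21),
   (0x728e823d2505031358579ae15931a3, 61, 0),
   (0x34ca151dafb228e88d2c25eb282c40, 63, 0),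
   (0x79223106ecaad0a91ec6801259d1cd, 63, 38),
   (0x3a9c04d18b95c3381471ad9af220c2, 65, 0),
   (0x750f26189542a65bbdab08c5002636, 65, 0),
   (0x399c8244014d0af540559b6d793163, 66, 0),
   (0x2c4c153ad46a1e79d5322086c82ee0, 68, 0),
   (0x385d263d16255516ae83b98a202613, 69, 57),
   (0x2d0d059c2354a6e15d00645e9b36a4, 70, 0),
   (0x79a37aba6da20a7b293222e0c18820, 70, 0),
   (0xa066f892edac948b400e618a710d69, 72, 37),
   (0x4508772982942611d6c65c5e5482ed, 73, 0),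
   (0x4980e3d09645cb368471aae0f64942, 73, 0),
   (0x64647718034a9e514dab0d6f022296, 74, 0),
   (0x5ba05346c06ccef49057a499550503, 76, 0),
   (0xb9aaf8b876110a76a92c441729d020, 77, 0),
   (0x6524822cef71a7088ac12deaa4806d, 77, 45),
   (0x5a20155ca734495724747b2536d802, 79, 0),
   (0xaa6f3a29ee8ac013b1a68110510e56, 79, 0),
   (0xb145352075d65371051b812fb3503, 80, 0),
   (0xa2e6f8a2a5bca043292e659a718820, 82, 0),
   (0x2ccd66a17783284abc0e90c4750629, 83, 17),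
   (0x79623126aab90c00c247436cea4d6c, 83, 0),
   (0x83d6db3034502329dd0e48867316a4, 84, 0),
   (0xbc2a219266a49682a927659ae8bc20, 85, 0),
   (0x92e3c1152186bbceca2be2164a8d, 86, 50),
   (0x9598775d21045b5514747c173220c2, 87, 0),
   (0x80d65331b4b38529bc083d6e450629, 89, 0),
   (0xbb6af8904619ec82c24970540a4d6c, 89, 0),
   (0x50830582d16b8697dd0c3ce92316a4, 90, 0),
   (0xa5a77ac86b11dac82924714c88bc20, 91, 0),
   (0x68ec53242f538408dd123ce8c5c2a4, 93, 79),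
   (0x1346f8b270a1ed25a928714c4adc20, 93, 0)]

/-- levels -/
def levels16 : List (Nat × List Nat) :=
  [(0, [96, 0, 1, 2, 3, 4, 5, 6, 7, 8, 9, 10, 11, 12, 13, 14, 15, 16, 17, 18, 19, 20, 21, 22]),
   (1, [96, 24, 27, 28, 31, 34, 38, 40, 45, 47, 51, 53, 57, 61, 64, 69]),
   (4, [96, 72, 78, 83, 87, 93]),
   (2, [96, 95])]

/-- stabilising facts -/
def gens16 : List Nat := [1802, 1803]

theorem chain16_ok : okChain 16 gens16 slp16 levels16 = true := by decide +kernel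

theorem chain16_size : chainSize levels16 = 4608 := by decide +kernel

end CfsgLib.Spor.J4.Index
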