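import Cfsg.Agent.Lib.Spor.J4.Index.Check

/-!
Coverage and stabiliser of node 17 (generated).
-/

set_option autoImplicit false
set_option linter.all false

namespace CfsgLib.Spor.J4.Index

open CfsgLib.PresCert

/-- packed table -/
noncomputable def cov17_lll : BTree := (.node (.node (.node (.node (.node (.node (.node (.node (.node (.leaf 0x10f09c63) (.leaf 0x17095c65)) (.node (.leaf 0x14c1dc65) (.leaf 0x15c8dc63))) (.node (.node (.leaf 0x69f1c67) (.leaf 0xc55dc61)) (.node (.leaf 0x97fdc59) (.leaf 0x19cfdc61)))) (.node (.node (.node (.leaf 0x16b55c59) (.leaf 0xd1e9c61)) (.node (.leaf 0x109d5c55) (.leaf 0x1676dc55))) (.node (.node (.leaf 0xcf19c55) (.leaf 0x11419c65)) (.node (.leaf 0x19c15c55) (.leaf 0x0))))) (.node (.node (.node (.node (.leaf 0x18165c61) (.leaf 0x18af1c61)) (.node (.leaf 0x111d1c59) (.leaf 0x159a5c59))) (.node (.node (.leaf 0x14ae1c55) (.leaf 0x1ab29c65)) (.node (.leaf 0x16511c65) (.leaf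 0x11d75c65)))) (.node (.node (.node (.leaf 0x16cd1c59) (.leaf 0x1185dc59)) (.node (.leaf 0x173c5c65) (.leaf 0xe169c65))) (.node (.node (.leaf 0x153e5c67) (.leaf 0x1a145c65)) (.node (.leaf 0x16b35c65) (.leaf 0x0)))))) (.node (.node (.node (.node (.node (.leaf 0x1b099c59) (.leaf 0x4be5c59)) (.node (.leaf 0x137f1c55) (.leaf 0x1ac99c55))) (.node (.node (.leaf 0x1aeb9c65) (.leaf 0x10c01c59)) (.node (.leaf 0x159a5c65) (.leaf 0x14145c63)))) (.node (.node (.node (.leaf 0x16f85c59) (.leaf 0x8be1c67)) (.node (.leaf 0xd1e9c55) (.leaf 0x1b269c65))) (.node (.node (.leaf 0x11889c65) (.leaf 0x132e1c55)) (.node (.leaf 0x12801c67) (.leaf 0x0))))) (.node (.node (.node (.node (.leaf 0x10cc5c55) (.leaf 0x19c85c59)) (.node (.leaf 0x1a921c65) (.leaf 0x190d1c61))) (.node (.node (.leaf 0x15ad1c65) (.leaf 0xea99c65)) (.node (.leaf 0xade1c61) (.leaf 0x16d79c65)))) (.node (.node (.node (.leaf 0x1e301c63) (.leaf 0x18041c55)) (.node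 (.leaf 0x1dd95c67) (.leaf 0x19189c63))) (.node (.node (.leaf 0x7ae9c65) (.leaf 0x188b5c65)) (.node (.leaf 0x1b8f1c63) (.leaf 0x0))))))) (.node (.node (.node (.node (.node (.node (.leaf 0x11421c59) (.leaf 0x192b1c65)) (.node (.leaf 0x14c25c59) (.leaf 0x159f9c55))) (.node (.node (.leaf 0x1a565c61) (.leaf 0x9ce5c67)) (.node (.leaf 0xefe5c61) (.leaf 0x1ad99c63)))) (.node (.node (.node (.leaf 0x199ddc63) (.leaf 0x14ce5c67)) (.node (.leaf 0x14151c59) (.leaf 0x12405c65))) (.node (.node (.leaf 0xb5c1c61) (.leaf 0x14cd9c65)) (.node (.leaf 0x1b3f9c65) (.leaf 0x0))))) (.node (.node (.node (.node (.leaf 0x14e1dc61) (.leaf 0x10e3dc65)) (.node (.leaf 0x18c3dc67) (.leaf 0x12811c59))) (.node (.node (.leaf 0x10079c67) (.leaf 0x12b09c67)) (.node (.leaf 0x142adc65) (.leaf 0x117a5c55)))) (.node (.node (.node (.leaf 0x16529c61) (.leaf 0x112edc63)) (.node (.leaf 0x1ac1dc63) (.leaf 0x150e9c61))) (.node (.node (.leaf 0x1b44dc59)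 (.leaf 0x15f79c67)) (.node (.leaf 0x1c309c65) (.leaf 0x0)))))) (.node (.node (.node (.node (.node (.leaf 0x1988dc67) (.leaf 0x17795c65)) (.node (.leaf 0x17ab9c61) (.leaf 0x14191c61))) (.node (.node (.leaf 0x1e6b5c65) (.leaf 0x16d9dc67)) (.node (.leaf 0x16cedc63) (.leaf 0xf735c59)))) (.node (.node (.node (.leaf 0x16df5c55) (.leaf 0x14d2dc61)) (.node (.leaf 0x13305c65) (.leaf 0x16e65c67))) (.node (.node (.leaf 0x16fa9c67) (.leaf 0x10441c61)) (.node (.leaf 0x14ac9c61) (.leaf 0x0))))) (.node (.node (.node (.node (.leaf 0x1aae9c55) (.leaf 0x12621c55)) (.node (.leaf 0x15e19c65) (.leaf 0xb5c1c63))) (.node (.node (.leaf 0x18029c55) (.leaf 0x1343dc55)) (.node (.leaf 0x1538dc65) (.leaf 0x0)))) (.node (.node (.node (.leaf 0x1439dc67) (.leaf 0x155edc61)) (.node (.leaf 0x11569c61) (.leaf 0xfae5c65))) (.node (.node (.leaf 0x16d55c67) (.leaf 0x116c1c55)) (.node (.leaf 0x1169dc65) (.leaf 0x0)))))))) (.node (.node (.node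 (.node (.node (.node (.node (.leaf 0x16361c67) (.leaf 0x1a2a9c61)) (.node (.leaf 0xe2e5c59) (.leaf 0x137f1c65))) (.node (.node (.leaf 0x1a481c67) (.leaf 0x179cdc65)) (.node (.leaf 0x176f1c61) (.leaf 0x192d5c61)))) (.node (.node (.node (.leaf 0xe169c59) (.leaf 0xd585c59)) (.node (.leaf 0x19141c55) (.leaf 0x1a63dc63))) (.node (.node (.leaf 0x19931c61) (.leaf 0x12665c63)) (.node (.leaf 0x1561dc63) (.leaf 0x0))))) (.node (.node (.node (.node (.leaf 0x1ee95c67) (.leaf 0x1a2d5c65)) (.node (.leaf 0x177fdc61) (.leaf 0x1adb9c59))) (.node (.node (.leaf 0xc099c61) (.leaf 0x4bc9c67)) (.node (.leaf 0x1af99c63) (.leaf 0x17b11c59)))) (.node (.node (.node (.leaf 0x16c29c61) (.leaf 0x10c35c55)) (.node (.leaf 0xedcdc55) (.leaf 0x1b551c61))) (.node (.node (.leaf 0x15cd1c55) (.leaf 0xe15dc65)) (.node (.leaf 0x16a5dc65) (.leaf 0x0)))))) (.node (.node (.node (.node (.node (.leaf 0x6d11c61) (.leaf 0x159e9c65)) (.node (.leaf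 0x15fa9c65) (.leaf 0x10075c55))) (.node (.node (.leaf 0x1abd9c59) (.leaf 0x115c1c65)) (.node (.leaf 0x13889c55) (.leaf 0x12badc65)))) (.node (.node (.node (.leaf 0x11d41c55) (.leaf 0x140a1c63)) (.node (.leaf 0x11949c55) (.leaf 0x165edc67))) (.node (.node (.leaf 0x19505c65) (.leaf 0x140b1c55)) (.node (.leaf 0xde31c65) (.leaf 0x0))))) (.node (.node (.node (.node (.leaf 0x17815c65) (.leaf 0x1d0b5c59)) (.node (.leaf 0x1a9b1c65) (.leaf 0x1347dc59))) (.node (.node (.leaf 0x125c5c55) (.leaf 0x1840dc59)) (.node (.leaf 0x1866dc65) (.leaf 0xe3d1c63)))) (.node (.node (.node (.leaf 0x11845c59) (.leaf 0x1a5fdc65)) (.node (.leaf 0x19731c67) (.leaf 0xdaa1c63))) (.node (.node (.leaf 0x123f5c65) (.leaf 0x14c4dc55)) (.node (.leaf 0x16045c67) (.leaf 0x0))))))) (.node (.node (.node (.node (.node (.node (.leaf 0x96f9c65) (.leaf 0x191c5c61)) (.node (.leaf 0xa485c61) (.leaf 0x1adbdc63))) (.node (.node (.leaf 0x1257dc65) (.leaf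 0x14539c61)) (.node (.leaf 0x19cbdc63) (.leaf 0x1a195c55)))) (.node (.node (.node (.leaf 0x1e3c9c59) (.leaf 0x18341c65)) (.node (.leaf 0x1b1a9c61) (.leaf 0x11c35c67))) (.node (.node (.leaf 0x134bdc61) (.leaf 0x16cbdc67)) (.node (.leaf 0x15e2dc67) (.leaf 0x0))))) (.node (.node (.node (.node (.leaf 0x162d9c67) (.leaf 0x1429dc65)) (.node (.leaf 0x16209c65) (.leaf 0x13529c65))) (.node (.node (.leaf 0xf85dc65) (.leaf 0x1a7cdc65)) (.node (.leaf 0x17b3dc55) (.leaf 0x15d65c65)))) (.node (.node (.node (.leaf 0x14121c59) (.leaf 0x19901c55)) (.node (.leaf 0xe32dc65) (.leaf 0x1936dc65))) (.node (.node (.leaf 0xe855c55) (.leaf 0x196adc63)) (.node (.leaf 0x171f5c67) (.leaf 0x0)))))) (.node (.node (.node (.node (.node (.leaf 0xc705c67) (.leaf 0x16d51c67)) (.node (.leaf 0x19d09c59) (.leaf 0x15f2dc59))) (.node (.node (.leaf 0xe105c65) (.leaf 0x174f5c65)) (.node (.leaf 0x17935c59) (.leaf 0xdd99c59)))) (.node (.node (.node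 (.leaf 0x151d5c67) (.leaf 0x1b6f9c65)) (.node (.leaf 0xe079c61) (.leaf 0x69f1c59))) (.node (.node (.leaf 0x168c5c65) (.leaf 0x13009c63)) (.node (.leaf 0xf859c59) (.leaf 0x0))))) (.node (.node (.node (.node (.leaf 0x105adc63) (.leaf 0x15a51c67)) (.node (.leaf 0x19b65c67) (.leaf 0xd611c67))) (.node (.node (.leaf 0x16d69c65) (.leaf 0x15c09c67)) (.node (.leaf 0x190ddc65) (.leaf 0x0)))) (.node (.node (.node (.leaf 0x96f9c59) (.leaf 0x14dddc55)) (.node (.leaf 0x14e0dc63) (.leaf 0x12975c55))) (.node (.node (.leaf 0x4779c63) (.leaf 0x16d31c67)) (.node (.leaf 0x16749c65) (.leaf 0x0))))))))) (.node (.node (.node (.node (.node (.node (.node (.node (.leaf 0x18bb1c55) (.leaf 0x15f2dc65)) (.node (.leaf 0x12131c67) (.leaf 0x13769c59))) (.node (.node (.leaf 0x18df9c61) (.leaf 0x1446dc59)) (.node (.leaf 0x16db1c65) (.leaf 0x16071c65)))) (.node (.node (.node (.leaf 0xc3b5c63) (.leaf 0x19ec9c55)) (.node (.leaf 0xe8d5c65)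 (.leaf 0x1b835c63))) (.node (.node (.leaf 0x15a51c65) (.leaf 0x1a781c61)) (.node (.leaf 0x1b229c67) (.leaf 0x0))))) (.node (.node (.node (.node (.leaf 0x119d5c61) (.leaf 0x172c1c55)) (.node (.leaf 0x1751dc63) (.leaf 0xcf99c63))) (.node (.node (.leaf 0x159e9c55) (.leaf 0x10a51c55)) (.node (.leaf 0x17329c59) (.leaf 0xf951c59)))) (.node (.node (.node (.leaf 0x1635dc65) (.leaf 0xea65c65)) (.node (.leaf 0x16535c65) (.leaf 0x16d51c59))) (.node (.node (.leaf 0x144d9c67) (.leaf 0x1bb21c61)) (.node (.leaf 0x15e1dc59) (.leaf 0x0)))))) (.node (.node (.node (.node (.node (.leaf 0x117a1c61) (.leaf 0xd8edc55)) (.node (.leaf 0x137f9c55) (.leaf 0x174b1c59))) (.node (.node (.leaf 0x166a9c59) (.leaf 0x17a71c61)) (.node (.leaf 0x152e5c59) (.leaf 0x1a7a1c65)))) (.node (.node (.node (.leaf 0x176f1c55) (.leaf 0x1f34dc65)) (.node (.leaf 0x14035c67) (.leaf 0xdf91c65))) (.node (.node (.leaf 0x16dc9c65) (.leaf 0x1a2f1c63)) (.node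 (.leaf 0x4be5c67) (.leaf 0x0))))) (.node (.node (.node (.node (.leaf 0x15291c65) (.leaf 0x17519c67)) (.node (.leaf 0x179f9c55) (.leaf 0x11e59c67))) (.node (.node (.leaf 0xdb6dc65) (.leaf 0x16a8dc65)) (.node (.leaf 0x198d9c65) (.leaf 0x167b5c59)))) (.node (.node (.node (.leaf 0x11831c59) (.leaf 0x13849c59)) (.node (.leaf 0x16e59c67) (.leaf 0x8f01c55))) (.node (.node (.leaf 0x13769c67) (.leaf 0x16d69c61)) (.node (.leaf 0x12eedc61) (.leaf 0x0))))))) (.node (.node (.node (.node (.node (.node (.leaf 0x11419c59) (.leaf 0x15e1dc61)) (.node (.leaf 0x1a07dc61) (.leaf 0x14b49c59))) (.node (.node (.leaf 0x1776dc55) (.leaf 0xde91c61)) (.node (.leaf 0x13305c63) (.leaf 0x1a24dc65)))) (.node (.node (.node (.leaf 0x18961c63) (.leaf 0x14ae5c63)) (.node (.leaf 0x15f2dc67) (.leaf 0x155c9c59))) (.node (.node (.leaf 0x190b9c59) (.leaf 0x177bdc61)) (.node (.leaf 0xd0c1c65) (.leaf 0x0))))) (.node (.node (.node (.node (.leaf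 0x142b5c55) (.leaf 0x17abdc61)) (.node (.leaf 0x1129dc59) (.leaf 0x160fdc65))) (.node (.node (.leaf 0x10af5c63) (.leaf 0x14329c59)) (.node (.leaf 0x8f1dc67) (.leaf 0x19735c55)))) (.node (.node (.node (.leaf 0xedd5c59) (.leaf 0xe01dc65)) (.node (.leaf 0x16f85c55) (.leaf 0x14a95c67))) (.node (.node (.leaf 0x174f5c55) (.leaf 0x1309dc63)) (.node (.leaf 0x11295c65) (.leaf 0x0)))))) (.node (.node (.node (.node (.node (.leaf 0x1b121c63) (.leaf 0x17a35c67)) (.node (.leaf 0x1abf1c55) (.leaf 0x11e59c55))) (.node (.node (.leaf 0x15e05c59) (.leaf 0x134e9c55)) (.node (.leaf 0x1616dc61) (.leaf 0x1a7c1c61)))) (.node (.node (.node (.leaf 0x16889c55) (.leaf 0x1cfd1c61)) (.node (.leaf 0x1244dc59) (.leaf 0x15cadc59))) (.node (.node (.leaf 0x14d9dc59) (.leaf 0x17879c61)) (.node (.leaf 0xe5e1c65) (.leaf 0x0))))) (.node (.node (.node (.node (.leaf 0x1751dc59) (.leaf 0x12ce5c67)) (.node (.leaf 0x15b69c67) (.leaf 0x18c11c61)))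 (.node (.node (.leaf 0x1659dc67) (.leaf 0x12ba9c59)) (.node (.leaf 0x14739c65) (.leaf 0x0)))) (.node (.node (.node (.leaf 0x15861c67) (.leaf 0x1592dc65)) (.node (.leaf 0xd59dc65) (.leaf 0x12895c55))) (.node (.node (.leaf 0x111e5c65) (.leaf 0x16b49c63)) (.node (.leaf 0x15939c59) (.leaf 0x0)))))))) (.node (.node (.node (.node (.node (.node (.node (.leaf 0xe611c55) (.leaf 0x177c1c67)) (.node (.leaf 0xe80dc61) (.leaf 0x1d05dc65))) (.node (.node (.leaf 0x1886dc59) (.leaf 0x13789c59)) (.node (.leaf 0x125f9c59) (.leaf 0xea65c61)))) (.node (.node (.node (.leaf 0x132e1c59) (.leaf 0x1064dc65)) (.node (.leaf 0xe855c61) (.leaf 0x12badc67))) (.node (.node (.leaf 0x1a6f5c65) (.leaf 0x11279c67)) (.node (.leaf 0x1ace9c61) (.leaf 0x0))))) (.node (.node (.node (.node (.leaf 0x19dd9c55) (.leaf 0xce69c65)) (.node (.leaf 0x1b1c1c65) (.leaf 0x17331c59))) (.node (.node (.leaf 0x11a79c63) (.leaf 0x131e1c65)) (.node (.leaf 0xf735c67)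 (.leaf 0x10385c61)))) (.node (.node (.node (.leaf 0x18499c63) (.leaf 0x152e1c63)) (.node (.leaf 0x1659dc55) (.leaf 0x19355c65))) (.node (.node (.leaf 0x14e35c59) (.leaf 0xd8b9c61)) (.node (.leaf 0x15291c67) (.leaf 0x0)))))) (.node (.node (.node (.node (.node (.leaf 0x17331c55) (.leaf 0x12a39c59)) (.node (.leaf 0x143a9c65) (.leaf 0x175d5c65))) (.node (.node (.leaf 0x1606dc59) (.leaf 0x12e8dc59)) (.node (.leaf 0x1afe9c55) (.leaf 0xc7c1c67)))) (.node (.node (.node (.leaf 0x15c99c55) (.leaf 0x18d49c61)) (.node (.leaf 0x1aa71c63) (.leaf 0x10b21c61))) (.node (.node (.leaf 0x1b525c67) (.leaf 0x15dcdc65)) (.node (.leaf 0x11d59c59) (.leaf 0x0))))) (.node (.node (.node (.node (.leaf 0x143fdc65) (.leaf 0x1064dc67)) (.node (.leaf 0x159a5c55) (.leaf 0x18cddc65))) (.node (.node (.leaf 0x19ea5c55) (.leaf 0x13855c67)) (.node (.leaf 0x188b9c61) (.leaf 0x0)))) (.node (.node (.node (.leaf 0x1923dc67) (.leaf 0x14b51c67))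 (.node (.leaf 0x10875c59) (.leaf 0x11c71c65))) (.node (.node (.leaf 0x1d265c55) (.leaf 0x151ddc61)) (.node (.leaf 0x14851c67) (.leaf 0x0))))))) (.node (.node (.node (.node (.node (.node (.leaf 0xc0b9c59) (.leaf 0x1cdd9c67)) (.node (.leaf 0x140a1c61) (.leaf 0x18ce9c65))) (.node (.node (.leaf 0x160ddc61) (.leaf 0xa295c61)) (.node (.leaf 0x12131c55) (.leaf 0x1a29dc67)))) (.node (.node (.node (.leaf 0x12339c65) (.leaf 0x14495c59)) (.node (.leaf 0x16d31c61) (.leaf 0x141a9c63))) (.node (.node (.leaf 0x16479c65) (.leaf 0x1dc69c63)) (.node (.leaf 0x16815c67) (.leaf 0x0))))) (.node (.node (.node (.node (.leaf 0xc7c5c61) (.leaf 0x17815c67)) (.node (.leaf 0x116c1c59) (.leaf 0xcd11c65))) (.node (.node (.leaf 0x105fdc65) (.leaf 0x1b575c59)) (.node (.leaf 0x173e5c61) (.leaf 0x9d2dc55)))) (.node (.node (.node (.leaf 0xcef1c55) (.leaf 0x14c4dc67)) (.node (.leaf 0x1a745c55) (.leaf 0x17071c63))) (.node (.node (.leaf 0x1baa9c61)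 (.leaf 0x16b81c67)) (.node (.leaf 0x11915c61) (.leaf 0x0)))))) (.node (.node (.node (.node (.node (.leaf 0x16159c55) (.leaf 0x11a55c67)) (.node (.leaf 0x145a5c65) (.leaf 0xe6f1c61))) (.node (.node (.leaf 0x18341c59) (.leaf 0x1ab05c65)) (.node (.leaf 0x10a65c67) (.leaf 0x16835c67)))) (.node (.node (.node (.leaf 0x12339c61) (.leaf 0xa0e5c55)) (.node (.leaf 0x15f49c55) (.leaf 0x1a141c65))) (.node (.node (.leaf 0xc3b5c67) (.leaf 0x45b1c59)) (.node (.leaf 0x16d81c61) (.leaf 0x0))))) (.node (.node (.node (.node (.leaf 0x14ce5c63) (.leaf 0x14c85c67)) (.node (.leaf 0x1b025c63) (.leaf 0x1ed39c55))) (.node (.node (.leaf 0x483dc63) (.leaf 0x18929c55)) (.node (.leaf 0x10d89c63) (.leaf 0x0)))) (.node (.node (.node (.leaf 0x182e9c63) (.leaf 0x1df11c59)) (.node (.leaf 0x40b5c63) (.leaf 0x15985c55))) (.node (.node (.leaf 0x165adc63) (.leaf 0x14a69c67)) (.node (.leaf 0x18c91c55) (.leaf 0x0))))))))))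

/-- packed table -/
noncomputable def cov17_llr : BTree := (.node (.node (.node (.node (.node (.node (.node (.node (.node (.leaf 0x19379c67) (.leaf 0x1a565c55)) (.node (.leaf 0x1921dc65) (.leaf 0x142b5c61))) (.node (.node (.leaf 0xd2f1c63) (.leaf 0xdd0dc65)) (.node (.leaf 0x97fdc63) (.leaf 0x18339c67)))) (.node (.node (.node (.leaf 0x159f5c65) (.leaf 0xc549c59)) (.node (.leaf 0x10ac1c55) (.leaf 0x150f9c65))) (.node (.node (.leaf 0x14ce5c65) (.leaf 0x10a51c59)) (.node (.leaf 0x1b269c67) (.leaf 0x0))))) (.node (.node (.node (.node (.leaf 0x14245c65) (.leaf 0x12fb5c65)) (.node (.leaf 0x1c559c59) (.leaf 0x14789c61))) (.node (.node (.leaf 0x11d75c63) (.leaf 0x10a6dc55)) (.node (.leaf 0x16191c61) (.leaf 0x18489c65)))) (.node (.node (.node (.leaf 0x19cc1c67) (.leaf 0xaa41c67)) (.node (.leaf 0xa485c59) (.leaf 0x111cdc63))) (.node (.node (.leaf 0x158a9c67) (.leaf 0xba0dc55)) (.node (.leaf 0x16e51c55) (.leaf 0x0))))))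 (.node (.node (.node (.node (.node (.leaf 0x12339c55) (.leaf 0x1afc5c63)) (.node (.leaf 0x15239c61) (.leaf 0x140b1c61))) (.node (.node (.leaf 0x1a08dc61) (.leaf 0x142b5c63)) (.node (.leaf 0x19089c61) (.leaf 0x163bdc63)))) (.node (.node (.node (.leaf 0x1af65c59) (.leaf 0x12d75c65)) (.node (.leaf 0x16199c63) (.leaf 0x11485c63))) (.node (.node (.leaf 0xa485c65) (.leaf 0x1c6a)) (.node (.leaf 0x15199c59) (.leaf 0x0))))) (.node (.node (.node (.node (.leaf 0x18ebdc65) (.leaf 0x11ca1c59)) (.node (.leaf 0x12261c61) (.leaf 0x18401c61))) (.node (.node (.leaf 0x169a1c61) (.leaf 0x1963dc59)) (.node (.leaf 0x198f1c65) (.leaf 0x117a5c67)))) (.node (.node (.node (.leaf 0xee11c61) (.leaf 0x12eedc65)) (.node (.leaf 0x1247dc63) (.leaf 0x14eedc55))) (.node (.node (.leaf 0x128b9c67) (.leaf 0x116f5c67)) (.node (.leaf 0x18269c63) (.leaf 0x0))))))) (.node (.node (.node (.node (.node (.node (.leaf 0x10a51c65) (.leaf 0x14ae5c59))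 (.node (.leaf 0x16f81c61) (.leaf 0x19819c67))) (.node (.node (.leaf 0x1d215c63) (.leaf 0x12d91c67)) (.node (.leaf 0x1a661c59) (.leaf 0x19c19c63)))) (.node (.node (.node (.leaf 0x162d9c65) (.leaf 0xd611c55)) (.node (.leaf 0x1444dc67) (.leaf 0x183e9c55))) (.node (.node (.leaf 0x16941c59) (.leaf 0x11fc9c59)) (.node (.leaf 0x1337dc55) (.leaf 0x0))))) (.node (.node (.node (.node (.leaf 0x102e1c67) (.leaf 0x10695c67)) (.node (.leaf 0x109c1c55) (.leaf 0x105fdc67))) (.node (.node (.leaf 0x1ab05c67) (.leaf 0x19c5dc59)) (.node (.leaf 0x125a9c61) (.leaf 0x1049dc65)))) (.node (.node (.node (.leaf 0x186b1c55) (.leaf 0x145e1c65)) (.node (.leaf 0x15861c63) (.leaf 0xe80dc55))) (.node (.node (.leaf 0x10565c67) (.leaf 0x164f5c55)) (.node (.leaf 0xba0dc65) (.leaf 0x0)))))) (.node (.node (.node (.node (.node (.leaf 0x11255c59) (.leaf 0x11255c65)) (.node (.leaf 0x15165c59) (.leaf 0x14799c61))) (.node (.node (.leaf 0x18125c59)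 (.leaf 0x100c5c55)) (.node (.leaf 0x1023dc67) (.leaf 0x14a1dc61)))) (.node (.node (.node (.leaf 0x1a20dc67) (.leaf 0x18badc65)) (.node (.leaf 0xcf3dc63) (.leaf 0x196a1c59))) (.node (.node (.leaf 0x1605dc63) (.leaf 0xefe5c67)) (.node (.leaf 0x125e9c65) (.leaf 0x0))))) (.node (.node (.node (.node (.leaf 0xee89c63) (.leaf 0x121b9c65)) (.node (.leaf 0x10a41c59) (.leaf 0x1b06dc67))) (.node (.node (.leaf 0x125a5c67) (.leaf 0x4bc9c61)) (.node (.leaf 0x19935c63) (.leaf 0x0)))) (.node (.node (.node (.leaf 0x14461c55) (.leaf 0x1b409c55)) (.node (.leaf 0x11589c65) (.leaf 0x11279c65))) (.node (.node (.leaf 0xd1e9c65) (.leaf 0x1db8dc67)) (.node (.leaf 0xa295c65) (.leaf 0x0)))))))) (.node (.node (.node (.node (.node (.node (.node (.leaf 0xefb1c59) (.leaf 0x17549c65)) (.node (.leaf 0x155a1c67) (.leaf 0x18c65c67))) (.node (.node (.leaf 0x12491c67) (.leaf 0x15e09c59)) (.node (.leaf 0xf9bdc63) (.leaf 0x17155c63)))) (.node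 (.node (.node (.leaf 0x19a85c67) (.leaf 0x11589c59)) (.node (.leaf 0x17a01c61) (.leaf 0x18371c65))) (.node (.node (.leaf 0x16d81c59) (.leaf 0x1b389c63)) (.node (.leaf 0xaa75c59) (.leaf 0x0))))) (.node (.node (.node (.node (.leaf 0x1f555c65) (.leaf 0x134bdc63)) (.node (.leaf 0x1b409c61) (.leaf 0x1606dc61))) (.node (.node (.leaf 0xefe5c65) (.leaf 0x13855c63)) (.node (.leaf 0x10a6dc61) (.leaf 0x19c9dc55)))) (.node (.node (.node (.leaf 0x1244dc67) (.leaf 0x108edc67)) (.node (.leaf 0x8801c59) (.leaf 0x105adc59))) (.node (.node (.leaf 0x194d5c67) (.leaf 0x11d4dc67)) (.node (.leaf 0x15ea1c55) (.leaf 0x0)))))) (.node (.node (.node (.node (.node (.leaf 0x12425c61) (.leaf 0x159f5c67)) (.node (.leaf 0x1967dc65) (.leaf 0x15979c61))) (.node (.node (.leaf 0x141adc59) (.leaf 0x1b0fdc63)) (.node (.leaf 0x1679dc67) (.leaf 0x8fb9c55)))) (.node (.node (.node (.leaf 0x17499c55) (.leaf 0xcc49c55)) (.node (.leaf 0x176f1c59)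 (.leaf 0x15299c61))) (.node (.node (.leaf 0x1a17dc61) (.leaf 0x13779c63)) (.node (.leaf 0x11fcdc67) (.leaf 0x0))))) (.node (.node (.node (.node (.leaf 0x184a9c59) (.leaf 0x1b279c63)) (.node (.leaf 0x1abd5c67) (.leaf 0x179b9c67))) (.node (.node (.leaf 0x105d1c61) (.leaf 0x1b1fdc61)) (.node (.leaf 0x1ddb5c55) (.leaf 0x0)))) (.node (.node (.node (.leaf 0x16015c67) (.leaf 0x19ea9c59)) (.node (.leaf 0x19639c65) (.leaf 0x139c1c67))) (.node (.node (.leaf 0x16f69c67) (.leaf 0x19849c65)) (.node (.leaf 0x12039c67) (.leaf 0x0))))))) (.node (.node (.node (.node (.node (.node (.leaf 0x12fb9c65) (.leaf 0x11a49c59)) (.node (.leaf 0x167b9c65) (.leaf 0x19bb9c67))) (.node (.node (.leaf 0x112a5c55) (.leaf 0xdaa1c59)) (.node (.leaf 0x15cc5c63) (.leaf 0x1458dc65)))) (.node (.node (.node (.leaf 0x16909c65) (.leaf 0x117d1c63)) (.node (.leaf 0x131a5c61) (.leaf 0x141d1c63))) (.node (.node (.leaf 0x19091c67) (.leaf 0x10cc5c67))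 (.node (.leaf 0x102cdc59) (.leaf 0x0))))) (.node (.node (.node (.node (.leaf 0xc7c1c61) (.leaf 0x18a21c61)) (.node (.leaf 0x16559c55) (.leaf 0x14515c67))) (.node (.node (.leaf 0x196b9c55) (.leaf 0x195e9c67)) (.node (.leaf 0x11d75c61) (.leaf 0x11d15c55)))) (.node (.node (.node (.leaf 0x19679c63) (.leaf 0x16651c63)) (.node (.leaf 0x16dedc65) (.leaf 0x11041c67))) (.node (.node (.leaf 0xdb6dc59) (.leaf 0x16a8dc63)) (.node (.leaf 0x1b4a1c65) (.leaf 0x0)))))) (.node (.node (.node (.node (.node (.leaf 0x12739c67) (.leaf 0x161d5c59)) (.node (.leaf 0xcf99c67) (.leaf 0xa6edc61))) (.node (.node (.leaf 0x183bdc59) (.leaf 0x1713dc55)) (.node (.leaf 0x16281c59) (.leaf 0x114f1c55)))) (.node (.node (.node (.leaf 0xcf99c65) (.leaf 0x119d5c67)) (.node (.leaf 0x19d79c61) (.leaf 0x18161c67))) (.node (.node (.leaf 0x18399c67) (.leaf 0x11b09c55)) (.node (.leaf 0x1a661c65) (.leaf 0x0))))) (.node (.node (.node (.node (.leaf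 0x111a5c63) (.leaf 0x9d21c67)) (.node (.leaf 0x12a39c65) (.leaf 0x1b5f9c63))) (.node (.node (.leaf 0x1243dc65) (.leaf 0x1494dc59)) (.node (.leaf 0x14db9c63) (.leaf 0x0)))) (.node (.node (.node (.leaf 0x18561c67) (.leaf 0x17a61c65)) (.node (.leaf 0xf5fdc55) (.leaf 0x140a1c55))) (.node (.node (.leaf 0x18c95c59) (.leaf 0x10a71c67)) (.node (.leaf 0x1b02dc59) (.leaf 0x0))))))))) (.node (.node (.node (.node (.node (.node (.node (.node (.leaf 0x1b4c9c67) (.leaf 0x16f19c61)) (.node (.leaf 0x1a375c59) (.leaf 0x128a1c67))) (.node (.node (.leaf 0x18c59c59) (.leaf 0x14c15c67)) (.node (.leaf 0xefb1c65) (.leaf 0x1ca49c55)))) (.node (.node (.node (.leaf 0x16989c67) (.leaf 0x18531c65)) (.node (.leaf 0x19fb1c63) (.leaf 0x143c9c55))) (.node (.node (.leaf 0x15b55c61) (.leaf 0x19755c63)) (.node (.leaf 0x19e61c59) (.leaf 0x0))))) (.node (.node (.node (.node (.leaf 0x18235c59) (.leaf 0x1a759c65)) (.node (.leaf 0x14f25c67)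 (.leaf 0x1f491c63))) (.node (.node (.leaf 0x16631c59) (.leaf 0x153e9c67)) (.node (.leaf 0x13849c63) (.leaf 0x1de6dc67)))) (.node (.node (.node (.leaf 0x12bf5c61) (.leaf 0x1343dc63)) (.node (.leaf 0x1a3b9c65) (.leaf 0xcc81c65))) (.node (.node (.leaf 0x18729c67) (.leaf 0x11501c65)) (.node (.leaf 0x9d2dc65) (.leaf 0x0)))))) (.node (.node (.node (.node (.node (.leaf 0x14ba9c65) (.leaf 0xde91c59)) (.node (.leaf 0x1694dc63) (.leaf 0x17b3dc65))) (.node (.node (.leaf 0x1abd5c59) (.leaf 0x115e5c61)) (.node (.leaf 0x17a81c65) (.leaf 0x15a6dc65)))) (.node (.node (.node (.leaf 0x1776dc65) (.leaf 0x1252dc59)) (.node (.leaf 0x177edc65) (.leaf 0x12441c65))) (.node (.node (.leaf 0x1416dc63) (.leaf 0x106e5c59)) (.node (.leaf 0xb715c65) (.leaf 0x0))))) (.node (.node (.node (.node (.leaf 0x164b9c67) (.leaf 0x15445c55)) (.node (.leaf 0x1abd9c67) (.leaf 0x10441c67))) (.node (.node (.leaf 0x1023dc65) (.leaf 0x18409c59)) (.node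 (.leaf 0x15db1c55) (.leaf 0x19c29c63)))) (.node (.node (.node (.leaf 0x1b619c55) (.leaf 0x16d6dc67)) (.node (.leaf 0x15725c59) (.leaf 0x19039c67))) (.node (.node (.leaf 0x155a1c61) (.leaf 0x11fcdc55)) (.node (.leaf 0x16c61c59) (.leaf 0x0))))))) (.node (.node (.node (.node (.node (.node (.leaf 0x10a6dc65) (.leaf 0x1bb19c55)) (.node (.leaf 0x18cb9c65) (.leaf 0x147fdc67))) (.node (.node (.leaf 0x195a5c55) (.leaf 0x16cd1c67)) (.node (.leaf 0x1a669c55) (.leaf 0x16461c65)))) (.node (.node (.node (.leaf 0x163cdc59) (.leaf 0x143d1c59)) (.node (.leaf 0x1afddc59) (.leaf 0x10cc5c63))) (.node (.node (.leaf 0x18305c55) (.leaf 0x18c95c61)) (.node (.leaf 0x17a01c59) (.leaf 0x0))))) (.node (.node (.node (.node (.leaf 0x16a85c63) (.leaf 0x16a85c61)) (.node (.leaf 0x15d91c55) (.leaf 0x19839c65))) (.node (.node (.leaf 0x15eb5c55) (.leaf 0x18a45c61)) (.node (.leaf 0x153d1c55) (.leaf 0xdaa1c67)))) (.node (.node (.node (.leaf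 0x170d5c59) (.leaf 0x1f23dc65)) (.node (.leaf 0x1a07dc55) (.leaf 0x16451c65))) (.node (.node (.leaf 0x15b55c59) (.leaf 0x185e9c59)) (.node (.leaf 0x1c2f1c65) (.leaf 0x0)))))) (.node (.node (.node (.node (.node (.leaf 0x100c5c61) (.leaf 0x11a61c67)) (.node (.leaf 0x12bf5c55) (.leaf 0x17071c67))) (.node (.node (.leaf 0xf5cdc61) (.leaf 0x164edc55)) (.node (.leaf 0x16d9dc59) (.leaf 0x1aa55c55)))) (.node (.node (.node (.leaf 0x1c74) (.leaf 0x17879c63)) (.node (.leaf 0x16461c59) (.leaf 0x14191c55))) (.node (.node (.leaf 0x1688dc67) (.leaf 0x10061c59)) (.node (.leaf 0x13779c59) (.leaf 0x0))))) (.node (.node (.node (.node (.leaf 0x141d9c59) (.leaf 0x10bfdc67)) (.node (.leaf 0xddb9c65) (.leaf 0x141a9c55))) (.node (.node (.leaf 0x14f8dc59) (.leaf 0x1a539c65)) (.node (.leaf 0x1889dc65) (.leaf 0x0)))) (.node (.node (.node (.leaf 0x164edc61) (.leaf 0x17155c67)) (.node (.leaf 0xe8d5c67) (.leaf 0x14081c55))) (.node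 (.node (.leaf 0x145a9c67) (.leaf 0x9cd5c55)) (.node (.leaf 0x15cc5c67) (.leaf 0x0)))))))) (.node (.node (.node (.node (.node (.node (.node (.leaf 0x1ab2dc63) (.leaf 0x11a05c59)) (.node (.leaf 0x1b4a1c63) (.leaf 0x101c1c59))) (.node (.node (.leaf 0xecddc55) (.leaf 0x12fb9c61)) (.node (.leaf 0x13aa5c63) (.leaf 0x1185dc65)))) (.node (.node (.node (.leaf 0x144a5c65) (.leaf 0x155f5c59)) (.node (.leaf 0x17515c61) (.leaf 0x11de9c61))) (.node (.node (.leaf 0x19bbdc61) (.leaf 0x1b4a1c61)) (.node (.leaf 0xf405c65) (.leaf 0x0))))) (.node (.node (.node (.node (.leaf 0x148e9c65) (.leaf 0x170e5c55)) (.node (.leaf 0x19e15c61) (.leaf 0x12895c67))) (.node (.node (.leaf 0xcf39c61) (.leaf 0x16a8dc55)) (.node (.leaf 0x112b5c59) (.leaf 0x11c71c55)))) (.node (.node (.node (.leaf 0x14675c59) (.leaf 0x1a179c65)) (.node (.leaf 0x144d9c55) (.leaf 0x1d24dc65))) (.node (.node (.leaf 0x1d351c55) (.leaf 0x1b081c65)) (.node (.leaf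 0x163bdc55) (.leaf 0x0)))))) (.node (.node (.node (.node (.node (.leaf 0x15b49c65) (.leaf 0x12665c67)) (.node (.leaf 0x18395c65) (.leaf 0x19379c59))) (.node (.node (.leaf 0xc0b9c65) (.leaf 0x11145c61)) (.node (.leaf 0x1b109c59) (.leaf 0x1062dc55)))) (.node (.node (.node (.leaf 0x1b38dc67) (.leaf 0x10c35c65)) (.node (.leaf 0x146c5c59) (.leaf 0x18b29c55))) (.node (.node (.leaf 0x1a259c67) (.leaf 0x16a11c61)) (.node (.leaf 0x19cb1c65) (.leaf 0x0))))) (.node (.node (.node (.node (.leaf 0x17791c59) (.leaf 0x1100dc59)) (.node (.leaf 0x15eb5c67) (.leaf 0x1c6d1c65))) (.node (.node (.leaf 0x953dc65) (.leaf 0x17141c67)) (.node (.leaf 0xea65c63) (.leaf 0x0)))) (.node (.node (.node (.leaf 0x11569c55) (.leaf 0x19621c61)) (.node (.leaf 0xc8cdc67) (.leaf 0x1ad71c65))) (.node (.node (.leaf 0x18825c65) (.leaf 0x11ee5c61)) (.node (.leaf 0x1b0e9c55) (.leaf 0x0))))))) (.node (.node (.node (.node (.node (.node (.leaf 0x13b39c67)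 (.leaf 0x12f7dc67)) (.node (.leaf 0x14865c67) (.leaf 0x14dd5c63))) (.node (.node (.leaf 0x14479c59) (.leaf 0x1583dc55)) (.node (.leaf 0x16139c55) (.leaf 0x15299c67)))) (.node (.node (.node (.leaf 0x139c1c63) (.leaf 0x15a71c65)) (.node (.leaf 0xefb1c67) (.leaf 0x18409c61))) (.node (.node (.leaf 0x1af05c63) (.leaf 0x141c9c59)) (.node (.leaf 0xe15dc55) (.leaf 0x0))))) (.node (.node (.node (.node (.leaf 0x18275c65) (.leaf 0x15c8dc59)) (.node (.leaf 0x8989c67) (.leaf 0x1510dc61))) (.node (.node (.leaf 0x15649c55) (.leaf 0x155c9c67)) (.node (.leaf 0x15abdc67) (.leaf 0x11b29c67)))) (.node (.node (.node (.leaf 0x17461c55) (.leaf 0xa6edc59)) (.node (.leaf 0x18b29c63) (.leaf 0x11881c65))) (.node (.node (.leaf 0xabb5c67) (.leaf 0x15375c59)) (.node (.leaf 0x1ab4dc67) (.leaf 0x0)))))) (.node (.node (.node (.node (.node (.leaf 0x1a215c65) (.leaf 0x1eb31c67)) (.node (.leaf 0x45b1c65) (.leaf 0xee89c55))) (.node (.node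 (.leaf 0x13a45c67) (.leaf 0x1c72)) (.node (.leaf 0x15519c55) (.leaf 0x18829c65)))) (.node (.node (.node (.leaf 0x19e41c65) (.leaf 0x1deddc55)) (.node (.leaf 0x12799c63) (.leaf 0x152e1c67))) (.node (.node (.leaf 0x146bdc59) (.leaf 0x14091c65)) (.node (.leaf 0x164d5c63) (.leaf 0x0))))) (.node (.node (.node (.node (.leaf 0x1a021c61) (.leaf 0x10ec1c61)) (.node (.leaf 0x10385c55) (.leaf 0x14ae5c65))) (.node (.node (.leaf 0x1ab29c61) (.leaf 0x14a75c59)) (.node (.leaf 0x192d5c65) (.leaf 0x0)))) (.node (.node (.node (.leaf 0x14301c63) (.leaf 0x18331c55)) (.node (.leaf 0x57f9c59) (.leaf 0xd1bdc65))) (.node (.node (.leaf 0x1f8c1c59) (.leaf 0x11b39c63)) (.node (.leaf 0x17a19c67) (.leaf 0x0))))))))))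

/-- packed table -/
noncomputable def cov17_lrl : BTree := (.node (.node (.node (.node (.node (.node (.node (.node (.node (.leaf 0x14245c63) (.leaf 0x19745c63)) (.node (.leaf 0xdd99c63) (.leaf 0xf7a9c59))) (.node (.node (.leaf 0x1b58dc59) (.leaf 0x1ada1c59)) (.node (.leaf 0xd7f5c61) (.leaf 0x173c5c67)))) (.node (.node (.node (.leaf 0x14191c65) (.leaf 0x1079dc67)) (.node (.leaf 0xea65c55) (.leaf 0x17761c65))) (.node (.node (.leaf 0xefe5c63) (.leaf 0x144cdc67)) (.node (.leaf 0x13125c67) (.leaf 0x0))))) (.node (.node (.node (.node (.leaf 0x1a841c65) (.leaf 0x11421c61)) (.node (.leaf 0x15959c55) (.leaf 0x152adc63))) (.node (.node (.leaf 0x1a7edc61) (.leaf 0x16735c59)) (.node (.leaf 0x19f61c55) (.leaf 0x14b89c59)))) (.node (.node (.node (.leaf 0x16719c65) (.leaf 0x11859c59)) (.node (.leaf 0x12f79c67) (.leaf 0x16d19c55))) (.node (.node (.leaf 0x1b001c67) (.leaf 0x1aaa5c65)) (.node (.leaf 0x11599c55) (.leaf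 0x0)))))) (.node (.node (.node (.node (.node (.leaf 0x13459c59) (.leaf 0x15f49c61)) (.node (.leaf 0x17035c67) (.leaf 0x16971c61))) (.node (.node (.leaf 0x16045c63) (.leaf 0x10bfdc59)) (.node (.leaf 0x142b5c67) (.leaf 0x14da5c55)))) (.node (.node (.node (.leaf 0x14d5dc55) (.leaf 0x19c5dc67)) (.node (.leaf 0x18d65c65) (.leaf 0x110d9c65))) (.node (.node (.leaf 0x140d9c67) (.leaf 0x16641c65)) (.node (.leaf 0x171f5c63) (.leaf 0x0))))) (.node (.node (.node (.node (.leaf 0x18cc9c55) (.leaf 0x10875c67)) (.node (.leaf 0x18275c59) (.leaf 0x19dc9c65))) (.node (.node (.leaf 0x14c4dc63) (.leaf 0xc7c1c63)) (.node (.leaf 0xdb01c59) (.leaf 0x1ded1c59)))) (.node (.node (.node (.leaf 0x131a5c65) (.leaf 0x159e9c61)) (.node (.leaf 0x11705c59) (.leaf 0x14749c67))) (.node (.node (.leaf 0xcefdc59) (.leaf 0x19ad5c59)) (.node (.leaf 0x109b5c63) (.leaf 0x0))))))) (.node (.node (.node (.node (.node (.node (.leaf 0x1256dc61) (.leaf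 0x10b21c55)) (.node (.leaf 0x14ca9c65) (.leaf 0x119d5c55))) (.node (.node (.leaf 0x1606dc55) (.leaf 0x11a8dc65)) (.node (.leaf 0xf405c63) (.leaf 0xd5fdc65)))) (.node (.node (.node (.leaf 0x164cdc59) (.leaf 0x10869c65)) (.node (.leaf 0x8141c59) (.leaf 0x15e05c61))) (.node (.node (.leaf 0x1a921c59) (.leaf 0x6d11c67)) (.node (.leaf 0xe2f9c59) (.leaf 0x0))))) (.node (.node (.node (.node (.leaf 0xd2f1c59) (.leaf 0x18e11c67)) (.node (.leaf 0x1b2d5c63) (.leaf 0x14d9dc67))) (.node (.node (.leaf 0x16c15c59) (.leaf 0x1ba05c61)) (.node (.leaf 0x16d31c63) (.leaf 0x1605dc55)))) (.node (.node (.node (.leaf 0x9ca5c65) (.leaf 0x15c6dc67)) (.node (.leaf 0x16899c63) (.leaf 0x1b2f1c67))) (.node (.node (.leaf 0x1b1a9c65) (.leaf 0x9f65c67)) (.node (.leaf 0x13305c67) (.leaf 0x0)))))) (.node (.node (.node (.node (.node (.leaf 0x1b58dc65) (.leaf 0x19735c63)) (.node (.leaf 0x1728dc67) (.leaf 0x18da9c67))) (.node (.node (.leaf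 0x69f1c55) (.leaf 0x133c1c63)) (.node (.leaf 0x18255c55) (.leaf 0x7ae9c59)))) (.node (.node (.node (.leaf 0x18ea5c65) (.leaf 0x18c51c65)) (.node (.leaf 0xf2fdc65) (.leaf 0x14d01c65))) (.node (.node (.leaf 0xe01dc67) (.leaf 0x12551c65)) (.node (.leaf 0x187f5c55) (.leaf 0x0))))) (.node (.node (.node (.node (.leaf 0x18e6dc63) (.leaf 0x129cdc67)) (.node (.leaf 0x1b099c67) (.leaf 0x14db9c67))) (.node (.node (.leaf 0x12411c65) (.leaf 0x17035c63)) (.node (.leaf 0x1243dc55) (.leaf 0x0)))) (.node (.node (.node (.leaf 0x107b5c59) (.leaf 0xd5fdc61)) (.node (.leaf 0xa819c61) (.leaf 0xf859c65))) (.node (.node (.leaf 0x1926dc67) (.leaf 0x11d7dc59)) (.node (.leaf 0x1484dc67) (.leaf 0x0)))))))) (.node (.node (.node (.node (.node (.node (.node (.leaf 0x1a375c67) (.leaf 0x125e9c63)) (.node (.leaf 0x15415c67) (.leaf 0x16b81c63))) (.node (.node (.leaf 0x18845c55) (.leaf 0x10ed1c55)) (.node (.leaf 0x14739c59) (.leaf 0xe169c67))))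 (.node (.node (.node (.leaf 0x1adb9c65) (.leaf 0xf979c67)) (.node (.leaf 0x15445c59) (.leaf 0x12e8dc65))) (.node (.node (.leaf 0xa6edc65) (.leaf 0x19645c61)) (.node (.leaf 0x1d729c55) (.leaf 0x0))))) (.node (.node (.node (.node (.leaf 0x18255c59) (.leaf 0x1a1f5c67)) (.node (.leaf 0x10195c59) (.leaf 0x18b29c61))) (.node (.node (.leaf 0x1b175c67) (.leaf 0xcf39c59)) (.node (.leaf 0xca5dc61) (.leaf 0x11d7dc55)))) (.node (.node (.node (.leaf 0x144f1c67) (.leaf 0xf5fdc67)) (.node (.leaf 0x134e9c65) (.leaf 0x14b31c61))) (.node (.node (.leaf 0x15465c65) (.leaf 0x112edc55)) (.node (.leaf 0x1bafdc63) (.leaf 0x0)))))) (.node (.node (.node (.node (.node (.leaf 0x12fd9c63) (.leaf 0x15cedc55)) (.node (.leaf 0x1a969c63) (.leaf 0x1811dc63))) (.node (.node (.leaf 0x14ca9c61) (.leaf 0x1ad15c55)) (.node (.leaf 0xdf91c59) (.leaf 0x1f249c59)))) (.node (.node (.node (.leaf 0xa0e5c63) (.leaf 0xf405c67)) (.node (.leaf 0x16c41c65)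 (.leaf 0x1252dc65))) (.node (.node (.leaf 0x16971c65) (.leaf 0x1af41c65)) (.node (.leaf 0xdd19c59) (.leaf 0x0))))) (.node (.node (.node (.node (.leaf 0x1699dc63) (.leaf 0x15acdc55)) (.node (.leaf 0x1a2b1c61) (.leaf 0x15985c59))) (.node (.node (.leaf 0x13325c55) (.leaf 0x12551c67)) (.node (.leaf 0x11295c61) (.leaf 0x18db1c67)))) (.node (.node (.node (.leaf 0x11da1c61) (.leaf 0x11419c61)) (.node (.leaf 0x1c525c55) (.leaf 0x11da1c55))) (.node (.node (.leaf 0x1429dc59) (.leaf 0x18ba1c59)) (.node (.leaf 0x126a1c65) (.leaf 0x0))))))) (.node (.node (.node (.node (.node (.node (.leaf 0x1404dc63) (.leaf 0x15a51c59)) (.node (.leaf 0x14651c63) (.leaf 0x18829c67))) (.node (.node (.leaf 0x19015c63) (.leaf 0x157b9c65)) (.node (.leaf 0x14b75c61) (.leaf 0x17165c59)))) (.node (.node (.node (.leaf 0x19b31c67) (.leaf 0x14855c63)) (.node (.leaf 0x19285c61) (.leaf 0x14ca9c63))) (.node (.node (.leaf 0x1688dc65) (.leaf 0x1a1a1c59))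 (.node (.leaf 0x17941c59) (.leaf 0x0))))) (.node (.node (.node (.node (.leaf 0x1aac5c61) (.leaf 0x1b081c61)) (.node (.leaf 0x1003dc67) (.leaf 0x16211c55))) (.node (.node (.leaf 0x11009c59) (.leaf 0x18339c59)) (.node (.leaf 0x12badc61) (.leaf 0x1595dc55)))) (.node (.node (.node (.leaf 0x106a9c55) (.leaf 0x18985c67)) (.node (.leaf 0x109c1c65) (.leaf 0x18a31c63))) (.node (.node (.leaf 0x12121c65) (.leaf 0x148e9c67)) (.node (.leaf 0x14111c65) (.leaf 0x0)))))) (.node (.node (.node (.node (.node (.leaf 0x125f9c55) (.leaf 0x11881c61)) (.node (.leaf 0xe0b5c63) (.leaf 0x14c1dc63))) (.node (.node (.leaf 0x1b825c55) (.leaf 0x14461c63)) (.node (.leaf 0x15375c55) (.leaf 0x1f50dc63)))) (.node (.node (.node (.leaf 0xdccdc61) (.leaf 0x125c5c59)) (.node (.leaf 0x10d89c55) (.leaf 0x1b181c61))) (.node (.node (.leaf 0x19471c65) (.leaf 0x10cfdc61)) (.node (.leaf 0x179b9c59) (.leaf 0x0))))) (.node (.node (.node (.node (.leaf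 0x131e1c67) (.leaf 0x1b5b1c61)) (.node (.leaf 0x18c51c67) (.leaf 0x16719c59))) (.node (.node (.leaf 0x1c6c) (.leaf 0x142ddc61)) (.node (.leaf 0x18da1c63) (.leaf 0x0)))) (.node (.node (.node (.leaf 0x19bbdc65) (.leaf 0x1593dc65)) (.node (.leaf 0x12411c63) (.leaf 0x19ecdc59))) (.node (.node (.leaf 0x125a9c63) (.leaf 0x13459c67)) (.node (.leaf 0xd1bdc63) (.leaf 0x0))))))))) (.node (.node (.node (.node (.node (.node (.node (.node (.leaf 0x17935c65) (.leaf 0x16045c55)) (.node (.leaf 0xc099c63) (.leaf 0x1a9d1c63))) (.node (.node (.leaf 0x156c9c61) (.leaf 0x171f9c67)) (.node (.leaf 0x1ba89c63) (.leaf 0x14a95c59)))) (.node (.node (.node (.leaf 0x1a4ddc65) (.leaf 0x17925c55)) (.node (.leaf 0x13789c55) (.leaf 0x18f29c65))) (.node (.node (.leaf 0x11771c67) (.leaf 0x10711c65)) (.node (.leaf 0x16d69c67) (.leaf 0x0))))) (.node (.node (.node (.node (.leaf 0x116f5c65) (.leaf 0x18755c67)) (.node (.leaf 0x1b4f9c59) (.leaf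 0x16d69c55))) (.node (.node (.leaf 0x16d19c61) (.leaf 0x1640dc63)) (.node (.leaf 0x1252dc55) (.leaf 0xcfddc65)))) (.node (.node (.node (.leaf 0x15fedc63) (.leaf 0x10a35c59)) (.node (.leaf 0x184b9c59) (.leaf 0x1b8f5c59))) (.node (.node (.leaf 0x1a275c65) (.leaf 0x1bb29c61)) (.node (.leaf 0x14865c61) (.leaf 0x0)))))) (.node (.node (.node (.node (.node (.leaf 0x199c9c59) (.leaf 0x118ddc55)) (.node (.leaf 0x1a9c1c65) (.leaf 0x136edc63))) (.node (.node (.leaf 0x160f1c67) (.leaf 0xd2f1c67)) (.node (.leaf 0x1a72dc59) (.leaf 0x1a7a9c59)))) (.node (.node (.node (.leaf 0x19f95c61) (.leaf 0x12ed5c65)) (.node (.leaf 0x16e65c59) (.leaf 0xd489c63))) (.node (.node (.leaf 0x11a8dc67) (.leaf 0x16989c59)) (.node (.leaf 0xf96dc65) (.leaf 0x0))))) (.node (.node (.node (.node (.leaf 0x114d9c67) (.leaf 0x14d2dc55)) (.node (.leaf 0x1a9d1c65) (.leaf 0x12cb9c67))) (.node (.node (.leaf 0x1688dc59) (.leaf 0x16a85c65)) (.node (.leaf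 0xcee5c55) (.leaf 0x16725c59)))) (.node (.node (.node (.leaf 0x16749c67) (.leaf 0x16b49c55)) (.node (.leaf 0x1b829c67) (.leaf 0x10ef5c55))) (.node (.node (.leaf 0x164d5c55) (.leaf 0x17179c63)) (.node (.leaf 0x155c9c63) (.leaf 0x0))))))) (.node (.node (.node (.node (.node (.node (.leaf 0x1ba89c67) (.leaf 0x19945c55)) (.node (.leaf 0x192e9c59) (.leaf 0x19ffdc67))) (.node (.node (.leaf 0x18ab1c67) (.leaf 0x1ea91c63)) (.node (.leaf 0x11759c63) (.leaf 0x17449c59)))) (.node (.node (.node (.leaf 0x159d9c63) (.leaf 0x1699dc55)) (.node (.leaf 0x19e61c63) (.leaf 0x1a869c59))) (.node (.node (.leaf 0x12039c59) (.leaf 0x14759c61)) (.node (.leaf 0x1595dc59) (.leaf 0x0))))) (.node (.node (.node (.node (.leaf 0x17519c63) (.leaf 0x1570dc65)) (.node (.leaf 0x192b1c59) (.leaf 0x1c5edc67))) (.node (.node (.leaf 0xfae1c59) (.leaf 0x1494dc67)) (.node (.leaf 0xe881c67) (.leaf 0x140a1c65)))) (.node (.node (.node (.leaf 0xf5cdc59)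 (.leaf 0x10d89c67)) (.node (.leaf 0x8801c63) (.leaf 0x179adc59))) (.node (.node (.leaf 0x19b81c59) (.leaf 0xd489c67)) (.node (.leaf 0x15199c63) (.leaf 0x0)))))) (.node (.node (.node (.node (.node (.leaf 0x13669c67) (.leaf 0x16c91c67)) (.node (.leaf 0x1ac0dc55) (.leaf 0x1592dc55))) (.node (.node (.leaf 0x1af29c67) (.leaf 0x1b74dc65)) (.node (.leaf 0x1b819c59) (.leaf 0x11145c55)))) (.node (.node (.node (.leaf 0x111e5c67) (.leaf 0xf85dc59)) (.node (.leaf 0x11dfdc55) (.leaf 0x19ff5c63))) (.node (.node (.leaf 0x16069c63) (.leaf 0x19c75c55)) (.node (.leaf 0x190b9c61) (.leaf 0x0))))) (.node (.node (.node (.node (.leaf 0x137a5c63) (.leaf 0x1077dc67)) (.node (.leaf 0x15b55c67) (.leaf 0x1a5fdc63))) (.node (.node (.leaf 0x10a19c65) (.leaf 0xf9bdc67)) (.node (.leaf 0x16cedc65) (.leaf 0x0)))) (.node (.node (.node (.leaf 0x1b2e9c65) (.leaf 0x14dc5c55)) (.node (.leaf 0x128d1c67) (.leaf 0xa101c63))) (.node (.node (.leaf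 0x151edc65) (.leaf 0x11845c55)) (.node (.leaf 0x10385c63) (.leaf 0x0)))))))) (.node (.node (.node (.node (.node (.node (.node (.leaf 0x12895c63) (.leaf 0x133c1c67)) (.node (.leaf 0x1f505c67) (.leaf 0x1b2cdc65))) (.node (.node (.leaf 0xe105c61) (.leaf 0x145a5c55)) (.node (.leaf 0x15d61c65) (.leaf 0x173e9c67)))) (.node (.node (.node (.leaf 0x18a45c65) (.leaf 0x18639c65)) (.node (.leaf 0x16291c55) (.leaf 0x15ed9c59))) (.node (.node (.leaf 0x12b09c65) (.leaf 0x1b45dc67)) (.node (.leaf 0x19731c55) (.leaf 0x0))))) (.node (.node (.node (.node (.leaf 0x14db9c55) (.leaf 0x14e0dc67)) (.node (.leaf 0x19731c63) (.leaf 0x15d91c59))) (.node (.node (.leaf 0x10441c55) (.leaf 0x152c9c55)) (.node (.leaf 0x160adc59) (.leaf 0x1deddc59)))) (.node (.node (.node (.leaf 0x11de9c65) (.leaf 0x16191c65)) (.node (.leaf 0xc0b9c61) (.leaf 0xdf69c55))) (.node (.node (.leaf 0x9f65c63) (.leaf 0x16f31c59)) (.node (.leaf 0x131a5c55) (.leaf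 0x0)))))) (.node (.node (.node (.node (.node (.leaf 0xb5c1c55) (.leaf 0x9195c63)) (.node (.leaf 0x16a1dc67) (.leaf 0x19b65c63))) (.node (.node (.leaf 0x16311c67) (.leaf 0x16f81c67)) (.node (.leaf 0x1003dc65) (.leaf 0x163e5c67)))) (.node (.node (.node (.leaf 0x1b3f1c55) (.leaf 0x1b45dc59)) (.node (.leaf 0xec39c65) (.leaf 0x167adc59))) (.node (.node (.leaf 0x1674dc61) (.leaf 0x109c1c59)) (.node (.leaf 0x1b3f5c67) (.leaf 0x0))))) (.node (.node (.node (.node (.leaf 0x19081c65) (.leaf 0x1063dc67)) (.node (.leaf 0xe3f9c67) (.leaf 0x4be5c63))) (.node (.node (.leaf 0x14615c59) (.leaf 0x114f1c59)) (.node (.leaf 0x12449c55) (.leaf 0x0)))) (.node (.node (.node (.leaf 0x1ba8dc63) (.leaf 0x164e5c61)) (.node (.leaf 0x1889dc59) (.leaf 0xeb99c61))) (.node (.node (.leaf 0x10f05c55) (.leaf 0x131e1c59)) (.node (.leaf 0x9f65c59) (.leaf 0x0))))))) (.node (.node (.node (.node (.node (.node (.leaf 0xdccdc65) (.leaf 0x10bcdc59))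 (.node (.leaf 0x10065c55) (.leaf 0x141b5c65))) (.node (.node (.leaf 0x109c1c61) (.leaf 0x15401c67)) (.node (.leaf 0x1923dc59) (.leaf 0x19919c65)))) (.node (.node (.node (.leaf 0xdd39c65) (.leaf 0x179f9c61)) (.node (.leaf 0x177c1c63) (.leaf 0xe079c65))) (.node (.node (.leaf 0x17761c61) (.leaf 0x1677dc61)) (.node (.leaf 0x16861c65) (.leaf 0x0))))) (.node (.node (.node (.node (.leaf 0x14ca9c55) (.leaf 0x142b5c65)) (.node (.leaf 0x166a9c55) (.leaf 0x14d01c59))) (.node (.node (.leaf 0x14669c61) (.leaf 0x17259c59)) (.node (.leaf 0x16f69c55) (.leaf 0x1ccc)))) (.node (.node (.node (.leaf 0x18409c55) (.leaf 0x159f9c61)) (.node (.leaf 0x144bdc67) (.leaf 0x18499c55))) (.node (.node (.leaf 0xf7a9c65) (.leaf 0x1a839c65)) (.node (.leaf 0x1a73dc63) (.leaf 0x0)))))) (.node (.node (.node (.node (.node (.leaf 0x11aa9c59) (.leaf 0xd611c65)) (.node (.leaf 0x91f1c59) (.leaf 0x17a35c55))) (.node (.node (.leaf 0x136edc59) (.leaf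 0x18979c55)) (.node (.leaf 0x11145c65) (.leaf 0x16845c67)))) (.node (.node (.node (.leaf 0x16f0dc67) (.leaf 0xe105c55)) (.node (.leaf 0x16e4dc63) (.leaf 0x1416dc61))) (.node (.node (.leaf 0x16899c65) (.leaf 0x11c89c55)) (.node (.leaf 0xd59dc55) (.leaf 0x0))))) (.node (.node (.node (.node (.leaf 0x1649dc59) (.leaf 0x11409c61)) (.node (.leaf 0x11aa9c55) (.leaf 0x11421c55))) (.node (.node (.leaf 0x14b41c59) (.leaf 0x14959c59)) (.node (.leaf 0x18db5c63) (.leaf 0x0)))) (.node (.node (.node (.leaf 0x16735c65) (.leaf 0x18321c55)) (.node (.leaf 0x97e5c59) (.leaf 0x12649c67))) (.node (.node (.leaf 0x19e21c67) (.leaf 0x14a75c67)) (.node (.leaf 0x16cedc55) (.leaf 0x0))))))))))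

/-- packed table -/
noncomputable def cov17_lrr : BTree := (.node (.node (.node (.node (.node (.node (.node (.node (.node (.leaf 0xcb7dc55) (.leaf 0x19e4dc67)) (.node (.leaf 0x1ac99c63) (.leaf 0x10c09c67))) (.node (.node (.leaf 0x1e6c5c63) (.leaf 0x4779c55)) (.node (.leaf 0x17659c63) (.leaf 0x169a5c65)))) (.node (.node (.node (.leaf 0x19221c67) (.leaf 0x141c9c63)) (.node (.leaf 0xe8e1c65) (.leaf 0x174f5c59))) (.node (.node (.leaf 0x141a9c59) (.leaf 0x15415c65)) (.node (.leaf 0x1713dc59) (.leaf 0x0))))) (.node (.node (.node (.node (.leaf 0x163d5c61) (.leaf 0x19d11c63)) (.node (.leaf 0x10455c65) (.leaf 0x183bdc55))) (.node (.node (.leaf 0xc549c65) (.leaf 0x16d79c63)) (.node (.leaf 0x1ba05c59) (.leaf 0x112b5c61)))) (.node (.node (.node (.leaf 0x12441c63) (.leaf 0x17845c61)) (.node (.leaf 0xdc51c61) (.leaf 0x141fdc59))) (.node (.node (.leaf 0x1b899c61) (.leaf 0x168f9c65)) (.node (.leaf 0x12739c63) (.leaf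 0x0)))))) (.node (.node (.node (.node (.node (.leaf 0x11dc1c65) (.leaf 0x1aca1c59)) (.node (.leaf 0x1b0b1c63) (.leaf 0x131f1c63))) (.node (.node (.leaf 0xd651c55) (.leaf 0x1aeb9c67)) (.node (.leaf 0x17a71c59) (.leaf 0xddb9c59)))) (.node (.node (.node (.leaf 0x10075c59) (.leaf 0x18f45c67)) (.node (.leaf 0x13691c65) (.leaf 0x1384dc55))) (.node (.node (.leaf 0x1a659c67) (.leaf 0x13325c65)) (.node (.leaf 0xa101c67) (.leaf 0x0))))) (.node (.node (.node (.node (.leaf 0x16ab5c59) (.leaf 0x188a1c67)) (.node (.leaf 0x182a1c63) (.leaf 0xedd5c65))) (.node (.node (.leaf 0x128a1c59) (.leaf 0x1d631c59)) (.node (.leaf 0x102cdc63) (.leaf 0x17a61c59)))) (.node (.node (.node (.leaf 0x163e9c67) (.leaf 0x121e9c55)) (.node (.leaf 0x19e29c67) (.leaf 0x10f09c55))) (.node (.node (.leaf 0xb369c65) (.leaf 0x11705c65)) (.node (.leaf 0x1a7cdc59) (.leaf 0x0))))))) (.node (.node (.node (.node (.node (.node (.leaf 0xade1c55) (.leaf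 0x15d01c63)) (.node (.leaf 0x1a73dc61) (.leaf 0x15ff9c67))) (.node (.node (.leaf 0x16311c65) (.leaf 0x137a5c55)) (.node (.leaf 0x12665c55) (.leaf 0x16b81c65)))) (.node (.node (.node (.leaf 0x16971c67) (.leaf 0x18839c65)) (.node (.leaf 0x10bfdc61) (.leaf 0x10019c59))) (.node (.node (.leaf 0x1b2cdc67) (.leaf 0x164cdc67)) (.node (.leaf 0x123c5c67) (.leaf 0x0))))) (.node (.node (.node (.node (.leaf 0x1d675c63) (.leaf 0x18791c65)) (.node (.leaf 0x11295c59) (.leaf 0x1d2d9c59))) (.node (.node (.leaf 0x1a225c65) (.leaf 0xaa75c55)) (.node (.leaf 0x13ac5c65) (.leaf 0x17165c67)))) (.node (.node (.node (.leaf 0x111cdc67) (.leaf 0x1c905c59)) (.node (.leaf 0x11619c59) (.leaf 0x1827dc55))) (.node (.node (.leaf 0x17019c55) (.leaf 0x15791c65)) (.node (.leaf 0x1d0b1c59) (.leaf 0x0)))))) (.node (.node (.node (.node (.node (.leaf 0x100c5c67) (.leaf 0x13305c55)) (.node (.leaf 0x12eedc67) (.leaf 0xfae1c65))) (.node (.node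 (.leaf 0x1e315c67) (.leaf 0x1036dc61)) (.node (.leaf 0x1af99c67) (.leaf 0x1b0adc67)))) (.node (.node (.node (.leaf 0x1b2d1c55) (.leaf 0x4bc9c63)) (.node (.leaf 0xd789c67) (.leaf 0x1b825c61))) (.node (.node (.leaf 0x109b5c55) (.leaf 0x15ff9c59)) (.node (.leaf 0xa0e5c67) (.leaf 0x0))))) (.node (.node (.node (.node (.leaf 0x17515c55) (.leaf 0x13631c59)) (.node (.leaf 0x15b75c67) (.leaf 0x100e1c67))) (.node (.node (.leaf 0x1acf1c63) (.leaf 0xab91c59)) (.node (.leaf 0x14d5dc59) (.leaf 0x0)))) (.node (.node (.node (.leaf 0x13669c65) (.leaf 0xf405c55)) (.node (.leaf 0x19a35c63) (.leaf 0x18305c65))) (.node (.node (.leaf 0xac89c55) (.leaf 0x15e05c67)) (.node (.leaf 0x187e9c55) (.leaf 0x0)))))))) (.node (.node (.node (.node (.node (.node (.node (.leaf 0x15101c61) (.leaf 0x14d99c61)) (.node (.leaf 0x1904dc55) (.leaf 0x187f5c63))) (.node (.node (.leaf 0x15699c67) (.leaf 0x19e01c59)) (.node (.leaf 0xf85dc61) (.leaf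 0xa599c65)))) (.node (.node (.node (.leaf 0x15861c55) (.leaf 0x15b75c55)) (.node (.leaf 0x1542dc59) (.leaf 0xeb99c67))) (.node (.node (.leaf 0x14221c65) (.leaf 0x18e59c55)) (.node (.leaf 0x134bdc65) (.leaf 0x0))))) (.node (.node (.node (.node (.leaf 0x182e9c67) (.leaf 0x14959c61)) (.node (.leaf 0x1e60dc65) (.leaf 0x11c71c61))) (.node (.node (.leaf 0x140a1c67) (.leaf 0x17141c65)) (.node (.leaf 0x14a75c61) (.leaf 0x1b26dc59)))) (.node (.node (.node (.leaf 0x18681c59) (.leaf 0x16735c63)) (.node (.leaf 0x1ab21c59) (.leaf 0x12b39c67))) (.node (.node (.leaf 0x1627dc67) (.leaf 0x10869c61)) (.node (.leaf 0xf9bdc59) (.leaf 0x0)))))) (.node (.node (.node (.node (.node (.leaf 0x15465c59) (.leaf 0x11145c67)) (.node (.leaf 0x14dedc61) (.leaf 0x11b71c65))) (.node (.node (.leaf 0x10cc5c61) (.leaf 0x1a6d1c67)) (.node (.leaf 0x10695c59) (.leaf 0xf839c59)))) (.node (.node (.node (.leaf 0x1a419c67) (.leaf 0x12551c59)) (.node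 (.leaf 0x18db1c55) (.leaf 0x105fdc61))) (.node (.node (.leaf 0x163d5c65) (.leaf 0x1998dc65)) (.node (.leaf 0xf85dc55) (.leaf 0x0))))) (.node (.node (.node (.node (.leaf 0x159b5c61) (.leaf 0x1062dc67)) (.node (.leaf 0x119cdc55) (.leaf 0x1f065c59))) (.node (.node (.leaf 0x16015c65) (.leaf 0x14435c59)) (.node (.leaf 0x14e35c65) (.leaf 0x0)))) (.node (.node (.node (.leaf 0x13a45c65) (.leaf 0x14245c55)) (.node (.leaf 0xd6fdc67) (.leaf 0x16f89c67))) (.node (.node (.leaf 0x1966dc63) (.leaf 0x19f29c67)) (.node (.leaf 0x1e025c67) (.leaf 0x0))))))) (.node (.node (.node (.node (.node (.node (.leaf 0x1169dc67) (.leaf 0x17b11c55)) (.node (.leaf 0xe32dc59) (.leaf 0x18e8dc55))) (.node (.node (.leaf 0x196e9c67) (.leaf 0x157d9c65)) (.node (.leaf 0x15cadc63) (.leaf 0x164f9c63)))) (.node (.node (.node (.leaf 0x12779c67) (.leaf 0x144e1c65)) (.node (.leaf 0xf1d1c67) (.leaf 0x19d79c65))) (.node (.node (.leaf 0x1247dc65) (.leaf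 0x1cca1c67)) (.node (.leaf 0x19935c55) (.leaf 0x0))))) (.node (.node (.node (.node (.leaf 0x1c309c59) (.leaf 0x13075c61)) (.node (.leaf 0x1b389c55) (.leaf 0x140b1c65))) (.node (.node (.leaf 0x15299c65) (.leaf 0x18bedc67)) (.node (.leaf 0x158e1c67) (.leaf 0x13139c59)))) (.node (.node (.node (.leaf 0x18825c67) (.leaf 0x1c80dc61)) (.node (.leaf 0x1800dc67) (.leaf 0xf5cdc65))) (.node (.node (.leaf 0x16845c55) (.leaf 0x17b0dc67)) (.node (.leaf 0x12f7dc63) (.leaf 0x0)))))) (.node (.node (.node (.node (.node (.leaf 0x133c1c55) (.leaf 0x1914dc65)) (.node (.leaf 0x14fadc67) (.leaf 0x15b55c65))) (.node (.node (.leaf 0x12badc63) (.leaf 0x1f4f1c65)) (.node (.leaf 0x11c71c59) (.leaf 0x164f5c63)))) (.node (.node (.node (.leaf 0x14fadc65) (.leaf 0x12435c63)) (.node (.leaf 0x1e0a9c61) (.leaf 0x152c5c59))) (.node (.node (.leaf 0x1a7a1c55) (.leaf 0x14805c59)) (.node (.leaf 0x15f51c59) (.leaf 0x0))))) (.node (.node (.node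 (.node (.leaf 0x15e45c61) (.leaf 0x187cdc67)) (.node (.leaf 0x16a11c65) (.leaf 0xc3b5c55))) (.node (.node (.leaf 0x1653dc67) (.leaf 0x1494dc55)) (.node (.leaf 0x192c1c65) (.leaf 0x0)))) (.node (.node (.node (.leaf 0x18d59c55) (.leaf 0x1635dc61)) (.node (.leaf 0x12435c55) (.leaf 0x11a95c61))) (.node (.node (.leaf 0x1f699c67) (.leaf 0xca5dc67)) (.node (.leaf 0x160f1c63) (.leaf 0x0))))))))) (.node (.node (.node (.node (.node (.node (.node (.node (.leaf 0x11539c59) (.leaf 0xe105c63)) (.node (.leaf 0x1612dc67) (.leaf 0x15e1dc65))) (.node (.node (.leaf 0x14855c55) (.leaf 0x15139c65)) (.node (.leaf 0x16b35c55) (.leaf 0x8fb9c63)))) (.node (.node (.node (.leaf 0xd611c63) (.leaf 0x18bb1c67)) (.node (.leaf 0x163cdc65) (.leaf 0x16645c61))) (.node (.node (.leaf 0x1a709c65) (.leaf 0xba0dc59)) (.node (.leaf 0x199bdc67) (.leaf 0x0))))) (.node (.node (.node (.node (.leaf 0x18501c63) (.leaf 0x18949c61)) (.node (.leaf 0x1309dc55)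 (.leaf 0x1b121c65))) (.node (.node (.leaf 0xd9fdc67) (.leaf 0xf32dc65)) (.node (.leaf 0x16f0dc65) (.leaf 0x19ecdc67)))) (.node (.node (.node (.leaf 0x15969c65) (.leaf 0x17041c55)) (.node (.leaf 0x174cdc65) (.leaf 0x17119c59))) (.node (.node (.leaf 0x19fd9c65) (.leaf 0x1169dc59)) (.node (.leaf 0x16e4dc55) (.leaf 0x0)))))) (.node (.node (.node (.node (.node (.leaf 0x17345c55) (.leaf 0x11009c65)) (.node (.leaf 0x12975c63) (.leaf 0xfae1c67))) (.node (.node (.leaf 0x17a49c67) (.leaf 0x155c9c65)) (.node (.leaf 0x12649c55) (.leaf 0x144e1c55)))) (.node (.node (.node (.leaf 0x12425c59) (.leaf 0x16535c59)) (.node (.leaf 0xe5e1c63) (.leaf 0x15101c67))) (.node (.node (.leaf 0x1afa1c59) (.leaf 0x19379c65)) (.node (.leaf 0xa101c65) (.leaf 0x0))))) (.node (.node (.node (.node (.leaf 0x1649dc67) (.leaf 0xd0c1c59)) (.node (.leaf 0x11c25c61) (.leaf 0x18bb1c61))) (.node (.node (.leaf 0xcefdc65) (.leaf 0xc415c59)) (.node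 (.leaf 0xec39c67) (.leaf 0xe611c63)))) (.node (.node (.node (.leaf 0x12bedc63) (.leaf 0xcd11c59)) (.node (.leaf 0x1cb79c65) (.leaf 0x14d2dc59))) (.node (.node (.leaf 0xa819c65) (.leaf 0x19965c65)) (.node (.leaf 0x19945c61) (.leaf 0x0))))))) (.node (.node (.node (.node (.node (.node (.leaf 0xb22dc65) (.leaf 0x13981c65)) (.node (.leaf 0x15f49c65) (.leaf 0x11c89c65))) (.node (.node (.leaf 0x16571c65) (.leaf 0xe5ddc63)) (.node (.leaf 0xa101c61) (.leaf 0x164e5c63)))) (.node (.node (.node (.leaf 0x16719c61) (.leaf 0x11a95c63)) (.node (.leaf 0x1bb01c55) (.leaf 0x187cdc55))) (.node (.node (.leaf 0x1649dc65) (.leaf 0xf2fdc67)) (.node (.leaf 0x16891c55) (.leaf 0x0))))) (.node (.node (.node (.node (.leaf 0x1a091c63) (.leaf 0x1851dc59)) (.node (.leaf 0x144e1c59) (.leaf 0x11fc9c67))) (.node (.node (.leaf 0x19691c65) (.leaf 0x1ce09c55)) (.node (.leaf 0x198d9c67) (.leaf 0x10455c59)))) (.node (.node (.node (.leaf 0x17355c59)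 (.leaf 0x1898dc67)) (.node (.leaf 0x148d1c65) (.leaf 0x178f9c65))) (.node (.node (.leaf 0x1b2d1c63) (.leaf 0x156a5c63)) (.node (.leaf 0x1576dc63) (.leaf 0x0)))))) (.node (.node (.node (.node (.node (.leaf 0x194bdc65) (.leaf 0xdd0dc61)) (.node (.leaf 0x120d5c63) (.leaf 0x19e21c65))) (.node (.node (.leaf 0x18d45c63) (.leaf 0x19e61c55)) (.node (.leaf 0x1b25dc59) (.leaf 0x1243dc61)))) (.node (.node (.node (.leaf 0x16861c55) (.leaf 0x1a225c59)) (.node (.leaf 0x1a921c67) (.leaf 0x18179c55))) (.node (.node (.leaf 0x11255c67) (.leaf 0x14191c63)) (.node (.leaf 0xba0dc61) (.leaf 0x0))))) (.node (.node (.node (.node (.leaf 0x169a1c59) (.leaf 0x141d9c63)) (.node (.leaf 0x146bdc61) (.leaf 0x119cdc63))) (.node (.node (.leaf 0x1ab0dc67) (.leaf 0x1b74dc63)) (.node (.leaf 0x150f9c67) (.leaf 0x0)))) (.node (.node (.node (.leaf 0x1b0e9c65) (.leaf 0x13529c59)) (.node (.leaf 0x1062dc63) (.leaf 0x1de6dc59))) (.node (.node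 (.leaf 0x45b1c67) (.leaf 0xdccdc55)) (.node (.leaf 0x1592dc59) (.leaf 0x0)))))))) (.node (.node (.node (.node (.node (.node (.node (.leaf 0xef9dc55) (.leaf 0xb765c65)) (.node (.leaf 0x16cbdc63) (.leaf 0x1650dc65))) (.node (.node (.leaf 0xe2f9c65) (.leaf 0xdcf9c67)) (.node (.leaf 0x1e9fdc61) (.leaf 0x12801c59)))) (.node (.node (.node (.leaf 0x119d5c63) (.leaf 0x11705c61)) (.node (.leaf 0xf979c65) (.leaf 0x10441c63))) (.node (.node (.leaf 0x1e741c65) (.leaf 0x1650dc63)) (.node (.leaf 0x1ad15c63) (.leaf 0x0))))) (.node (.node (.node (.node (.leaf 0x108edc65) (.leaf 0x18e61c65)) (.node (.leaf 0xd6fdc63) (.leaf 0x164d1c67))) (.node (.node (.leaf 0x1aa15c55) (.leaf 0x1ab1dc67)) (.node (.leaf 0xcb7dc59) (.leaf 0x1a061c55)))) (.node (.node (.node (.leaf 0x192d5c63) (.leaf 0x19885c59)) (.node (.leaf 0x1653dc55) (.leaf 0x12fb5c67))) (.node (.node (.leaf 0x19285c65) (.leaf 0x190f1c67)) (.node (.leaf 0x15eb5c63)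 (.leaf 0x0)))))) (.node (.node (.node (.node (.node (.leaf 0x14b31c65) (.leaf 0x17665c55)) (.node (.leaf 0x17b15c67) (.leaf 0x123c5c55))) (.node (.node (.leaf 0x1776dc59) (.leaf 0x1b0f9c63)) (.node (.leaf 0x13521c55) (.leaf 0xa819c59)))) (.node (.node (.node (.leaf 0x18e95c65) (.leaf 0x1b681c59)) (.node (.leaf 0x1b0b1c55) (.leaf 0x171bdc61))) (.node (.node (.leaf 0x170e5c65) (.leaf 0x11a55c55)) (.node (.leaf 0x15a0dc59) (.leaf 0x0))))) (.node (.node (.node (.node (.leaf 0x1e985c63) (.leaf 0x1635dc55)) (.node (.leaf 0x16ad5c63) (.leaf 0x1b1c1c67))) (.node (.node (.leaf 0x1a419c65) (.leaf 0x17021c67)) (.node (.leaf 0x16461c55) (.leaf 0x0)))) (.node (.node (.node (.leaf 0x1c78) (.leaf 0xd611c61)) (.node (.leaf 0x18df1c63) (.leaf 0xc549c67))) (.node (.node (.leaf 0x15a6dc67) (.leaf 0xd0adc63)) (.node (.leaf 0x12739c55) (.leaf 0x0))))))) (.node (.node (.node (.node (.node (.node (.leaf 0x18e21c55) (.leaf 0xcf3dc67))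 (.node (.leaf 0x12a39c61) (.leaf 0x163d5c67))) (.node (.node (.leaf 0x14b31c55) (.leaf 0x10c09c59)) (.node (.leaf 0x18561c59) (.leaf 0x13221c59)))) (.node (.node (.node (.leaf 0x1b4e1c59) (.leaf 0x12ea9c55)) (.node (.leaf 0x177d9c61) (.leaf 0x17145c65))) (.node (.node (.leaf 0x16d69c63) (.leaf 0x1650dc67)) (.node (.leaf 0xa819c67) (.leaf 0x0))))) (.node (.node (.node (.node (.leaf 0x1fa65c67) (.leaf 0x8989c65)) (.node (.leaf 0x14279c59) (.leaf 0xd585c67))) (.node (.node (.leaf 0x18791c63) (.leaf 0x15991c59)) (.node (.leaf 0x19ac1c67) (.leaf 0x1b195c63)))) (.node (.node (.node (.leaf 0x154edc65) (.leaf 0x18961c61)) (.node (.leaf 0x69f1c61) (.leaf 0x14959c65))) (.node (.node (.leaf 0xb989c65) (.leaf 0x1576dc65)) (.node (.leaf 0x1aec9c55) (.leaf 0x0)))))) (.node (.node (.node (.node (.node (.leaf 0x170e5c61) (.leaf 0xf2a5c55)) (.node (.leaf 0x14615c63) (.leaf 0x13601c55))) (.node (.node (.leaf 0x178c5c63)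 (.leaf 0xea99c67)) (.node (.leaf 0x10cfdc65) (.leaf 0x115c1c59)))) (.node (.node (.node (.leaf 0x17019c63) (.leaf 0xd5fdc67)) (.node (.leaf 0x16489c59) (.leaf 0x152c9c67))) (.node (.node (.leaf 0x1626dc65) (.leaf 0x10d05c63)) (.node (.leaf 0x11e75c63) (.leaf 0x0))))) (.node (.node (.node (.node (.leaf 0x151ddc63) (.leaf 0xb22dc59)) (.node (.leaf 0x16a2dc65) (.leaf 0x1677dc55))) (.node (.node (.leaf 0x1b229c61) (.leaf 0x10a71c59)) (.node (.leaf 0x18e2dc59) (.leaf 0x0)))) (.node (.node (.node (.leaf 0x1d6b5c61) (.leaf 0x15f21c59)) (.node (.leaf 0x1c80) (.leaf 0xe80dc59))) (.node (.node (.leaf 0x19c75c61) (.leaf 0x1439dc55)) (.node (.leaf 0x13669c63) (.leaf 0x0))))))))))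

/-- packed table -/
noncomputable def cov17_rll : BTree := (.node (.node (.node (.node (.node (.node (.node (.node (.node (.leaf 0x15c99c59) (.leaf 0x15cedc63)) (.node (.leaf 0x11e59c63) (.leaf 0x1f241c63))) (.node (.node (.leaf 0x11c89c67) (.leaf 0x16071c61)) (.node (.leaf 0x40b5c67) (.leaf 0x141c9c65)))) (.node (.node (.node (.leaf 0x18305c61) (.leaf 0xdb01c61)) (.node (.leaf 0x10051c61) (.leaf 0xb765c59))) (.node (.node (.leaf 0x1f505c61) (.leaf 0x10a6dc59)) (.node (.leaf 0x1abe9c65) (.leaf 0x0))))) (.node (.node (.node (.node (.leaf 0x1676dc67) (.leaf 0x12491c61)) (.node (.leaf 0x953dc61) (.leaf 0x14df5c67))) (.node (.node (.leaf 0x183ddc55) (.leaf 0x1898dc55)) (.node (.leaf 0xe6f1c63) (.leaf 0x14301c65)))) (.node (.node (.node (.leaf 0x1b29dc65) (.leaf 0x1f59dc65)) (.node (.leaf 0x1677dc63) (.leaf 0x1afd5c61))) (.node (.node (.leaf 0x15bd5c59) (.leaf 0xe0b5c67)) (.node (.leaf 0x11589c55) (.leaf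 0x0)))))) (.node (.node (.node (.node (.node (.leaf 0xdd39c55) (.leaf 0x8be1c59)) (.node (.leaf 0x198adc67) (.leaf 0x19885c65))) (.node (.node (.leaf 0x18275c67) (.leaf 0x1d559c65)) (.node (.leaf 0x1ad99c67) (.leaf 0x17a81c63)))) (.node (.node (.node (.leaf 0x11d25c55) (.leaf 0x19df5c61)) (.node (.leaf 0x16211c61) (.leaf 0x19e51c59))) (.node (.node (.leaf 0xc705c59) (.leaf 0x17ab9c55)) (.node (.leaf 0x17705c61) (.leaf 0x0))))) (.node (.node (.node (.node (.leaf 0x14279c65) (.leaf 0x19c7dc59)) (.node (.leaf 0x16941c65) (.leaf 0xcfddc59))) (.node (.node (.leaf 0x1ab21c61) (.leaf 0x14f6dc61)) (.node (.leaf 0x1ad05c63) (.leaf 0x13769c65)))) (.node (.node (.node (.leaf 0x9f65c55) (.leaf 0x14f25c65)) (.node (.leaf 0xc169c65) (.leaf 0x117a1c65))) (.node (.node (.leaf 0xd8b9c65) (.leaf 0x15e45c67)) (.node (.leaf 0x19bedc55) (.leaf 0x0))))))) (.node (.node (.node (.node (.node (.node (.leaf 0x153fdc59) (.leaf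 0x1a619c65)) (.node (.leaf 0x18371c67) (.leaf 0x178c5c59))) (.node (.node (.leaf 0x11759c59) (.leaf 0x125c5c63)) (.node (.leaf 0x179f9c65) (.leaf 0x1577dc65)))) (.node (.node (.node (.leaf 0x1a4e9c59) (.leaf 0x483dc65)) (.node (.leaf 0xc415c67) (.leaf 0x15a31c59))) (.node (.node (.leaf 0x10289c63) (.leaf 0x11041c65)) (.node (.leaf 0x14ae5c67) (.leaf 0x0))))) (.node (.node (.node (.node (.leaf 0x1458dc61) (.leaf 0x18dfdc67)) (.node (.leaf 0x15291c59) (.leaf 0x15899c65))) (.node (.node (.leaf 0x1604dc65) (.leaf 0x11c4dc59)) (.node (.leaf 0x153cdc55) (.leaf 0x11949c67)))) (.node (.node (.node (.leaf 0x19015c55) (.leaf 0x15f51c67)) (.node (.leaf 0x1b10dc65) (.leaf 0x1a1b5c59))) (.node (.node (.leaf 0x13199c65) (.leaf 0x1b589c65)) (.node (.leaf 0x1a7bdc65) (.leaf 0x0)))))) (.node (.node (.node (.node (.node (.leaf 0x1840dc55) (.leaf 0x15cddc63)) (.node (.leaf 0x1b82dc67) (.leaf 0x1b2e5c59))) (.node (.node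 (.leaf 0x159d9c67) (.leaf 0x1b8d1c59)) (.node (.leaf 0x13849c67) (.leaf 0x13981c63)))) (.node (.node (.node (.leaf 0x15d65c61) (.leaf 0x148d1c67)) (.node (.leaf 0x8f1dc63) (.leaf 0x10f05c65))) (.node (.node (.leaf 0x17b1dc65) (.leaf 0x11a61c55)) (.node (.leaf 0x165d9c65) (.leaf 0x0))))) (.node (.node (.node (.node (.leaf 0xe8e1c59) (.leaf 0x13861c67)) (.node (.leaf 0x18d31c67) (.leaf 0x18fedc59))) (.node (.node (.leaf 0x18025c55) (.leaf 0x1a0a1c67)) (.node (.leaf 0x17159c61) (.leaf 0x0)))) (.node (.node (.node (.leaf 0xedcdc63) (.leaf 0x1b3f5c55)) (.node (.leaf 0xd585c65) (.leaf 0x16205c59))) (.node (.node (.leaf 0x1aaf1c59) (.leaf 0x13aa5c65)) (.node (.leaf 0x16045c61) (.leaf 0x0)))))))) (.node (.node (.node (.node (.node (.node (.node (.leaf 0x11409c65) (.leaf 0x10ca5c59)) (.node (.leaf 0x19065c55) (.leaf 0x1989dc65))) (.node (.node (.leaf 0x1484dc59) (.leaf 0x10421c67)) (.node (.leaf 0xf1d1c65) (.leaf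 0x10a19c55)))) (.node (.node (.node (.leaf 0x19305c61) (.leaf 0x12ba9c67)) (.node (.leaf 0x1307dc65) (.leaf 0x172b9c67))) (.node (.node (.leaf 0x18eb1c61) (.leaf 0x1a7bdc59)) (.node (.leaf 0x19721c55) (.leaf 0x0))))) (.node (.node (.node (.node (.leaf 0x1023dc59) (.leaf 0x1892dc61)) (.node (.leaf 0x12ce5c55) (.leaf 0xf381c65))) (.node (.node (.leaf 0x1510dc65) (.leaf 0x14435c65)) (.node (.leaf 0x16d6dc55) (.leaf 0xe2e5c61)))) (.node (.node (.node (.leaf 0x1243dc67) (.leaf 0x1343dc61)) (.node (.leaf 0x174d5c65) (.leaf 0xe3f9c65))) (.node (.node (.leaf 0x1a275c67) (.leaf 0xe855c65)) (.node (.leaf 0x13aa5c59) (.leaf 0x0)))))) (.node (.node (.node (.node (.node (.leaf 0x11485c59) (.leaf 0x15d01c55)) (.node (.leaf 0xf32dc59) (.leaf 0x10d05c61))) (.node (.node (.leaf 0x14cc1c61) (.leaf 0x1337dc61)) (.node (.leaf 0x17a71c65) (.leaf 0x1728dc63)))) (.node (.node (.node (.leaf 0x1e41dc59) (.leaf 0x16c01c65)) (.node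 (.leaf 0x1a24dc59) (.leaf 0x121b9c59))) (.node (.node (.leaf 0x1612dc59) (.leaf 0x17461c67)) (.node (.leaf 0x7ae9c55) (.leaf 0x0))))) (.node (.node (.node (.node (.leaf 0x15acdc63) (.leaf 0x17479c67)) (.node (.leaf 0x1abe9c67) (.leaf 0x13601c59))) (.node (.node (.leaf 0x45b1c61) (.leaf 0x179adc67)) (.node (.leaf 0x157cdc59) (.leaf 0x1b0b1c67)))) (.node (.node (.node (.leaf 0xdaa1c55) (.leaf 0x15eb5c59)) (.node (.leaf 0x15711c67) (.leaf 0x1a215c59))) (.node (.node (.leaf 0x16a61c59) (.leaf 0xb5c1c67)) (.node (.leaf 0x13245c59) (.leaf 0x0))))))) (.node (.node (.node (.node (.node (.node (.leaf 0xc0c1c59) (.leaf 0x111cdc61)) (.node (.leaf 0x18c51c61) (.leaf 0x1b0edc65))) (.node (.node (.leaf 0x17a91c59) (.leaf 0x117d1c65)) (.node (.leaf 0x8b45c61) (.leaf 0x102cdc67)))) (.node (.node (.node (.leaf 0x161e1c63) (.leaf 0x17aadc55)) (.node (.leaf 0x1b195c61) (.leaf 0x18ab1c59))) (.node (.node (.leaf 0xe01dc59)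 (.leaf 0x14c25c61)) (.node (.leaf 0x12b39c55) (.leaf 0x0))))) (.node (.node (.node (.node (.leaf 0x14851c63) (.leaf 0x1b06dc61)) (.node (.leaf 0x13601c65) (.leaf 0x15649c61))) (.node (.node (.leaf 0x160a5c59) (.leaf 0x14e25c55)) (.node (.leaf 0x198e5c67) (.leaf 0xcf39c65)))) (.node (.node (.node (.leaf 0x11859c65) (.leaf 0x19919c55)) (.node (.leaf 0x16f89c55) (.leaf 0x171f9c61))) (.node (.node (.leaf 0x15b75c59) (.leaf 0x188f9c67)) (.node (.leaf 0x1a75dc59) (.leaf 0x0)))))) (.node (.node (.node (.node (.node (.leaf 0x16535c55) (.leaf 0x14329c63)) (.node (.leaf 0x146c9c65) (.leaf 0x1d309c65))) (.node (.node (.leaf 0x178e5c67) (.leaf 0x1a9b1c59)) (.node (.leaf 0xdc51c65) (.leaf 0x16461c61)))) (.node (.node (.node (.leaf 0x151ddc67) (.leaf 0xdd99c67)) (.node (.leaf 0x1a92dc67) (.leaf 0x1aaf1c67))) (.node (.node (.leaf 0x10391c67) (.leaf 0x149e9c67)) (.node (.leaf 0x155f1c65) (.leaf 0x0))))) (.node (.node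 (.node (.node (.leaf 0x1a4bdc59) (.leaf 0xd0c1c67)) (.node (.leaf 0x11a95c55) (.leaf 0x101c1c55))) (.node (.node (.leaf 0x16d51c65) (.leaf 0x102d1c61)) (.node (.leaf 0x152c5c65) (.leaf 0x0)))) (.node (.node (.node (.leaf 0xb5c1c65) (.leaf 0x14dd5c55)) (.node (.leaf 0x141e9c67) (.leaf 0x179a9c61))) (.node (.node (.leaf 0x191e1c65) (.leaf 0x17a61c67)) (.node (.leaf 0x16f0dc59) (.leaf 0x0))))))))) (.node (.node (.node (.node (.node (.node (.node (.node (.leaf 0x148c1c65) (.leaf 0x1b829c61)) (.node (.leaf 0xf735c65) (.leaf 0x16d79c59))) (.node (.node (.leaf 0x15b49c59) (.leaf 0x17795c61)) (.node (.leaf 0x182c1c67) (.leaf 0x149cdc65)))) (.node (.node (.node (.leaf 0x18f31c67) (.leaf 0xc55dc65)) (.node (.leaf 0x15899c63) (.leaf 0x1904dc65))) (.node (.node (.leaf 0x126a1c55) (.leaf 0x16a21c61)) (.node (.leaf 0xe3fdc59) (.leaf 0x0))))) (.node (.node (.node (.node (.leaf 0x18c3dc63) (.leaf 0x15d51c55)) (.node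 (.leaf 0x18815c65) (.leaf 0x1d30dc65))) (.node (.node (.leaf 0xf951c63) (.leaf 0x16d6dc63)) (.node (.leaf 0x1cb2dc67) (.leaf 0x109b5c65)))) (.node (.node (.node (.leaf 0x19775c59) (.leaf 0x10ac1c65)) (.node (.leaf 0x1ab29c59) (.leaf 0x13861c65))) (.node (.node (.leaf 0x1003dc59) (.leaf 0x13a29c55)) (.node (.leaf 0x15e19c59) (.leaf 0x0)))))) (.node (.node (.node (.node (.node (.leaf 0x1677dc65) (.leaf 0x13325c61)) (.node (.leaf 0x16161c61) (.leaf 0xcd11c61))) (.node (.node (.leaf 0x18cc9c61) (.leaf 0x195b5c65)) (.node (.leaf 0xd2f1c55) (.leaf 0x10105c65)))) (.node (.node (.node (.leaf 0x187edc67) (.leaf 0x14741c67)) (.node (.leaf 0x1307dc67) (.leaf 0x17a85c59))) (.node (.node (.leaf 0x109b5c61) (.leaf 0x196b9c65)) (.node (.leaf 0xe5ddc67) (.leaf 0x0))))) (.node (.node (.node (.node (.leaf 0x14d99c65) (.leaf 0x1ac99c67)) (.node (.leaf 0x18d8dc65) (.leaf 0xc8cdc65))) (.node (.node (.leaf 0x1b589c55) (.leaf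 0x1e431c55)) (.node (.leaf 0x1af15c59) (.leaf 0x117b1c67)))) (.node (.node (.node (.leaf 0x1abf1c63) (.leaf 0x114d9c63)) (.node (.leaf 0x11255c61) (.leaf 0x10ee9c55))) (.node (.node (.leaf 0x11589c61) (.leaf 0x12549c63)) (.node (.leaf 0x14b49c65) (.leaf 0x0))))))) (.node (.node (.node (.node (.node (.node (.leaf 0x19fb1c55) (.leaf 0x13a75c67)) (.node (.leaf 0x11925c63) (.leaf 0x19321c65))) (.node (.node (.leaf 0x1b181c67) (.leaf 0x10b21c59)) (.node (.leaf 0x16281c61) (.leaf 0x190e1c65)))) (.node (.node (.node (.leaf 0x136d9c55) (.leaf 0x10065c61)) (.node (.leaf 0x15e45c63) (.leaf 0x19f75c55))) (.node (.node (.leaf 0xecddc65) (.leaf 0x1b0edc55)) (.node (.leaf 0x45b1c63) (.leaf 0x0))))) (.node (.node (.node (.node (.leaf 0xe8e1c61) (.leaf 0x1a091c61)) (.node (.leaf 0xe501c67) (.leaf 0xb369c59))) (.node (.node (.leaf 0x16d55c63) (.leaf 0x14e1dc55)) (.node (.leaf 0x16885c67) (.leaf 0xe501c55)))) (.node (.node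 (.node (.leaf 0x132f5c59) (.leaf 0x1c915c59)) (.node (.leaf 0x12f7dc55) (.leaf 0x1742dc59))) (.node (.node (.leaf 0x15ea1c65) (.leaf 0x15541c61)) (.node (.leaf 0x16749c59) (.leaf 0x0)))))) (.node (.node (.node (.node (.node (.leaf 0x17b2dc67) (.leaf 0x13769c61)) (.node (.leaf 0xe6f1c67) (.leaf 0xee11c65))) (.node (.node (.leaf 0x1b819c55) (.leaf 0x125f9c63)) (.node (.leaf 0x10439c65) (.leaf 0x16631c67)))) (.node (.node (.node (.leaf 0x10fbdc65) (.leaf 0xfae5c67)) (.node (.leaf 0x164cdc65) (.leaf 0x15abdc59))) (.node (.node (.leaf 0x11ca1c65) (.leaf 0x12d91c55)) (.node (.leaf 0x151d5c63) (.leaf 0x0))))) (.node (.node (.node (.node (.leaf 0x14dddc65) (.leaf 0x134bdc67)) (.node (.leaf 0x186b9c63) (.leaf 0x12261c59))) (.node (.node (.leaf 0x19661c67) (.leaf 0x1b45dc65)) (.node (.leaf 0x18c91c65) (.leaf 0x0)))) (.node (.node (.node (.leaf 0x1079dc59) (.leaf 0x17865c67)) (.node (.leaf 0xe8e1c67) (.leaf 0xee89c59)))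 (.node (.node (.leaf 0x16071c55) (.leaf 0x11831c55)) (.node (.leaf 0x141c9c67) (.leaf 0x0)))))))) (.node (.node (.node (.node (.node (.node (.node (.leaf 0xf1d1c59) (.leaf 0x141d9c67)) (.node (.leaf 0x15871c67) (.leaf 0x1abd5c61))) (.node (.node (.leaf 0x125e9c61) (.leaf 0x19a85c65)) (.node (.leaf 0x1cc89c65) (.leaf 0x109d5c67)))) (.node (.node (.node (.leaf 0x153e9c63) (.leaf 0x141f5c63)) (.node (.leaf 0x13521c61) (.leaf 0x15ac9c59))) (.node (.node (.leaf 0x17791c55) (.leaf 0x179cdc67)) (.node (.leaf 0x199c9c67) (.leaf 0x0))))) (.node (.node (.node (.node (.leaf 0x1c309c67) (.leaf 0x18e6dc61)) (.node (.leaf 0x188e1c65) (.leaf 0x1604dc61))) (.node (.node (.leaf 0xc8adc63) (.leaf 0x8f1dc59)) (.node (.leaf 0xf951c67) (.leaf 0x1ba05c55)))) (.node (.node (.node (.leaf 0x15e05c65) (.leaf 0xddb9c67)) (.node (.leaf 0x10195c65) (.leaf 0x125f9c67))) (.node (.node (.leaf 0x1484dc63) (.leaf 0x11d75c67)) (.node (.leaf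 0x11e75c67) (.leaf 0x0)))))) (.node (.node (.node (.node (.node (.leaf 0x171f5c61) (.leaf 0xdcf9c55)) (.node (.leaf 0x10385c65) (.leaf 0x106a9c67))) (.node (.node (.leaf 0x1e9fdc55) (.leaf 0x1c2f5c65)) (.node (.leaf 0x15be1c65) (.leaf 0x13855c59)))) (.node (.node (.node (.leaf 0xd59dc61) (.leaf 0x16f25c59)) (.node (.leaf 0x141a9c67) (.leaf 0xdd99c55))) (.node (.node (.leaf 0x15b9dc59) (.leaf 0x149d9c67)) (.node (.leaf 0x12801c65) (.leaf 0x0))))) (.node (.node (.node (.node (.leaf 0x1aaf1c55) (.leaf 0x11029c59)) (.node (.leaf 0x181c5c61) (.leaf 0x18bd9c63))) (.node (.node (.leaf 0x1ba8dc65) (.leaf 0x10c35c61)) (.node (.leaf 0x165d9c67) (.leaf 0x0)))) (.node (.node (.node (.leaf 0x1b0a1c61) (.leaf 0x1a17dc55)) (.node (.leaf 0x188a1c59) (.leaf 0x483dc61))) (.node (.node (.leaf 0x17705c59) (.leaf 0x14ce5c61)) (.node (.leaf 0x483dc67) (.leaf 0x0))))))) (.node (.node (.node (.node (.node (.node (.leaf 0x1022dc67)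 (.leaf 0x4bc9c59)) (.node (.leaf 0x19dc5c61) (.leaf 0x12d75c59))) (.node (.node (.leaf 0x17345c67) (.leaf 0x11a7dc59)) (.node (.leaf 0x16015c59) (.leaf 0x11aa9c63)))) (.node (.node (.node (.leaf 0x145a5c59) (.leaf 0x1049dc59)) (.node (.leaf 0x18da1c65) (.leaf 0x1a109c65))) (.node (.node (.leaf 0x10d05c55) (.leaf 0xef45c59)) (.node (.leaf 0x6d11c63) (.leaf 0x0))))) (.node (.node (.node (.node (.leaf 0x18285c65) (.leaf 0xa6edc55)) (.node (.leaf 0x11ca1c55) (.leaf 0x14039c65))) (.node (.node (.leaf 0x12549c55) (.leaf 0x19355c61)) (.node (.leaf 0x9cd5c59) (.leaf 0x9d21c55)))) (.node (.node (.node (.leaf 0xe0b5c55) (.leaf 0x16d19c65)) (.node (.leaf 0x1802dc65) (.leaf 0x17089c63))) (.node (.node (.leaf 0xb369c67) (.leaf 0x1d5d1c59)) (.node (.leaf 0xc0c1c55) (.leaf 0x0)))))) (.node (.node (.node (.node (.node (.leaf 0x1a17dc65) (.leaf 0x161e1c59)) (.node (.leaf 0xf5cdc55) (.leaf 0x153c5c65))) (.node (.node (.leaf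 0x12e41c59) (.leaf 0x16a85c67)) (.node (.leaf 0x1604dc59) (.leaf 0xe855c67)))) (.node (.node (.node (.leaf 0x1c4a1c59) (.leaf 0x183b1c61)) (.node (.leaf 0xc7c5c65) (.leaf 0x153fdc55))) (.node (.node (.leaf 0x143a9c67) (.leaf 0xd8c5c59)) (.node (.leaf 0x16845c59) (.leaf 0x0))))) (.node (.node (.node (.node (.leaf 0x177c1c65) (.leaf 0x10871c63)) (.node (.leaf 0x12551c61) (.leaf 0x13a7dc59))) (.node (.node (.leaf 0x1c5c) (.leaf 0x15c1dc67)) (.node (.leaf 0x192e9c65) (.leaf 0x0)))) (.node (.node (.node (.leaf 0x1faa1c65) (.leaf 0x18341c55)) (.node (.leaf 0x40b5c61) (.leaf 0x15711c65))) (.node (.node (.leaf 0x10c01c65) (.leaf 0xa599c59)) (.node (.leaf 0x1b20dc55) (.leaf 0x0))))))))))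

/-- packed table -/
noncomputable def cov17_rlr : BTree := (.node (.node (.node (.node (.node (.node (.node (.node (.node (.leaf 0x14b89c55) (.leaf 0x11771c55)) (.node (.leaf 0x16361c59) (.leaf 0x1cbf1c67))) (.node (.node (.leaf 0x143fdc55) (.leaf 0x12ea9c59)) (.node (.leaf 0x18e61c67) (.leaf 0x111e5c61)))) (.node (.node (.node (.leaf 0xa295c67) (.leaf 0x1853dc59)) (.node (.leaf 0x1252dc61) (.leaf 0x18a21c65))) (.node (.node (.leaf 0x13919c55) (.leaf 0x11421c65)) (.node (.leaf 0x14aedc67) (.leaf 0x0))))) (.node (.node (.node (.node (.leaf 0x19c29c59) (.leaf 0x16b55c61)) (.node (.leaf 0x1aeb9c59) (.leaf 0x1c4edc61))) (.node (.node (.leaf 0x16645c59) (.leaf 0x16159c59)) (.node (.leaf 0x1b205c59) (.leaf 0x13ab1c59)))) (.node (.node (.node (.leaf 0x136edc67) (.leaf 0x15299c63)) (.node (.leaf 0x18459c67) (.leaf 0x17115c65))) (.node (.node (.leaf 0x1afe9c63) (.leaf 0x164d1c65)) (.node (.leaf 0x14da5c65) (.leaf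 0x0)))))) (.node (.node (.node (.node (.node (.leaf 0x17845c67) (.leaf 0x1102dc65)) (.node (.leaf 0x150f9c59) (.leaf 0x10ac1c61))) (.node (.node (.leaf 0x18269c67) (.leaf 0x157cdc55)) (.node (.leaf 0xc0b9c55) (.leaf 0x17089c67)))) (.node (.node (.node (.leaf 0x136edc55) (.leaf 0x1742dc65)) (.node (.leaf 0x11dfdc67) (.leaf 0x133d9c59))) (.node (.node (.leaf 0x19f55c65) (.leaf 0x14221c67)) (.node (.leaf 0xf755c67) (.leaf 0x0))))) (.node (.node (.node (.node (.leaf 0x17b11c63) (.leaf 0x18889c67)) (.node (.leaf 0x19175c61) (.leaf 0xcb71c55))) (.node (.node (.leaf 0x14539c67) (.leaf 0x1b915c55)) (.node (.leaf 0x15ad1c67) (.leaf 0x117d1c67)))) (.node (.node (.node (.leaf 0x165c9c67) (.leaf 0xd489c55)) (.node (.leaf 0x1b785c67) (.leaf 0x7ae9c61))) (.node (.node (.leaf 0x9d45c61) (.leaf 0x17145c61)) (.node (.leaf 0x1dbd9c55) (.leaf 0x0))))))) (.node (.node (.node (.node (.node (.node (.leaf 0xca0dc55) (.leaf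 0x13addc65)) (.node (.leaf 0x19919c63) (.leaf 0x111d1c55))) (.node (.node (.leaf 0x1ac5dc55) (.leaf 0xee11c67)) (.node (.leaf 0x1102dc67) (.leaf 0x14fadc63)))) (.node (.node (.node (.leaf 0x1343dc67) (.leaf 0x1886dc65)) (.node (.leaf 0x17879c65) (.leaf 0x1af35c63))) (.node (.node (.leaf 0x16191c55) (.leaf 0x18235c67)) (.node (.leaf 0x1b1c1c61) (.leaf 0x0))))) (.node (.node (.node (.node (.leaf 0x15b19c59) (.leaf 0x6d11c59)) (.node (.leaf 0xe32dc55) (.leaf 0x144cdc63))) (.node (.node (.leaf 0x1247dc61) (.leaf 0x198adc63)) (.node (.leaf 0xe8d5c59) (.leaf 0x1650dc55)))) (.node (.node (.node (.leaf 0xd1bdc67) (.leaf 0x1ab4dc55)) (.node (.leaf 0x15d91c65) (.leaf 0x14789c63))) (.node (.node (.leaf 0x16835c65) (.leaf 0x188f1c55)) (.node (.leaf 0x15d61c55) (.leaf 0x0)))))) (.node (.node (.node (.node (.node (.leaf 0xe2f9c55) (.leaf 0x16651c67)) (.node (.leaf 0x6d11c55) (.leaf 0x15e45c55))) (.node (.node (.leaf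 0x15249c65) (.leaf 0x1b3c9c63)) (.node (.leaf 0x19bd1c65) (.leaf 0x1a7a1c61)))) (.node (.node (.node (.leaf 0x18339c63) (.leaf 0x1b49dc59)) (.node (.leaf 0x18f51c63) (.leaf 0x18d49c55))) (.node (.node (.leaf 0x16071c63) (.leaf 0x14505c65)) (.node (.leaf 0x1b409c59) (.leaf 0x0))))) (.node (.node (.node (.node (.leaf 0x168cdc61) (.leaf 0x12811c65)) (.node (.leaf 0x11b71c67) (.leaf 0x10195c67))) (.node (.node (.leaf 0x17845c59) (.leaf 0x17259c67)) (.node (.leaf 0x14ca9c67) (.leaf 0x0)))) (.node (.node (.node (.leaf 0x15941c67) (.leaf 0x12ce5c63)) (.node (.leaf 0x155a1c65) (.leaf 0x13305c61))) (.node (.node (.leaf 0x16199c61) (.leaf 0x18b95c63)) (.node (.leaf 0x15941c59) (.leaf 0x0)))))))) (.node (.node (.node (.node (.node (.node (.node (.leaf 0x122bdc61) (.leaf 0x14145c55)) (.node (.leaf 0x1ae6dc61) (.leaf 0x187cdc63))) (.node (.node (.leaf 0x1247dc67) (.leaf 0x9ca5c59)) (.node (.leaf 0x1f505c63) (.leaf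 0xea65c67)))) (.node (.node (.node (.leaf 0xc415c55) (.leaf 0x18635c65)) (.node (.leaf 0x16c85c65) (.leaf 0x1af2dc63))) (.node (.node (.leaf 0x16311c55) (.leaf 0x17aadc67)) (.node (.leaf 0x155edc63) (.leaf 0x0))))) (.node (.node (.node (.node (.leaf 0x17259c65) (.leaf 0x16399c65)) (.node (.leaf 0xf405c61) (.leaf 0x1a345c67))) (.node (.node (.leaf 0x19a45c63) (.leaf 0x15f21c65)) (.node (.leaf 0xc55dc67) (.leaf 0x19d79c55)))) (.node (.node (.node (.leaf 0xade1c63) (.leaf 0x12131c63)) (.node (.leaf 0x1b469c63) (.leaf 0x1b81dc63))) (.node (.node (.leaf 0x1e9ddc63) (.leaf 0x151d5c55)) (.node (.leaf 0xfae5c59) (.leaf 0x0)))))) (.node (.node (.node (.node (.node (.leaf 0x1547dc59) (.leaf 0x18bb1c63)) (.node (.leaf 0x14dddc61) (.leaf 0x11485c55))) (.node (.node (.leaf 0x18509c67) (.leaf 0x177bdc55)) (.node (.leaf 0x14f6dc65) (.leaf 0x1337dc65)))) (.node (.node (.node (.leaf 0x1640dc67) (.leaf 0x1a0d9c67)) (.node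 (.leaf 0x14f11c55) (.leaf 0x1a4a1c65))) (.node (.node (.leaf 0x1686dc61) (.leaf 0x10bcdc67)) (.node (.leaf 0x15d51c59) (.leaf 0x0))))) (.node (.node (.node (.node (.leaf 0xc7c5c55) (.leaf 0x1102dc59)) (.node (.leaf 0x159b5c55) (.leaf 0x13779c67))) (.node (.node (.leaf 0x17329c55) (.leaf 0x11419c55)) (.node (.leaf 0x12715c61) (.leaf 0x0)))) (.node (.node (.node (.leaf 0x16015c63) (.leaf 0x16721c55)) (.node (.leaf 0x1570dc67) (.leaf 0xabb5c61))) (.node (.node (.leaf 0x16489c55) (.leaf 0x1db3dc59)) (.node (.leaf 0x14479c65) (.leaf 0x0))))))) (.node (.node (.node (.node (.node (.node (.leaf 0x1100dc61) (.leaf 0xc8adc59)) (.node (.leaf 0x153e9c65) (.leaf 0x133d9c67))) (.node (.node (.leaf 0x1a565c65) (.leaf 0xa295c63)) (.node (.leaf 0x1769dc59) (.leaf 0x1444dc55)))) (.node (.node (.node (.leaf 0x18899c65) (.leaf 0x12ed5c67)) (.node (.leaf 0x179ddc55) (.leaf 0x10e3dc55))) (.node (.node (.leaf 0x16049c59) (.leaf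 0x18cd5c67)) (.node (.leaf 0x4779c67) (.leaf 0x0))))) (.node (.node (.node (.node (.leaf 0x1abe5c63) (.leaf 0x17089c61)) (.node (.leaf 0x17479c59) (.leaf 0x14191c67))) (.node (.node (.leaf 0x10b21c65) (.leaf 0x115c1c67)) (.node (.leaf 0x15b19c65) (.leaf 0x11d49c55)))) (.node (.node (.node (.leaf 0x1df9dc63) (.leaf 0x1c809c61)) (.node (.leaf 0x182a1c67) (.leaf 0x19f61c63))) (.node (.node (.leaf 0x12131c65) (.leaf 0xf32dc61)) (.node (.leaf 0x1b2c5c59) (.leaf 0x0)))))) (.node (.node (.node (.node (.node (.leaf 0x173bdc55) (.leaf 0x11e59c65)) (.node (.leaf 0x10fbdc67) (.leaf 0x1c1a1c67))) (.node (.node (.leaf 0xe881c59) (.leaf 0x10785c67)) (.node (.leaf 0xe079c59) (.leaf 0x1b025c61)))) (.node (.node (.node (.leaf 0x8fc1c65) (.leaf 0x160fdc55)) (.node (.leaf 0x10879c65) (.leaf 0x109d5c63))) (.node (.node (.leaf 0x10385c67) (.leaf 0x91f1c55)) (.node (.leaf 0x19511c65) (.leaf 0x0))))) (.node (.node (.node (.node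 (.leaf 0x164b9c59) (.leaf 0x12261c55)) (.node (.leaf 0x19aa5c55) (.leaf 0x1b195c67))) (.node (.node (.leaf 0x1ab95c63) (.leaf 0x14301c61)) (.node (.leaf 0x112b5c65) (.leaf 0x0)))) (.node (.node (.node (.leaf 0x1e509c55) (.leaf 0x18339c55)) (.node (.leaf 0x1a8e9c67) (.leaf 0x159b5c59))) (.node (.node (.leaf 0x17665c59) (.leaf 0x167b5c65)) (.node (.leaf 0x190ddc55) (.leaf 0x0))))))))) (.node (.node (.node (.node (.node (.node (.node (.node (.leaf 0x10fbdc59) (.leaf 0x190b9c55)) (.node (.leaf 0x18665c55) (.leaf 0x10455c67))) (.node (.node (.leaf 0x15f81c65) (.leaf 0x11de9c59)) (.node (.leaf 0x190e1c67) (.leaf 0x16159c67)))) (.node (.node (.node (.leaf 0x137f1c61) (.leaf 0xc55dc59)) (.node (.leaf 0x1944dc59) (.leaf 0x1ab6dc55))) (.node (.node (.leaf 0xe6f1c65) (.leaf 0x11b29c65)) (.node (.leaf 0xea99c59) (.leaf 0x0))))) (.node (.node (.node (.node (.leaf 0x1592dc61) (.leaf 0x1e241c59)) (.node (.leaf 0x1c6e9c65)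 (.leaf 0x1810dc59))) (.node (.node (.leaf 0xd789c65) (.leaf 0x11ab5c59)) (.node (.leaf 0x16cedc67) (.leaf 0x109b1c67)))) (.node (.node (.node (.leaf 0x1444dc63) (.leaf 0x173e9c65)) (.node (.leaf 0x19755c67) (.leaf 0xc705c63))) (.node (.node (.leaf 0x106a9c63) (.leaf 0xe39dc55)) (.node (.leaf 0x1e949c63) (.leaf 0x0)))))) (.node (.node (.node (.node (.node (.leaf 0x19495c59) (.leaf 0x16531c63)) (.node (.leaf 0x18df1c61) (.leaf 0x196adc59))) (.node (.node (.leaf 0x10ca5c61) (.leaf 0x15311c67)) (.node (.leaf 0x167b5c67) (.leaf 0x121e9c61)))) (.node (.node (.node (.leaf 0x1679dc63) (.leaf 0x121e9c65)) (.node (.leaf 0x1acfdc61) (.leaf 0x14539c55))) (.node (.node (.leaf 0x11771c63) (.leaf 0x1a90dc55)) (.node (.leaf 0x9d2dc59) (.leaf 0x0))))) (.node (.node (.node (.node (.leaf 0x1a4adc67) (.leaf 0x1b475c65)) (.node (.leaf 0x11641c63) (.leaf 0x14f8dc65))) (.node (.node (.leaf 0x17461c63) (.leaf 0x10421c59)) (.node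 (.leaf 0x1b7d5c61) (.leaf 0x149d9c65)))) (.node (.node (.node (.leaf 0x19a21c67) (.leaf 0x11759c55)) (.node (.leaf 0x15725c67) (.leaf 0xa819c63))) (.node (.node (.leaf 0x15581c61) (.leaf 0x1458dc55)) (.node (.leaf 0x1f875c59) (.leaf 0x0))))))) (.node (.node (.node (.node (.node (.node (.leaf 0x1c7c) (.leaf 0xab91c67)) (.node (.leaf 0x1a669c65) (.leaf 0x18815c67))) (.node (.node (.leaf 0x15939c63) (.leaf 0x1aa09c61)) (.node (.leaf 0x17a01c65) (.leaf 0x19839c63)))) (.node (.node (.node (.leaf 0x1c975c55) (.leaf 0x177ddc55)) (.node (.leaf 0x106e1c67) (.leaf 0x1a2e9c65))) (.node (.node (.leaf 0x1a021c59) (.leaf 0x17449c65)) (.node (.leaf 0x17651c65) (.leaf 0x0))))) (.node (.node (.node (.node (.leaf 0x13635c59) (.leaf 0x1a29dc55)) (.node (.leaf 0xd1bdc61) (.leaf 0x1b485c65))) (.node (.node (.leaf 0x1966dc67) (.leaf 0x1049dc67)) (.node (.leaf 0xdd0dc55) (.leaf 0x19aa5c67)))) (.node (.node (.node (.leaf 0x111a5c67)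 (.leaf 0x18815c61)) (.node (.leaf 0x1a0edc65) (.leaf 0x10455c63))) (.node (.node (.leaf 0x1a839c55) (.leaf 0x188f1c67)) (.node (.leaf 0x13635c67) (.leaf 0x0)))))) (.node (.node (.node (.node (.node (.leaf 0x134e9c61) (.leaf 0x141fdc67)) (.node (.leaf 0xcb7dc63) (.leaf 0x1c915c55))) (.node (.node (.leaf 0xf2fdc59) (.leaf 0x1adbdc55)) (.node (.leaf 0x11c4dc65) (.leaf 0x15db1c63)))) (.node (.node (.node (.leaf 0x14fa1c65) (.leaf 0x1e9fdc59)) (.node (.leaf 0x144e1c61) (.leaf 0x123edc59))) (.node (.node (.leaf 0x14145c67) (.leaf 0x12e05c63)) (.node (.leaf 0x1af21c59) (.leaf 0x0))))) (.node (.node (.node (.node (.leaf 0x9195c67) (.leaf 0x18cd5c63)) (.node (.leaf 0xdb6dc67) (.leaf 0xd6a9c59))) (.node (.node (.leaf 0x18bd9c55) (.leaf 0x4be5c61)) (.node (.leaf 0x1c249c65) (.leaf 0x0)))) (.node (.node (.node (.leaf 0xc705c65) (.leaf 0x10de1c55)) (.node (.leaf 0x144adc55) (.leaf 0x16c8dc63))) (.node (.node (.leaf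 0x105adc67) (.leaf 0xe881c63)) (.node (.leaf 0x1b5a1c67) (.leaf 0x0)))))))) (.node (.node (.node (.node (.node (.node (.node (.leaf 0xf9bdc65) (.leaf 0x17a85c55)) (.node (.leaf 0x176cdc65) (.leaf 0xe80dc65))) (.node (.node (.leaf 0xf381c67) (.leaf 0x173e9c59)) (.node (.leaf 0x1b49dc61) (.leaf 0x19275c67)))) (.node (.node (.node (.leaf 0x164edc59) (.leaf 0x18cedc67)) (.node (.leaf 0x17159c55) (.leaf 0x16529c65))) (.node (.node (.leaf 0x1b06dc63) (.leaf 0x1b915c63)) (.node (.leaf 0x16205c65) (.leaf 0x0))))) (.node (.node (.node (.node (.leaf 0x160a5c63) (.leaf 0x16159c63)) (.node (.leaf 0x16cd1c55) (.leaf 0x12bf5c65))) (.node (.node (.leaf 0x12a39c55) (.leaf 0x69f1c65)) (.node (.leaf 0x16071c67) (.leaf 0xe079c55)))) (.node (.node (.node (.leaf 0x13565c63) (.leaf 0xe5ddc61)) (.node (.leaf 0x19679c59) (.leaf 0x15519c65))) (.node (.node (.leaf 0x187edc59) (.leaf 0x1ac81c65)) (.node (.leaf 0xcf3dc55) (.leaf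 0x0)))))) (.node (.node (.node (.node (.node (.leaf 0x185e9c67) (.leaf 0x14a9dc65)) (.node (.leaf 0x1516dc59) (.leaf 0x163cdc55))) (.node (.node (.leaf 0x1ac5dc59) (.leaf 0xc3b5c59)) (.node (.leaf 0x17509c61) (.leaf 0x12a49c67)))) (.node (.node (.node (.leaf 0x183e9c61) (.leaf 0x179cdc59)) (.node (.leaf 0x1b131c55) (.leaf 0x16f25c65))) (.node (.node (.leaf 0x17a85c67) (.leaf 0xc8adc55)) (.node (.leaf 0xefe5c55) (.leaf 0x0))))) (.node (.node (.node (.node (.leaf 0x19089c65) (.leaf 0x15969c55)) (.node (.leaf 0x13635c65) (.leaf 0x1f995c67))) (.node (.node (.leaf 0x11da1c59) (.leaf 0x150e9c67)) (.node (.leaf 0x12e8dc67) (.leaf 0x0)))) (.node (.node (.node (.leaf 0x17129c65) (.leaf 0x18f55c61)) (.node (.leaf 0x170d5c63) (.leaf 0x1853dc67))) (.node (.node (.leaf 0x10af5c67) (.leaf 0x18509c65)) (.node (.leaf 0x1679dc65) (.leaf 0x0))))))) (.node (.node (.node (.node (.node (.node (.leaf 0x1fa65c61) (.leaf 0x13789c61))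 (.node (.leaf 0x11949c63) (.leaf 0x117b1c59))) (.node (.node (.leaf 0xc0c1c65) (.leaf 0x1f4fdc61)) (.node (.leaf 0x1b0f9c67) (.leaf 0x17a85c63)))) (.node (.node (.node (.leaf 0x1b6f5c55) (.leaf 0x12d75c67)) (.node (.leaf 0x16b65c59) (.leaf 0x13125c65))) (.node (.node (.leaf 0x1b805c59) (.leaf 0x16c15c65)) (.node (.leaf 0x15165c65) (.leaf 0x0))))) (.node (.node (.node (.node (.leaf 0x18cd5c55) (.leaf 0x19c75c59)) (.node (.leaf 0x18b09c65) (.leaf 0xd789c61))) (.node (.node (.leaf 0xec39c55) (.leaf 0x1b5b1c65)) (.node (.leaf 0x1a7c5c63) (.leaf 0x10711c67)))) (.node (.node (.node (.leaf 0x13459c55) (.leaf 0x159d9c61)) (.node (.leaf 0xc7c5c59) (.leaf 0x156c9c65))) (.node (.node (.leaf 0xd8b9c67) (.leaf 0x150f5c65)) (.node (.leaf 0x1aaa9c63) (.leaf 0x0)))))) (.node (.node (.node (.node (.node (.leaf 0x12cb9c59) (.leaf 0x15ed9c67)) (.node (.leaf 0x105adc65) (.leaf 0x102a5c59))) (.node (.node (.leaf 0x176cdc59)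 (.leaf 0x18969c55)) (.node (.leaf 0x13075c55) (.leaf 0x144fdc59)))) (.node (.node (.node (.leaf 0x12d91c59) (.leaf 0x14f8dc61)) (.node (.leaf 0x11c35c61) (.leaf 0x19f4dc63))) (.node (.node (.leaf 0x11145c63) (.leaf 0x13addc59)) (.node (.leaf 0x155a1c55) (.leaf 0x0))))) (.node (.node (.node (.node (.leaf 0x1951dc61) (.leaf 0xf951c65)) (.node (.leaf 0x8b45c65) (.leaf 0x16e59c59))) (.node (.node (.leaf 0xcfddc67) (.leaf 0xca5dc59)) (.node (.leaf 0x18dfdc59) (.leaf 0x0)))) (.node (.node (.node (.leaf 0x160a5c67) (.leaf 0x1fa65c65)) (.node (.leaf 0x97fdc61) (.leaf 0x17b25c59))) (.node (.node (.leaf 0x1acf1c67) (.leaf 0x17749c59)) (.node (.leaf 0x1416dc55) (.leaf 0x0))))))))))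

/-- packed table -/
noncomputable def cov17_rrl : BTree := (.node (.node (.node (.node (.node (.node (.node (.node (.node (.leaf 0x173a5c67) (.leaf 0x178f9c67)) (.node (.leaf 0xc689c55) (.leaf 0x10c01c67))) (.node (.node (.leaf 0x19089c55) (.leaf 0x9ce5c65)) (.node (.leaf 0x57f9c55) (.leaf 0x18359c59)))) (.node (.node (.node (.leaf 0x16ad5c67) (.leaf 0x11a79c55)) (.node (.leaf 0x1a8c1c65) (.leaf 0x1a29dc59))) (.node (.node (.leaf 0x1cfcdc67) (.leaf 0x14a7dc59)) (.node (.leaf 0x18475c55) (.leaf 0x0))))) (.node (.node (.node (.node (.leaf 0x14df5c59) (.leaf 0x17145c59)) (.node (.leaf 0x18059c65) (.leaf 0x17a19c59))) (.node (.node (.leaf 0x9cd5c67) (.leaf 0x17345c65)) (.node (.leaf 0x126a1c61) (.leaf 0x4bc9c65)))) (.node (.node (.node (.leaf 0x131f1c67) (.leaf 0x19c85c63)) (.node (.leaf 0x19f95c65) (.leaf 0x1538dc67))) (.node (.node (.leaf 0x13529c67) (.leaf 0x164a5c65)) (.node (.leaf 0x16139c61) (.leaf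 0x0)))))) (.node (.node (.node (.node (.node (.leaf 0x15375c65) (.leaf 0x16fc9c63)) (.node (.leaf 0x133d9c65) (.leaf 0x1516dc65))) (.node (.node (.leaf 0x1626dc61) (.leaf 0x16d79c67)) (.node (.leaf 0x19081c61) (.leaf 0x156a5c65)))) (.node (.node (.node (.leaf 0x17471c65) (.leaf 0x137f1c59)) (.node (.leaf 0x178f9c63) (.leaf 0x183d5c55))) (.node (.node (.leaf 0x170b9c61) (.leaf 0x15139c59)) (.node (.leaf 0x8f1dc65) (.leaf 0x0))))) (.node (.node (.node (.node (.leaf 0x1a7f9c55) (.leaf 0x10871c67)) (.node (.leaf 0x18269c59) (.leaf 0x15165c61))) (.node (.node (.leaf 0x1abe9c61) (.leaf 0x15649c59)) (.node (.leaf 0x15acdc67) (.leaf 0x120d5c55)))) (.node (.node (.node (.leaf 0x12bf5c63) (.leaf 0x1820dc65)) (.node (.leaf 0x12491c63) (.leaf 0x10105c61))) (.node (.node (.leaf 0xf2a5c67) (.leaf 0x123c5c63)) (.node (.leaf 0x16f69c65) (.leaf 0x0))))))) (.node (.node (.node (.node (.node (.node (.leaf 0x14a7dc65) (.leaf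 0x15299c55)) (.node (.leaf 0x18ac5c63) (.leaf 0x1c381c65))) (.node (.node (.leaf 0x18431c55) (.leaf 0x12799c61)) (.node (.leaf 0x16f25c67) (.leaf 0x19cbdc67)))) (.node (.node (.node (.leaf 0x1a4ddc59) (.leaf 0x19731c61)) (.node (.leaf 0x164f9c65) (.leaf 0x106e1c65))) (.node (.node (.leaf 0x1f12dc63) (.leaf 0x12715c67)) (.node (.leaf 0x12549c67) (.leaf 0x0))))) (.node (.node (.node (.node (.leaf 0x188f1c65) (.leaf 0x1b8d1c65)) (.node (.leaf 0x1a5bdc67) (.leaf 0x121cdc55))) (.node (.node (.leaf 0x19f29c59) (.leaf 0x10439c59)) (.node (.leaf 0xcc49c61) (.leaf 0x1576dc55)))) (.node (.node (.node (.leaf 0x11025c55) (.leaf 0x18321c61)) (.node (.leaf 0x1a4adc55) (.leaf 0x18601c55))) (.node (.node (.leaf 0x174adc59) (.leaf 0xf5fdc63)) (.node (.leaf 0x19275c65) (.leaf 0x0)))))) (.node (.node (.node (.node (.node (.leaf 0x18ab1c63) (.leaf 0x18f95c61)) (.node (.leaf 0x16a8dc61) (.leaf 0x14e91c67))) (.node (.node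 (.leaf 0x15fddc59) (.leaf 0x173c5c63)) (.node (.leaf 0x156c9c59) (.leaf 0x176cdc67)))) (.node (.node (.node (.leaf 0x13a75c59) (.leaf 0x1acc5c59)) (.node (.leaf 0x19de5c55) (.leaf 0x15291c61))) (.node (.node (.leaf 0x17509c65) (.leaf 0x19691c67)) (.node (.leaf 0x10a19c61) (.leaf 0x0))))) (.node (.node (.node (.node (.leaf 0x1bb19c63) (.leaf 0x1278dc67)) (.node (.leaf 0x106a9c61) (.leaf 0x16d01c61))) (.node (.node (.leaf 0x1d309c63) (.leaf 0x14885c63)) (.node (.leaf 0x18d4dc59) (.leaf 0x0)))) (.node (.node (.node (.leaf 0x1a179c67) (.leaf 0xecddc63)) (.node (.leaf 0x18d75c63) (.leaf 0x16199c67))) (.node (.node (.leaf 0x12425c55) (.leaf 0x19821c55)) (.node (.leaf 0x16c8dc55) (.leaf 0x0)))))))) (.node (.node (.node (.node (.node (.node (.node (.leaf 0x13855c55) (.leaf 0x13a7dc55)) (.node (.leaf 0x15b9dc65) (.leaf 0x1cc75c67))) (.node (.node (.leaf 0x11889c67) (.leaf 0x16511c61)) (.node (.leaf 0x19fb9c63)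 (.leaf 0xcc49c59)))) (.node (.node (.node (.leaf 0x102a5c67) (.leaf 0xd489c61)) (.node (.leaf 0x14035c65) (.leaf 0x14515c65))) (.node (.node (.leaf 0x1257dc67) (.leaf 0x1a731c67)) (.node (.leaf 0xd6fdc55) (.leaf 0x0))))) (.node (.node (.node (.node (.leaf 0x1b58dc67) (.leaf 0x174adc63)) (.node (.leaf 0x1b3f1c61) (.leaf 0x194e9c65))) (.node (.node (.leaf 0x152c5c55) (.leaf 0x141f5c55)) (.node (.leaf 0x155a1c63) (.leaf 0x189ddc63)))) (.node (.node (.node (.leaf 0xc415c63) (.leaf 0x15db1c67)) (.node (.leaf 0x19735c67) (.leaf 0x1c569c65))) (.node (.node (.leaf 0x19fc1c65) (.leaf 0x11fcdc59)) (.node (.leaf 0x156a5c67) (.leaf 0x0)))))) (.node (.node (.node (.node (.node (.leaf 0x11479c59) (.leaf 0x17845c65)) (.node (.leaf 0x15311c65) (.leaf 0x128a1c65))) (.node (.node (.leaf 0x13aa5c67) (.leaf 0x1384dc67)) (.node (.leaf 0x18889c65) (.leaf 0x13631c55)))) (.node (.node (.node (.leaf 0x1ef39c55) (.leaf 0x16815c63))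 (.node (.leaf 0x18889c61) (.leaf 0x10aa9c61))) (.node (.node (.leaf 0x179ddc65) (.leaf 0x15f51c63)) (.node (.leaf 0xf859c61) (.leaf 0x0))))) (.node (.node (.node (.node (.leaf 0x10e3dc63) (.leaf 0x16361c55)) (.node (.leaf 0x1e9bdc65) (.leaf 0x188bdc55))) (.node (.node (.leaf 0x17815c59) (.leaf 0x143fdc59)) (.node (.leaf 0x11dc1c55) (.leaf 0x0)))) (.node (.node (.node (.leaf 0x16ba1c55) (.leaf 0x1244dc65)) (.node (.leaf 0x1971dc67) (.leaf 0x14885c55))) (.node (.node (.leaf 0x14a69c63) (.leaf 0x1f5c5c59)) (.node (.leaf 0x16049c67) (.leaf 0x0))))))) (.node (.node (.node (.node (.node (.node (.leaf 0x14045c61) (.leaf 0x15a6dc59)) (.node (.leaf 0x17b1dc67) (.leaf 0x19dadc63))) (.node (.node (.leaf 0x8141c61) (.leaf 0x11a8dc59)) (.node (.leaf 0x14b49c61) (.leaf 0x14fa1c59)))) (.node (.node (.node (.leaf 0x106e5c67) (.leaf 0x11949c61)) (.node (.leaf 0x16835c61) (.leaf 0x101c1c63))) (.node (.node (.leaf 0x18939c63)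 (.leaf 0x1c569c61)) (.node (.leaf 0xade1c65) (.leaf 0x0))))) (.node (.node (.node (.node (.leaf 0xe2e5c67) (.leaf 0x182c5c65)) (.node (.leaf 0x19849c63) (.leaf 0x15c09c63))) (.node (.node (.leaf 0x19945c65) (.leaf 0x1c351c55)) (.node (.leaf 0x13a45c59) (.leaf 0xdd31c55)))) (.node (.node (.node (.leaf 0x16db5c67) (.leaf 0x19909c55)) (.node (.leaf 0x183e9c63) (.leaf 0x1307dc63))) (.node (.node (.leaf 0x1e82dc55) (.leaf 0x17ab9c63)) (.node (.leaf 0x14c25c67) (.leaf 0x0)))))) (.node (.node (.node (.node (.node (.leaf 0x1728dc59) (.leaf 0xdf69c67)) (.node (.leaf 0xdd0dc59) (.leaf 0x18c65c65))) (.node (.node (.leaf 0x11845c65) (.leaf 0xea99c61)) (.node (.leaf 0xd0adc59) (.leaf 0x114d9c55)))) (.node (.node (.node (.leaf 0x191f9c67) (.leaf 0x160ddc55)) (.node (.leaf 0x1fa39c59) (.leaf 0x8141c65))) (.node (.node (.leaf 0x14a1dc55) (.leaf 0x96f9c67)) (.node (.leaf 0x11b39c55) (.leaf 0x0))))) (.node (.node (.node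 (.node (.leaf 0x18fd5c63) (.leaf 0x11539c65)) (.node (.leaf 0x10441c65) (.leaf 0x188ddc55))) (.node (.node (.leaf 0xeb99c63) (.leaf 0x18939c55)) (.node (.leaf 0x15991c67) (.leaf 0x0)))) (.node (.node (.node (.leaf 0x152e5c67) (.leaf 0x14d9dc65)) (.node (.leaf 0x106e5c65) (.leaf 0x15541c67))) (.node (.node (.leaf 0x18fedc55) (.leaf 0x16725c65)) (.node (.leaf 0xce69c67) (.leaf 0x0))))))))) (.node (.node (.node (.node (.node (.node (.node (.node (.leaf 0x147adc61) (.leaf 0x1a021c55)) (.node (.leaf 0xec39c61) (.leaf 0x15a29c67))) (.node (.node (.leaf 0x1b0adc65) (.leaf 0x19de1c59)) (.node (.leaf 0x132f9c63) (.leaf 0x16161c67)))) (.node (.node (.node (.leaf 0x19e29c65) (.leaf 0x19f6dc63)) (.node (.leaf 0x1256dc55) (.leaf 0x12649c63))) (.node (.node (.leaf 0x19671c63) (.leaf 0x1db35c65)) (.node (.leaf 0x13631c61) (.leaf 0x0))))) (.node (.node (.node (.node (.leaf 0xd651c67) (.leaf 0x1b4a1c67)) (.node (.leaf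 0x1b099c55) (.leaf 0x69f1c63))) (.node (.node (.leaf 0x11e59c61) (.leaf 0x1347dc61)) (.node (.leaf 0x16cbdc55) (.leaf 0x14b51c65)))) (.node (.node (.node (.leaf 0xd789c59) (.leaf 0x10a39c59)) (.node (.leaf 0x100c5c65) (.leaf 0x1b6e1c59))) (.node (.node (.leaf 0x1627dc65) (.leaf 0x16399c61)) (.node (.leaf 0x10fbdc61) (.leaf 0x0)))))) (.node (.node (.node (.node (.node (.leaf 0xf33dc55) (.leaf 0x12b39c63)) (.node (.leaf 0x168cdc65) (.leaf 0x19679c67))) (.node (.node (.leaf 0x16f81c65) (.leaf 0x1458dc63)) (.node (.leaf 0x13a75c65) (.leaf 0xf2a5c63)))) (.node (.node (.node (.leaf 0x12435c67) (.leaf 0xd489c65)) (.node (.leaf 0xc689c61) (.leaf 0x19049c63))) (.node (.node (.leaf 0x1343dc65) (.leaf 0x173a5c65)) (.node (.leaf 0x4be5c65) (.leaf 0x0))))) (.node (.node (.node (.node (.leaf 0x1c6d1c67) (.leaf 0x8be1c65)) (.node (.leaf 0x1a9adc65) (.leaf 0x9195c61))) (.node (.node (.leaf 0x1a8b1c59) (.leaf 0x164e5c55))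 (.node (.leaf 0x14799c65) (.leaf 0x112a5c63)))) (.node (.node (.node (.leaf 0x1e25dc61) (.leaf 0x15c8dc55)) (.node (.leaf 0x1a481c63) (.leaf 0x14615c55))) (.node (.node (.leaf 0x14d35c65) (.leaf 0x16735c67)) (.node (.leaf 0x13a75c61) (.leaf 0x0))))))) (.node (.node (.node (.node (.node (.node (.leaf 0x14119c61) (.leaf 0x11a05c65)) (.node (.leaf 0x8801c55) (.leaf 0x1713dc63))) (.node (.node (.leaf 0xac89c67) (.leaf 0x14771c61)) (.node (.leaf 0x14461c67) (.leaf 0x151edc61)))) (.node (.node (.node (.leaf 0x120d5c67) (.leaf 0x1677dc67)) (.node (.leaf 0x171a1c61) (.leaf 0x11c4dc67))) (.node (.node (.leaf 0x1d08dc67) (.leaf 0x19fc1c59)) (.node (.leaf 0x13691c67) (.leaf 0x0))))) (.node (.node (.node (.node (.leaf 0x102cdc55) (.leaf 0x105d1c59)) (.node (.leaf 0x112a5c59) (.leaf 0x14055c59))) (.node (.node (.leaf 0x1acc5c65) (.leaf 0x14e0dc55)) (.node (.leaf 0x13459c63) (.leaf 0x11a95c67)))) (.node (.node (.node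 (.leaf 0x111c9c67) (.leaf 0x18825c61)) (.node (.leaf 0x1713dc67) (.leaf 0x1a781c65))) (.node (.node (.leaf 0x16835c55) (.leaf 0x19ecdc55)) (.node (.leaf 0x1a5fdc55) (.leaf 0x0)))))) (.node (.node (.node (.node (.node (.leaf 0x1135dc63) (.leaf 0x1f429c61)) (.node (.leaf 0xdcf9c59) (.leaf 0x106e1c59))) (.node (.node (.leaf 0x1b5e9c61) (.leaf 0x15e45c65)) (.node (.leaf 0x173bdc61) (.leaf 0x1244dc61)))) (.node (.node (.node (.leaf 0xe881c55) (.leaf 0x125a9c55)) (.node (.leaf 0x144f1c59) (.leaf 0x18171c55))) (.node (.node (.leaf 0x18d91c59) (.leaf 0x19b99c67)) (.node (.leaf 0x16c61c67) (.leaf 0x0))))) (.node (.node (.node (.node (.leaf 0x181a5c67) (.leaf 0x17499c65)) (.node (.leaf 0x143d1c65) (.leaf 0x181a5c55))) (.node (.node (.leaf 0x169a5c59) (.leaf 0xeb99c55)) (.node (.leaf 0x18f29c67) (.leaf 0x0)))) (.node (.node (.node (.leaf 0x12739c65) (.leaf 0x101c1c67)) (.node (.leaf 0x13a21c55) (.leaf 0x16961c55)))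 (.node (.node (.leaf 0x1307dc59) (.leaf 0x16725c67)) (.node (.leaf 0x18609c55) (.leaf 0x0)))))))) (.node (.node (.node (.node (.node (.node (.node (.leaf 0x19155c59) (.leaf 0x12799c65)) (.node (.leaf 0x1650dc61) (.leaf 0x159d9c55))) (.node (.node (.leaf 0x1484dc55) (.leaf 0x11a95c65)) (.node (.leaf 0x1a5f5c59) (.leaf 0x1f6ddc67)))) (.node (.node (.node (.leaf 0x12ea9c63) (.leaf 0x1561dc55)) (.node (.leaf 0x15219c55) (.leaf 0x14f21c55))) (.node (.node (.leaf 0x1afedc67) (.leaf 0x1c4edc65)) (.node (.leaf 0x115e5c55) (.leaf 0x0))))) (.node (.node (.node (.node (.leaf 0x18561c63) (.leaf 0x13125c59)) (.node (.leaf 0x14a95c61) (.leaf 0x15b9dc67))) (.node (.node (.leaf 0xeb99c65) (.leaf 0x1aafdc67)) (.node (.leaf 0x10a51c61) (.leaf 0x15939c67)))) (.node (.node (.node (.leaf 0x14669c59) (.leaf 0x16199c65)) (.node (.leaf 0x16dedc67) (.leaf 0x18359c65))) (.node (.node (.leaf 0x171f5c55) (.leaf 0x16d01c65)) (.node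 (.leaf 0x18c95c67) (.leaf 0x0)))))) (.node (.node (.node (.node (.node (.leaf 0x11279c59) (.leaf 0x10e3dc61)) (.node (.leaf 0x132e1c61) (.leaf 0x111c9c65))) (.node (.node (.leaf 0x1e301c67) (.leaf 0x1991dc59)) (.node (.leaf 0x17b1dc61) (.leaf 0xb989c61)))) (.node (.node (.node (.leaf 0x19c19c67) (.leaf 0xcc49c65)) (.node (.leaf 0x168fdc67) (.leaf 0x10a3dc65))) (.node (.node (.leaf 0x19b95c59) (.leaf 0x10de1c59)) (.node (.leaf 0x1e995c67) (.leaf 0x0))))) (.node (.node (.node (.node (.leaf 0xd0adc65) (.leaf 0x14645c67)) (.node (.leaf 0x15ff9c65) (.leaf 0x1a51dc67))) (.node (.node (.leaf 0x118ddc63) (.leaf 0x176b5c65)) (.node (.leaf 0xaa41c63) (.leaf 0x0)))) (.node (.node (.node (.leaf 0x1aac5c65) (.leaf 0x12779c59)) (.node (.leaf 0x1064dc59) (.leaf 0x12789c65))) (.node (.node (.leaf 0x107b5c65) (.leaf 0x156c9c55)) (.node (.leaf 0x14855c67) (.leaf 0x0))))))) (.node (.node (.node (.node (.node (.node (.leaf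 0x11ab5c61) (.leaf 0x1527dc55)) (.node (.leaf 0x1adb9c67) (.leaf 0x147fdc65))) (.node (.node (.leaf 0xe32dc61) (.leaf 0x1af65c61)) (.node (.leaf 0x953dc59) (.leaf 0x14fb5c59)))) (.node (.node (.node (.leaf 0x1b3f1c65) (.leaf 0x116c1c65)) (.node (.leaf 0x10bcdc65) (.leaf 0x17a49c59))) (.node (.node (.leaf 0x14d01c55) (.leaf 0x13521c59)) (.node (.leaf 0x111a5c59) (.leaf 0x0))))) (.node (.node (.node (.node (.leaf 0x18269c65) (.leaf 0x18979c65)) (.node (.leaf 0xef45c67) (.leaf 0x1aeddc63))) (.node (.node (.leaf 0x110d9c55) (.leaf 0x174d5c63)) (.node (.leaf 0x15ac9c67) (.leaf 0x194a1c55)))) (.node (.node (.node (.leaf 0x1b7d5c63) (.leaf 0x6d11c65)) (.node (.leaf 0x187f5c59) (.leaf 0xe5e1c67))) (.node (.node (.leaf 0x10f05c59) (.leaf 0xdf91c55)) (.node (.leaf 0x19919c61) (.leaf 0x0)))))) (.node (.node (.node (.node (.node (.leaf 0x19e25c55) (.leaf 0x19521c63)) (.node (.leaf 0x105d1c65) (.leaf 0x14dc5c67)))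 (.node (.node (.leaf 0x18491c55) (.leaf 0x1c991c55)) (.node (.leaf 0x151b9c65) (.leaf 0x117a1c55)))) (.node (.node (.node (.leaf 0x1b0edc59) (.leaf 0x11d59c67)) (.node (.leaf 0x1247dc55) (.leaf 0x146b5c59))) (.node (.node (.leaf 0x131f1c65) (.leaf 0x107b5c61)) (.node (.leaf 0x14675c67) (.leaf 0x0))))) (.node (.node (.node (.node (.leaf 0x1c6d1c59) (.leaf 0xef45c55)) (.node (.leaf 0x16a1dc65) (.leaf 0x19c85c67))) (.node (.node (.leaf 0x15f51c55) (.leaf 0xd1bdc55)) (.node (.leaf 0x152e1c65) (.leaf 0x0)))) (.node (.node (.node (.leaf 0x17a71c67) (.leaf 0x15acdc61)) (.node (.leaf 0x97e5c61) (.leaf 0x13691c59))) (.node (.node (.leaf 0x14c25c65) (.leaf 0x15c1dc63)) (.node (.leaf 0x12fb5c59) (.leaf 0x0))))))))))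

/-- packed table -/
noncomputable def cov17_rrr : BTree := (.node (.node (.node (.node (.node (.node (.node (.node (.node (.leaf 0x10ed1c63) (.leaf 0xb765c61)) (.node (.leaf 0x1635dc59) (.leaf 0x1e315c63))) (.node (.node (.leaf 0x1b2d5c59) (.leaf 0x1a5b1c59)) (.node (.leaf 0x15e3dc55) (.leaf 0x15519c59)))) (.node (.node (.node (.leaf 0x194e9c67) (.leaf 0x1a939c61)) (.node (.leaf 0x1807dc59) (.leaf 0x16e4dc67))) (.node (.node (.leaf 0x13779c55) (.leaf 0x173bdc59)) (.node (.leaf 0x110d9c67) (.leaf 0x0))))) (.node (.node (.node (.node (.leaf 0x1575dc65) (.leaf 0x15cadc67)) (.node (.leaf 0x141fdc65) (.leaf 0x13221c65))) (.node (.node (.leaf 0x11949c65) (.leaf 0x12d75c63)) (.node (.leaf 0x16c91c65) (.leaf 0x1a2c1c65)))) (.node (.node (.node (.leaf 0x16451c67) (.leaf 0x14a2dc59)) (.node (.leaf 0x137a5c67) (.leaf 0x19981c59))) (.node (.node (.leaf 0x12261c65) (.leaf 0x160e9c65)) (.node (.leaf 0x12435c61) (.leaf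 0x0)))))) (.node (.node (.node (.node (.node (.leaf 0x14f8dc67) (.leaf 0x1503dc65)) (.node (.leaf 0x174b1c67) (.leaf 0x10b39c61))) (.node (.node (.leaf 0x1b2d5c55) (.leaf 0x19a39c55)) (.node (.leaf 0x143fdc61) (.leaf 0x11e75c65)))) (.node (.node (.node (.leaf 0x174adc67) (.leaf 0x15c99c63)) (.node (.leaf 0x1510dc55) (.leaf 0x12ea9c67))) (.node (.node (.leaf 0x1aa15c67) (.leaf 0x1a6fdc67)) (.node (.leaf 0x11d25c59) (.leaf 0x0))))) (.node (.node (.node (.node (.leaf 0x1a4a1c67) (.leaf 0x1aa0dc61)) (.node (.leaf 0x1c28dc59) (.leaf 0x15e89c67))) (.node (.node (.leaf 0x12895c59) (.leaf 0x16281c55)) (.node (.leaf 0xd8edc65) (.leaf 0x12bedc61)))) (.node (.node (.node (.leaf 0x15e69c65) (.leaf 0x141d1c67)) (.node (.leaf 0x14111c67) (.leaf 0x10f0dc55))) (.node (.node (.leaf 0x45b1c55) (.leaf 0x1d559c59)) (.node (.leaf 0x1af61c65) (.leaf 0x0))))))) (.node (.node (.node (.node (.node (.node (.leaf 0x15415c59) (.leaf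 0x13565c65)) (.node (.leaf 0x18cc9c65) (.leaf 0xcf99c59))) (.node (.node (.leaf 0x15fddc55) (.leaf 0x181d5c67)) (.node (.leaf 0x17021c63) (.leaf 0x1bb19c67)))) (.node (.node (.node (.leaf 0xd9fdc63) (.leaf 0x11c4dc63)) (.node (.leaf 0x19e4dc63) (.leaf 0x15d65c55))) (.node (.node (.leaf 0x19081c67) (.leaf 0x170f5c55)) (.node (.leaf 0x17179c67) (.leaf 0x0))))) (.node (.node (.node (.node (.leaf 0x1384dc63) (.leaf 0x15fa9c67)) (.node (.leaf 0xe3fdc65) (.leaf 0x144d9c63))) (.node (.node (.leaf 0x1063dc61) (.leaf 0x196c5c63)) (.node (.leaf 0x18401c67) (.leaf 0x1a1a9c59)))) (.node (.node (.node (.leaf 0x15219c65) (.leaf 0x16049c65)) (.node (.leaf 0xc0c1c61) (.leaf 0x111d1c63))) (.node (.node (.leaf 0x113b5c59) (.leaf 0x1d4c1c67)) (.node (.leaf 0x1662dc55) (.leaf 0x0)))))) (.node (.node (.node (.node (.node (.leaf 0x18e8dc63) (.leaf 0x17559c67)) (.node (.leaf 0x106a9c65) (.leaf 0x18e7dc67))) (.node (.node (.leaf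 0x1b5ddc61) (.leaf 0x1257dc59)) (.node (.leaf 0x11925c67) (.leaf 0x1b619c67)))) (.node (.node (.node (.leaf 0x16139c59) (.leaf 0x12789c67)) (.node (.leaf 0xa0e5c65) (.leaf 0x1b819c61))) (.node (.node (.leaf 0x117a5c63) (.leaf 0x13889c61)) (.node (.leaf 0x188f1c61) (.leaf 0x0))))) (.node (.node (.node (.node (.leaf 0x133c1c59) (.leaf 0x8fb9c59)) (.node (.leaf 0x1869dc61) (.leaf 0x148c1c59))) (.node (.node (.leaf 0x12425c65) (.leaf 0x1eba5c59)) (.node (.leaf 0x117b1c63) (.leaf 0x0)))) (.node (.node (.node (.leaf 0xd6a9c67) (.leaf 0x13889c59)) (.node (.leaf 0x11591c65) (.leaf 0x184a9c65))) (.node (.node (.leaf 0x151f5c65) (.leaf 0x9ca5c67)) (.node (.leaf 0x19945c59) (.leaf 0x0)))))))) (.node (.node (.node (.node (.node (.node (.node (.leaf 0x179b9c65) (.leaf 0x12975c67)) (.node (.leaf 0x1a2d5c59) (.leaf 0x187edc63))) (.node (.node (.leaf 0x16479c67) (.leaf 0x19ab1c65)) (.node (.leaf 0xcefdc55) (.leaf 0xab91c65))))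 (.node (.node (.node (.leaf 0x19a4dc67) (.leaf 0x14c29c59)) (.node (.leaf 0xcb71c65) (.leaf 0x1653dc63))) (.node (.node (.leaf 0x16b35c63) (.leaf 0x1676dc65)) (.node (.leaf 0x1688dc61) (.leaf 0x0))))) (.node (.node (.node (.node (.leaf 0x13245c55) (.leaf 0x1b7c5c59)) (.node (.leaf 0x1b3f9c61) (.leaf 0x16989c65))) (.node (.node (.leaf 0x8f1dc61) (.leaf 0x10565c59)) (.node (.leaf 0x19ec1c67) (.leaf 0x17abdc55)))) (.node (.node (.node (.leaf 0x19df1c65) (.leaf 0x11dc1c67)) (.node (.leaf 0x1a179c63) (.leaf 0x14d29c67))) (.node (.node (.leaf 0x19fc5c65) (.leaf 0x15f79c63)) (.node (.leaf 0x1e791c65) (.leaf 0x0)))))) (.node (.node (.node (.node (.node (.leaf 0x1ac79c65) (.leaf 0x8b45c59)) (.node (.leaf 0x164d5c67) (.leaf 0x13861c61))) (.node (.node (.leaf 0x1a07dc65) (.leaf 0x14759c55)) (.node (.leaf 0x13a7dc65) (.leaf 0x12fd9c55)))) (.node (.node (.node (.leaf 0xa0e5c61) (.leaf 0x14d25c61)) (.node (.leaf 0x1a90dc67)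 (.leaf 0x1ded1c65))) (.node (.node (.leaf 0x125e9c67) (.leaf 0x169a1c65)) (.node (.leaf 0x18459c63) (.leaf 0x0))))) (.node (.node (.node (.node (.leaf 0x1a7ddc67) (.leaf 0x10065c65)) (.node (.leaf 0xcc81c67) (.leaf 0x14b41c65))) (.node (.node (.leaf 0x198e5c63) (.leaf 0x17449c55)) (.node (.leaf 0x16451c55) (.leaf 0x0)))) (.node (.node (.node (.leaf 0x1af61c61) (.leaf 0x149f1c67)) (.node (.leaf 0x10879c59) (.leaf 0x14b75c67))) (.node (.node (.leaf 0x15aadc59) (.leaf 0x1a829c55)) (.node (.leaf 0x148d1c63) (.leaf 0x0))))))) (.node (.node (.node (.node (.node (.node (.leaf 0x11c25c65) (.leaf 0x119d5c65)) (.node (.leaf 0x15a31c65) (.leaf 0x14fb5c55))) (.node (.node (.leaf 0x16971c59) (.leaf 0x157bdc65)) (.node (.leaf 0xdb01c67) (.leaf 0x173e5c65)))) (.node (.node (.node (.leaf 0x148c1c55) (.leaf 0x16161c63)) (.node (.leaf 0x139e5c55) (.leaf 0x1e0a9c65))) (.node (.node (.leaf 0x14da5c61) (.leaf 0x8989c59))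 (.node (.leaf 0x111c9c59) (.leaf 0x0))))) (.node (.node (.node (.node (.leaf 0x102e1c59) (.leaf 0x182b1c65)) (.node (.leaf 0x1915dc59) (.leaf 0x14b75c65))) (.node (.node (.leaf 0xdd35c55) (.leaf 0x1a4a9c63)) (.node (.leaf 0xd8c5c67) (.leaf 0xdd19c55)))) (.node (.node (.node (.leaf 0x1af15c67) (.leaf 0x1a6e5c59)) (.node (.leaf 0x1b211c65) (.leaf 0x1a9e5c63))) (.node (.node (.leaf 0x11a49c65) (.leaf 0x17a81c59)) (.node (.leaf 0x1b6e5c67) (.leaf 0x0)))))) (.node (.node (.node (.node (.node (.leaf 0x174d5c61) (.leaf 0x1e951c67)) (.node (.leaf 0x111e5c59) (.leaf 0x14fa1c55))) (.node (.node (.leaf 0x14329c55) (.leaf 0x1b5ddc59)) (.node (.leaf 0x16069c59) (.leaf 0x12ed5c59)))) (.node (.node (.node (.leaf 0xdd39c61) (.leaf 0xa101c55)) (.node (.leaf 0x1eae1c65) (.leaf 0x160ddc65))) (.node (.node (.leaf 0x12eedc59) (.leaf 0xb22dc67)) (.node (.leaf 0x18671c67) (.leaf 0x0))))) (.node (.node (.node (.node (.leaf 0x164a5c59)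 (.leaf 0x12fb9c59)) (.node (.leaf 0x146f5c63) (.leaf 0x15201c63))) (.node (.node (.leaf 0x19695c59) (.leaf 0x19c29c67)) (.node (.leaf 0x14e0dc59) (.leaf 0x0)))) (.node (.node (.node (.leaf 0x1d995c65) (.leaf 0x1776dc61)) (.node (.leaf 0x97fdc65) (.leaf 0x12bedc65))) (.node (.node (.leaf 0xab91c61) (.leaf 0x14a7dc67)) (.node (.leaf 0x12779c65) (.leaf 0x0))))))))) (.node (.node (.node (.node (.node (.node (.node (.node (.leaf 0xdf91c61) (.leaf 0x14111c61)) (.node (.leaf 0x109b1c65) (.leaf 0x16625c55))) (.node (.node (.leaf 0x1c52) (.leaf 0x1c599c63)) (.node (.leaf 0x10711c59) (.leaf 0x10a35c55)))) (.node (.node (.node (.leaf 0x14865c65) (.leaf 0xd59dc59)) (.node (.leaf 0x1595dc61) (.leaf 0xc8cdc59))) (.node (.node (.leaf 0x16f81c59) (.leaf 0x16d55c55)) (.node (.leaf 0x195f9c63) (.leaf 0x0))))) (.node (.node (.node (.node (.leaf 0xe501c63) (.leaf 0x1c931c61)) (.node (.leaf 0x14b49c67) (.leaf 0x1b181c65)))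 (.node (.node (.leaf 0xec39c63) (.leaf 0x183d5c63)) (.node (.leaf 0x14739c67) (.leaf 0x1d741c55)))) (.node (.node (.node (.leaf 0xde91c55) (.leaf 0x17035c55)) (.node (.leaf 0x168fdc61) (.leaf 0x19355c67))) (.node (.node (.leaf 0xce69c59) (.leaf 0x10875c55)) (.node (.leaf 0x11de9c67) (.leaf 0x0)))))) (.node (.node (.node (.node (.node (.leaf 0x170d5c67) (.leaf 0x1b49dc67)) (.node (.leaf 0x1b30dc59) (.leaf 0x11295c67))) (.node (.node (.leaf 0x16f85c65) (.leaf 0x195e1c65)) (.node (.leaf 0x12715c63) (.leaf 0x10019c67)))) (.node (.node (.node (.leaf 0x1679dc61) (.leaf 0x12799c67)) (.node (.leaf 0x4779c61) (.leaf 0x141e9c63))) (.node (.node (.leaf 0x19671c67) (.leaf 0x1840dc63)) (.node (.leaf 0x10ef5c63) (.leaf 0x0))))) (.node (.node (.node (.node (.leaf 0x1b829c65) (.leaf 0x18005c63)) (.node (.leaf 0x1a9c9c65) (.leaf 0x8b45c67))) (.node (.node (.leaf 0x179edc65) (.leaf 0x1b991c65)) (.node (.leaf 0x19dadc55)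 (.leaf 0x10565c65)))) (.node (.node (.node (.leaf 0x16209c67) (.leaf 0x15ea1c59)) (.node (.leaf 0x19721c67) (.leaf 0x1721dc55))) (.node (.node (.leaf 0xaa41c59) (.leaf 0x13961c67)) (.node (.leaf 0x1d5b9c55) (.leaf 0x0))))))) (.node (.node (.node (.node (.node (.node (.leaf 0x1036dc55) (.leaf 0x17b25c55)) (.node (.leaf 0x1a875c61) (.leaf 0x10811c67))) (.node (.node (.leaf 0x1416dc65) (.leaf 0x17549c61)) (.node (.leaf 0x15acdc65) (.leaf 0x1a69dc55)))) (.node (.node (.node (.leaf 0x121cdc63) (.leaf 0x14651c55)) (.node (.leaf 0x16d01c59) (.leaf 0xf381c59))) (.node (.node (.leaf 0x150a5c67) (.leaf 0x13221c67)) (.node (.leaf 0x16531c55) (.leaf 0x0))))) (.node (.node (.node (.node (.leaf 0x14e25c61) (.leaf 0xe6f1c55)) (.node (.leaf 0x18179c65) (.leaf 0x1ad5dc61))) (.node (.node (.leaf 0x1a5f5c67) (.leaf 0x1ad05c67)) (.node (.leaf 0x13a7dc61) (.leaf 0x13075c65)))) (.node (.node (.node (.leaf 0x12715c65) (.leaf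 0x18961c67)) (.node (.leaf 0x1b8f1c67) (.leaf 0x18b59c65))) (.node (.node (.leaf 0x1612dc65) (.leaf 0x1d54dc59)) (.node (.leaf 0x145a9c59) (.leaf 0x0)))))) (.node (.node (.node (.node (.node (.leaf 0x1129dc65) (.leaf 0x1b8f5c67)) (.node (.leaf 0x9ce5c59) (.leaf 0x13a29c65))) (.node (.node (.leaf 0x19731c65) (.leaf 0x18bc1c65)) (.node (.leaf 0x16535c61) (.leaf 0xaa41c55)))) (.node (.node (.node (.leaf 0x111d1c67) (.leaf 0x166a9c63)) (.node (.leaf 0x16e49c59) (.leaf 0x1b099c63))) (.node (.node (.leaf 0x16559c65) (.leaf 0x15c1dc59)) (.node (.leaf 0x14789c55) (.leaf 0x0))))) (.node (.node (.node (.node (.leaf 0x14df5c65) (.leaf 0x11859c67)) (.node (.leaf 0x146b5c63) (.leaf 0x13889c65))) (.node (.node (.leaf 0x1c445c65) (.leaf 0x18939c59)) (.node (.leaf 0x16f31c65) (.leaf 0x0)))) (.node (.node (.node (.leaf 0x16de9c67) (.leaf 0x15941c65)) (.node (.leaf 0x12e05c55) (.leaf 0x109b1c59))) (.node (.node (.leaf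 0xe5e1c61) (.leaf 0x18401c63)) (.node (.leaf 0x18e65c67) (.leaf 0x0)))))))) (.node (.node (.node (.node (.node (.node (.node (.leaf 0x14a69c65) (.leaf 0x17a49c65)) (.node (.leaf 0x14805c55) (.leaf 0xd9fdc55))) (.node (.node (.leaf 0x18e8dc67) (.leaf 0x15a91c65)) (.node (.leaf 0x19305c55) (.leaf 0x15e65c67)))) (.node (.node (.node (.leaf 0x164f9c59) (.leaf 0xd5fdc59)) (.node (.leaf 0x1243dc63) (.leaf 0xcf39c55))) (.node (.node (.leaf 0x1a939c59) (.leaf 0x15525c63)) (.node (.leaf 0x14a95c65) (.leaf 0x0))))) (.node (.node (.node (.node (.leaf 0x14301c67) (.leaf 0x13601c61)) (.node (.leaf 0x11d7dc67) (.leaf 0x1a955c65))) (.node (.node (.leaf 0x11a55c63) (.leaf 0x1dc45c59)) (.node (.leaf 0xd3f5c55) (.leaf 0xe2e5c65)))) (.node (.node (.node (.leaf 0x18499c67) (.leaf 0x1a021c65)) (.node (.leaf 0x1439dc63) (.leaf 0x18b4dc65))) (.node (.node (.leaf 0x1458dc67) (.leaf 0x1460dc55)) (.node (.leaf 0x17725c67) (.leaf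 0x0)))))) (.node (.node (.node (.node (.node (.leaf 0x1c31dc67) (.leaf 0x17791c65)) (.node (.leaf 0x1a821c61) (.leaf 0xdd35c67))) (.node (.node (.leaf 0x1e765c61) (.leaf 0x1b915c67)) (.node (.leaf 0x17a25c59) (.leaf 0x161b1c59)))) (.node (.node (.node (.leaf 0x14645c63) (.leaf 0xdf69c63)) (.node (.leaf 0x15a71c61) (.leaf 0x18205c63))) (.node (.node (.leaf 0x1b8d5c63) (.leaf 0x11dfdc63)) (.node (.leaf 0xe105c67) (.leaf 0x0))))) (.node (.node (.node (.node (.leaf 0x10879c55) (.leaf 0x12f79c59)) (.node (.leaf 0x1b649c65) (.leaf 0xc7c1c65))) (.node (.node (.leaf 0xa599c67) (.leaf 0xde91c65)) (.node (.leaf 0x18ed9c59) (.leaf 0x0)))) (.node (.node (.node (.leaf 0xe15dc61) (.leaf 0x12789c59)) (.node (.leaf 0x1063dc59) (.leaf 0x18285c61))) (.node (.node (.leaf 0x1ace9c59) (.leaf 0xe501c59)) (.node (.leaf 0x1b2e9c55) (.leaf 0x0))))))) (.node (.node (.node (.node (.node (.node (.leaf 0x174cdc59) (.leaf 0x11da1c65))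 (.node (.leaf 0x1aff9c65) (.leaf 0x152adc67))) (.node (.node (.leaf 0x1e68dc59) (.leaf 0x107b5c55)) (.node (.leaf 0x11c35c63) (.leaf 0x1a63dc65)))) (.node (.node (.node (.leaf 0x13a29c61) (.leaf 0x18639c61)) (.node (.leaf 0x17499c61) (.leaf 0x18509c59))) (.node (.node (.leaf 0xcd11c55) (.leaf 0x14fadc61)) (.node (.leaf 0x16161c55) (.leaf 0x0))))) (.node (.node (.node (.node (.leaf 0x187e9c61) (.leaf 0x1c8a5c67)) (.node (.leaf 0x1a939c65) (.leaf 0xac89c63))) (.node (.node (.leaf 0x1b2d1c67) (.leaf 0x15941c61)) (.node (.leaf 0x17651c61) (.leaf 0x14789c67)))) (.node (.node (.node (.leaf 0x1b44dc55) (.leaf 0x159f5c61)) (.node (.leaf 0xb765c67) (.leaf 0x165d1c67))) (.node (.node (.leaf 0xabb5c65) (.leaf 0x1951dc67)) (.node (.leaf 0x194a5c65) (.leaf 0x0)))))) (.node (.node (.node (.node (.node (.leaf 0x133d9c63) (.leaf 0x1e791c61)) (.node (.leaf 0x18f95c67) (.leaf 0x16161c65))) (.node (.node (.leaf 0xd3f5c61)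 (.leaf 0x1aafdc65)) (.node (.leaf 0x8141c67) (.leaf 0x19089c59)))) (.node (.node (.node (.leaf 0xee11c59) (.leaf 0x15871c59)) (.node (.leaf 0xa485c55) (.leaf 0xac89c59))) (.node (.node (.leaf 0x16f89c63) (.leaf 0x1a981c67)) (.node (.leaf 0xc655c67) (.leaf 0x0))))) (.node (.node (.node (.node (.leaf 0x10cc5c65) (.leaf 0xaa75c61)) (.node (.leaf 0x12bedc67) (.leaf 0x16489c61))) (.node (.node (.leaf 0xf859c55) (.leaf 0x191c5c55)) (.node (.leaf 0x1794dc61) (.leaf 0x0)))) (.node (.node (.node (.leaf 0x116c1c61) (.leaf 0x172c1c59)) (.node (.leaf 0x40b5c55) (.leaf 0x1309dc61))) (.node (.node (.leaf 0x10bfdc65) (.leaf 0x14091c55)) (.node (.leaf 0x17665c63) (.leaf 0x0))))))))))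

/-- packed table -/
noncomputable def cov17 : BTree := (.node (.node (.node cov17_lll cov17_llr) (.node cov17_lrl cov17_lrr)) (.node (.node cov17_rll cov17_rlr) (.node cov17_rrl cov17_rrr)))

theorem cov17_ok : okCover 17 cov17 = true := by decide +kernel

/-- straight-line program -/
def slp17 : List (Nat × Nat × Nat) :=
  [(0xb85c6651f569c4b42893800a91c6d2, 1, 3),
   (0x756e56d9616262f9c808190c780a8a, 1, 4),
   (0x18024619f09c84d42a8b4baf52c4f6, 3, 4),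
   (0x812a06956342a2c9cacf3ddc130934, 3, 5),
   (0xa992158e7742a2c69e4fb140ea0a04, 7, 4),
   (0x181c6791966a45342a8b904a7bc6b0, 7, 4),
   (0x35157405848d84d7c8132a5c782ea3, 6, 5),
   (0xb8414799925c04d428933b8762c535, 9, 4),
   (0x19e4e69261126285aaac85af42bc06, 9, 2),
   (0x825576011589c537c82d1d1d632c85, 9, 3),
   (0x31143401f48d44d6402b29dc994ed7, 12, 3),
   (0x2d4d29a624605a85aa8f85867b880e, 13, 14),
   (0xb9aa759229405ac9aa0fa5872289c0, 15, 0),
   (0x25cf46c2667c9688d86cab92a088a0, 13, 8),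
   (0x2d8f56ba7061a225a888a4861bbd20, 15, 6),
   (0x19ec49b9a6442225aaac4c8a0bbe81, 16, 12),
   (0xba6b45b9a644a229aacf3c0a11b080, 18, 0),
   (0x952c16967742a2f5c2ac48dc0308e4, 19, 13),
   (0x186b48ba667c96c694883c149b8ac0, 18, 0),
   (0x28036449866c04b7a8f323874bc6a9, 21, 20),
   (0xbb83661d156d0537aa4b480702c4c4, 23, 0),
   (0x32a95459e4884536486d3a60572ee0, 21, 0),
   (0x19ac99d227401af5aa4c256f0289c1, 25, 24),
   (0x1b829455f459c4d62a13200a6bc656, 24, 0),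
   (0xbb807459849a44d7aa4ba04a61c615, 26, 0),
   (0x2c8f458664426226aa0cadaee1bcc0, 26, 0),
   (0x1cac9581b5652229a8c821eee2be01, 27, 2),
   (0xbc2a7985b6792225a8c8a246e2b240, 29, 0),
   (0x82a87791816d851448b3025d732c75, 28, 4),
   (0x32ab4692761062f5c2e83a64573060, 30, 0),
   (0x85ea7985767a62c6c868010c570954, 30, 7),
   (0x31414459816a5f31406b391d794555, 32, 0),
   (0x75cf558676125a88986ca124583d40, 33, 0),
   (0x298969d1b561d6888e0f482ee50a41, 33, 2),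
   (0x29a95591b67a6688de4c3846e50a00, 36, 0),
   (0x8268045d8598c517c82d3a8c472ed5, 35, 32),
   (0x326a75967740e2f6c2c2a29c493020, 37, 0),
   (0x751247959788c53448ed0a8c082eb6, 37, 38),
   (0x710f4615e38dc4b4412d028c194ed5, 40, 0),
   (0x912959dda37962c599223a9d682020, 40, 0),
   (0x955246de6578e285c282b29c733001, 41, 2),
   (0x858f468d6565e289c882aa9c933c20, 43, 0),
   (0x8543615d055a9ed6181348e4774684, 43, 24),
   (0x29295119ee6c99145d333c07652c20, 43, 0),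
   (0x35a805de657aa286c12ca8dc190887, 46, 44),
   (0x706a7615176a9eb1193300e5684494, 46, 0),
   (0x55096439e68c98d15cf34c0752ac01, 46, 0),
   (0x51295439868c1ed10d2b3caf62cc20, 49, 0),
   (0x29e46425e45d85360e9180555bb40e, 48, 38),
   (0x2a60641d949d44b7dc91901561b42e, 51, 0),
   (0xb92956491059853795313b9561b420, 53, 0),
   (0x280898b9b07c96898eacb1954b88e1, 51, 47),
   (0xb9c897c8466c18b40c130b9552c696, 53, 0),
   (0x3580760c578950d7c133a2a4472c35, 53, 0),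
   (0xbd536440465b9f1614f30c86053684, 54, 0),
   (0x310f5794576a98b43ad3a0e0994420, 55, 0),
   (0x1d0244484e599f1628134c2e72b6b6, 57, 40),
   (0xb90144404e999917a82b3c8692b6d5, 59, 0),
   (0x290f559a3243a6f6aacca4069b8820, 59, 0),
   (0xbd8e0599ae142289a92cac8a41bc34, 60, 60),
   (0x2868763852899eb42933042e41b6d5, 61, 0),
   (0x280897b85089993428eb0c874bb6b6, 63, 0),
   (0xb9c896ca267ba685aa8cb407528801, 63, 0),
   (0x1a6876c226639689a88facaf628820, 65, 0),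
   (0x7009640d979a9eb1428d09647346a9, 65, 64),
   (0x7069545de35a9931488d01609346c7, 67, 0),
   (0x95aa0595a362a688c0823dcc973c34, 67, 0),
   (0x8040765c439a90b79891a15c9936d5, 68, 0),
   (0x358f4996234296c6b88fade4980820, 69, 0),
   (0x35c96681677d2289c8ac0d60370949, 69, 56),
   (0xb98158a5b66056f98dc8a10b050a47, 70, 0),
   (0x1983689db57826c5ddc8250b250a09, 73, 0),
   (0x1d4368c9a67b9689940c4c2e750a84, 75, 0),
   (0x8129558e37629af9b928394d690820, 73, 0),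
   (0x712e399d604522f6c82c2d6163092a, 74, 62),
   (0x500d09d9a97856c88e88710b5b88f2, 75, 0),
   (0x53ab45d9a47866888e0c026e628a47, 79, 0),
   (0x53ac49d5b4601688de4f09c6628a09, 79, 0),
   (0x502c9599b043a6c894ef0c875b8a84, 81, 0),
   (0x926a76de257aa685bacca0e0430820, 79, 0)]

/-- levels -/
def levels17 : List (Nat × List Nat) :=
  [(0, [84, 0, 1, 2, 3, 4, 5, 6, 7, 8, 9, 10, 11, 12, 13, 14]),
   (1, [84, 16, 17, 18, 20, 22, 25, 29, 31, 33, 36, 38]),
   (2, [84, 40, 43, 45, 47, 51, 54, 59]),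
   (3, [84, 62, 67, 72, 77, 83])]

/-- stabilising facts -/
def gens17 : List Nat := [1813, 1814, 1816, 1817]

theorem chain17_ok : okChain 17 gens17 slp17 levels17 = true := by decide +kernel

theorem chain17_size : chainSize levels17 = 9216 := by decide +kernel

end CfsgLib.Spor.J4.Index
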