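import Cfsg.Agent.Lib.Spor.J4.Index.Check

/-!
Coverage and stabiliser of node 18 (generated).
-/

set_option autoImplicit false
set_option linter.all false

namespace CfsgLib.Spor.J4.Index

open CfsgLib.PresCert

/-- packed table -/
noncomputable def cov18_lll : BTree := (.node (.node (.node (.node (.node (.node (.node (.node (.node (.leaf 0x16f45c93) (.leaf 0x167cdc8b)) (.node (.leaf 0x1f7cdc8d) (.leaf 0x21f35c8d))) (.node (.node (.leaf 0x19d71c93) (.leaf 0x16015c8b)) (.node (.leaf 0x197fdc8d) (.leaf 0x186cdc8b)))) (.node (.node (.node (.leaf 0x1b4a9c8d) (.leaf 0x10995c89)) (.node (.leaf 0x15b75c89) (.leaf 0x18ec5c89))) (.node (.node (.leaf 0x1debdc91) (.leaf 0xf965c91)) (.node (.leaf 0x1bb01c91) (.leaf 0x0))))) (.node (.node (.node (.node (.leaf 0x14a29c91) (.leaf 0x19579c93)) (.node (.leaf 0x1ed0dc93) (.leaf 0x1fad5c8d))) (.node (.node (.leaf 0x162c5c8d) (.leaf 0x1291dc93))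 (.node (.leaf 0x15cf5c8d) (.leaf 0x1e555c93)))) (.node (.node (.node (.leaf 0x14af5c8b) (.leaf 0x14e6dc91)) (.node (.leaf 0x22b39c8d) (.leaf 0x19d6dc8d))) (.node (.node (.leaf 0x1e555c8d) (.leaf 0x19bddc91)) (.node (.leaf 0x1870dc91) (.leaf 0x0)))))) (.node (.node (.node (.node (.node (.leaf 0x1d279c93) (.leaf 0x130e5c8b)) (.node (.leaf 0x1e6cdc8d) (.leaf 0x17671c8d))) (.node (.node (.leaf 0x1706dc89) (.leaf 0x18e3dc91)) (.node (.leaf 0x19b05c91) (.leaf 0x14b01c8b)))) (.node (.node (.node (.leaf 0x14ae1c93) (.leaf 0x18b1dc93)) (.node (.leaf 0xb2f5c8d) (.leaf 0x14c6dc91))) (.node (.node (.leaf 0x18bb9c91) (.leaf 0x1b6e1c93)) (.node (.leaf 0x1e90dc8d) (.leaf 0x0))))) (.node (.node (.node (.node (.leaf 0x10165c91) (.leaf 0x211b1c93)) (.node (.leaf 0x1ddb5c89) (.leaf 0xc121c91))) (.node (.node (.leaf 0x10b85c93) (.leaf 0x1dd5dc93)) (.node (.leaf 0x1c23dc89) (.leaf 0x14cedc8d))))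 (.node (.node (.node (.leaf 0x13441c89) (.leaf 0x186edc93)) (.node (.leaf 0x152d1c91) (.leaf 0x1ec81c91))) (.node (.node (.leaf 0x154fdc89) (.leaf 0x1c65dc91)) (.node (.leaf 0x1f8b5c8d) (.leaf 0x0))))))) (.node (.node (.node (.node (.node (.node (.leaf 0x1dcd9c89) (.leaf 0x14da1c93)) (.node (.leaf 0x22c35c8d) (.leaf 0x18911c8b))) (.node (.node (.leaf 0x1d48dc8d) (.leaf 0x135e5c8d)) (.node (.leaf 0x1d909c89) (.leaf 0x1e6c9c93)))) (.node (.node (.node (.leaf 0x1f639c8b) (.leaf 0x11f8dc8d)) (.node (.leaf 0x1f24dc91) (.leaf 0x1ea9dc89))) (.node (.node (.leaf 0x23935c8b) (.leaf 0x1a249c91)) (.node (.leaf 0x16addc93) (.leaf 0x0))))) (.node (.node (.node (.node (.leaf 0x8e15c8b) (.leaf 0x1bae5c8d)) (.node (.leaf 0x1f845c91) (.leaf 0x1eeb9c89))) (.node (.node (.leaf 0x157a5c89) (.leaf 0x142cdc8b)) (.node (.leaf 0x22485c93) (.leaf 0x18805c93)))) (.node (.node (.node (.leaf 0x1b8b9c93)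 (.leaf 0x23069c91)) (.node (.leaf 0x18989c8b) (.leaf 0x17121c8b))) (.node (.node (.leaf 0x14c89c8b) (.leaf 0x1acddc8b)) (.node (.leaf 0x17a41c91) (.leaf 0x0)))))) (.node (.node (.node (.node (.node (.leaf 0x1d7a1c8d) (.leaf 0x1594dc93)) (.node (.leaf 0x16a91c8d) (.leaf 0x19ab9c8b))) (.node (.node (.leaf 0x1986dc89) (.leaf 0x1a8fdc93)) (.node (.leaf 0x19fedc93) (.leaf 0x1f3edc93)))) (.node (.node (.node (.leaf 0x19875c89) (.leaf 0x146e9c93)) (.node (.leaf 0x1a5c1c8d) (.leaf 0x1fab5c8d))) (.node (.node (.leaf 0x1dbe9c89) (.leaf 0x1cb71c93)) (.node (.leaf 0x149e1c91) (.leaf 0x0))))) (.node (.node (.node (.node (.leaf 0x14cedc91) (.leaf 0x1a581c8b)) (.node (.leaf 0x1ed0dc8b) (.leaf 0x15795c93))) (.node (.node (.leaf 0x20695c89) (.leaf 0x18b41c8b)) (.node (.leaf 0x1c699c91) (.leaf 0x0)))) (.node (.node (.node (.leaf 0x16171c8b) (.leaf 0x1711dc8d)) (.node (.leaf 0x1f181c91) (.leaf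 0x1ebbdc93))) (.node (.node (.leaf 0xd80dc91) (.leaf 0x13651c89)) (.node (.leaf 0x1c99dc93) (.leaf 0x0)))))))) (.node (.node (.node (.node (.node (.node (.node (.leaf 0x1b85dc93) (.leaf 0x1999dc91)) (.node (.leaf 0x1b98dc91) (.leaf 0x1b79dc93))) (.node (.node (.leaf 0x1a331c8b) (.leaf 0x20afdc8d)) (.node (.leaf 0x1c261c8d) (.leaf 0x1c639c8b)))) (.node (.node (.node (.leaf 0x1ec95c91) (.leaf 0xe471c8d)) (.node (.leaf 0x1943dc8d) (.leaf 0xdd75c91))) (.node (.node (.leaf 0x1c33dc93) (.leaf 0x19409c89)) (.node (.leaf 0x16ab1c93) (.leaf 0x0))))) (.node (.node (.node (.node (.leaf 0x19409c8b) (.leaf 0x146c5c93)) (.node (.leaf 0x1dd99c89) (.leaf 0x1f66dc89))) (.node (.node (.leaf 0x9809c89) (.leaf 0x1f95dc89)) (.node (.leaf 0x15f2dc91) (.leaf 0x10b05c8b)))) (.node (.node (.node (.leaf 0x11259c8d) (.leaf 0x1a09dc8b)) (.node (.leaf 0x1b399c8d) (.leaf 0x18b4dc91))) (.node (.node (.leaf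 0xd615c8d) (.leaf 0x1c635c93)) (.node (.leaf 0x1e701c8b) (.leaf 0x0)))))) (.node (.node (.node (.node (.node (.leaf 0x12fa9c8b) (.leaf 0x15971c8b)) (.node (.leaf 0x1d48dc8b) (.leaf 0x1ecadc8b))) (.node (.node (.leaf 0x12419c8b) (.leaf 0x1981dc93)) (.node (.leaf 0x16bfdc8d) (.leaf 0x22db9c8b)))) (.node (.node (.node (.leaf 0x1c7adc89) (.leaf 0x18bb9c8d)) (.node (.leaf 0x10231c91) (.leaf 0x12455c8b))) (.node (.node (.leaf 0x1e599c8b) (.leaf 0x1af6dc8b)) (.node (.leaf 0x1d159c8d) (.leaf 0x0))))) (.node (.node (.node (.node (.leaf 0x149f9c93) (.leaf 0x21e11c89)) (.node (.leaf 0x19cadc8b) (.leaf 0x10995c8d))) (.node (.node (.leaf 0x17b39c93) (.leaf 0x1ce1dc8b)) (.node (.leaf 0x1f809c8b) (.leaf 0x204f1c91)))) (.node (.node (.node (.leaf 0x1e641c93) (.leaf 0x1c4c5c91)) (.node (.leaf 0x19b79c91) (.leaf 0x1a4a1c89))) (.node (.node (.leaf 0x13651c93) (.leaf 0x1b05dc89)) (.node (.leaf 0x1ab35c89)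 (.leaf 0x0))))))) (.node (.node (.node (.node (.node (.node (.leaf 0x13689c91) (.leaf 0x1504dc8b)) (.node (.leaf 0x19b85c91) (.leaf 0x11f0dc8d))) (.node (.node (.leaf 0x1f7fdc93) (.leaf 0x21cd1c91)) (.node (.leaf 0x1c049c93) (.leaf 0x14af5c93)))) (.node (.node (.node (.leaf 0x11259c93) (.leaf 0x1c05dc93)) (.node (.leaf 0x1d1b5c89) (.leaf 0x1ee89c89))) (.node (.node (.leaf 0x1e8d1c8d) (.leaf 0x1c4edc93)) (.node (.leaf 0x18519c91) (.leaf 0x0))))) (.node (.node (.node (.node (.leaf 0x14ec9c93) (.leaf 0x1573dc89)) (.node (.leaf 0x146e9c8d) (.leaf 0x1b901c93))) (.node (.node (.leaf 0x1fb15c8b) (.leaf 0x1f475c8b)) (.node (.leaf 0x153b5c8b) (.leaf 0x1eba9c89)))) (.node (.node (.node (.leaf 0x19b79c93) (.leaf 0x1a70dc89)) (.node (.leaf 0x1ad4dc93) (.leaf 0x1ecf1c91))) (.node (.node (.leaf 0x135e5c8b) (.leaf 0xaec5c8d)) (.node (.leaf 0x23a65c91) (.leaf 0x0)))))) (.node (.node (.node (.node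 (.node (.leaf 0x157b1c8d) (.leaf 0x11a2dc8b)) (.node (.leaf 0x19295c91) (.leaf 0x18e89c89))) (.node (.node (.leaf 0x1b015c8b) (.leaf 0x1ae0dc93)) (.node (.leaf 0x1601dc93) (.leaf 0x20bf1c8d)))) (.node (.node (.node (.leaf 0x234b5c8d) (.leaf 0x17815c93)) (.node (.leaf 0x1ef8dc8d) (.leaf 0x1cc19c8b))) (.node (.node (.leaf 0x19badc89) (.leaf 0x1b055c89)) (.node (.leaf 0x1c38dc93) (.leaf 0x0))))) (.node (.node (.node (.node (.leaf 0x1d625c8b) (.leaf 0x13689c93)) (.node (.leaf 0x1d901c89) (.leaf 0x19e05c91))) (.node (.node (.leaf 0x1ae0dc8d) (.leaf 0x1857dc8d)) (.node (.leaf 0x1c17dc91) (.leaf 0x0)))) (.node (.node (.node (.leaf 0x19409c8d) (.leaf 0x1acd9c93)) (.node (.leaf 0x1f1e1c91) (.leaf 0x186d1c89))) (.node (.node (.leaf 0x155e5c89) (.leaf 0x214b1c93)) (.node (.leaf 0x1a70dc8b) (.leaf 0x0))))))))) (.node (.node (.node (.node (.node (.node (.node (.node (.leaf 0x14011c8d) (.leaf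 0x1a959c93)) (.node (.leaf 0x8e15c91) (.leaf 0x15de5c8d))) (.node (.node (.leaf 0x107fdc8d) (.leaf 0x1719dc8d)) (.node (.leaf 0x1b211c93) (.leaf 0x15de1c91)))) (.node (.node (.node (.leaf 0x1f4a1c8d) (.leaf 0x19c81c8d)) (.node (.leaf 0x1c7c9c8d) (.leaf 0x186edc8b))) (.node (.node (.leaf 0x1e3d9c89) (.leaf 0x1f9b9c89)) (.node (.leaf 0x1d55dc91) (.leaf 0x0))))) (.node (.node (.node (.node (.leaf 0x14225c8d) (.leaf 0x1d559c93)) (.node (.leaf 0x19d8dc89) (.leaf 0x19551c91))) (.node (.node (.leaf 0x108f5c8b) (.leaf 0x1b7c9c91)) (.node (.leaf 0xe1c9c89) (.leaf 0x1a241c8b)))) (.node (.node (.node (.leaf 0x19849c89) (.leaf 0x19169c89)) (.node (.leaf 0x1cfb1c91) (.leaf 0x1f9f5c8d))) (.node (.node (.leaf 0x18311c8b) (.leaf 0x19c81c93)) (.node (.leaf 0x1a6a1c8b) (.leaf 0x0)))))) (.node (.node (.node (.node (.node (.leaf 0x8095c89) (.leaf 0x13659c93)) (.node (.leaf 0x1a99dc8d) (.leaf 0x1012dc93)))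 (.node (.node (.leaf 0x1a39dc8b) (.leaf 0x1d961c89)) (.node (.leaf 0x1eb75c91) (.leaf 0x1e9e5c8d)))) (.node (.node (.node (.leaf 0x16d65c8d) (.leaf 0x1f8d1c93)) (.node (.leaf 0x22aa5c8d) (.leaf 0x1f1a5c93))) (.node (.node (.leaf 0x1c4c9c89) (.leaf 0x1c4d1c93)) (.node (.leaf 0x18b29c93) (.leaf 0x0))))) (.node (.node (.node (.node (.leaf 0x1a445c8d) (.leaf 0x19191c91)) (.node (.leaf 0x2261dc91) (.leaf 0x1ae4dc8b))) (.node (.node (.leaf 0x1cba5c93) (.leaf 0x14af5c89)) (.node (.leaf 0x14aa5c89) (.leaf 0x198a5c93)))) (.node (.node (.node (.leaf 0x1b29dc93) (.leaf 0x1cd11c8d)) (.node (.leaf 0x1f0b5c8b) (.leaf 0x13651c91))) (.node (.node (.leaf 0x1b79dc89) (.leaf 0x1f8d5c93)) (.node (.leaf 0x18655c91) (.leaf 0x0))))))) (.node (.node (.node (.node (.node (.node (.leaf 0x15889c91) (.leaf 0x1866dc91)) (.node (.leaf 0x1f7b9c89) (.leaf 0xef89c91))) (.node (.node (.leaf 0x1f31dc91) (.leaf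 0x1dcc9c8d)) (.node (.leaf 0x1b791c91) (.leaf 0x11f89c89)))) (.node (.node (.node (.leaf 0x22c65c91) (.leaf 0x149ddc91)) (.node (.leaf 0x1efc9c91) (.leaf 0x1ab21c89))) (.node (.node (.leaf 0x1eba9c8d) (.leaf 0x1e969c91)) (.node (.leaf 0x1c049c8b) (.leaf 0x0))))) (.node (.node (.node (.node (.leaf 0x172cdc89) (.leaf 0x1880dc93)) (.node (.leaf 0x1d6c1c89) (.leaf 0x1e9d1c8d))) (.node (.node (.leaf 0x1fafdc8d) (.leaf 0x19d8dc93)) (.node (.leaf 0x16481c93) (.leaf 0x23795c91)))) (.node (.node (.node (.leaf 0x189d9c89) (.leaf 0x14641c91)) (.node (.leaf 0x14059c8d) (.leaf 0xd54dc89))) (.node (.node (.leaf 0x18e25c8d) (.leaf 0x1940dc8b)) (.node (.leaf 0x1a291c8b) (.leaf 0x0)))))) (.node (.node (.node (.node (.node (.leaf 0x1978dc8d) (.leaf 0x1da15c8b)) (.node (.leaf 0x183b5c8d) (.leaf 0x1de75c89))) (.node (.node (.leaf 0x1575dc91) (.leaf 0x1f2c1c8d)) (.node (.leaf 0x1d079c91) (.leaf 0x1d511c93))))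 (.node (.node (.node (.leaf 0x16efdc8b) (.leaf 0x1d355c91)) (.node (.leaf 0x117b5c8b) (.leaf 0x1fab9c8d))) (.node (.node (.leaf 0x1105dc93) (.leaf 0x1b905c93)) (.node (.leaf 0x1d1d1c8b) (.leaf 0x0))))) (.node (.node (.node (.node (.leaf 0x19e15c8b) (.leaf 0x15085c91)) (.node (.leaf 0x1d391c8d) (.leaf 0x14eb5c89))) (.node (.node (.leaf 0x1a9d5c93) (.leaf 0x190b9c8d)) (.node (.leaf 0x19badc93) (.leaf 0x0)))) (.node (.node (.node (.leaf 0x1d659c91) (.leaf 0x17341c8b)) (.node (.leaf 0x19919c89) (.leaf 0x18f3dc8d))) (.node (.node (.leaf 0x1f8e5c8d) (.leaf 0x1091dc93)) (.node (.leaf 0x157f1c93) (.leaf 0x0)))))))) (.node (.node (.node (.node (.node (.node (.node (.leaf 0x1c8a9c93) (.leaf 0x1a0c1c8d)) (.node (.leaf 0x1786dc91) (.leaf 0x1d7c9c8b))) (.node (.node (.leaf 0x1a331c89) (.leaf 0x1d6fdc91)) (.node (.leaf 0x158d1c89) (.leaf 0x15455c93)))) (.node (.node (.node (.leaf 0x1ed01c8d)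 (.leaf 0x19a59c91)) (.node (.leaf 0x1df1dc93) (.leaf 0x1e88dc93))) (.node (.node (.leaf 0x1bb1dc8b) (.leaf 0x1f2c1c89)) (.node (.leaf 0x1f3adc89) (.leaf 0x0))))) (.node (.node (.node (.node (.leaf 0x1b4a9c93) (.leaf 0x1b459c89)) (.node (.leaf 0x1c625c8d) (.leaf 0x1f67dc8b))) (.node (.node (.leaf 0x1f3adc8d) (.leaf 0x14719c89)) (.node (.leaf 0x114f5c89) (.leaf 0x1caedc89)))) (.node (.node (.node (.leaf 0x18bbdc8b) (.leaf 0x15405c93)) (.node (.leaf 0x1c5c9c8b) (.leaf 0x1ed85c93))) (.node (.node (.leaf 0x12f79c89) (.leaf 0x13311c89)) (.node (.leaf 0x18565c93) (.leaf 0x0)))))) (.node (.node (.node (.node (.node (.leaf 0x13689c89) (.leaf 0x1f809c91)) (.node (.leaf 0x1e631c8b) (.leaf 0xe1c9c91))) (.node (.node (.leaf 0x1a181c89) (.leaf 0x1c31dc91)) (.node (.leaf 0x1a18dc91) (.leaf 0x18bf5c8b)))) (.node (.node (.node (.leaf 0x1e93dc89) (.leaf 0x1d221c91)) (.node (.leaf 0x1908dc8b) (.leaf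 0x19e15c93))) (.node (.node (.leaf 0x15175c91) (.leaf 0x1c4f5c8d)) (.node (.leaf 0x1ab21c91) (.leaf 0x0))))) (.node (.node (.node (.node (.leaf 0x18cddc91) (.leaf 0x1a5d5c91)) (.node (.leaf 0x187a5c91) (.leaf 0x19565c8d))) (.node (.node (.leaf 0x18ee1c89) (.leaf 0x1f4c9c91)) (.node (.leaf 0x15a51c93) (.leaf 0x0)))) (.node (.node (.node (.leaf 0x1459dc91) (.leaf 0xfab1c91)) (.node (.leaf 0x13301c91) (.leaf 0x1c739c8b))) (.node (.node (.leaf 0x1d8d5c8d) (.leaf 0x159cdc89)) (.node (.leaf 0x1f911c89) (.leaf 0x0))))))) (.node (.node (.node (.node (.node (.node (.leaf 0x142cdc93) (.leaf 0x1d115c8b)) (.node (.leaf 0x9811c91) (.leaf 0x1ddbdc8d))) (.node (.node (.leaf 0x15f2dc8d) (.leaf 0x18e89c8d)) (.node (.leaf 0x1c415c8b) (.leaf 0x14b01c89)))) (.node (.node (.node (.leaf 0x1ed31c8d) (.leaf 0x108bdc91)) (.node (.leaf 0x11a99c8b) (.leaf 0x15475c8b))) (.node (.node (.leaf 0x1f371c89)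 (.leaf 0x1f7fdc91)) (.node (.leaf 0x1cc51c93) (.leaf 0x0))))) (.node (.node (.node (.node (.leaf 0x10145c91) (.leaf 0x1e9c9c8d)) (.node (.leaf 0x1ec81c8b) (.leaf 0x1c771c89))) (.node (.node (.leaf 0x11f89c8b) (.leaf 0x1a089c8d)) (.node (.leaf 0x1f5a9c89) (.leaf 0x16c4dc89)))) (.node (.node (.node (.leaf 0x1e2adc91) (.leaf 0x17059c91)) (.node (.leaf 0x1e90dc91) (.leaf 0x15595c89))) (.node (.node (.leaf 0x15e65c8d) (.leaf 0x157b1c8b)) (.node (.leaf 0x1a231c8b) (.leaf 0x0)))))) (.node (.node (.node (.node (.node (.leaf 0x10de1c93) (.leaf 0xea95c8d)) (.node (.leaf 0x15b75c91) (.leaf 0x19e05c8d))) (.node (.node (.leaf 0x11469c89) (.leaf 0x1ee09c8d)) (.node (.leaf 0x115bdc91) (.leaf 0x1b0d1c89)))) (.node (.node (.node (.leaf 0x1ee49c89) (.leaf 0x196b1c93)) (.node (.leaf 0x1af99c8d) (.leaf 0x1dbe5c91))) (.node (.node (.leaf 0xe16dc8b) (.leaf 0x12f79c8b)) (.node (.leaf 0x12611c8d) (.leaf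 0x0))))) (.node (.node (.node (.node (.leaf 0x1d855c89) (.leaf 0x1ce7dc93)) (.node (.leaf 0x1e4edc8b) (.leaf 0x11ac9c8b))) (.node (.node (.leaf 0x19b05c8d) (.leaf 0x1e6ddc89)) (.node (.leaf 0x1dc95c8d) (.leaf 0x0)))) (.node (.node (.node (.leaf 0x1d325c93) (.leaf 0x1e019c89)) (.node (.leaf 0xd6f5c8b) (.leaf 0x19b21c89))) (.node (.node (.leaf 0x19031c89) (.leaf 0xd62dc91)) (.node (.leaf 0x1500dc91) (.leaf 0x0))))))))))

/-- packed table -/
noncomputable def cov18_llr : BTree := (.node (.node (.node (.node (.node (.node (.node (.node (.node (.leaf 0x1000dc89) (.leaf 0xf6d5c93)) (.node (.leaf 0x1d8d5c91) (.leaf 0x1f415c8d))) (.node (.node (.leaf 0x1c801c8d) (.leaf 0x15fbdc93)) (.node (.leaf 0x401dc91) (.leaf 0x1db39c8b)))) (.node (.node (.node (.leaf 0x134a5c8d) (.leaf 0x1c949c89)) (.node (.leaf 0x1c98dc8b) (.leaf 0x19c1dc93))) (.node (.node (.leaf 0x18cbdc93) (.leaf 0x1f8e5c91))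 (.node (.leaf 0x1a05dc91) (.leaf 0x0))))) (.node (.node (.node (.node (.leaf 0x14da1c89) (.leaf 0x1a789c89)) (.node (.leaf 0x1e775c91) (.leaf 0x171edc8d))) (.node (.node (.leaf 0x1864dc91) (.leaf 0x1eb09c93)) (.node (.leaf 0x1e0f5c93) (.leaf 0x18f3dc8b)))) (.node (.node (.node (.leaf 0x10ad1c8b) (.leaf 0xc68dc91)) (.node (.leaf 0x1e891c8d) (.leaf 0x120e5c91))) (.node (.node (.leaf 0x1e8d9c89) (.leaf 0x1f4f9c8d)) (.node (.leaf 0x1fad5c93) (.leaf 0x0)))))) (.node (.node (.node (.node (.node (.leaf 0x12135c93) (.leaf 0x1b991c93)) (.node (.leaf 0x1a0cdc8d) (.leaf 0x13159c89))) (.node (.node (.leaf 0x158a9c91) (.leaf 0x14ca5c91)) (.node (.leaf 0x171d1c91) (.leaf 0x18509c91)))) (.node (.node (.node (.leaf 0x15a51c8b) (.leaf 0x18cddc8d)) (.node (.leaf 0x1940dc93) (.leaf 0x14d4dc91))) (.node (.node (.leaf 0x18bc5c91) (.leaf 0x1f2b9c91)) (.node (.leaf 0x109fdc93) (.leaf 0x0))))) (.node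 (.node (.node (.node (.leaf 0x17851c93) (.leaf 0x16b51c8b)) (.node (.leaf 0x1e649c91) (.leaf 0xf37dc91))) (.node (.node (.leaf 0x1f1e5c89) (.leaf 0x1ed55c89)) (.node (.leaf 0x1e019c8d) (.leaf 0x20b75c89)))) (.node (.node (.node (.leaf 0x1b821c89) (.leaf 0x20541c91)) (.node (.leaf 0x1c401c93) (.leaf 0x12f9dc91))) (.node (.node (.leaf 0x11779c91) (.leaf 0x15971c89)) (.node (.leaf 0x1a311c8d) (.leaf 0x0))))))) (.node (.node (.node (.node (.node (.node (.leaf 0x1c115c8b) (.leaf 0x1c861c89)) (.node (.leaf 0x1a601c8d) (.leaf 0x108bdc8b))) (.node (.node (.leaf 0x213b1c93) (.leaf 0x187d9c8b)) (.node (.leaf 0x189b5c8b) (.leaf 0x14301c89)))) (.node (.node (.node (.leaf 0x1c6adc93) (.leaf 0x1e5d9c8b)) (.node (.leaf 0x1c87dc8d) (.leaf 0x185a1c91))) (.node (.node (.leaf 0x11ac9c89) (.leaf 0x1e9c9c91)) (.node (.leaf 0x1e651c89) (.leaf 0x0))))) (.node (.node (.node (.node (.leaf 0x124cdc91)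 (.leaf 0x179bdc91)) (.node (.leaf 0x21b81c89) (.leaf 0xd0e1c8d))) (.node (.node (.leaf 0x1a56dc8d) (.leaf 0x13185c93)) (.node (.leaf 0x123c5c8d) (.leaf 0x14f31c89)))) (.node (.node (.node (.leaf 0xcbe9c89) (.leaf 0x1b979c93)) (.node (.leaf 0x1168dc8d) (.leaf 0x1c125c93))) (.node (.node (.leaf 0x1a271c93) (.leaf 0x16bfdc93)) (.node (.leaf 0x18545c93) (.leaf 0x0)))))) (.node (.node (.node (.node (.node (.leaf 0x1d859c91) (.leaf 0x11949c93)) (.node (.leaf 0x14275c91) (.leaf 0x19849c91))) (.node (.node (.leaf 0x1a639c93) (.leaf 0x1c949c8b)) (.node (.leaf 0x11819c93) (.leaf 0x15ac5c8d)))) (.node (.node (.node (.leaf 0x189c9c89) (.leaf 0x19a59c93)) (.node (.leaf 0x1b6e1c89) (.leaf 0x1e511c93))) (.node (.node (.leaf 0x1a0adc89) (.leaf 0x1ce95c91)) (.node (.leaf 0x1d215c8b) (.leaf 0x0))))) (.node (.node (.node (.node (.leaf 0x1acd5c89) (.leaf 0x10e49c93)) (.node (.leaf 0x1916dc89) (.leaf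 0xcb79c8d))) (.node (.node (.leaf 0x146bdc89) (.leaf 0x1f485c93)) (.node (.leaf 0x1a581c8d) (.leaf 0x0)))) (.node (.node (.node (.leaf 0x1d8d9c89) (.leaf 0x1de19c91)) (.node (.leaf 0x134a5c89) (.leaf 0x14c89c89))) (.node (.node (.leaf 0x4f85c8b) (.leaf 0x1dc11c91)) (.node (.leaf 0x15c8dc89) (.leaf 0x0)))))))) (.node (.node (.node (.node (.node (.node (.node (.leaf 0x180e1c8b) (.leaf 0x1916dc91)) (.node (.leaf 0x16dcdc8b) (.leaf 0x1d77dc91))) (.node (.node (.leaf 0x203ddc91) (.leaf 0x19d0dc8d)) (.node (.leaf 0x1b8c1c89) (.leaf 0x13655c8d)))) (.node (.node (.node (.leaf 0x1f5d5c8b) (.leaf 0xd759c8b)) (.node (.leaf 0x1d431c8d) (.leaf 0x1a569c91))) (.node (.node (.leaf 0x1a0e9c89) (.leaf 0x1bb01c8b)) (.node (.leaf 0x1eaa1c93) (.leaf 0x0))))) (.node (.node (.node (.node (.leaf 0x1fb21c93) (.leaf 0x14a29c8b)) (.node (.leaf 0x1dd79c89) (.leaf 0x15475c93))) (.node (.node (.leaf 0x1b8f1c91)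 (.leaf 0x11a65c8d)) (.node (.leaf 0x12455c93) (.leaf 0x1dea5c93)))) (.node (.node (.node (.leaf 0x1e941c89) (.leaf 0x19401c93)) (.node (.leaf 0x159cdc8b) (.leaf 0xe1f1c89))) (.node (.node (.leaf 0xef89c89) (.leaf 0x21ffdc8b)) (.node (.leaf 0xd0e9c8b) (.leaf 0x0)))))) (.node (.node (.node (.node (.node (.leaf 0x239c5c8b) (.leaf 0x16071c8d)) (.node (.leaf 0x1983dc91) (.leaf 0xcc3dc89))) (.node (.node (.leaf 0x14a29c93) (.leaf 0x1f469c93)) (.node (.leaf 0x1a8fdc8d) (.leaf 0x163b9c89)))) (.node (.node (.node (.leaf 0x1b3bdc8b) (.leaf 0x21ce1c8d)) (.node (.leaf 0x1734dc8d) (.leaf 0x1b58dc8d))) (.node (.node (.leaf 0x1e579c89) (.leaf 0x144fdc8d)) (.node (.leaf 0x1ab21c8d) (.leaf 0x0))))) (.node (.node (.node (.node (.leaf 0x18ce9c91) (.leaf 0x1e605c8d)) (.node (.leaf 0x1f639c89) (.leaf 0x1e995c8b))) (.node (.node (.leaf 0x1ad89c8b) (.leaf 0x11f89c93)) (.node (.leaf 0x1f829c89) (.leaf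 0x0)))) (.node (.node (.node (.leaf 0x188e5c8b) (.leaf 0x1a3ddc93)) (.node (.leaf 0x1b0fdc8b) (.leaf 0x1ef31c8b))) (.node (.node (.leaf 0x16971c8b) (.leaf 0x15a61c93)) (.node (.leaf 0x1acd5c8b) (.leaf 0x0))))))) (.node (.node (.node (.node (.node (.node (.leaf 0x12289c8b) (.leaf 0x133b9c91)) (.node (.leaf 0x10995c91) (.leaf 0x14cf9c8d))) (.node (.node (.leaf 0x1e3b1c8b) (.leaf 0x1b0fdc93)) (.node (.leaf 0x10ad1c93) (.leaf 0x1bb01c93)))) (.node (.node (.node (.leaf 0x19551c8b) (.leaf 0xcc3dc8b)) (.node (.leaf 0x19911c89) (.leaf 0x14821c93))) (.node (.node (.leaf 0x1f6b1c8d) (.leaf 0x1f9f5c93)) (.node (.leaf 0x1f5d5c8d) (.leaf 0x0))))) (.node (.node (.node (.node (.leaf 0x14161c91) (.leaf 0x16ad5c8b)) (.node (.leaf 0x12611c91) (.leaf 0x119fdc91))) (.node (.node (.leaf 0xcbe9c93) (.leaf 0x1b44dc93)) (.node (.leaf 0x1f20dc8d) (.leaf 0x1aeedc89)))) (.node (.node (.node (.leaf 0x152c9c8d)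 (.leaf 0x1d3fdc89)) (.node (.leaf 0x1c7c1c89) (.leaf 0x1cabdc8d))) (.node (.node (.leaf 0x1ac29c93) (.leaf 0x15085c8b)) (.node (.leaf 0x1baf5c8d) (.leaf 0x0)))))) (.node (.node (.node (.node (.node (.leaf 0x15a91c89) (.leaf 0x1a375c91)) (.node (.leaf 0x1a575c93) (.leaf 0x10bddc8d))) (.node (.node (.leaf 0x1873dc8b) (.leaf 0x1a0e9c8b)) (.node (.leaf 0x21065c91) (.leaf 0x18d0dc8d)))) (.node (.node (.node (.leaf 0x161ddc93) (.leaf 0x19c71c8d)) (.node (.leaf 0x1cfddc91) (.leaf 0x15085c93))) (.node (.node (.leaf 0x1de75c93) (.leaf 0x72f9c89)) (.node (.leaf 0x1cf19c8d) (.leaf 0x0))))) (.node (.node (.node (.node (.leaf 0x1ebbdc89) (.leaf 0x17a85c93)) (.node (.leaf 0x19c41c89) (.leaf 0x14ca9c8d))) (.node (.node (.leaf 0x14ae1c91) (.leaf 0x17989c91)) (.node (.leaf 0x186cdc91) (.leaf 0x0)))) (.node (.node (.node (.leaf 0x19415c8d) (.leaf 0x16005c89)) (.node (.leaf 0x1e371c8b) (.leaf 0x18565c91)))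 (.node (.node (.leaf 0x1d03dc8b) (.leaf 0x94f1c93)) (.node (.leaf 0x1a729c89) (.leaf 0x0))))))))) (.node (.node (.node (.node (.node (.node (.node (.node (.leaf 0x1000dc8b) (.leaf 0x199b9c91)) (.node (.leaf 0x14701c93) (.leaf 0x1f961c93))) (.node (.node (.leaf 0x13655c89) (.leaf 0x1573dc91)) (.node (.leaf 0x114d5c8b) (.leaf 0x1a231c91)))) (.node (.node (.node (.leaf 0x1f915c91) (.leaf 0x14e85c8d)) (.node (.leaf 0x1981dc89) (.leaf 0x1d961c91))) (.node (.node (.leaf 0x15475c89) (.leaf 0x1cd71c91)) (.node (.leaf 0x13151c93) (.leaf 0x0))))) (.node (.node (.node (.node (.leaf 0xc9edc91) (.leaf 0x16675c8d)) (.node (.leaf 0x1a955c91) (.leaf 0x1918dc8b))) (.node (.node (.leaf 0x136a5c93) (.leaf 0x1ddf9c91)) (.node (.leaf 0x161a5c89) (.leaf 0x18da9c91)))) (.node (.node (.node (.leaf 0x1c255c89) (.leaf 0x18595c91)) (.node (.leaf 0x1db59c91) (.leaf 0x18d95c91))) (.node (.node (.leaf 0x1e935c89)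 (.leaf 0x1601dc8b)) (.node (.leaf 0x1ba75c93) (.leaf 0x0)))))) (.node (.node (.node (.node (.node (.leaf 0x15735c8d) (.leaf 0x1de91c8d)) (.node (.leaf 0x1d589c89) (.leaf 0xc1bdc93))) (.node (.node (.leaf 0x13311c8d) (.leaf 0x1ea09c91)) (.node (.leaf 0xe16dc91) (.leaf 0x1f7b9c91)))) (.node (.node (.node (.leaf 0x1e8edc93) (.leaf 0x1d5f1c8d)) (.node (.leaf 0x1b6c5c89) (.leaf 0x18cbdc8d))) (.node (.node (.leaf 0x1edb1c91) (.leaf 0x1a26dc8b)) (.node (.leaf 0x14e61c91) (.leaf 0x0))))) (.node (.node (.node (.node (.leaf 0x13655c93) (.leaf 0x143f9c91)) (.node (.leaf 0x1d32dc8d) (.leaf 0x123c5c93))) (.node (.node (.leaf 0x1cb9dc93) (.leaf 0x1ea9dc8d)) (.node (.leaf 0x1c17dc89) (.leaf 0x1eb4dc93)))) (.node (.node (.node (.leaf 0x1a311c93) (.leaf 0x15d11c8d)) (.node (.leaf 0x1971dc8d) (.leaf 0xcbe9c8d))) (.node (.node (.leaf 0x12f9dc93) (.leaf 0x18475c91)) (.node (.leaf 0x1e60dc8d) (.leaf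 0x0))))))) (.node (.node (.node (.node (.node (.node (.leaf 0x1fb21c89) (.leaf 0x1a65dc8d)) (.node (.leaf 0x19e81c89) (.leaf 0x13131c8d))) (.node (.node (.leaf 0x19415c91) (.leaf 0x1719dc93)) (.node (.leaf 0x1b9cdc91) (.leaf 0x18cb1c8d)))) (.node (.node (.node (.leaf 0x1a96dc89) (.leaf 0x167e5c91)) (.node (.leaf 0x1e625c8d) (.leaf 0x1eb75c93))) (.node (.node (.leaf 0x15525c8b) (.leaf 0x1f7a1c91)) (.node (.leaf 0x23329c89) (.leaf 0x0))))) (.node (.node (.node (.node (.leaf 0x1105dc89) (.leaf 0x191f9c8d)) (.node (.leaf 0x20aa1c91) (.leaf 0x10f81c8d))) (.node (.node (.leaf 0x1b901c91) (.leaf 0x11ac9c8d)) (.node (.leaf 0x19d69c8d) (.leaf 0x9ae5c8d)))) (.node (.node (.node (.leaf 0x18bc5c89) (.leaf 0x1a5edc8d)) (.node (.leaf 0x146bdc93) (.leaf 0x1b1f1c91))) (.node (.node (.leaf 0x182adc91) (.leaf 0x1f1e9c91)) (.node (.leaf 0x1d091c8b) (.leaf 0x0)))))) (.node (.node (.node (.node (.node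 (.leaf 0x157f1c8b) (.leaf 0x17679c93)) (.node (.leaf 0x1cb6dc8d) (.leaf 0x1f615c91))) (.node (.node (.leaf 0x1b9a9c93) (.leaf 0x1f02dc93)) (.node (.leaf 0x1504dc91) (.leaf 0x18d61c91)))) (.node (.node (.node (.leaf 0x149e1c89) (.leaf 0x19829c93)) (.node (.leaf 0x19665c93) (.leaf 0x15f7dc8b))) (.node (.node (.leaf 0x14f11c8d) (.leaf 0x1a685c8b)) (.node (.leaf 0x193c5c91) (.leaf 0x0))))) (.node (.node (.node (.node (.leaf 0x1acddc89) (.leaf 0x19169c91)) (.node (.leaf 0x1edb5c93) (.leaf 0x153bdc91))) (.node (.node (.leaf 0x1cb35c91) (.leaf 0x18729c93)) (.node (.leaf 0x15791c93) (.leaf 0x0)))) (.node (.node (.node (.leaf 0x1d7a1c91) (.leaf 0x1f335c8b)) (.node (.leaf 0x135e5c91) (.leaf 0x18f51c91))) (.node (.node (.leaf 0x18f89c8b) (.leaf 0x11619c8d)) (.node (.leaf 0x1a1e9c89) (.leaf 0x0)))))))) (.node (.node (.node (.node (.node (.node (.node (.leaf 0x15691c93) (.leaf 0x123c5c89))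 (.node (.leaf 0x15d2dc8d) (.leaf 0x148f1c8b))) (.node (.node (.leaf 0x1dd59c89) (.leaf 0x11f8dc93)) (.node (.leaf 0x1d61dc91) (.leaf 0x176fdc93)))) (.node (.node (.node (.leaf 0x20f49c8b) (.leaf 0x8095c93)) (.node (.leaf 0x1c88dc8d) (.leaf 0x18359c8d))) (.node (.node (.leaf 0x1a8b1c93) (.leaf 0x20395c8d)) (.node (.leaf 0x16ad5c93) (.leaf 0x0))))) (.node (.node (.node (.node (.leaf 0x1ac29c89) (.leaf 0x15fb9c8d)) (.node (.leaf 0x19d6dc89) (.leaf 0x1b251c8d))) (.node (.node (.leaf 0x114d5c89) (.leaf 0x1f045c93)) (.node (.leaf 0x1e43dc93) (.leaf 0x18a5dc93)))) (.node (.node (.node (.leaf 0x18bd1c8b) (.leaf 0x1870dc93)) (.node (.leaf 0x18381c91) (.leaf 0x13161c89))) (.node (.node (.leaf 0x1c7c1c91) (.leaf 0x1b519c8d)) (.node (.leaf 0x1fa35c91) (.leaf 0x0)))))) (.node (.node (.node (.node (.node (.leaf 0x1d771c8d) (.leaf 0x13185c91)) (.node (.leaf 0x19181c91) (.leaf 0x19845c91)))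 (.node (.node (.leaf 0x10a3dc89) (.leaf 0x134a5c91)) (.node (.leaf 0x12011c93) (.leaf 0x1706dc8b)))) (.node (.node (.node (.leaf 0x1d2ddc89) (.leaf 0x1d231c91)) (.node (.leaf 0x136a5c8b) (.leaf 0x1b5b1c8d))) (.node (.node (.leaf 0x1a375c8d) (.leaf 0x1e019c91)) (.node (.leaf 0x14e6dc8d) (.leaf 0x0))))) (.node (.node (.node (.node (.leaf 0x10cd9c91) (.leaf 0x189b5c93)) (.node (.leaf 0x1f5d5c89) (.leaf 0x189d9c8d))) (.node (.node (.leaf 0x1b861c8d) (.leaf 0x1f5d9c93)) (.node (.leaf 0x19c41c93) (.leaf 0x0)))) (.node (.node (.node (.leaf 0x18c1dc89) (.leaf 0x12419c93)) (.node (.leaf 0x1922dc91) (.leaf 0x1cd01c8d))) (.node (.node (.leaf 0x1d591c93) (.leaf 0x12f9dc89)) (.node (.leaf 0x1dfb5c8d) (.leaf 0x0))))))) (.node (.node (.node (.node (.node (.node (.leaf 0x1b449c8b) (.leaf 0x11a2dc91)) (.node (.leaf 0x1b1f1c89) (.leaf 0x15761c89))) (.node (.node (.leaf 0x12b95c8d) (.leaf 0x1c78dc89))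 (.node (.leaf 0x1e421c91) (.leaf 0x158d1c8b)))) (.node (.node (.node (.leaf 0x1d741c8b) (.leaf 0x12149c8d)) (.node (.leaf 0x72f9c8d) (.leaf 0x1504dc8d))) (.node (.node (.leaf 0x1cbe5c91) (.leaf 0x18469c8d)) (.node (.leaf 0x10231c89) (.leaf 0x0))))) (.node (.node (.node (.node (.leaf 0x14141c91) (.leaf 0x1858dc8d)) (.node (.leaf 0x14719c8d) (.leaf 0x154e1c8d))) (.node (.node (.leaf 0x18bc5c93) (.leaf 0x1a2bdc89)) (.node (.leaf 0x19551c93) (.leaf 0x160a5c93)))) (.node (.node (.node (.leaf 0x1f065c89) (.leaf 0x160f9c91)) (.node (.leaf 0x18085c8d) (.leaf 0x170c5c8d))) (.node (.node (.leaf 0x18339c8d) (.leaf 0x11819c91)) (.node (.leaf 0x1e115c91) (.leaf 0x0)))))) (.node (.node (.node (.node (.node (.leaf 0x141fdc8d) (.leaf 0x9ae5c93)) (.node (.leaf 0x1d1f5c91) (.leaf 0x144fdc91))) (.node (.node (.leaf 0x1d885c89) (.leaf 0x22925c93)) (.node (.leaf 0x1710dc8d) (.leaf 0x1e535c93))))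 (.node (.node (.node (.leaf 0x1a911c89) (.leaf 0x1e651c8d)) (.node (.leaf 0x19415c93) (.leaf 0x14e29c91))) (.node (.node (.leaf 0x16185c8b) (.leaf 0x15789c91)) (.node (.leaf 0x1d2bdc8b) (.leaf 0x0))))) (.node (.node (.node (.node (.leaf 0x1ee71c93) (.leaf 0x12761c91)) (.node (.leaf 0x1c835c91) (.leaf 0x19a05c91))) (.node (.node (.leaf 0x1c759c8b) (.leaf 0x192d9c89)) (.node (.leaf 0x18705c91) (.leaf 0x0)))) (.node (.node (.node (.leaf 0x1d3fdc8d) (.leaf 0x1a49dc93)) (.node (.leaf 0x13291c93) (.leaf 0x1da79c8d))) (.node (.node (.leaf 0x1d019c89) (.leaf 0x1a05dc89)) (.node (.leaf 0x1dc79c89) (.leaf 0x0))))))))))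

/-- packed table -/
noncomputable def cov18_lrl : BTree := (.node (.node (.node (.node (.node (.node (.node (.node (.node (.leaf 0x1c005c89) (.leaf 0x1e6b1c89)) (.node (.leaf 0x1786dc93) (.leaf 0x1d851c91))) (.node (.node (.leaf 0x1a815c8b) (.leaf 0x1a42dc8d)) (.node (.leaf 0x72f9c91) (.leaf 0x1a6e1c91)))) (.node (.node (.node (.leaf 0x1d591c91) (.leaf 0x1c98dc89)) (.node (.leaf 0x15de1c93) (.leaf 0x1e435c91))) (.node (.node (.leaf 0x1dea1c91) (.leaf 0x1c33dc8b)) (.node (.leaf 0x1f20dc93) (.leaf 0x0))))) (.node (.node (.node (.node (.leaf 0x1c219c8d) (.leaf 0x10ed9c91)) (.node (.leaf 0x1c241c91) (.leaf 0x1cb89c91))) (.node (.node (.leaf 0x1f379c8d) (.leaf 0x1b749c91)) (.node (.leaf 0x10b85c91) (.leaf 0x15de5c8b)))) (.node (.node (.node (.leaf 0x196b5c91) (.leaf 0x1a291c8d)) (.node (.leaf 0x1953dc89) (.leaf 0x16e61c93))) (.node (.node (.leaf 0x14f05c89) (.leaf 0x18c1dc8b)) (.node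 (.leaf 0x1d3fdc91) (.leaf 0x0)))))) (.node (.node (.node (.node (.node (.leaf 0x1f45dc93) (.leaf 0x16a51c93)) (.node (.leaf 0x15a6dc8d) (.leaf 0x23a39c8d))) (.node (.node (.leaf 0x1a3a1c8b) (.leaf 0x21255c89)) (.node (.leaf 0x1ae0dc91) (.leaf 0x1988dc89)))) (.node (.node (.node (.leaf 0x16cbdc91) (.leaf 0x22b71c93)) (.node (.leaf 0x163adc91) (.leaf 0x167cdc8d))) (.node (.node (.leaf 0x1ae0dc89) (.leaf 0x1f401c93)) (.node (.leaf 0x206f5c93) (.leaf 0x0))))) (.node (.node (.node (.node (.leaf 0x22349c93) (.leaf 0x1892dc8b)) (.node (.leaf 0x1ddbdc89) (.leaf 0x114d5c8d))) (.node (.node (.leaf 0x18ee1c8b) (.leaf 0x1824dc89)) (.node (.leaf 0x1e6c1c91) (.leaf 0x1619dc8d)))) (.node (.node (.node (.leaf 0x13441c8b) (.leaf 0x17725c91)) (.node (.leaf 0x17a85c91) (.leaf 0x21eedc91))) (.node (.node (.leaf 0x1ac1dc93) (.leaf 0x1d885c91)) (.node (.leaf 0x1e641c8d) (.leaf 0x0))))))) (.node (.node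 (.node (.node (.node (.node (.leaf 0x14011c93) (.leaf 0x16a01c89)) (.node (.leaf 0x23201c93) (.leaf 0x1f81dc8d))) (.node (.node (.leaf 0x1f17dc91) (.leaf 0x1821dc91)) (.node (.leaf 0x11a95c91) (.leaf 0x1b609c89)))) (.node (.node (.node (.leaf 0x22b5dc8d) (.leaf 0x15a91c91)) (.node (.leaf 0x19c6dc93) (.leaf 0x1e94dc91))) (.node (.node (.leaf 0x11f89c91) (.leaf 0x230a9c8b)) (.node (.leaf 0x1d511c89) (.leaf 0x0))))) (.node (.node (.node (.node (.leaf 0x189d5c93) (.leaf 0xe1c9c8d)) (.node (.leaf 0x1f219c93) (.leaf 0x1b7c9c89))) (.node (.node (.leaf 0xe16dc8d) (.leaf 0x1c81dc93)) (.node (.leaf 0x150d1c91) (.leaf 0x16755c8d)))) (.node (.node (.node (.leaf 0x4819c91) (.leaf 0x1e3e5c8d)) (.node (.leaf 0x204a5c89) (.leaf 0xe1f1c8d))) (.node (.node (.leaf 0x17a41c93) (.leaf 0x19875c91)) (.node (.leaf 0x18381c8b) (.leaf 0x0)))))) (.node (.node (.node (.node (.node (.leaf 0x19775c8d) (.leaf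 0x1d9e9c8b)) (.node (.leaf 0x1db45c8d) (.leaf 0x1e7f1c8d))) (.node (.node (.leaf 0x15d2dc91) (.leaf 0x1b44dc89)) (.node (.leaf 0x1e35dc8d) (.leaf 0x12451c91)))) (.node (.node (.node (.leaf 0x1edc9c8d) (.leaf 0x1ea09c8b)) (.node (.leaf 0x1af6dc8d) (.leaf 0x1ea09c89))) (.node (.node (.leaf 0x1e51dc8d) (.leaf 0x174ddc91)) (.node (.leaf 0x14371c89) (.leaf 0x0))))) (.node (.node (.node (.node (.leaf 0x1ddc5c91) (.leaf 0x10e41c93)) (.node (.leaf 0x1d365c8d) (.leaf 0x149ddc8d))) (.node (.node (.leaf 0x18655c8b) (.leaf 0x18131c8b)) (.node (.leaf 0x1dba1c8b) (.leaf 0x0)))) (.node (.node (.node (.leaf 0x17815c89) (.leaf 0x16101c8d)) (.node (.leaf 0x12fe1c89) (.leaf 0x1c285c91))) (.node (.node (.leaf 0x15595c93) (.leaf 0x957dc8d)) (.node (.leaf 0xdd75c8d) (.leaf 0x0)))))))) (.node (.node (.node (.node (.node (.node (.node (.leaf 0x196adc8d) (.leaf 0x1d1d9c8b)) (.node (.leaf 0x1d9bdc93)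 (.leaf 0x1e309c93))) (.node (.node (.leaf 0x1e29dc91) (.leaf 0x1d751c91)) (.node (.leaf 0x14c91c91) (.leaf 0x1e739c8d)))) (.node (.node (.node (.leaf 0x1acf9c8d) (.leaf 0x141ddc89)) (.node (.leaf 0x21ce1c93) (.leaf 0x16171c8d))) (.node (.node (.leaf 0x1df21c91) (.leaf 0x1f0c9c91)) (.node (.leaf 0x1f3edc89) (.leaf 0x0))))) (.node (.node (.node (.node (.leaf 0x1f74dc89) (.leaf 0x14411c8b)) (.node (.leaf 0x1a0c9c8b) (.leaf 0x1deb5c8d))) (.node (.node (.leaf 0x11619c89) (.leaf 0xc1bdc89)) (.node (.leaf 0x11931c8b) (.leaf 0x1eca9c89)))) (.node (.node (.node (.leaf 0x1d24dc8d) (.leaf 0x1824dc91)) (.node (.leaf 0x1e2c9c8d) (.leaf 0x16771c93))) (.node (.node (.leaf 0xe1f1c8b) (.leaf 0x1b345c89)) (.node (.leaf 0x1b8e1c8d) (.leaf 0x0)))))) (.node (.node (.node (.node (.node (.leaf 0x12fa9c89) (.leaf 0xfab1c89)) (.node (.leaf 0x1f36dc8b) (.leaf 0x1ad39c91))) (.node (.node (.leaf 0x1b40dc91)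 (.leaf 0x1e9e5c91)) (.node (.leaf 0xd54dc8b) (.leaf 0x23719c91)))) (.node (.node (.node (.leaf 0x19565c8b) (.leaf 0x1f9f9c91)) (.node (.leaf 0x1d30dc93) (.leaf 0x11e51c93))) (.node (.node (.leaf 0x1a10dc91) (.leaf 0x2389dc89)) (.node (.leaf 0x15605c89) (.leaf 0x0))))) (.node (.node (.node (.node (.leaf 0x18d0dc91) (.leaf 0x1f04dc8b)) (.node (.leaf 0x187c5c91) (.leaf 0x1d1d9c89))) (.node (.node (.leaf 0x1d8c5c91) (.leaf 0x19bfdc93)) (.node (.leaf 0x1cd99c89) (.leaf 0x227d9c8d)))) (.node (.node (.node (.leaf 0x1cc19c89) (.leaf 0x15fb9c89)) (.node (.leaf 0x10165c8d) (.leaf 0x17815c8d))) (.node (.node (.leaf 0x1ed41c93) (.leaf 0x199d9c93)) (.node (.leaf 0x1a685c89) (.leaf 0x0))))))) (.node (.node (.node (.node (.node (.node (.leaf 0x1c0b9c8d) (.leaf 0x16a1dc93)) (.node (.leaf 0x14eddc91) (.leaf 0x19701c89))) (.node (.node (.leaf 0x163b9c8b) (.leaf 0x20181c8b)) (.node (.leaf 0x1b905c89)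 (.leaf 0x189c9c91)))) (.node (.node (.node (.leaf 0x1a085c93) (.leaf 0x1ca8dc91)) (.node (.leaf 0x14f41c93) (.leaf 0x19b29c91))) (.node (.node (.leaf 0x18c15c91) (.leaf 0x1b4e1c91)) (.node (.leaf 0x1a8bdc93) (.leaf 0x0))))) (.node (.node (.node (.node (.leaf 0x18ec5c93) (.leaf 0x187c5c8b)) (.node (.leaf 0x11dedc89) (.leaf 0x15cf1c91))) (.node (.node (.leaf 0x18bc9c93) (.leaf 0x19c3dc91)) (.node (.leaf 0xf455c93) (.leaf 0x1a7c5c8d)))) (.node (.node (.node (.leaf 0x18bb9c89) (.leaf 0x1a2bdc8d)) (.node (.leaf 0x1c7adc93) (.leaf 0x14129c89))) (.node (.node (.leaf 0x114f5c8b) (.leaf 0x17525c91)) (.node (.leaf 0x15de1c8b) (.leaf 0x0)))))) (.node (.node (.node (.node (.node (.leaf 0x1d7d5c8d) (.leaf 0x8e15c89)) (.node (.leaf 0x1f7d5c91) (.leaf 0x1e329c8b))) (.node (.node (.leaf 0x170c1c89) (.leaf 0x18359c8b)) (.node (.leaf 0x1b58dc89) (.leaf 0x1e6b1c93)))) (.node (.node (.node (.leaf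 0x1b0edc93) (.leaf 0x1e95dc93)) (.node (.leaf 0x18a99c93) (.leaf 0x161ddc8d))) (.node (.node (.leaf 0x141fdc91) (.leaf 0x19919c91)) (.node (.leaf 0x1c391c93) (.leaf 0x0))))) (.node (.node (.node (.node (.leaf 0x19d89c91) (.leaf 0x1a959c8d)) (.node (.leaf 0x19439c89) (.leaf 0x1773dc91))) (.node (.node (.leaf 0x146bdc8b) (.leaf 0x172adc93)) (.node (.leaf 0x19a41c8b) (.leaf 0x0)))) (.node (.node (.node (.leaf 0x1a0b5c89) (.leaf 0x1c25dc91)) (.node (.leaf 0x181a9c8d) (.leaf 0x170c1c91))) (.node (.node (.leaf 0x115bdc93) (.leaf 0x19861c91)) (.node (.leaf 0x16f71c93) (.leaf 0x0))))))))) (.node (.node (.node (.node (.node (.node (.node (.node (.leaf 0x1c005c8b) (.leaf 0x1d9a9c91)) (.node (.leaf 0x17671c93) (.leaf 0x1d891c91))) (.node (.node (.leaf 0x1841dc89) (.leaf 0x18a99c89)) (.node (.leaf 0x158a9c89) (.leaf 0x18a69c91)))) (.node (.node (.node (.leaf 0x14eb9c8d) (.leaf 0x1abe5c93))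 (.node (.leaf 0x191fdc8b) (.leaf 0x15c8dc93))) (.node (.node (.leaf 0x1cf59c91) (.leaf 0x179bdc89)) (.node (.leaf 0x18429c89) (.leaf 0x0))))) (.node (.node (.node (.node (.leaf 0x1b6e9c91) (.leaf 0x1def5c91)) (.node (.leaf 0x1a581c93) (.leaf 0x1a26dc8d))) (.node (.node (.leaf 0x12fe1c8d) (.leaf 0x22915c8d)) (.node (.leaf 0x19c39c93) (.leaf 0x1a8fdc89)))) (.node (.node (.node (.leaf 0x1cab9c8b) (.leaf 0x1419dc8b)) (.node (.leaf 0x17525c93) (.leaf 0x172a9c8b))) (.node (.node (.leaf 0x10ed9c8d) (.leaf 0x198a5c91)) (.node (.leaf 0x1f765c8d) (.leaf 0x0)))))) (.node (.node (.node (.node (.node (.leaf 0x1168dc93) (.leaf 0x15691c89)) (.node (.leaf 0x1acf9c8b) (.leaf 0x1dee5c91))) (.node (.node (.leaf 0x1f325c8d) (.leaf 0x19191c8b)) (.node (.leaf 0x13731c91) (.leaf 0x1e7a9c8d)))) (.node (.node (.node (.leaf 0x1ad95c8d) (.leaf 0x18b29c89)) (.node (.leaf 0x1ef31c8d) (.leaf 0x10a89c89)))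 (.node (.node (.leaf 0x1c391c91) (.leaf 0x1c4c9c93)) (.node (.leaf 0x172a9c93) (.leaf 0x0))))) (.node (.node (.node (.node (.leaf 0x4819c93) (.leaf 0x18ee1c91)) (.node (.leaf 0x1c7c9c91) (.leaf 0x1c93dc8d))) (.node (.node (.leaf 0x17549c89) (.leaf 0x1e261c8d)) (.node (.leaf 0x14611c91) (.leaf 0x1cd11c89)))) (.node (.node (.node (.leaf 0x14a85c89) (.leaf 0x17aa9c8d)) (.node (.leaf 0x170b1c8b) (.leaf 0x1ed41c91))) (.node (.node (.leaf 0x1388dc93) (.leaf 0x1d84dc91)) (.node (.leaf 0x1943dc91) (.leaf 0x0))))))) (.node (.node (.node (.node (.node (.node (.leaf 0x14031c93) (.leaf 0x12a4dc93)) (.node (.leaf 0x23a65c89) (.leaf 0x1f7fdc8d))) (.node (.node (.leaf 0x1a11dc8b) (.leaf 0x1b459c91)) (.node (.leaf 0x1291dc8d) (.leaf 0xc121c89)))) (.node (.node (.node (.leaf 0x21869c93) (.leaf 0xf965c8b)) (.node (.leaf 0x172d1c8d) (.leaf 0x16a1dc8b))) (.node (.node (.leaf 0x13391c8b) (.leaf 0x183e9c8d))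 (.node (.leaf 0x1e885c91) (.leaf 0x0))))) (.node (.node (.node (.node (.leaf 0x20ebdc93) (.leaf 0x1a10dc93)) (.node (.leaf 0x1d9e9c91) (.leaf 0x12761c8d))) (.node (.node (.leaf 0x1d9b5c8d) (.leaf 0x1d591c8d)) (.node (.leaf 0x1e5e1c8b) (.leaf 0x13735c91)))) (.node (.node (.node (.leaf 0x1cbd5c89) (.leaf 0x1c05dc8b)) (.node (.leaf 0x12419c89) (.leaf 0x167f5c8d))) (.node (.node (.leaf 0x1ac7dc8b) (.leaf 0x1ac5dc8b)) (.node (.leaf 0x1cc19c93) (.leaf 0x0)))))) (.node (.node (.node (.node (.node (.leaf 0x16985c91) (.leaf 0x1c551c91)) (.node (.leaf 0x1b429c8b) (.leaf 0x1c255c91))) (.node (.node (.leaf 0x154a5c8d) (.leaf 0x1e8f5c93)) (.node (.leaf 0x1adf5c8d) (.leaf 0x15d11c89)))) (.node (.node (.node (.leaf 0x1f4c9c8d) (.leaf 0x1ebf1c93)) (.node (.leaf 0x117b5c89) (.leaf 0x1b8e1c91))) (.node (.node (.leaf 0x168ddc8d) (.leaf 0x1c551c8d)) (.node (.leaf 0x1922dc8b) (.leaf 0x0))))) (.node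 (.node (.node (.node (.leaf 0x1a8bdc8d) (.leaf 0x18911c89)) (.node (.leaf 0x1abadc8b) (.leaf 0x18b65c91))) (.node (.node (.leaf 0x18b29c91) (.leaf 0x19295c89)) (.node (.leaf 0x1f80dc91) (.leaf 0x0)))) (.node (.node (.node (.leaf 0x1e361c89) (.leaf 0x19169c8b)) (.node (.leaf 0xc1bdc8d) (.leaf 0x1a241c8d))) (.node (.node (.leaf 0x1b021c91) (.leaf 0xeec1c93)) (.node (.leaf 0x1abf9c93) (.leaf 0x0)))))))) (.node (.node (.node (.node (.node (.node (.node (.leaf 0x1d6c1c8d) (.leaf 0x12149c93)) (.node (.leaf 0x23a65c8b) (.leaf 0x1f4c9c8b))) (.node (.node (.leaf 0x1e1adc91) (.leaf 0x1e2e5c8b)) (.node (.leaf 0x1ec51c8d) (.leaf 0x1f09dc8d)))) (.node (.node (.node (.leaf 0x17059c8b) (.leaf 0x15a6dc91)) (.node (.leaf 0xc899c8d) (.leaf 0x18311c8d))) (.node (.node (.leaf 0x1b575c8b) (.leaf 0x1c479c93)) (.node (.leaf 0x1ea9dc93) (.leaf 0x0))))) (.node (.node (.node (.node (.leaf 0x1e4f9c91)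 (.leaf 0x1df19c8b)) (.node (.leaf 0x1b235c91) (.leaf 0x19c85c89))) (.node (.node (.leaf 0x158a9c8b) (.leaf 0x167e5c8d)) (.node (.leaf 0x117a9c93) (.leaf 0x1deb5c93)))) (.node (.node (.node (.leaf 0x149f9c91) (.leaf 0x15425c93)) (.node (.leaf 0x1a7d1c93) (.leaf 0x1ea2dc93))) (.node (.node (.leaf 0x155b5c8b) (.leaf 0x1e9b9c93)) (.node (.leaf 0x1def9c8d) (.leaf 0x0)))))) (.node (.node (.node (.node (.node (.leaf 0x1012dc8d) (.leaf 0x1c77dc89)) (.node (.leaf 0x1743dc91) (.leaf 0x1f7e1c8d))) (.node (.node (.leaf 0x19f75c93) (.leaf 0x1a2d9c8d)) (.node (.leaf 0x21ff1c93) (.leaf 0x170b1c91)))) (.node (.node (.node (.leaf 0x1de49c91) (.leaf 0x149e1c8d)) (.node (.leaf 0x16209c91) (.leaf 0x19e25c93))) (.node (.node (.leaf 0x1cccdc8d) (.leaf 0x18511c8d)) (.node (.leaf 0x16a91c93) (.leaf 0x0))))) (.node (.node (.node (.node (.leaf 0x14cfdc91) (.leaf 0x14371c8b)) (.node (.leaf 0x1aa3dc8b)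 (.leaf 0x16bfdc8b))) (.node (.node (.leaf 0x17549c8b) (.leaf 0x1e381c8d)) (.node (.leaf 0x1a39dc8d) (.leaf 0x0)))) (.node (.node (.node (.leaf 0x188e1c93) (.leaf 0x1e3e5c93)) (.node (.leaf 0x14c89c91) (.leaf 0x2326dc8b))) (.node (.node (.leaf 0x1773dc8b) (.leaf 0x142e1c91)) (.node (.leaf 0x1eabdc8d) (.leaf 0x0))))))) (.node (.node (.node (.node (.node (.node (.leaf 0x1880dc91) (.leaf 0x16addc8d)) (.node (.leaf 0x8689c91) (.leaf 0x1e5ddc89))) (.node (.node (.leaf 0x1e94dc89) (.leaf 0x14ae5c89)) (.node (.leaf 0x1b8d9c8b) (.leaf 0x1d899c8b)))) (.node (.node (.node (.leaf 0x1d901c8b) (.leaf 0x1a295c8d)) (.node (.leaf 0x124cdc8d) (.leaf 0xc899c93))) (.node (.node (.leaf 0x171d1c89) (.leaf 0x183b5c8b)) (.node (.leaf 0x1c555c8d) (.leaf 0x0))))) (.node (.node (.node (.node (.leaf 0x18131c91) (.leaf 0x1dd35c8d)) (.node (.leaf 0x1ec85c8b) (.leaf 0x1a39dc93))) (.node (.node (.leaf 0x1b791c8d)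 (.leaf 0x1dc99c91)) (.node (.leaf 0x19d8dc8d) (.leaf 0x12441c91)))) (.node (.node (.node (.leaf 0x134e9c8b) (.leaf 0x14175c89)) (.node (.leaf 0x1a975c91) (.leaf 0x16765c8d))) (.node (.node (.leaf 0x17105c91) (.leaf 0x1eee5c8d)) (.node (.leaf 0x1e6c1c89) (.leaf 0x0)))))) (.node (.node (.node (.node (.node (.leaf 0x1dcbdc89) (.leaf 0x17a85c8d)) (.node (.leaf 0x1a3fdc8d) (.leaf 0x1a1f5c8d))) (.node (.node (.leaf 0x19b21c91) (.leaf 0x1e3d9c8d)) (.node (.leaf 0x1bb2dc8d) (.leaf 0x18b4dc8b)))) (.node (.node (.node (.leaf 0x14ae5c8b) (.leaf 0x18159c89)) (.node (.leaf 0x1c755c93) (.leaf 0x1621dc8d))) (.node (.node (.leaf 0x22519c89) (.leaf 0x14fb9c8b)) (.node (.leaf 0x1a975c93) (.leaf 0x0))))) (.node (.node (.node (.node (.leaf 0x16cbdc89) (.leaf 0x1abc9c8d)) (.node (.leaf 0x1606dc8b) (.leaf 0x1b07dc93))) (.node (.node (.leaf 0x8689c89) (.leaf 0x17721c91)) (.node (.leaf 0x1aa61c8d) (.leaf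 0x0)))) (.node (.node (.node (.leaf 0x1d3d9c89) (.leaf 0x16015c89)) (.node (.leaf 0x149e5c89) (.leaf 0x1b82dc8b))) (.node (.node (.leaf 0xd5d5c93) (.leaf 0x8095c8b)) (.node (.leaf 0x1e7fdc91) (.leaf 0x0))))))))))

/-- packed table -/
noncomputable def cov18_lrr : BTree := (.node (.node (.node (.node (.node (.node (.node (.node (.node (.leaf 0x234bdc93) (.leaf 0x1ae4dc89)) (.node (.leaf 0x1b9adc91) (.leaf 0x1a26dc89))) (.node (.node (.leaf 0x1c86) (.leaf 0x159e1c89)) (.node (.leaf 0xc281c8d) (.leaf 0x1d091c91)))) (.node (.node (.node (.leaf 0x1f911c91) (.leaf 0xef89c93)) (.node (.leaf 0x16675c91) (.leaf 0x1f019c8d))) (.node (.node (.leaf 0x18cb1c93) (.leaf 0x1a109c8b)) (.node (.leaf 0x1b0d1c93) (.leaf 0x0))))) (.node (.node (.node (.node (.leaf 0x18cb1c91) (.leaf 0x1604dc8b)) (.node (.leaf 0x1f229c91) (.leaf 0x18475c89))) (.node (.node (.leaf 0x1b885c93) (.leaf 0x1e435c8d)) (.node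 (.leaf 0x1f04dc8d) (.leaf 0x1f199c93)))) (.node (.node (.node (.leaf 0x1df51c93) (.leaf 0x1aca5c89)) (.node (.leaf 0xd80dc89) (.leaf 0x1ecf1c93))) (.node (.node (.leaf 0x1619dc8b) (.leaf 0x1e6bdc89)) (.node (.leaf 0x18359c91) (.leaf 0x0)))))) (.node (.node (.node (.node (.node (.leaf 0x140f5c8d) (.leaf 0x16e59c91)) (.node (.leaf 0x1d151c8d) (.leaf 0x1c155c93))) (.node (.node (.leaf 0x157b1c89) (.leaf 0x1a99dc91)) (.node (.leaf 0x1563dc91) (.leaf 0x1a49dc8b)))) (.node (.node (.node (.leaf 0x1606dc89) (.leaf 0x1e6c1c93)) (.node (.leaf 0x1b6b5c89) (.leaf 0x16d65c93))) (.node (.node (.leaf 0x1adc5c91) (.leaf 0x1f5b9c91)) (.node (.leaf 0x183e9c93) (.leaf 0x0))))) (.node (.node (.node (.node (.leaf 0x1a0c9c89) (.leaf 0x1ce1dc8d)) (.node (.leaf 0x14709c8d) (.leaf 0x167cdc89))) (.node (.node (.leaf 0x1ebb1c89) (.leaf 0x19d69c93)) (.node (.leaf 0x1d249c91) (.leaf 0x1a09dc91)))) (.node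 (.node (.node (.leaf 0x134e9c89) (.leaf 0x14ef9c91)) (.node (.leaf 0x16871c93) (.leaf 0x1f7d1c91))) (.node (.node (.leaf 0x19861c93) (.leaf 0x1612dc93)) (.node (.leaf 0x18c59c93) (.leaf 0x0))))))) (.node (.node (.node (.node (.node (.node (.leaf 0x1000dc93) (.leaf 0x16005c8d)) (.node (.leaf 0x1f915c93) (.leaf 0x1b235c8d))) (.node (.node (.leaf 0x8329c8b) (.leaf 0x19109c8b)) (.node (.leaf 0x18ec5c91) (.leaf 0x1c661c91)))) (.node (.node (.node (.leaf 0x1f755c93) (.leaf 0x1cb55c89)) (.node (.leaf 0x16efdc89) (.leaf 0x1a275c8b))) (.node (.node (.leaf 0x1fb21c8b) (.leaf 0x1c3edc8d)) (.node (.leaf 0x1a65dc89) (.leaf 0x0))))) (.node (.node (.node (.node (.leaf 0x1fa31c89) (.leaf 0x1e9b9c89)) (.node (.leaf 0x1f839c91) (.leaf 0x1ed55c93))) (.node (.node (.leaf 0x14641c89) (.leaf 0x10a3dc93)) (.node (.leaf 0xd0e1c91) (.leaf 0x1dc59c93)))) (.node (.node (.node (.leaf 0x18bbdc89) (.leaf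 0x1e8f5c8d)) (.node (.leaf 0x1a415c89) (.leaf 0x18761c91))) (.node (.node (.leaf 0x21b81c8d) (.leaf 0x16fddc8b)) (.node (.leaf 0x1fa31c91) (.leaf 0x0)))))) (.node (.node (.node (.node (.node (.leaf 0x1abf9c89) (.leaf 0x1e9d9c8d)) (.node (.leaf 0x1bae1c91) (.leaf 0x1abd5c93))) (.node (.node (.leaf 0x1b155c93) (.leaf 0x1af95c89)) (.node (.leaf 0x1ba4dc8d) (.leaf 0x21cddc89)))) (.node (.node (.node (.leaf 0x1adc5c8d) (.leaf 0x19379c91)) (.node (.leaf 0x12f79c8d) (.leaf 0x1f9e9c91))) (.node (.node (.leaf 0x19b61c89) (.leaf 0x1f0c9c93)) (.node (.leaf 0x18381c89) (.leaf 0x0))))) (.node (.node (.node (.node (.leaf 0x1e1fdc89) (.leaf 0x1ce5dc93)) (.node (.leaf 0x1d151c8b) (.leaf 0x16071c93))) (.node (.node (.leaf 0x18669c8b) (.leaf 0x154f9c93)) (.node (.leaf 0x18e35c8b) (.leaf 0x0)))) (.node (.node (.node (.leaf 0x1d355c93) (.leaf 0x1cb6dc89)) (.node (.leaf 0x170b1c93) (.leaf 0x1f7f5c91)))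 (.node (.node (.leaf 0x1d2e5c89) (.leaf 0x14411c89)) (.node (.leaf 0x205c5c8d) (.leaf 0x0)))))))) (.node (.node (.node (.node (.node (.node (.node (.leaf 0x136a1c93) (.leaf 0x1a505c93)) (.node (.leaf 0x1d9c9c93) (.leaf 0x11259c91))) (.node (.node (.leaf 0x1ee71c89) (.leaf 0x14169c91)) (.node (.leaf 0x18501c89) (.leaf 0x1943dc93)))) (.node (.node (.node (.leaf 0x1e6ddc91) (.leaf 0x15749c8b)) (.node (.leaf 0x19701c8b) (.leaf 0x16addc89))) (.node (.node (.leaf 0x14331c93) (.leaf 0x2046dc89)) (.node (.leaf 0x1b1f1c8b) (.leaf 0x0))))) (.node (.node (.node (.node (.leaf 0x1a955c89) (.leaf 0x14149c89)) (.node (.leaf 0xdd75c89) (.leaf 0x11469c93))) (.node (.node (.leaf 0x1dd95c93) (.leaf 0x1d1a1c93)) (.node (.leaf 0x17b39c8d) (.leaf 0x1dea1c93)))) (.node (.node (.node (.leaf 0x1a815c91) (.leaf 0x1adc5c89)) (.node (.leaf 0x18ac5c89) (.leaf 0xd80dc93))) (.node (.node (.leaf 0x16395c91)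 (.leaf 0x10a89c91)) (.node (.leaf 0x1c3f5c89) (.leaf 0x0)))))) (.node (.node (.node (.node (.node (.leaf 0x1573dc8d) (.leaf 0x1d981c8b)) (.node (.leaf 0x1b211c89) (.leaf 0xe471c89))) (.node (.node (.leaf 0x1dea5c8d) (.leaf 0x1419dc89)) (.node (.leaf 0x16121c89) (.leaf 0x1dc15c93)))) (.node (.node (.node (.leaf 0x1aa3dc93) (.leaf 0x1e981c93)) (.node (.leaf 0x1a685c8d) (.leaf 0x1f615c8d))) (.node (.node (.leaf 0x19b65c91) (.leaf 0x18519c8d)) (.node (.leaf 0x184b9c91) (.leaf 0x0))))) (.node (.node (.node (.node (.leaf 0x14cf9c91) (.leaf 0x22399c8d)) (.node (.leaf 0x1e5b1c93) (.leaf 0x164f1c93))) (.node (.node (.leaf 0x1f405c8b) (.leaf 0x1e835c8d)) (.node (.leaf 0x186b9c91) (.leaf 0x0)))) (.node (.node (.node (.leaf 0x1b995c93) (.leaf 0x1e691c8b)) (.node (.leaf 0x8f91c93) (.leaf 0x1f7b5c93))) (.node (.node (.leaf 0x1b9adc8d) (.leaf 0x15a49c93)) (.node (.leaf 0x1b055c8b) (.leaf 0x0)))))))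 (.node (.node (.node (.node (.node (.node (.leaf 0x200ddc8d) (.leaf 0x1b3bdc91)) (.node (.leaf 0x1d229c89) (.leaf 0x1f92dc89))) (.node (.node (.leaf 0x11835c91) (.leaf 0x1b5ddc93)) (.node (.leaf 0x1acd9c8d) (.leaf 0x16985c8d)))) (.node (.node (.node (.leaf 0x1d821c8b) (.leaf 0xc281c93)) (.node (.leaf 0x166e5c8d) (.leaf 0x1c48dc91))) (.node (.node (.leaf 0xcbe9c91) (.leaf 0x16a01c93)) (.node (.leaf 0x1b449c89) (.leaf 0x0))))) (.node (.node (.node (.node (.leaf 0x1f265c93) (.leaf 0x16addc8b)) (.node (.leaf 0x15de1c89) (.leaf 0x157ddc93))) (.node (.node (.leaf 0x1f8b5c91) (.leaf 0x1dc79c91)) (.node (.leaf 0x1a1f5c91) (.leaf 0x1ed6dc89)))) (.node (.node (.node (.leaf 0x1dbf5c93) (.leaf 0x1ce0dc8d)) (.node (.leaf 0x1e7c1c93) (.leaf 0x161c1c91))) (.node (.node (.leaf 0xeec1c8b) (.leaf 0x1911dc89)) (.node (.leaf 0x1cc79c8b) (.leaf 0x0)))))) (.node (.node (.node (.node (.node (.leaf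 0x1c721c8b) (.leaf 0x1ce5dc89)) (.node (.leaf 0x1b255c93) (.leaf 0x1d361c8b))) (.node (.node (.leaf 0x14cedc93) (.leaf 0x1ae4dc93)) (.node (.leaf 0x16ff5c93) (.leaf 0x19d6dc91)))) (.node (.node (.node (.leaf 0x19d89c8d) (.leaf 0x192d9c91)) (.node (.leaf 0x1dc75c93) (.leaf 0x19295c8b))) (.node (.node (.leaf 0x1c5f1c93) (.leaf 0x14a71c91)) (.node (.leaf 0x1d315c8b) (.leaf 0x0))))) (.node (.node (.node (.node (.leaf 0x1e67dc8d) (.leaf 0x188e5c89)) (.node (.leaf 0x193e9c8d) (.leaf 0x1971dc93))) (.node (.node (.leaf 0x20afdc91) (.leaf 0x1edb1c93)) (.node (.leaf 0x146e9c91) (.leaf 0x0)))) (.node (.node (.node (.leaf 0x15425c8d) (.leaf 0x1dea5c8b)) (.node (.leaf 0x1cb61c91) (.leaf 0x14709c91))) (.node (.node (.leaf 0x1500dc8b) (.leaf 0xefd1c8b)) (.node (.leaf 0x1a821c91) (.leaf 0x0))))))))) (.node (.node (.node (.node (.node (.node (.node (.node (.leaf 0x22ce5c93) (.leaf 0x1d9c9c91))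 (.node (.leaf 0x1b791c93) (.leaf 0x1a575c8b))) (.node (.node (.leaf 0x1d3d9c93) (.leaf 0x21c91c89)) (.node (.leaf 0x16bb5c91) (.leaf 0x1af99c89)))) (.node (.node (.node (.leaf 0x22aa5c93) (.leaf 0x1d6c1c8b)) (.node (.leaf 0x144fdc89) (.leaf 0x203fdc89))) (.node (.node (.leaf 0x18339c93) (.leaf 0x19ab9c8d)) (.node (.leaf 0x15455c89) (.leaf 0x0))))) (.node (.node (.node (.node (.leaf 0x1824dc8d) (.leaf 0x225b9c91)) (.node (.leaf 0x19d89c89) (.leaf 0x1d179c8b))) (.node (.node (.leaf 0x11619c91) (.leaf 0x1f4c9c89)) (.node (.leaf 0x15695c93) (.leaf 0x1de89c93)))) (.node (.node (.node (.leaf 0x19145c91) (.leaf 0x15175c89)) (.node (.leaf 0x141e1c89) (.leaf 0x1a77dc93))) (.node (.node (.leaf 0x16bb5c8d) (.leaf 0x17341c89)) (.node (.leaf 0x17a41c8d) (.leaf 0x0)))))) (.node (.node (.node (.node (.node (.leaf 0x1d8c9c91) (.leaf 0x1d945c8b)) (.node (.leaf 0x1606dc91) (.leaf 0x13311c91)))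 (.node (.node (.leaf 0x14411c93) (.leaf 0x1d0b1c89)) (.node (.leaf 0x16171c91) (.leaf 0x23661c89)))) (.node (.node (.node (.leaf 0x21e45c93) (.leaf 0x18ef5c91)) (.node (.leaf 0x1dcc9c93) (.leaf 0x21e55c93))) (.node (.node (.leaf 0x1e599c89) (.leaf 0x144c1c8d)) (.node (.leaf 0x18601c93) (.leaf 0x0))))) (.node (.node (.node (.node (.leaf 0x17775c93) (.leaf 0x14a85c91)) (.node (.leaf 0x1c7ddc91) (.leaf 0x1fa11c91))) (.node (.node (.leaf 0x1e43dc91) (.leaf 0x1e2edc89)) (.node (.leaf 0x185e9c91) (.leaf 0x11dedc8b)))) (.node (.node (.node (.leaf 0x18f51c93) (.leaf 0x18b91c91)) (.node (.leaf 0x1e461c89) (.leaf 0x15d11c93))) (.node (.node (.leaf 0x13159c8d) (.leaf 0x1d129c91)) (.node (.leaf 0x19e39c93) (.leaf 0x0))))))) (.node (.node (.node (.node (.node (.node (.leaf 0x18295c93) (.leaf 0x1728dc93)) (.node (.leaf 0x15a91c93) (.leaf 0x11a99c8d))) (.node (.node (.leaf 0x163c1c8b) (.leaf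 0x1a249c8d)) (.node (.leaf 0x1e22dc8d) (.leaf 0x14ae5c93)))) (.node (.node (.node (.leaf 0x15a6dc89) (.leaf 0x18fa5c8d)) (.node (.leaf 0x16fb1c91) (.leaf 0x1efc9c89))) (.node (.node (.leaf 0x18bd1c8d) (.leaf 0x179d5c91)) (.node (.leaf 0x181a9c8b) (.leaf 0x0))))) (.node (.node (.node (.node (.leaf 0x18ee1c93) (.leaf 0x1acd5c91)) (.node (.leaf 0x1e5e9c93) (.leaf 0x18b69c8d))) (.node (.node (.leaf 0x1b749c93) (.leaf 0x1a291c89)) (.node (.leaf 0x17259c93) (.leaf 0x1b5ddc8b)))) (.node (.node (.node (.leaf 0x146c5c8d) (.leaf 0x1e3b1c8d)) (.node (.leaf 0x1c041c8d) (.leaf 0x141e1c93))) (.node (.node (.leaf 0x113adc8b) (.leaf 0x1b5c9c91)) (.node (.leaf 0x1cc11c93) (.leaf 0x0)))))) (.node (.node (.node (.node (.node (.leaf 0x1db69c8b) (.leaf 0x17121c93)) (.node (.leaf 0x1ee21c8b) (.leaf 0x1e4adc89))) (.node (.node (.leaf 0x1ec55c93) (.leaf 0x1af6dc93)) (.node (.leaf 0x17139c8d) (.leaf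 0x18a69c93)))) (.node (.node (.node (.leaf 0x20171c89) (.leaf 0x1cab9c89)) (.node (.leaf 0x192c1c93) (.leaf 0x1b0edc8d))) (.node (.node (.leaf 0x1ef5dc89) (.leaf 0x1c575c8d)) (.node (.leaf 0x1f919c8d) (.leaf 0x0))))) (.node (.node (.node (.node (.leaf 0x1e7fdc8d) (.leaf 0x12fa9c93)) (.node (.leaf 0x1c449c89) (.leaf 0xd0e1c8b))) (.node (.node (.leaf 0x14ae5c91) (.leaf 0x16e5dc93)) (.node (.leaf 0x216ddc93) (.leaf 0x0)))) (.node (.node (.node (.leaf 0x1d2adc91) (.leaf 0x1601dc89)) (.node (.leaf 0x181adc8d) (.leaf 0x19e81c8d))) (.node (.node (.leaf 0x11619c93) (.leaf 0x1a719c91)) (.node (.leaf 0x12c01c89) (.leaf 0x0)))))))) (.node (.node (.node (.node (.node (.node (.node (.leaf 0x17529c89) (.leaf 0x16bfdc89)) (.node (.leaf 0x19e81c8b) (.leaf 0x1890dc8b))) (.node (.node (.leaf 0xf455c8b) (.leaf 0x16fddc89)) (.node (.leaf 0x1d279c91) (.leaf 0x16c4dc8b)))) (.node (.node (.node (.leaf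 0x1b879c93) (.leaf 0x10235c89)) (.node (.leaf 0x19f91c91) (.leaf 0x1ad51c93))) (.node (.node (.leaf 0x1a669c8d) (.leaf 0x1f845c8b)) (.node (.leaf 0x1ae4dc8d) (.leaf 0x0))))) (.node (.node (.node (.node (.leaf 0x12c01c8b) (.leaf 0x1b2a5c91)) (.node (.leaf 0x19d71c89) (.leaf 0x2128dc8b))) (.node (.node (.leaf 0x15f95c8d) (.leaf 0x141ddc8b)) (.node (.leaf 0x1ac7dc89) (.leaf 0x1f92dc91)))) (.node (.node (.node (.leaf 0x1c659c8d) (.leaf 0x1f0b5c91)) (.node (.leaf 0x1c435c91) (.leaf 0x13659c8d))) (.node (.node (.leaf 0x13161c8b) (.leaf 0x1c479c89)) (.node (.leaf 0x1c559c93) (.leaf 0x0)))))) (.node (.node (.node (.node (.node (.leaf 0x15a91c8b) (.leaf 0x14f05c91)) (.node (.leaf 0x1a2bdc93) (.leaf 0x1f9d9c91))) (.node (.node (.leaf 0x1c7c1c8b) (.leaf 0x1cdadc8d)) (.node (.leaf 0x1e13dc89) (.leaf 0x14ca5c8d)))) (.node (.node (.node (.leaf 0x1f3ddc8b) (.leaf 0x1a661c93)) (.node (.leaf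 0x161a5c8d) (.leaf 0x1dcc1c8d))) (.node (.node (.leaf 0x1c49dc89) (.leaf 0x19911c8d)) (.node (.leaf 0x1aa61c93) (.leaf 0x0))))) (.node (.node (.node (.node (.leaf 0x1cd09c91) (.leaf 0x1f71dc91)) (.node (.leaf 0x17059c89) (.leaf 0x1ad39c93))) (.node (.node (.leaf 0x8689c8b) (.leaf 0x1a2c1c8d)) (.node (.leaf 0x16971c8d) (.leaf 0x0)))) (.node (.node (.node (.leaf 0x14831c91) (.leaf 0x181cdc8b)) (.node (.leaf 0xd5d5c91) (.leaf 0x19e15c89))) (.node (.node (.leaf 0x16881c8b) (.leaf 0xe15dc93)) (.node (.leaf 0x1e691c89) (.leaf 0x0))))))) (.node (.node (.node (.node (.node (.node (.leaf 0x1dda9c93) (.leaf 0x119fdc89)) (.node (.leaf 0x1ea5dc91) (.leaf 0x1cf09c93))) (.node (.node (.leaf 0x1f445c91) (.leaf 0x1f7a1c89)) (.node (.leaf 0x1a77dc91) (.leaf 0x1e9b5c8d)))) (.node (.node (.node (.leaf 0x1acb9c91) (.leaf 0x1a685c91)) (.node (.leaf 0x108f5c93) (.leaf 0x1bb01c89))) (.node (.node (.leaf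 0x13731c89) (.leaf 0x173e1c93)) (.node (.leaf 0x11addc8d) (.leaf 0x0))))) (.node (.node (.node (.node (.leaf 0x1b429c93) (.leaf 0x1c245c89)) (.node (.leaf 0x1a629c91) (.leaf 0x1c9c))) (.node (.node (.leaf 0x189d9c93) (.leaf 0x19c6dc91)) (.node (.leaf 0x1cefdc89) (.leaf 0x1a089c93)))) (.node (.node (.node (.leaf 0x1f361c8b) (.leaf 0x1cc65c8d)) (.node (.leaf 0x14099c8d) (.leaf 0x150d1c8b))) (.node (.node (.leaf 0x11f8dc91) (.leaf 0x10a1dc91)) (.node (.leaf 0x18b1dc89) (.leaf 0x0)))))) (.node (.node (.node (.node (.node (.leaf 0x1c215c8d) (.leaf 0x10e51c89)) (.node (.leaf 0x14331c8b) (.leaf 0x19c65c89))) (.node (.node (.leaf 0x107fdc89) (.leaf 0x1dfd9c91)) (.node (.leaf 0x1e89dc8d) (.leaf 0x1a8e9c89)))) (.node (.node (.node (.leaf 0x1caf9c8b) (.leaf 0x18a69c8d)) (.node (.leaf 0x15aadc8b) (.leaf 0x1bae1c89))) (.node (.node (.leaf 0x1a1b9c8b) (.leaf 0x11949c91)) (.node (.leaf 0x192c1c8b)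 (.leaf 0x0))))) (.node (.node (.node (.node (.leaf 0x1291dc89) (.leaf 0x1ce95c93)) (.node (.leaf 0x1dbd1c89) (.leaf 0x1fa21c91))) (.node (.node (.leaf 0x1c77dc8b) (.leaf 0x16389c8d)) (.node (.leaf 0x1e75dc8d) (.leaf 0x0)))) (.node (.node (.node (.leaf 0x1f7cdc93) (.leaf 0x1b30dc8b)) (.node (.leaf 0xadd1c91) (.leaf 0x1db5dc8b))) (.node (.node (.leaf 0x155b5c93) (.leaf 0x1d349c8b)) (.node (.leaf 0x1a789c93) (.leaf 0x0))))))))))

/-- packed table -/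
noncomputable def cov18_rll : BTree := (.node (.node (.node (.node (.node (.node (.node (.node (.node (.leaf 0x180a1c91) (.leaf 0x10a15c91)) (.node (.leaf 0x10fe9c89) (.leaf 0x1f3ddc8d))) (.node (.node (.leaf 0x149f9c89) (.leaf 0x1f8d1c8d)) (.node (.leaf 0x157adc89) (.leaf 0x15b75c8b)))) (.node (.node (.node (.leaf 0x1eff1c93) (.leaf 0x16765c91)) (.node (.leaf 0x11dedc93) (.leaf 0x19e15c8d))) (.node (.node (.leaf 0x2075dc8b) (.leaf 0x1e899c8d)) (.node (.leaf 0x1b211c8b) (.leaf 0x0))))) (.node (.node (.node (.node (.leaf 0x1f04dc89) (.leaf 0x19565c93)) (.node (.leaf 0x1d5e1c89) (.leaf 0x19c39c89))) (.node (.node (.leaf 0x19709c8b) (.leaf 0x1df49c91)) (.node (.leaf 0x16a1dc8d) (.leaf 0x23a65c8d)))) (.node (.node (.node (.leaf 0x178a1c89) (.leaf 0x192d9c93)) (.node (.leaf 0x13385c93) (.leaf 0xd759c93))) (.node (.node (.leaf 0x1a099c89) (.leaf 0x21869c91)) (.node (.leaf 0x15425c91)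 (.leaf 0x0)))))) (.node (.node (.node (.node (.node (.leaf 0x14129c8d) (.leaf 0x1da0dc91)) (.node (.leaf 0x1b40dc8b) (.leaf 0x13385c8b))) (.node (.node (.leaf 0x22399c8b) (.leaf 0x1d091c89)) (.node (.leaf 0x1e541c91) (.leaf 0x15889c89)))) (.node (.node (.node (.leaf 0x1a52dc91) (.leaf 0x16ab1c89)) (.node (.leaf 0x12fe1c91) (.leaf 0x195f9c91))) (.node (.node (.leaf 0x1cbe1c91) (.leaf 0x1d8b1c91)) (.node (.leaf 0x1b995c89) (.leaf 0x0))))) (.node (.node (.node (.node (.leaf 0x1dba5c8b) (.leaf 0x1c969c8b)) (.node (.leaf 0x1c739c8d) (.leaf 0x12441c8b))) (.node (.node (.leaf 0xcb79c93) (.leaf 0x1da0dc93)) (.node (.leaf 0x14cf9c89) (.leaf 0x1712dc89)))) (.node (.node (.node (.leaf 0x16a91c89) (.leaf 0x14d4dc8d)) (.node (.leaf 0x15599c91) (.leaf 0x136a5c8d))) (.node (.node (.leaf 0x12011c8d) (.leaf 0x1da15c93)) (.node (.leaf 0x1ee21c8d) (.leaf 0x0))))))) (.node (.node (.node (.node (.node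 (.node (.leaf 0x160a9c89) (.leaf 0x14371c8d)) (.node (.leaf 0x114b5c8d) (.leaf 0x19f75c8d))) (.node (.node (.leaf 0x1e235c89) (.leaf 0x1ac5dc89)) (.node (.leaf 0x1b575c91) (.leaf 0x16fcdc8b)))) (.node (.node (.node (.leaf 0x1db5dc91) (.leaf 0x1cb15c8d)) (.node (.leaf 0x21f55c93) (.leaf 0x1981dc8b))) (.node (.node (.leaf 0x1e309c8d) (.leaf 0x188e5c93)) (.node (.leaf 0x16675c89) (.leaf 0x0))))) (.node (.node (.node (.node (.leaf 0x1981dc8d) (.leaf 0x23a61c89)) (.node (.leaf 0x1f639c93) (.leaf 0x1ca91c91))) (.node (.node (.leaf 0x11dedc91) (.leaf 0x1a331c8d)) (.node (.leaf 0x1eb85c8b) (.leaf 0x10145c89)))) (.node (.node (.node (.leaf 0x1b375c91) (.leaf 0x14371c91)) (.node (.leaf 0x1e365c8b) (.leaf 0x21141c91))) (.node (.node (.leaf 0x13605c8b) (.leaf 0x23521c8d)) (.node (.leaf 0x1f081c8d) (.leaf 0x0)))))) (.node (.node (.node (.node (.node (.leaf 0x124d9c8b) (.leaf 0x138a9c8d))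 (.node (.leaf 0x1c62dc93) (.leaf 0xf455c89))) (.node (.node (.leaf 0x1b5f1c91) (.leaf 0x11f0dc8b)) (.node (.leaf 0x1dbc5c91) (.leaf 0x1706dc93)))) (.node (.node (.node (.leaf 0x1f551c93) (.leaf 0x1f02dc89)) (.node (.leaf 0xc9edc89) (.leaf 0x1a469c91))) (.node (.node (.leaf 0x130a1c91) (.leaf 0x18b69c93)) (.node (.leaf 0x1c349c89) (.leaf 0x0))))) (.node (.node (.node (.node (.leaf 0x1db95c89) (.leaf 0x1a629c8d)) (.node (.leaf 0x207a1c91) (.leaf 0xc9edc8d))) (.node (.node (.leaf 0xc68dc8b) (.leaf 0x18a99c91)) (.node (.leaf 0x17815c8b) (.leaf 0x0)))) (.node (.node (.node (.leaf 0x1f515c89) (.leaf 0x1e435c93)) (.node (.leaf 0x1aed1c93) (.leaf 0x1a8b1c8b))) (.node (.node (.leaf 0x1c96) (.leaf 0x1f7b1c89)) (.node (.leaf 0x1db1dc8d) (.leaf 0x0)))))))) (.node (.node (.node (.node (.node (.node (.node (.leaf 0x156a9c8d) (.leaf 0x10a1dc8b)) (.node (.leaf 0x1f7b9c8b) (.leaf 0x1b575c89)))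 (.node (.node (.leaf 0x1c861c8d) (.leaf 0x1c865c93)) (.node (.leaf 0x14275c8d) (.leaf 0x1b805c8d)))) (.node (.node (.node (.leaf 0x1ed0dc89) (.leaf 0x1573dc8b)) (.node (.leaf 0x203d5c91) (.leaf 0x1abadc91))) (.node (.node (.leaf 0x1df1dc91) (.leaf 0x1c245c91)) (.node (.leaf 0x1d56dc89) (.leaf 0x0))))) (.node (.node (.node (.node (.leaf 0x1b6e1c91) (.leaf 0x1e2b1c93)) (.node (.leaf 0x1c965c89) (.leaf 0x21189c8b))) (.node (.node (.leaf 0x1a219c93) (.leaf 0x164e1c8d)) (.node (.leaf 0x15a69c89) (.leaf 0x1dee1c91)))) (.node (.node (.node (.leaf 0x1f779c93) (.leaf 0x1d315c93)) (.node (.leaf 0x12289c91) (.leaf 0x140c1c89))) (.node (.node (.leaf 0x1e1d1c8b) (.leaf 0x1ee49c8d)) (.node (.leaf 0x1c575c93) (.leaf 0x0)))))) (.node (.node (.node (.node (.node (.leaf 0xd759c8d) (.leaf 0x20459c91)) (.node (.leaf 0x1606dc8d) (.leaf 0x2191dc91))) (.node (.node (.leaf 0x1a6f1c91) (.leaf 0x1d7d5c89))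 (.node (.leaf 0x19c85c8d) (.leaf 0x1f081c91)))) (.node (.node (.node (.leaf 0x174ddc8b) (.leaf 0x19c39c8d)) (.node (.leaf 0x1af1dc93) (.leaf 0x1dee5c8d))) (.node (.node (.leaf 0x1e125c8d) (.leaf 0x1e365c89)) (.node (.leaf 0x15605c8b) (.leaf 0x0))))) (.node (.node (.node (.node (.leaf 0x18c55c91) (.leaf 0x1ced1c8d)) (.node (.leaf 0x1d159c93) (.leaf 0x16971c91))) (.node (.node (.leaf 0x1ed79c91) (.leaf 0x21fcdc8b)) (.node (.leaf 0x19401c89) (.leaf 0x221d9c8d)))) (.node (.node (.node (.leaf 0x1cbfdc89) (.leaf 0x20451c91)) (.node (.leaf 0x14161c8d) (.leaf 0x1d151c91))) (.node (.node (.leaf 0x1621dc93) (.leaf 0x119fdc93)) (.node (.leaf 0x1d671c89) (.leaf 0x0))))))) (.node (.node (.node (.node (.node (.node (.leaf 0x14059c89) (.leaf 0x14931c8b)) (.node (.leaf 0x1b8f1c8d) (.leaf 0x12289c93))) (.node (.node (.leaf 0x1b235c93) (.leaf 0x1e4adc8d)) (.node (.leaf 0x1ba75c91) (.leaf 0x1c98dc91))))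 (.node (.node (.node (.leaf 0x1abadc89) (.leaf 0x167f5c91)) (.node (.leaf 0x18eedc8d) (.leaf 0x22c69c89))) (.node (.node (.leaf 0x1e50dc8b) (.leaf 0x1c075c91)) (.node (.leaf 0x1e8b9c91) (.leaf 0x0))))) (.node (.node (.node (.node (.leaf 0x18295c8d) (.leaf 0x13185c89)) (.node (.leaf 0x18705c8d) (.leaf 0x161c1c8d))) (.node (.node (.leaf 0x178adc91) (.leaf 0x18e81c8d)) (.node (.leaf 0x121e1c91) (.leaf 0x16755c93)))) (.node (.node (.node (.leaf 0x10bddc89) (.leaf 0x1c981c91)) (.node (.leaf 0x1ed6dc93) (.leaf 0x1728dc91))) (.node (.node (.leaf 0x14af5c8d) (.leaf 0x4f85c89)) (.node (.leaf 0x1e651c8b) (.leaf 0x0)))))) (.node (.node (.node (.node (.node (.leaf 0x23141c91) (.leaf 0x21a19c8b)) (.node (.leaf 0x1f9e1c91) (.leaf 0x19da5c8d))) (.node (.node (.leaf 0x170c5c89) (.leaf 0x1b895c8d)) (.node (.leaf 0x16045c93) (.leaf 0x1e651c93)))) (.node (.node (.node (.leaf 0x1d199c89) (.leaf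 0x1892dc8d)) (.node (.leaf 0x16fa1c8d) (.leaf 0x1ced1c89))) (.node (.node (.leaf 0x1820dc91) (.leaf 0x17259c89)) (.node (.leaf 0x19319c8b) (.leaf 0x0))))) (.node (.node (.node (.node (.leaf 0x1dd95c91) (.leaf 0xea95c93)) (.node (.leaf 0x15a51c89) (.leaf 0x130e5c89))) (.node (.node (.leaf 0x178adc8d) (.leaf 0x166e5c89)) (.node (.leaf 0x186edc91) (.leaf 0x0)))) (.node (.node (.node (.leaf 0x15405c8d) (.leaf 0x17331c8b)) (.node (.leaf 0x1f401c91) (.leaf 0x10b05c89))) (.node (.node (.leaf 0x21e35c89) (.leaf 0x1ac1dc91)) (.node (.leaf 0x1e691c8d) (.leaf 0x0))))))))) (.node (.node (.node (.node (.node (.node (.node (.node (.leaf 0x1c005c8d) (.leaf 0x1e7c1c8b)) (.node (.leaf 0x14fc9c89) (.leaf 0x1e535c8b))) (.node (.node (.leaf 0x1a815c89) (.leaf 0xf6d5c8d)) (.node (.leaf 0x1caf1c93) (.leaf 0x1db59c89)))) (.node (.node (.node (.leaf 0x1d899c91) (.leaf 0x1b5e9c93)) (.node (.leaf 0x12b1dc8b)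 (.leaf 0x2160dc91))) (.node (.node (.leaf 0x1f71dc8d) (.leaf 0x18b65c93)) (.node (.leaf 0x1ee15c89) (.leaf 0x0))))) (.node (.node (.node (.node (.leaf 0x117b5c91) (.leaf 0x16ef1c89)) (.node (.leaf 0x1a569c93) (.leaf 0x1d239c93))) (.node (.node (.leaf 0xd7e5c8b) (.leaf 0x1c801c93)) (.node (.leaf 0x1a0e9c93) (.leaf 0x1dd05c93)))) (.node (.node (.node (.leaf 0x19769c89) (.leaf 0x18469c91)) (.node (.leaf 0x1858dc93) (.leaf 0x1728dc8b))) (.node (.node (.leaf 0x15d2dc93) (.leaf 0x19e25c91)) (.node (.leaf 0x17549c8d) (.leaf 0x0)))))) (.node (.node (.node (.node (.node (.leaf 0x1b9cdc93) (.leaf 0x1a339c91)) (.node (.leaf 0x1e3cdc91) (.leaf 0x1cb55c8b))) (.node (.node (.leaf 0x1aeedc91) (.leaf 0x1eab9c8d)) (.node (.leaf 0x1c615c8b) (.leaf 0x1ddddc8b)))) (.node (.node (.node (.leaf 0x1b5b1c93) (.leaf 0x22eb1c8b)) (.node (.leaf 0x10b85c8d) (.leaf 0x10165c89))) (.node (.node (.leaf 0x185b1c93)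 (.leaf 0x1f5f9c91)) (.node (.leaf 0x14d6dc93) (.leaf 0x0))))) (.node (.node (.node (.node (.leaf 0x1dd61c8b) (.leaf 0x1f231c93)) (.node (.leaf 0x1b4d1c93) (.leaf 0x1a96dc91))) (.node (.node (.leaf 0x1ed59c91) (.leaf 0x1ce7dc8d)) (.node (.leaf 0x2060dc91) (.leaf 0x1f70dc91)))) (.node (.node (.node (.leaf 0x1d56dc91) (.leaf 0x14e85c91)) (.node (.leaf 0x170c5c8b) (.leaf 0x1388dc91))) (.node (.node (.leaf 0x1d8e9c91) (.leaf 0x1091dc8d)) (.node (.leaf 0x22805c89) (.leaf 0x0))))))) (.node (.node (.node (.node (.node (.node (.leaf 0x18001c93) (.leaf 0x10de1c8d)) (.node (.leaf 0x16dcdc89) (.leaf 0x148ddc8b))) (.node (.node (.leaf 0x19499c8d) (.leaf 0x20d69c8b)) (.node (.leaf 0x16cbdc8d) (.leaf 0x12289c89)))) (.node (.node (.node (.leaf 0x1e995c93) (.leaf 0x1f9f5c89)) (.node (.leaf 0x11a65c93) (.leaf 0xcb79c91))) (.node (.node (.leaf 0x13391c89) (.leaf 0x143f9c8d)) (.node (.leaf 0x1d429c91)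 (.leaf 0x0))))) (.node (.node (.node (.node (.leaf 0x1ceadc93) (.leaf 0x1eac5c8b)) (.node (.leaf 0x1f3d9c93) (.leaf 0x166edc8b))) (.node (.node (.leaf 0x13151c8d) (.leaf 0x1e2b1c89)) (.node (.leaf 0x14f11c8b) (.leaf 0x1b15dc93)))) (.node (.node (.node (.leaf 0x1c699c8d) (.leaf 0x22221c93)) (.node (.leaf 0x1820dc93) (.leaf 0xc121c93))) (.node (.node (.leaf 0x1ed31c93) (.leaf 0x19c85c93)) (.node (.leaf 0x18c1dc93) (.leaf 0x0)))))) (.node (.node (.node (.node (.node (.leaf 0x157cdc8d) (.leaf 0x10de1c91)) (.node (.leaf 0x184cdc93) (.leaf 0x1a26dc93))) (.node (.node (.leaf 0x1e591c8d) (.leaf 0x1cb6dc91)) (.node (.leaf 0x1f1d5c89) (.leaf 0x14265c91)))) (.node (.node (.node (.leaf 0x20d1dc91) (.leaf 0x1f149c8b)) (.node (.leaf 0x1db99c8d) (.leaf 0x15735c93))) (.node (.node (.leaf 0x154a5c89) (.leaf 0x1e0f5c89)) (.node (.leaf 0x16ab1c91) (.leaf 0x0))))) (.node (.node (.node (.node (.leaf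 0x1a49dc89) (.leaf 0x172cdc91)) (.node (.leaf 0x1f371c93) (.leaf 0x1d625c8d))) (.node (.node (.leaf 0x18705c93) (.leaf 0x158a9c93)) (.node (.leaf 0x19031c8d) (.leaf 0x0)))) (.node (.node (.node (.leaf 0x15929c91) (.leaf 0x1f475c93)) (.node (.leaf 0x11835c89) (.leaf 0x1a911c8b))) (.node (.node (.leaf 0x16e61c91) (.leaf 0x155e5c8d)) (.node (.leaf 0x1cc11c8d) (.leaf 0x0)))))))) (.node (.node (.node (.node (.node (.node (.node (.leaf 0x124a9c91) (.leaf 0x1a295c93)) (.node (.leaf 0x1fb19c91) (.leaf 0x1b05dc8d))) (.node (.node (.leaf 0x193e9c93) (.leaf 0x15fb9c93)) (.node (.leaf 0x1c2e5c89) (.leaf 0x1b07dc8d)))) (.node (.node (.node (.leaf 0x1d6d5c93) (.leaf 0x12825c89)) (.node (.leaf 0x1d199c8b) (.leaf 0x1eae5c89))) (.node (.node (.leaf 0x18ec5c8b) (.leaf 0x1f5a9c8b)) (.node (.leaf 0x149e1c93) (.leaf 0x0))))) (.node (.node (.node (.node (.leaf 0x11835c8d) (.leaf 0x1aec9c91)) (.node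 (.leaf 0x1a959c91) (.leaf 0x19c81c89))) (.node (.node (.leaf 0x173c5c8d) (.leaf 0x14a21c93)) (.node (.leaf 0xeec1c89) (.leaf 0x1ed31c91)))) (.node (.node (.node (.leaf 0x18b91c89) (.leaf 0x1dc75c8b)) (.node (.leaf 0x17331c89) (.leaf 0x166edc91))) (.node (.node (.leaf 0x1af6dc89) (.leaf 0x1e5c5c89)) (.node (.leaf 0x12611c8b) (.leaf 0x0)))))) (.node (.node (.node (.node (.node (.leaf 0xea95c89) (.leaf 0x16f45c89)) (.node (.leaf 0x19f91c93) (.leaf 0x1ec3dc91))) (.node (.node (.leaf 0x1b345c8d) (.leaf 0x1e8a9c8d)) (.node (.leaf 0x1e019c93) (.leaf 0x8f91c8d)))) (.node (.node (.node (.leaf 0x16971c89) (.leaf 0x1d239c91)) (.node (.leaf 0x17549c93) (.leaf 0x14aa5c91))) (.node (.node (.leaf 0x14301c8b) (.leaf 0x10b05c93)) (.node (.leaf 0x18341c89) (.leaf 0x0))))) (.node (.node (.node (.node (.leaf 0x1dd35c89) (.leaf 0x1a2c1c93)) (.node (.leaf 0x18781c91) (.leaf 0x11835c8b))) (.node (.node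 (.leaf 0x177c5c89) (.leaf 0x189b5c8d)) (.node (.leaf 0x146c5c91) (.leaf 0x0)))) (.node (.node (.node (.leaf 0x188e1c91) (.leaf 0x11f8dc89)) (.node (.leaf 0x22925c8b) (.leaf 0x1a11dc93))) (.node (.node (.leaf 0x153bdc8b) (.leaf 0x1d9b5c89)) (.node (.leaf 0x1cc65c93) (.leaf 0x0))))))) (.node (.node (.node (.node (.node (.node (.leaf 0x15ac5c91) (.leaf 0xd0e1c89)) (.node (.leaf 0x15aadc93) (.leaf 0xe1c9c93))) (.node (.node (.leaf 0x16efdc8d) (.leaf 0x1c9c1c93)) (.node (.leaf 0x189b5c89) (.leaf 0x198a5c8b)))) (.node (.node (.node (.leaf 0x1e1edc89) (.leaf 0x16481c89)) (.node (.leaf 0x1022dc93) (.leaf 0x1a8bdc91))) (.node (.node (.leaf 0x1cbc1c91) (.leaf 0x1e9d1c93)) (.node (.leaf 0x23025c93) (.leaf 0x0))))) (.node (.node (.node (.node (.leaf 0x18159c91) (.leaf 0x1acd5c93)) (.node (.leaf 0x1a601c91) (.leaf 0x1db45c91))) (.node (.node (.leaf 0x11a95c8d) (.leaf 0x1ad95c93)) (.node (.leaf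 0x4f85c93) (.leaf 0x16209c8b)))) (.node (.node (.node (.leaf 0x1e03dc91) (.leaf 0x12f79c93)) (.node (.leaf 0x1ea21c8b) (.leaf 0x155a9c89))) (.node (.node (.leaf 0x1eb85c89) (.leaf 0x18cbdc91)) (.node (.leaf 0x196adc89) (.leaf 0x0)))))) (.node (.node (.node (.node (.node (.leaf 0x19c81c8b) (.leaf 0x19ab9c93)) (.node (.leaf 0x1d111c91) (.leaf 0x18b41c89))) (.node (.node (.leaf 0x10a1dc89) (.leaf 0x1a581c89)) (.node (.leaf 0x1f471c93) (.leaf 0x1e235c8b)))) (.node (.node (.node (.leaf 0x1f35dc91) (.leaf 0x1a241c93)) (.node (.leaf 0x10fe5c91) (.leaf 0xc281c91))) (.node (.node (.leaf 0x1c219c91) (.leaf 0x120e5c89)) (.node (.leaf 0x134e9c93) (.leaf 0x0))))) (.node (.node (.node (.node (.leaf 0x19da5c91) (.leaf 0x18e89c93)) (.node (.leaf 0x1983dc8b) (.leaf 0x1743dc93))) (.node (.node (.leaf 0x1a77dc8d) (.leaf 0x16209c8d)) (.node (.leaf 0x19a41c89) (.leaf 0x0)))) (.node (.node (.node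 (.leaf 0x1940dc8d) (.leaf 0x12011c89)) (.node (.leaf 0x94f1c91) (.leaf 0x1ca51c91))) (.node (.node (.leaf 0xd021c89) (.leaf 0x114d5c93)) (.node (.leaf 0x12825c91) (.leaf 0x0))))))))))

/-- packed table -/
noncomputable def cov18_rlr : BTree := (.node (.node (.node (.node (.node (.node (.node (.node (.node (.leaf 0x21461c93) (.leaf 0x121e1c93)) (.node (.leaf 0x1b42dc91) (.leaf 0x14c6dc8d))) (.node (.node (.leaf 0x1f7b5c91) (.leaf 0x17775c8d)) (.node (.leaf 0x14279c8d) (.leaf 0x10691c93)))) (.node (.node (.node (.leaf 0x1bae1c93) (.leaf 0x14931c89)) (.node (.leaf 0x157cdc8b) (.leaf 0x183e9c91))) (.node (.node (.leaf 0x178a1c8d) (.leaf 0x160a9c8b)) (.node (.leaf 0x19031c93) (.leaf 0x0))))) (.node (.node (.node (.node (.leaf 0x18781c93) (.leaf 0x1d56dc93)) (.node (.leaf 0x185e9c8d) (.leaf 0x19ac1c91))) (.node (.node (.leaf 0xe15dc89) (.leaf 0x18369c91)) (.node (.leaf 0x18b41c93)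 (.leaf 0x1e8edc89)))) (.node (.node (.node (.leaf 0x18789c93) (.leaf 0x1d2ddc93)) (.node (.leaf 0x8f91c91) (.leaf 0x1abd5c89))) (.node (.node (.leaf 0x4f85c8d) (.leaf 0x19145c89)) (.node (.leaf 0x174ddc93) (.leaf 0x0)))))) (.node (.node (.node (.node (.node (.leaf 0x19bd9c91) (.leaf 0x19939c8b)) (.node (.leaf 0x1a96dc8d) (.leaf 0x1df15c89))) (.node (.node (.leaf 0x1f485c91) (.leaf 0x1e995c91)) (.node (.leaf 0x1ed7dc8d) (.leaf 0x18b91c8d)))) (.node (.node (.node (.leaf 0x1d855c91) (.leaf 0x18b41c8d)) (.node (.leaf 0x115bdc8d) (.leaf 0x186b9c93))) (.node (.node (.leaf 0x22519c8d) (.leaf 0x20491c8d)) (.node (.leaf 0x1e5e5c8d) (.leaf 0x0))))) (.node (.node (.node (.node (.leaf 0x1a815c93) (.leaf 0x1ece9c91)) (.node (.leaf 0x1911dc93) (.leaf 0x16e55c8b))) (.node (.node (.leaf 0x18b91c93) (.leaf 0x19d6dc93)) (.node (.leaf 0x192f1c91) (.leaf 0x1a0cdc91)))) (.node (.node (.node (.leaf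 0x1e2b1c91) (.leaf 0x16481c8b)) (.node (.leaf 0x1a001c91) (.leaf 0x16de1c91))) (.node (.node (.leaf 0x14f6dc93) (.leaf 0x1e6cdc93)) (.node (.leaf 0x18f51c8d) (.leaf 0x0))))))) (.node (.node (.node (.node (.node (.node (.leaf 0x401dc93) (.leaf 0x16bcdc93)) (.node (.leaf 0x10fe5c8d) (.leaf 0x13735c89))) (.node (.node (.leaf 0x1db39c91) (.leaf 0x1f451c91)) (.node (.leaf 0x1f8fdc8b) (.leaf 0x14821c8b)))) (.node (.node (.node (.leaf 0x1ec51c93) (.leaf 0x15aadc91)) (.node (.leaf 0x1c8a9c8d) (.leaf 0x1841dc8d))) (.node (.node (.leaf 0x1f6ddc8d) (.leaf 0x192f1c89)) (.node (.leaf 0x187c5c93) (.leaf 0x0))))) (.node (.node (.node (.node (.leaf 0x14eb9c93) (.leaf 0x16ab1c8b)) (.node (.leaf 0x14411c91) (.leaf 0x1a2d9c93))) (.node (.node (.leaf 0x1f8fdc91) (.leaf 0xaec5c93)) (.node (.leaf 0xd0e9c91) (.leaf 0x1acddc93)))) (.node (.node (.node (.leaf 0x1db69c93) (.leaf 0x1dfd9c8b)) (.node (.leaf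 0x109fdc8b) (.leaf 0x1f9e1c8d))) (.node (.node (.leaf 0x1a911c8d) (.leaf 0x166edc93)) (.node (.leaf 0x211c9c8d) (.leaf 0x0)))))) (.node (.node (.node (.node (.node (.leaf 0x13159c91) (.leaf 0x16f25c91)) (.node (.leaf 0x1a18dc8d) (.leaf 0x1e6bdc93))) (.node (.node (.leaf 0xd021c91) (.leaf 0x1b879c8d)) (.node (.leaf 0x21ff5c93) (.leaf 0x15525c93)))) (.node (.node (.node (.leaf 0x15e65c91) (.leaf 0x1e7c1c89)) (.node (.leaf 0x10ad1c8d) (.leaf 0x1eb81c91))) (.node (.node (.leaf 0x17095c91) (.leaf 0x16ff5c89)) (.node (.leaf 0x18359c89) (.leaf 0x0))))) (.node (.node (.node (.node (.leaf 0x1ddbdc91) (.leaf 0x12a49c8d)) (.node (.leaf 0x1af55c93) (.leaf 0x1999dc8b))) (.node (.node (.leaf 0x18b1dc91) (.leaf 0xfab1c8b)) (.node (.leaf 0x1b4fdc93) (.leaf 0x0)))) (.node (.node (.node (.leaf 0x204e9c91) (.leaf 0x14a39c8b)) (.node (.leaf 0x13131c93) (.leaf 0x1e3bdc89))) (.node (.node (.leaf 0x20f71c8b)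 (.leaf 0x16ad5c91)) (.node (.leaf 0x12761c8b) (.leaf 0x0)))))))) (.node (.node (.node (.node (.node (.node (.node (.leaf 0x1e4adc91) (.leaf 0x163b9c93)) (.node (.leaf 0x1f04dc91) (.leaf 0x162c5c91))) (.node (.node (.leaf 0x1f415c89) (.leaf 0x15761c91)) (.node (.leaf 0x1988dc8d) (.leaf 0x1e22dc8b)))) (.node (.node (.node (.leaf 0x19cadc8d) (.leaf 0xcc3dc8d)) (.node (.leaf 0x11f0dc93) (.leaf 0x8329c8d))) (.node (.node (.leaf 0x15405c89) (.leaf 0x19c65c8b)) (.node (.leaf 0x185d1c89) (.leaf 0x0))))) (.node (.node (.node (.node (.leaf 0x18c75c91) (.leaf 0x14031c91)) (.node (.leaf 0x1dd61c89) (.leaf 0x16d65c8b))) (.node (.node (.leaf 0x19815c89) (.leaf 0x1c661c93)) (.node (.leaf 0x1a445c93) (.leaf 0x1d8bdc93)))) (.node (.node (.node (.leaf 0x17851c91) (.leaf 0x18939c8d)) (.node (.leaf 0x173c5c93) (.leaf 0xc68dc93))) (.node (.node (.leaf 0x14c91c8d) (.leaf 0x138a9c91)) (.node (.leaf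 0x1c56dc93) (.leaf 0x0)))))) (.node (.node (.node (.node (.node (.leaf 0x19769c8d) (.leaf 0x22ff9c91)) (.node (.leaf 0x1734dc8b) (.leaf 0x17075c8d))) (.node (.node (.leaf 0x161cdc93) (.leaf 0x14eb9c91)) (.node (.leaf 0x1873dc93) (.leaf 0x174ddc89)))) (.node (.node (.node (.leaf 0x18e89c8b) (.leaf 0x1a831c89)) (.node (.leaf 0x1621dc91) (.leaf 0x1cd01c8b))) (.node (.node (.leaf 0x16e59c8b) (.leaf 0x18509c8d)) (.node (.leaf 0x1d659c8d) (.leaf 0x0))))) (.node (.node (.node (.node (.leaf 0x185b1c8d) (.leaf 0x1e381c93)) (.node (.leaf 0x19379c8d) (.leaf 0x124cdc93))) (.node (.node (.leaf 0x19ec9c93) (.leaf 0x1c271c91)) (.node (.leaf 0x19a59c89) (.leaf 0x0)))) (.node (.node (.node (.leaf 0x18761c8d) (.leaf 0x117e1c93)) (.node (.leaf 0x11779c8b) (.leaf 0x1b0d1c8b))) (.node (.node (.leaf 0x155a1c93) (.leaf 0x15a6dc93)) (.node (.leaf 0x1f1c1c8d) (.leaf 0x0))))))) (.node (.node (.node (.node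 (.node (.node (.leaf 0x17671c91) (.leaf 0x173c5c91)) (.node (.leaf 0x160f1c89) (.leaf 0x17095c8d))) (.node (.node (.leaf 0x22921c8d) (.leaf 0x1f35dc93)) (.node (.leaf 0x1b955c91) (.leaf 0x19c65c93)))) (.node (.node (.node (.leaf 0x1a99dc89) (.leaf 0x1c285c93)) (.node (.leaf 0xd62dc93) (.leaf 0x1c455c89))) (.node (.node (.leaf 0x1ee49c93) (.leaf 0x14b01c8d)) (.node (.leaf 0x23a15c8d) (.leaf 0x0))))) (.node (.node (.node (.node (.leaf 0x2013dc91) (.leaf 0x1a369c8d)) (.node (.leaf 0x14701c8d) (.leaf 0x16391c93))) (.node (.node (.leaf 0x1cbc1c93) (.leaf 0x124d1c8d)) (.node (.leaf 0x1575dc93) (.leaf 0x1a70dc93)))) (.node (.node (.node (.leaf 0x14a85c8b) (.leaf 0x18d61c8d)) (.node (.leaf 0x1986dc8b) (.leaf 0x957dc8b))) (.node (.node (.leaf 0x193c5c89) (.leaf 0x1d159c89)) (.node (.leaf 0x1d4d1c8d) (.leaf 0x0)))))) (.node (.node (.node (.node (.node (.leaf 0x1f149c91) (.leaf 0x11addc93))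 (.node (.leaf 0x1f87dc93) (.leaf 0x1a2d9c91))) (.node (.node (.leaf 0x1750dc8b) (.leaf 0x157cdc89)) (.node (.leaf 0x1fb15c8d) (.leaf 0x13151c89)))) (.node (.node (.node (.leaf 0x1cd49c91) (.leaf 0x15f7dc89)) (.node (.leaf 0x9ae5c8b) (.leaf 0x19c3dc93))) (.node (.node (.leaf 0x1a4c5c8d) (.leaf 0xb2f5c89)) (.node (.leaf 0x193e9c91) (.leaf 0x0))))) (.node (.node (.node (.node (.leaf 0x1e22dc89) (.leaf 0x148d9c89)) (.node (.leaf 0x1d0c1c89) (.leaf 0x18429c91))) (.node (.node (.leaf 0x18ac5c91) (.leaf 0x171d1c93)) (.node (.leaf 0x1cd49c89) (.leaf 0x0)))) (.node (.node (.node (.leaf 0x19419c8d) (.leaf 0x1e4adc93)) (.node (.leaf 0x1aba5c93) (.leaf 0x1bae1c8d))) (.node (.node (.leaf 0x1b511c8d) (.leaf 0x14a21c8d)) (.node (.leaf 0x160f1c8d) (.leaf 0x0))))))))) (.node (.node (.node (.node (.node (.node (.node (.node (.leaf 0x1c77dc93) (.leaf 0x160f9c8d)) (.node (.leaf 0x235adc91) (.leaf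 0x1a831c91))) (.node (.node (.leaf 0x1b519c89) (.leaf 0x19769c91)) (.node (.leaf 0xd615c91) (.leaf 0x1c835c93)))) (.node (.node (.node (.leaf 0x18669c91) (.leaf 0x196b1c8b)) (.node (.leaf 0x1d459c8d) (.leaf 0x1c665c93))) (.node (.node (.leaf 0x1a089c89) (.leaf 0x1ce5dc91)) (.node (.leaf 0x1e0b1c8b) (.leaf 0x0))))) (.node (.node (.node (.node (.leaf 0xf6d5c91) (.leaf 0x1b05dc93)) (.node (.leaf 0x1dd95c89) (.leaf 0x15175c8b))) (.node (.node (.leaf 0xca41c91) (.leaf 0x1fa21c8d)) (.node (.leaf 0x120e5c93) (.leaf 0x186d1c8b)))) (.node (.node (.node (.leaf 0x1a8b1c89) (.leaf 0x192f1c93)) (.node (.leaf 0x18789c89) (.leaf 0x1d24dc91))) (.node (.node (.leaf 0x153b5c8d) (.leaf 0x172a9c91)) (.node (.leaf 0x1f321c93) (.leaf 0x0)))))) (.node (.node (.node (.node (.node (.leaf 0x1c2f9c93) (.leaf 0xe1f1c93)) (.node (.leaf 0x1ded1c89) (.leaf 0x148ddc91))) (.node (.node (.leaf 0x109fdc89) (.leaf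 0x19a3dc89)) (.node (.leaf 0x16ef1c8b) (.leaf 0x1d0b1c91)))) (.node (.node (.node (.leaf 0x1de89c91) (.leaf 0x1a0b5c93)) (.node (.leaf 0x1dbd1c8d) (.leaf 0x1e4ddc8b))) (.node (.node (.leaf 0x1ac29c91) (.leaf 0x1e9c1c8b)) (.node (.leaf 0x1a911c91) (.leaf 0x0))))) (.node (.node (.node (.node (.leaf 0x1c965c8b) (.leaf 0x1ad51c8b)) (.node (.leaf 0x1ecf1c8b) (.leaf 0x1b79dc91))) (.node (.node (.leaf 0x1b85dc8d) (.leaf 0x15f7dc93)) (.node (.leaf 0x1f7f5c8b) (.leaf 0x1c969c93)))) (.node (.node (.node (.leaf 0x1f8b5c93) (.leaf 0x1ea09c8d)) (.node (.leaf 0x12455c89) (.leaf 0xe15dc8d))) (.node (.node (.leaf 0x1edc9c8b) (.leaf 0x17721c8b)) (.node (.leaf 0x1d0c5c89) (.leaf 0x0))))))) (.node (.node (.node (.node (.node (.node (.leaf 0x17679c91) (.leaf 0x14331c8d)) (.node (.leaf 0x1f9b9c8d) (.leaf 0x1b015c91))) (.node (.node (.leaf 0x1e55dc8d) (.leaf 0x1cb15c89)) (.node (.leaf 0x1d5c9c8b)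 (.leaf 0x19875c8b)))) (.node (.node (.node (.leaf 0x1c9e9c8b) (.leaf 0x1c041c93)) (.node (.leaf 0xf37dc93) (.leaf 0x1c699c93))) (.node (.node (.leaf 0x1fa95c89) (.leaf 0x1cb3dc8d)) (.node (.leaf 0x1f8d5c8d) (.leaf 0x0))))) (.node (.node (.node (.node (.leaf 0x1ced1c93) (.leaf 0x1ea9dc8b)) (.node (.leaf 0x1e5f9c91) (.leaf 0x1acf9c93))) (.node (.node (.leaf 0x1b905c91) (.leaf 0x1f471c8b)) (.node (.leaf 0x15991c8b) (.leaf 0x1aba5c89)))) (.node (.node (.node (.leaf 0x1e95dc91) (.leaf 0x1ee15c91)) (.node (.leaf 0x168ddc91) (.leaf 0x141fdc93))) (.node (.node (.leaf 0x11931c89) (.leaf 0x1e9ddc93)) (.node (.leaf 0x18c15c93) (.leaf 0x0)))))) (.node (.node (.node (.node (.node (.leaf 0x1d7bdc8d) (.leaf 0x1e671c93)) (.node (.leaf 0x18c1dc8d) (.leaf 0x1a65dc93))) (.node (.node (.leaf 0x14aa5c93) (.leaf 0x18159c93)) (.node (.leaf 0x18c59c89) (.leaf 0x1ce0dc91)))) (.node (.node (.node (.leaf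 0x1daf1c89) (.leaf 0x18c15c8b)) (.node (.leaf 0x12fa9c8d) (.leaf 0x1ee25c89))) (.node (.node (.leaf 0x172cdc93) (.leaf 0x18565c8d)) (.node (.leaf 0x1a6a1c8d) (.leaf 0x0))))) (.node (.node (.node (.node (.leaf 0x16985c93) (.leaf 0x1eb89c93)) (.node (.leaf 0x10879c91) (.leaf 0x15fe5c91))) (.node (.node (.leaf 0x1cd09c93) (.leaf 0x117a9c91)) (.node (.leaf 0x1d111c93) (.leaf 0x0)))) (.node (.node (.node (.leaf 0x18781c8d) (.leaf 0x160a9c8d)) (.node (.leaf 0xeec1c91) (.leaf 0x1a11dc8d))) (.node (.node (.leaf 0x19569c91) (.leaf 0x194a9c93)) (.node (.leaf 0x1a629c93) (.leaf 0x0)))))))) (.node (.node (.node (.node (.node (.node (.node (.leaf 0x1a49dc91) (.leaf 0x1c731c89)) (.node (.leaf 0x1d9b5c93) (.leaf 0x1091dc8b))) (.node (.node (.leaf 0x18e35c93) (.leaf 0x19701c91)) (.node (.leaf 0x15a09c91) (.leaf 0x1c7adc8b)))) (.node (.node (.node (.leaf 0x16c4dc91) (.leaf 0x1c415c8d)) (.node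 (.leaf 0x10879c8d) (.leaf 0x18369c8d))) (.node (.node (.leaf 0x15595c8b) (.leaf 0x192d5c89)) (.node (.leaf 0x18545c8d) (.leaf 0x0))))) (.node (.node (.node (.node (.leaf 0x124d1c91) (.leaf 0x15c31c8d)) (.node (.leaf 0x1e609c8b) (.leaf 0x1d199c91))) (.node (.node (.leaf 0x1f765c93) (.leaf 0x16df9c91)) (.node (.leaf 0x1de1dc8d) (.leaf 0x15c8dc8d)))) (.node (.node (.node (.leaf 0x1b895c91) (.leaf 0x12455c91)) (.node (.leaf 0x1c865c89) (.leaf 0x1c3e5c91))) (.node (.node (.leaf 0x15645c8b) (.leaf 0x16ff5c91)) (.node (.leaf 0x18381c8d) (.leaf 0x0)))))) (.node (.node (.node (.node (.node (.leaf 0x12a49c91) (.leaf 0x219f5c8b)) (.node (.leaf 0x12b1dc8d) (.leaf 0x1e2d5c8b))) (.node (.node (.leaf 0x1f81dc93) (.leaf 0x14701c89)) (.node (.leaf 0x1e8edc8b) (.leaf 0x1dc4dc93)))) (.node (.node (.node (.leaf 0x1a09dc89) (.leaf 0x1734dc93)) (.node (.leaf 0x16cbdc93) (.leaf 0x14ae1c8d))) (.node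 (.node (.leaf 0x17705c91) (.leaf 0x18b4dc93)) (.node (.leaf 0x8329c89) (.leaf 0x0))))) (.node (.node (.node (.node (.leaf 0x1dad9c89) (.leaf 0x14641c8b)) (.node (.leaf 0x207b9c91) (.leaf 0x149f9c8d))) (.node (.node (.leaf 0x1e40dc91) (.leaf 0x18bc9c8d)) (.node (.leaf 0x10691c91) (.leaf 0x0)))) (.node (.node (.node (.leaf 0x1f1c1c93) (.leaf 0x19145c8b)) (.node (.leaf 0x148d9c8b) (.leaf 0x107fdc8b))) (.node (.node (.leaf 0x1dc15c8d) (.leaf 0x1affdc89)) (.node (.leaf 0x14c6dc93) (.leaf 0x0))))))) (.node (.node (.node (.node (.node (.node (.leaf 0x10a89c8b) (.leaf 0x18b65c8d)) (.node (.leaf 0x185d1c8b) (.leaf 0x15749c89))) (.node (.node (.leaf 0xd62dc8d) (.leaf 0x18da9c93)) (.node (.leaf 0x1ad89c8d) (.leaf 0x198a5c89)))) (.node (.node (.node (.leaf 0x1983dc89) (.leaf 0x161a5c91)) (.node (.leaf 0xefe9c91) (.leaf 0x1baf5c89))) (.node (.node (.leaf 0x1ccb9c89) (.leaf 0x211c5c91)) (.node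 (.leaf 0x130e5c93) (.leaf 0x0))))) (.node (.node (.node (.node (.leaf 0x2015dc91) (.leaf 0x1ee29c91)) (.node (.leaf 0x1a639c91) (.leaf 0x72f9c93))) (.node (.node (.leaf 0x10bddc93) (.leaf 0x1cd9dc8d)) (.node (.leaf 0x1e6c9c91) (.leaf 0x1719dc91)))) (.node (.node (.node (.leaf 0x1d2e5c8d) (.leaf 0x1e2d5c91)) (.node (.leaf 0x8095c8d) (.leaf 0x1f9ddc8d))) (.node (.node (.leaf 0x168ddc89) (.leaf 0x15691c8b)) (.node (.leaf 0x1a83dc89) (.leaf 0x0)))))) (.node (.node (.node (.node (.node (.leaf 0x1c1e5c8d) (.leaf 0x14e6dc89)) (.node (.leaf 0x19badc91) (.leaf 0x210edc8b))) (.node (.node (.leaf 0x142e1c8b) (.leaf 0x1f7a9c91)) (.node (.leaf 0x1dbd1c91) (.leaf 0x1a52dc93)))) (.node (.node (.node (.leaf 0x1c219c89) (.leaf 0x20975c8d)) (.node (.leaf 0x11585c8d) (.leaf 0x1fad5c89))) (.node (.node (.leaf 0x211c5c8d) (.leaf 0x17139c8b)) (.node (.leaf 0x1f845c89) (.leaf 0x0))))) (.node (.node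 (.node (.node (.leaf 0x19d81c91) (.leaf 0x1a749c91)) (.node (.leaf 0x213f9c8d) (.leaf 0x204adc91))) (.node (.node (.leaf 0x14ca9c93) (.leaf 0x17309c89)) (.node (.leaf 0x1986dc93) (.leaf 0x0)))) (.node (.node (.node (.leaf 0x19401c8d) (.leaf 0x13311c8b)) (.node (.leaf 0x15515c89) (.leaf 0x19ec9c8d))) (.node (.node (.leaf 0x1b5d1c8d) (.leaf 0x11f0dc89)) (.node (.leaf 0x1e7f1c8b) (.leaf 0x0))))))))))

/-- packed table -/
noncomputable def cov18_rrl : BTree := (.node (.node (.node (.node (.node (.node (.node (.node (.node (.leaf 0xfab1c93) (.leaf 0x1a5edc89)) (.node (.leaf 0x12c01c91) (.leaf 0x2377dc93))) (.node (.node (.leaf 0x14831c8d) (.leaf 0x1cccdc8b)) (.node (.leaf 0x9811c8d) (.leaf 0x19b79c89)))) (.node (.node (.node (.leaf 0x1f4f9c93) (.leaf 0x196adc8b)) (.node (.leaf 0x15de5c93) (.leaf 0x15a51c8d))) (.node (.node (.leaf 0x1b5ddc89) (.leaf 0x1e829c93)) (.node (.leaf 0x1d589c8b)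 (.leaf 0x0))))) (.node (.node (.node (.node (.leaf 0x141e1c8d) (.leaf 0x1d55dc93)) (.node (.leaf 0x18605c8d) (.leaf 0x19139c8b))) (.node (.node (.leaf 0x155b5c89) (.leaf 0x19379c89)) (.node (.leaf 0x18311c89) (.leaf 0x1a601c8b)))) (.node (.node (.node (.leaf 0x1cac9c8b) (.leaf 0x1b3bdc89)) (.node (.leaf 0x1efc5c8d) (.leaf 0x1abe5c89))) (.node (.node (.leaf 0x181a5c91) (.leaf 0x14cfdc89)) (.node (.leaf 0x1f859c8b) (.leaf 0x0)))))) (.node (.node (.node (.node (.node (.leaf 0x1f699c91) (.leaf 0x1459dc8d)) (.node (.leaf 0x1d56dc8b) (.leaf 0x10165c93))) (.node (.node (.leaf 0x17529c91) (.leaf 0x1b791c89)) (.node (.leaf 0x1da15c8d) (.leaf 0x1cfe1c8d)))) (.node (.node (.node (.leaf 0x1dc05c8d) (.leaf 0x1b58dc91)) (.node (.leaf 0x1d441c91) (.leaf 0x11931c91))) (.node (.node (.leaf 0x1563dc89) (.leaf 0x18475c8d)) (.node (.leaf 0x142edc91) (.leaf 0x0))))) (.node (.node (.node (.node (.leaf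 0x19d71c8b) (.leaf 0x1eb4dc8b)) (.node (.leaf 0x1aca5c8b) (.leaf 0x160a5c91))) (.node (.node (.leaf 0x1b055c8d) (.leaf 0x1c965c93)) (.node (.leaf 0x1916dc93) (.leaf 0x1ee9dc91)))) (.node (.node (.node (.leaf 0x16a91c8b) (.leaf 0x15929c8d)) (.node (.leaf 0x1e885c93) (.leaf 0x1a639c89))) (.node (.node (.leaf 0x1e51dc89) (.leaf 0x1f8b1c93)) (.node (.leaf 0xcc3dc93) (.leaf 0x0))))))) (.node (.node (.node (.node (.node (.node (.leaf 0x1d6d5c8d) (.leaf 0x1baf5c91)) (.node (.leaf 0x14129c93) (.leaf 0x1cd9dc93))) (.node (.node (.leaf 0x1b4d1c8b) (.leaf 0x1b4e1c93)) (.node (.leaf 0x15595c91) (.leaf 0xef89c8b)))) (.node (.node (.node (.leaf 0x1ac5dc91) (.leaf 0x10e49c8d)) (.node (.leaf 0x1b255c91) (.leaf 0x1a96dc93))) (.node (.node (.leaf 0x1e535c89) (.leaf 0x21301c89)) (.node (.leaf 0x10879c93) (.leaf 0x0))))) (.node (.node (.node (.node (.leaf 0x1e4ddc91) (.leaf 0x1b055c91)) (.node (.leaf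 0x1d2adc8d) (.leaf 0x119fdc8d))) (.node (.node (.leaf 0x1bb1dc8d) (.leaf 0x1c525c8b)) (.node (.leaf 0x1c349c91) (.leaf 0x18f7dc8d)))) (.node (.node (.node (.leaf 0x8689c8d) (.leaf 0x1f7a9c8b)) (.node (.leaf 0xd615c89) (.leaf 0x1c5bdc91))) (.node (.node (.leaf 0x1a731c89) (.leaf 0x1711dc8b)) (.node (.leaf 0x1b5a5c89) (.leaf 0x0)))))) (.node (.node (.node (.node (.node (.leaf 0x1d1adc89) (.leaf 0x15a09c8b)) (.node (.leaf 0x14719c93) (.leaf 0x1a505c89))) (.node (.node (.leaf 0x19169c8d) (.leaf 0x1c2c5c89)) (.node (.leaf 0x172adc8d) (.leaf 0x141e1c8b)))) (.node (.node (.node (.leaf 0x16b51c89) (.leaf 0x1ed85c8b)) (.node (.leaf 0x16f81c8d) (.leaf 0x177c5c91))) (.node (.node (.leaf 0x1af55c89) (.leaf 0x1e5d9c91)) (.node (.leaf 0x143f9c93) (.leaf 0x0))))) (.node (.node (.node (.node (.leaf 0x19e39c8b) (.leaf 0x20915c89)) (.node (.leaf 0x1d821c89) (.leaf 0x1a05dc93))) (.node (.node (.leaf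 0x1b805c93) (.leaf 0x1c479c8d)) (.node (.leaf 0x19401c91) (.leaf 0x0)))) (.node (.node (.node (.leaf 0x1a241c89) (.leaf 0x14011c91)) (.node (.leaf 0x173e1c91) (.leaf 0x1a601c89))) (.node (.node (.leaf 0x19e05c8b) (.leaf 0x1a505c91)) (.node (.leaf 0xd759c89) (.leaf 0x0)))))))) (.node (.node (.node (.node (.node (.node (.node (.leaf 0x16fe5c93) (.leaf 0x108f5c91)) (.node (.leaf 0x12a4dc91) (.leaf 0x1a085c91))) (.node (.node (.leaf 0x193c5c93) (.leaf 0x13605c8d)) (.node (.leaf 0x19499c91) (.leaf 0x203c5c91)))) (.node (.node (.node (.leaf 0x22c91c91) (.leaf 0x21a75c91)) (.node (.leaf 0x21f09c93) (.leaf 0x16ad5c89))) (.node (.node (.leaf 0x20325c93) (.leaf 0x10cd9c8d)) (.node (.leaf 0x1b40dc89) (.leaf 0x0))))) (.node (.node (.node (.node (.leaf 0x16a1dc89) (.leaf 0x1b2a5c8d)) (.node (.leaf 0x1a339c8b) (.leaf 0x19c71c89))) (.node (.node (.leaf 0x16a99c89) (.leaf 0xf965c89)) (.node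 (.leaf 0x1c3c9c8b) (.leaf 0x16675c8b)))) (.node (.node (.node (.leaf 0x14aa5c8b) (.leaf 0x19409c93)) (.node (.leaf 0x1916dc8d) (.leaf 0x1f9d1c93))) (.node (.node (.leaf 0x1eaf9c8d) (.leaf 0x158d1c93)) (.node (.leaf 0x1b021c8b) (.leaf 0x0)))))) (.node (.node (.node (.node (.node (.leaf 0x15761c8d) (.leaf 0x1f7a5c91)) (.node (.leaf 0x18429c8b) (.leaf 0x1f1f9c8d))) (.node (.node (.leaf 0x1d89dc91) (.leaf 0x1a639c8d)) (.node (.leaf 0x1388dc8d) (.leaf 0x1500dc8d)))) (.node (.node (.node (.leaf 0x1eb4dc89) (.leaf 0x1dbc5c8d)) (.node (.leaf 0x957dc91) (.leaf 0x18e55c91))) (.node (.node (.leaf 0x11a65c89) (.leaf 0x14b01c93)) (.node (.leaf 0x1c321c89) (.leaf 0x0))))) (.node (.node (.node (.node (.leaf 0x1993dc93) (.leaf 0x1efc9c8b)) (.node (.leaf 0x1c7f5c91) (.leaf 0x124d1c93))) (.node (.node (.leaf 0x16ff5c8d) (.leaf 0x19b29c8d)) (.node (.leaf 0x1c5f1c91) (.leaf 0x0)))) (.node (.node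 (.node (.leaf 0x1cc0dc89) (.leaf 0x1a3fdc93)) (.node (.leaf 0x1f1c1c91) (.leaf 0x1a0bdc91))) (.node (.node (.leaf 0x1765dc89) (.leaf 0x18da9c8b)) (.node (.leaf 0x1cefdc8b) (.leaf 0x0))))))) (.node (.node (.node (.node (.node (.node (.leaf 0x1c075c89) (.leaf 0x144c1c8b)) (.node (.leaf 0x1dc4dc8d) (.leaf 0x18e19c91))) (.node (.node (.leaf 0x17095c89) (.leaf 0x1ee1dc93)) (.node (.leaf 0x18545c91) (.leaf 0x1ee81c91)))) (.node (.node (.node (.leaf 0x162c5c93) (.leaf 0xe471c8b)) (.node (.leaf 0x1f2ddc8d) (.leaf 0x2067dc93))) (.node (.node (.leaf 0x1a1f5c93) (.leaf 0x1c3a9c8b)) (.node (.leaf 0x1a8e9c93) (.leaf 0x0))))) (.node (.node (.node (.node (.leaf 0x10ed9c93) (.leaf 0x2316dc89)) (.node (.leaf 0x1e60dc91) (.leaf 0x102fdc89))) (.node (.node (.leaf 0x1b345c8b) (.leaf 0x1e2e5c89)) (.node (.leaf 0x16bb5c8b) (.leaf 0x10e49c91)))) (.node (.node (.node (.leaf 0x146bdc91) (.leaf 0x19b21c93))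 (.node (.leaf 0x180a1c8d) (.leaf 0x1d581c89))) (.node (.node (.leaf 0x15a69c8b) (.leaf 0x15cf9c93)) (.node (.leaf 0x2220dc89) (.leaf 0x0)))))) (.node (.node (.node (.node (.node (.leaf 0x157a5c8d) (.leaf 0x12f9dc8b)) (.node (.leaf 0x1c671c91) (.leaf 0x1cdadc91))) (.node (.node (.leaf 0x170b9c89) (.leaf 0x21205c8d)) (.node (.leaf 0x1105dc91) (.leaf 0x14c91c89)))) (.node (.node (.node (.leaf 0x234b9c8d) (.leaf 0x199d9c8d)) (.node (.leaf 0x15971c8d) (.leaf 0x15a35c8d))) (.node (.node (.leaf 0x22615c8d) (.leaf 0x13735c93)) (.node (.leaf 0x1f2bdc8d) (.leaf 0x0))))) (.node (.node (.node (.node (.leaf 0x1dd99c91) (.leaf 0x188e1c89)) (.node (.leaf 0x1d741c89) (.leaf 0x19139c89))) (.node (.node (.leaf 0x1c6c1c8b) (.leaf 0x11a21c8d)) (.node (.leaf 0x186d5c91) (.leaf 0x0)))) (.node (.node (.node (.leaf 0x1d3d9c8b) (.leaf 0x124a9c93)) (.node (.leaf 0x113adc91) (.leaf 0x18295c89))) (.node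 (.node (.leaf 0x1ba4dc91) (.leaf 0x10a15c8d)) (.node (.leaf 0x1fa21c93) (.leaf 0x0))))))))) (.node (.node (.node (.node (.node (.node (.node (.node (.leaf 0x14011c89) (.leaf 0x1cd35c8d)) (.node (.leaf 0x16191c93) (.leaf 0x1b8c1c93))) (.node (.node (.leaf 0x1c81dc8d) (.leaf 0x204a5c93)) (.node (.leaf 0x16fa1c89) (.leaf 0x15a09c8d)))) (.node (.node (.node (.leaf 0x1d32dc91) (.leaf 0x14935c89)) (.node (.leaf 0x1df11c93) (.leaf 0x15c31c8b))) (.node (.node (.leaf 0x1c30dc93) (.leaf 0x20ff1c93)) (.node (.leaf 0x1d64dc89) (.leaf 0x0))))) (.node (.node (.node (.node (.leaf 0xefe9c93) (.leaf 0x18521c93)) (.node (.leaf 0x14611c8d) (.leaf 0x1ee1dc89))) (.node (.node (.leaf 0x163adc8d) (.leaf 0x19b85c8d)) (.node (.leaf 0xd54dc91) (.leaf 0x19a41c8d)))) (.node (.node (.node (.leaf 0x1b501c89) (.leaf 0x19191c89)) (.node (.leaf 0x9811c8b) (.leaf 0x102fdc8b))) (.node (.node (.leaf 0x1f78dc93)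 (.leaf 0x190b9c8b)) (.node (.leaf 0x1cf19c8b) (.leaf 0x0)))))) (.node (.node (.node (.node (.node (.leaf 0xea95c8b) (.leaf 0x136a1c89)) (.node (.leaf 0x1d64dc8b) (.leaf 0x11949c8d))) (.node (.node (.leaf 0x17b39c91) (.leaf 0x1c2c9c89)) (.node (.leaf 0x1c591c93) (.leaf 0x1ad39c89)))) (.node (.node (.node (.leaf 0x21189c89) (.leaf 0x15889c8d)) (.node (.leaf 0x1711dc93) (.leaf 0x1ccc9c89))) (.node (.node (.leaf 0x185d1c93) (.leaf 0x1baf5c8b)) (.node (.leaf 0x114b5c89) (.leaf 0x0))))) (.node (.node (.node (.node (.leaf 0x1b375c93) (.leaf 0x1c981c93)) (.node (.leaf 0x187d9c91) (.leaf 0x1a3d5c93))) (.node (.node (.leaf 0x1dc05c91) (.leaf 0x21f6dc93)) (.node (.leaf 0x1c5ddc91) (.leaf 0x16b51c93)))) (.node (.node (.node (.leaf 0x1ee21c93) (.leaf 0x15fe5c89)) (.node (.leaf 0x22cedc91) (.leaf 0x1f191c91))) (.node (.node (.leaf 0x1b905c8d) (.leaf 0x17acdc8b)) (.node (.leaf 0x11469c91) (.leaf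 0x0))))))) (.node (.node (.node (.node (.node (.node (.leaf 0x1e649c89) (.leaf 0x14935c91)) (.node (.leaf 0x15095c91) (.leaf 0x1d6fdc89))) (.node (.node (.leaf 0x130a1c89) (.leaf 0x18509c8b)) (.node (.leaf 0x1d1ddc8d) (.leaf 0x10cd9c8b)))) (.node (.node (.node (.leaf 0x1ec51c91) (.leaf 0x1ad51c89)) (.node (.leaf 0x1f2e9c8d) (.leaf 0x185a1c8d))) (.node (.node (.leaf 0x1cbedc91) (.leaf 0x18501c93)) (.node (.leaf 0x168ddc93) (.leaf 0x0))))) (.node (.node (.node (.node (.leaf 0x142cdc8d) (.leaf 0x19bb1c8d)) (.node (.leaf 0x19919c8b) (.leaf 0x10fe9c93))) (.node (.node (.leaf 0x1d559c91) (.leaf 0x19c39c91)) (.node (.leaf 0x136a1c8d) (.leaf 0x16765c93)))) (.node (.node (.node (.leaf 0x19b85c93) (.leaf 0x1ed79c8b)) (.node (.leaf 0x16c4dc93) (.leaf 0x1f1fdc8d))) (.node (.node (.leaf 0x1857dc93) (.leaf 0x1c79dc8b)) (.node (.leaf 0x1cd9dc91) (.leaf 0x0)))))) (.node (.node (.node (.node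 (.node (.leaf 0x17139c91) (.leaf 0x19a3dc8b)) (.node (.leaf 0x181a9c89) (.leaf 0x1ce65c91))) (.node (.node (.leaf 0x1f0c9c89) (.leaf 0x19319c89)) (.node (.leaf 0x19b61c8b) (.leaf 0x14719c91)))) (.node (.node (.node (.leaf 0x1dc01c89) (.leaf 0x1ce95c8b)) (.node (.leaf 0x1d855c93) (.leaf 0x1f961c91))) (.node (.node (.leaf 0x1b58dc8b) (.leaf 0x1d0c5c8b)) (.node (.leaf 0x192f1c8b) (.leaf 0x0))))) (.node (.node (.node (.node (.leaf 0x1acd9c89) (.leaf 0x13735c8b)) (.node (.leaf 0xc899c91) (.leaf 0x1a0bdc93))) (.node (.node (.leaf 0x1fafdc93) (.leaf 0x157cdc91)) (.node (.leaf 0x15a09c89) (.leaf 0x0)))) (.node (.node (.node (.leaf 0x18789c8d) (.leaf 0x1f569c8d)) (.node (.leaf 0x114f5c91) (.leaf 0x1c2f9c8b))) (.node (.node (.leaf 0x176fdc89) (.leaf 0x14265c89)) (.node (.leaf 0x1c721c93) (.leaf 0x0)))))))) (.node (.node (.node (.node (.node (.node (.node (.leaf 0x140c1c8b) (.leaf 0x13391c91))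 (.node (.leaf 0x16bcdc91) (.leaf 0x10a89c93))) (.node (.node (.leaf 0x1b519c8b) (.leaf 0x21fadc93)) (.node (.leaf 0x14641c93) (.leaf 0x13605c89)))) (.node (.node (.node (.leaf 0x1e67dc91) (.leaf 0x1d32dc89)) (.node (.leaf 0x1f269c91) (.leaf 0x1c349c8d))) (.node (.node (.leaf 0x11a95c8b) (.leaf 0x1d2bdc89)) (.node (.leaf 0x17259c8b) (.leaf 0x0))))) (.node (.node (.node (.node (.leaf 0x164f1c91) (.leaf 0x1563dc93)) (.node (.leaf 0x19d69c89) (.leaf 0x1dc01c91))) (.node (.node (.leaf 0x1e2a9c93) (.leaf 0x1c7f5c8b)) (.node (.leaf 0x113adc89) (.leaf 0x14935c93)))) (.node (.node (.node (.leaf 0x17775c91) (.leaf 0x1c4edc8b)) (.node (.leaf 0x1d671c8d) (.leaf 0x1a56dc91))) (.node (.node (.leaf 0x10ad1c89) (.leaf 0x1f471c91)) (.node (.leaf 0x2053dc93) (.leaf 0x0)))))) (.node (.node (.node (.node (.node (.leaf 0x21219c91) (.leaf 0xaec5c91)) (.node (.leaf 0x144c1c89) (.leaf 0x1c93dc93)))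 (.node (.node (.leaf 0x17331c8d) (.leaf 0x153bdc89)) (.node (.leaf 0x1a151c89) (.leaf 0x1b4f1c89)))) (.node (.node (.node (.leaf 0x1ac29c8d) (.leaf 0x16a01c8b)) (.node (.leaf 0x191e1c8d) (.leaf 0x1b1f1c8d))) (.node (.node (.leaf 0x11a2dc89) (.leaf 0x18ac5c8d)) (.node (.leaf 0x14331c89) (.leaf 0x0))))) (.node (.node (.node (.node (.leaf 0x1cd11c91) (.leaf 0x1af95c91)) (.node (.leaf 0x1c79dc91) (.leaf 0x1b3d1c93))) (.node (.node (.leaf 0x1a70dc91) (.leaf 0x1cd59c91)) (.node (.leaf 0x206a5c91) (.leaf 0x0)))) (.node (.node (.node (.leaf 0x1cc11c89) (.leaf 0x1e6bdc8b)) (.node (.leaf 0x1f5a9c91) (.leaf 0x1e8b9c8b))) (.node (.node (.leaf 0x12c01c8d) (.leaf 0x178adc93)) (.node (.leaf 0x1d961c8d) (.leaf 0x0))))))) (.node (.node (.node (.node (.node (.node (.leaf 0x1c049c89) (.leaf 0x19a3dc91)) (.node (.leaf 0x1c7adc91) (.leaf 0x15735c89))) (.node (.node (.leaf 0x1d3e5c91) (.leaf 0x18911c8d))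 (.node (.leaf 0x1d5c9c89) (.leaf 0x1993dc8d)))) (.node (.node (.node (.leaf 0x1ad4dc8d) (.leaf 0x19139c8d)) (.node (.leaf 0x14971c93) (.leaf 0x17989c8b))) (.node (.node (.leaf 0x13731c8b) (.leaf 0x1c48dc8b)) (.node (.leaf 0x1a4f5c8d) (.leaf 0x0))))) (.node (.node (.node (.node (.leaf 0x1105dc8b) (.leaf 0x18911c91)) (.node (.leaf 0x1ce65c93) (.leaf 0x14fc9c8d))) (.node (.node (.leaf 0x18bbdc93) (.leaf 0x1a2c1c89)) (.node (.leaf 0x19ac1c93) (.leaf 0x1b94dc91)))) (.node (.node (.node (.leaf 0x152d1c8d) (.leaf 0x11931c8d)) (.node (.leaf 0x163f1c89) (.leaf 0x18521c91))) (.node (.node (.leaf 0x16389c93) (.leaf 0x15695c91)) (.node (.leaf 0x1f1a5c8d) (.leaf 0x0)))))) (.node (.node (.node (.node (.node (.leaf 0x1b30dc89) (.leaf 0x18e35c89)) (.node (.leaf 0x1e8b9c89) (.leaf 0x13731c93))) (.node (.node (.leaf 0x957dc89) (.leaf 0x1f585c8b)) (.node (.leaf 0x15a5dc8d) (.leaf 0x1e541c93))))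 (.node (.node (.node (.leaf 0x1b5ddc91) (.leaf 0x152c9c93)) (.node (.leaf 0x211c9c8b) (.leaf 0x17305c93))) (.node (.node (.leaf 0x181f1c91) (.leaf 0x15085c89)) (.node (.leaf 0xd0e9c8d) (.leaf 0x0))))) (.node (.node (.node (.node (.leaf 0x1a52dc89) (.leaf 0x18e81c93)) (.node (.leaf 0x1c86dc91) (.leaf 0x19109c89))) (.node (.node (.leaf 0x18779c8b) (.leaf 0x19861c8d)) (.node (.leaf 0x19145c93) (.leaf 0x0)))) (.node (.node (.node (.leaf 0x1eaf1c91) (.leaf 0x186d1c93)) (.node (.leaf 0x1022dc89) (.leaf 0x1d039c93))) (.node (.node (.leaf 0x1d03dc89) (.leaf 0x1cd8dc91)) (.node (.leaf 0x16e61c89) (.leaf 0x0))))))))))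

/-- packed table -/
noncomputable def cov18_rrr : BTree := (.node (.node (.node (.node (.node (.node (.node (.node (.node (.leaf 0x1c98) (.leaf 0x124d9c93)) (.node (.leaf 0x1de8dc93) (.leaf 0x1f421c8d))) (.node (.node (.leaf 0x1a18dc93) (.leaf 0x12135c8b)) (.node (.leaf 0x171edc93) (.leaf 0x19b29c8b)))) (.node (.node (.node (.leaf 0x14821c89) (.leaf 0x1892dc89)) (.node (.leaf 0x1d111c89) (.leaf 0x1f31dc93))) (.node (.node (.leaf 0x14ca5c93) (.leaf 0x152c9c89)) (.node (.leaf 0x1734dc89) (.leaf 0x0))))) (.node (.node (.node (.node (.leaf 0x1750dc89) (.leaf 0x121e1c89)) (.node (.leaf 0x1b211c91) (.leaf 0x1db99c91))) (.node (.node (.leaf 0xefe9c8d) (.leaf 0x12b1dc93)) (.node (.leaf 0x1619dc89) (.leaf 0x1c6c1c93)))) (.node (.node (.node (.leaf 0x1f859c93) (.leaf 0x1c4c9c8d)) (.node (.leaf 0x18779c89) (.leaf 0x1b29dc8b))) (.node (.node (.leaf 0x181a9c91) (.leaf 0x1b4fdc8d)) (.node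 (.leaf 0x1a0e9c91) (.leaf 0x0)))))) (.node (.node (.node (.node (.node (.leaf 0x180a1c89) (.leaf 0x14831c93)) (.node (.leaf 0x171edc89) (.leaf 0x10145c93))) (.node (.node (.leaf 0xc9edc93) (.leaf 0xd0e9c89)) (.node (.leaf 0x1f371c91) (.leaf 0x18429c93)))) (.node (.node (.node (.leaf 0x19c41c8b) (.leaf 0x196adc93)) (.node (.leaf 0x1db71c8b) (.leaf 0x191f9c93))) (.node (.node (.leaf 0x1edc9c91) (.leaf 0x1f1f9c91)) (.node (.leaf 0x184cdc89) (.leaf 0x0))))) (.node (.node (.node (.node (.leaf 0x19d69c8b) (.leaf 0x19919c8d)) (.node (.leaf 0x1ddd5c89) (.leaf 0x1a5edc8b))) (.node (.node (.leaf 0x17259c8d) (.leaf 0xdd75c93)) (.node (.leaf 0x18f65c93) (.leaf 0x1419dc91)))) (.node (.node (.node (.leaf 0x1e8e1c89) (.leaf 0x1f531c93)) (.node (.leaf 0x170c1c8b) (.leaf 0x19f75c89))) (.node (.node (.leaf 0x1b985c8d) (.leaf 0x16f45c8b)) (.node (.leaf 0x1b29dc8d) (.leaf 0x0))))))) (.node (.node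 (.node (.node (.node (.node (.leaf 0x1c125c8b) (.leaf 0x15b75c8d)) (.node (.leaf 0x1b511c91) (.leaf 0x188e1c8b))) (.node (.node (.leaf 0x153bdc93) (.leaf 0x1a0b5c91)) (.node (.leaf 0x19861c89) (.leaf 0x1e2d5c93)))) (.node (.node (.node (.leaf 0x1988dc91) (.leaf 0x158d1c8d)) (.node (.leaf 0x1d1b5c8b) (.leaf 0x1c03dc91))) (.node (.node (.leaf 0x1f4a1c93) (.leaf 0x2179dc8b)) (.node (.leaf 0x1eaf1c93) (.leaf 0x0))))) (.node (.node (.node (.node (.leaf 0x14eb5c93) (.leaf 0x1a0c9c8d)) (.node (.leaf 0x214adc91) (.leaf 0x177c5c93))) (.node (.node (.leaf 0x1f8f5c91) (.leaf 0x19d89c93)) (.node (.leaf 0x1d0c1c91) (.leaf 0x21ee9c8d)))) (.node (.node (.node (.leaf 0x1c6b1c8d) (.leaf 0x1f699c89)) (.node (.leaf 0x16fcdc93) (.leaf 0x188c9c91))) (.node (.node (.leaf 0x13301c8b) (.leaf 0x1bb1dc91)) (.node (.leaf 0x1c93dc91) (.leaf 0x0)))))) (.node (.node (.node (.node (.node (.leaf 0x13151c91)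 (.leaf 0x109fdc91)) (.node (.leaf 0x23329c8b) (.leaf 0x11469c8b))) (.node (.node (.leaf 0x1af55c8d) (.leaf 0x153b5c89)) (.node (.leaf 0x17989c8d) (.leaf 0x1cb55c8d)))) (.node (.node (.node (.leaf 0x11e51c91) (.leaf 0x1c285c89)) (.node (.leaf 0x185e9c93) (.leaf 0x1e529c93))) (.node (.node (.leaf 0x18c59c8b) (.leaf 0x20541c8d)) (.node (.leaf 0x1eac9c91) (.leaf 0x0))))) (.node (.node (.node (.node (.leaf 0x1de1dc8b) (.leaf 0x14e6dc93)) (.node (.leaf 0x19551c89) (.leaf 0x15645c8d))) (.node (.node (.leaf 0x1a0bdc8d) (.leaf 0x17365c93)) (.node (.leaf 0x1c241c93) (.leaf 0x0)))) (.node (.node (.node (.leaf 0x187a5c8d) (.leaf 0x17529c8d)) (.node (.leaf 0x1c771c93) (.leaf 0x14c89c8d))) (.node (.node (.leaf 0x160a5c89) (.leaf 0xd5d5c8d)) (.node (.leaf 0x1e74dc8b) (.leaf 0x0)))))))) (.node (.node (.node (.node (.node (.node (.node (.leaf 0x196b1c8d) (.leaf 0x14cfdc8d)) (.node (.leaf 0xd021c8d)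 (.leaf 0x15175c93))) (.node (.node (.leaf 0x19911c91) (.leaf 0x189d5c8d)) (.node (.leaf 0x22c69c8d) (.leaf 0x15f2dc89)))) (.node (.node (.node (.leaf 0x1eca9c91) (.leaf 0x15a49c91)) (.node (.leaf 0x1d5f1c8b) (.leaf 0x18341c8d))) (.node (.node (.leaf 0x19bddc8b) (.leaf 0x15525c91)) (.node (.leaf 0x1eabdc93) (.leaf 0x0))))) (.node (.node (.node (.node (.leaf 0x1a4f5c91) (.leaf 0x19639c93)) (.node (.leaf 0x1c575c91) (.leaf 0x23ad9c8d))) (.node (.node (.leaf 0x14935c8d) (.leaf 0x19e39c91)) (.node (.leaf 0x135e5c89) (.leaf 0x1c865c8b)))) (.node (.node (.node (.leaf 0x189d9c8b) (.leaf 0x16d65c89)) (.node (.leaf 0x1f035c89) (.leaf 0x13161c8d))) (.node (.node (.leaf 0x1a5c1c89) (.leaf 0x11819c8b)) (.node (.leaf 0x1e0a1c8b) (.leaf 0x0)))))) (.node (.node (.node (.node (.node (.leaf 0x1d741c8d) (.leaf 0x9811c89)) (.node (.leaf 0x1ed59c93) (.leaf 0x14185c93))) (.node (.node (.leaf 0x1e31dc93)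 (.leaf 0x19a05c89)) (.node (.leaf 0x1a129c89) (.leaf 0x191fdc91)))) (.node (.node (.node (.leaf 0x19e81c91) (.leaf 0x19939c89)) (.node (.leaf 0x18ce9c8d) (.leaf 0x1a9d5c89))) (.node (.node (.leaf 0x16465c8d) (.leaf 0x1c505c8d)) (.node (.leaf 0x1a8e9c8d) (.leaf 0x0))))) (.node (.node (.node (.node (.leaf 0x19da5c8b) (.leaf 0x1ae75c91)) (.node (.leaf 0x1e591c93) (.leaf 0x19575c8d))) (.node (.node (.leaf 0x1e31dc91) (.leaf 0x1d361c89)) (.node (.leaf 0x19875c8d) (.leaf 0x0)))) (.node (.node (.node (.leaf 0x1c55dc91) (.leaf 0x1a661c8b)) (.node (.leaf 0x117a9c89) (.leaf 0x18b29c8d))) (.node (.node (.leaf 0x1d59dc93) (.leaf 0x18805c91)) (.node (.leaf 0x1892dc91) (.leaf 0x0))))))) (.node (.node (.node (.node (.node (.node (.leaf 0x1c05dc89) (.leaf 0x199edc93)) (.node (.leaf 0x1dab1c93) (.leaf 0x1a3d1c89))) (.node (.node (.leaf 0x13385c91) (.leaf 0x11a95c89)) (.node (.leaf 0x1acddc8d)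 (.leaf 0x1d8ddc89)))) (.node (.node (.node (.leaf 0x1ed0dc91) (.leaf 0x191e1c91)) (.node (.leaf 0xd7f9c8b) (.leaf 0x134e9c8d))) (.node (.node (.leaf 0x171d1c8b) (.leaf 0x179d5c93)) (.node (.leaf 0x1c551c93) (.leaf 0x0))))) (.node (.node (.node (.node (.leaf 0x1b2edc89) (.leaf 0x1de89c8d)) (.node (.leaf 0x186cdc8d) (.leaf 0x1b251c89))) (.node (.node (.leaf 0x1f601c8b) (.leaf 0x13391c93)) (.node (.leaf 0xd6f5c93) (.leaf 0x1ddb5c8b)))) (.node (.node (.node (.leaf 0x1f9d9c89) (.leaf 0x1a369c91)) (.node (.leaf 0x1d1d9c93) (.leaf 0x1824dc93))) (.node (.node (.leaf 0x130a1c8b) (.leaf 0x1a3d5c89)) (.node (.leaf 0x1a089c91) (.leaf 0x0)))))) (.node (.node (.node (.node (.node (.leaf 0x117b5c8d) (.leaf 0x11ac9c93)) (.node (.leaf 0x1b4fdc91) (.leaf 0x1e8a9c91))) (.node (.node (.leaf 0x11819c89) (.leaf 0x1a575c89)) (.node (.leaf 0x1750dc8d) (.leaf 0x1b3e5c8b)))) (.node (.node (.node (.leaf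 0x1b0fdc91) (.leaf 0x192d5c91)) (.node (.leaf 0x15aadc89) (.leaf 0x16a01c8d))) (.node (.node (.leaf 0x16191c8b) (.leaf 0x13301c89)) (.node (.leaf 0x1b8b9c8d) (.leaf 0x0))))) (.node (.node (.node (.node (.leaf 0x1dd7dc91) (.leaf 0x14e85c93)) (.node (.leaf 0x1c841c91) (.leaf 0x19181c93))) (.node (.node (.leaf 0xc68dc89) (.leaf 0x144fdc8b)) (.node (.leaf 0x14701c91) (.leaf 0x0)))) (.node (.node (.node (.leaf 0x19155c91) (.leaf 0x1e00dc89)) (.node (.leaf 0x108f5c89) (.leaf 0x19c65c8d))) (.node (.node (.leaf 0x19031c8b) (.leaf 0x10a3dc8d)) (.node (.leaf 0x19419c89) (.leaf 0x0))))))))) (.node (.node (.node (.node (.node (.node (.node (.node (.leaf 0x186d1c91) (.leaf 0x19badc8d)) (.node (.leaf 0x19f3dc91) (.leaf 0x1e579c8b))) (.node (.node (.leaf 0x1d3e5c93) (.leaf 0x15735c91)) (.node (.leaf 0x153b5c91) (.leaf 0x1ed59c8b)))) (.node (.node (.node (.leaf 0x22b5dc89) (.leaf 0x18501c8d))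 (.node (.leaf 0x15889c8b) (.leaf 0x13441c8d))) (.node (.node (.leaf 0x8329c93) (.leaf 0x1b9adc89)) (.node (.leaf 0x171edc8b) (.leaf 0x0))))) (.node (.node (.node (.node (.leaf 0x1b82dc89) (.leaf 0x1df5dc8b)) (.node (.leaf 0x18601c8d) (.leaf 0x1e8edc91))) (.node (.node (.leaf 0xd6f5c89) (.leaf 0x144c1c93)) (.node (.leaf 0x16efdc91) (.leaf 0x1efc5c89)))) (.node (.node (.node (.leaf 0x1f601c91) (.leaf 0x1f66dc8b)) (.node (.leaf 0x10cd9c89) (.leaf 0x1b821c8d))) (.node (.node (.leaf 0x161ddc8b) (.leaf 0x1f9e9c93)) (.node (.leaf 0x1a295c91) (.leaf 0x0)))))) (.node (.node (.node (.node (.node (.leaf 0x1f1e9c89) (.leaf 0x1b861c89)) (.node (.leaf 0x1abddc8d) (.leaf 0x1b3d1c91))) (.node (.node (.leaf 0x187a5c89) (.leaf 0x18f89c89)) (.node (.leaf 0x15f2dc8b) (.leaf 0x1ad39c8b)))) (.node (.node (.node (.leaf 0x1dd05c89) (.leaf 0x231adc8b)) (.node (.leaf 0x16f45c8d) (.leaf 0x1e89dc91))) (.node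 (.node (.leaf 0x1c5d9c93) (.leaf 0x1d7a1c93)) (.node (.leaf 0x1911dc8d) (.leaf 0x0))))) (.node (.node (.node (.node (.leaf 0x1b459c8d) (.leaf 0x1f1c1c89)) (.node (.leaf 0x1d325c8d) (.leaf 0x163c1c93))) (.node (.node (.leaf 0x1b8e1c89) (.leaf 0x1857dc91)) (.node (.leaf 0x19a59c8b) (.leaf 0x1ec25c89)))) (.node (.node (.node (.leaf 0x170c1c93) (.leaf 0x16401c93)) (.node (.leaf 0x13441c91) (.leaf 0x130a1c8d))) (.node (.node (.leaf 0x14611c93) (.leaf 0x15005c91)) (.node (.leaf 0x179bdc8b) (.leaf 0x0))))))) (.node (.node (.node (.node (.node (.node (.leaf 0x1f469c8b) (.leaf 0x14ca5c89)) (.node (.leaf 0x155e5c91) (.leaf 0x1bb09c93))) (.node (.node (.leaf 0xd54dc8d) (.leaf 0x152d1c89)) (.node (.leaf 0x19829c89) (.leaf 0x1cac9c93)))) (.node (.node (.node (.leaf 0x1c4c5c93) (.leaf 0x14059c93)) (.node (.leaf 0x1e891c91) (.leaf 0x1eb81c93))) (.node (.node (.leaf 0x15525c89) (.leaf 0x12611c89))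 (.node (.leaf 0x1b429c89) (.leaf 0x0))))) (.node (.node (.node (.node (.leaf 0x1829dc8d) (.leaf 0x179bdc93)) (.node (.leaf 0x1a5d5c93) (.leaf 0x19e39c89))) (.node (.node (.leaf 0x1a469c8b) (.leaf 0x1a085c8b)) (.node (.leaf 0x155b5c91) (.leaf 0x1e75dc93)))) (.node (.node (.node (.leaf 0x10691c8d) (.leaf 0x19b05c93)) (.node (.leaf 0x1c03dc8d) (.leaf 0x1c1e5c93))) (.node (.node (.leaf 0x1dba1c93) (.leaf 0x15749c93)) (.node (.leaf 0x1a5c1c8b) (.leaf 0x0)))))) (.node (.node (.node (.node (.node (.leaf 0x8e15c93) (.leaf 0x1da25c8b)) (.node (.leaf 0x1d489c8b) (.leaf 0x1c88dc93))) (.node (.node (.leaf 0x194a9c89) (.leaf 0x1ce21c91)) (.node (.leaf 0x1af55c8b) (.leaf 0x10b05c8d)))) (.node (.node (.node (.leaf 0x18a99c8d) (.leaf 0x1e4f9c89)) (.node (.leaf 0xd80dc8b) (.leaf 0x21201c93))) (.node (.node (.leaf 0x1f09dc91) (.leaf 0x1eba9c91)) (.node (.leaf 0x1b749c89) (.leaf 0x0))))) (.node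 (.node (.node (.node (.leaf 0x1ac7dc8d) (.leaf 0x1b345c91)) (.node (.leaf 0x113adc8d) (.leaf 0x14a85c8d))) (.node (.node (.leaf 0x1563dc8d) (.leaf 0x18519c93)) (.node (.leaf 0x1d61dc89) (.leaf 0x0)))) (.node (.node (.node (.leaf 0x1870dc8d) (.leaf 0x20741c93)) (.node (.leaf 0x18511c91) (.leaf 0x1a311c91))) (.node (.node (.leaf 0x23a51c89) (.leaf 0x1d4d1c93)) (.node (.leaf 0x12451c8d) (.leaf 0x0)))))))) (.node (.node (.node (.node (.node (.node (.node (.leaf 0x1d6e9c8d) (.leaf 0x10e41c8b)) (.node (.leaf 0x1762dc91) (.leaf 0x1459dc89))) (.node (.node (.leaf 0x1a085c89) (.leaf 0x1940dc89)) (.node (.leaf 0x18a01c93) (.leaf 0x1ad4dc8b)))) (.node (.node (.node (.leaf 0x19cadc89) (.leaf 0x1f7a1c8b)) (.node (.leaf 0x1889dc8d) (.leaf 0x23195c8b))) (.node (.node (.leaf 0x1aba5c8b) (.leaf 0x14821c91)) (.node (.leaf 0x1e671c89) (.leaf 0x0))))) (.node (.node (.node (.node (.leaf 0x19849c8d)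 (.leaf 0x1b7d9c89)) (.node (.leaf 0x1ced1c8b) (.leaf 0x1d3fdc8b))) (.node (.node (.leaf 0x190fdc8d) (.leaf 0x18f79c8d)) (.node (.leaf 0x1648dc93) (.leaf 0x1c6a1c93)))) (.node (.node (.node (.leaf 0x1cb8dc89) (.leaf 0x1b749c8b)) (.node (.leaf 0x167cdc93) (.leaf 0x1a331c91))) (.node (.node (.leaf 0x19b79c8b) (.leaf 0x1f51dc8d)) (.node (.leaf 0x1d0b1c8d) (.leaf 0x0)))))) (.node (.node (.node (.node (.node (.leaf 0x1a291c91) (.leaf 0x199d9c8b)) (.node (.leaf 0x18c55c8d) (.leaf 0x1a2bdc8b))) (.node (.node (.leaf 0x1f78dc91) (.leaf 0x1d349c89)) (.node (.leaf 0x12149c89) (.leaf 0x1f4f5c89)))) (.node (.node (.node (.leaf 0x14275c8b) (.leaf 0x1faf9c93)) (.node (.leaf 0x4f85c91) (.leaf 0x1f6edc8d))) (.node (.node (.leaf 0x12135c8d) (.leaf 0x1a83dc8b)) (.node (.leaf 0x1a469c8d) (.leaf 0x0))))) (.node (.node (.node (.node (.leaf 0x1d0c5c93) (.leaf 0x10e51c93)) (.node (.leaf 0x1c7b5c91) (.leaf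 0xaec5c89))) (.node (.node (.leaf 0x1bb2dc93) (.leaf 0x1f4adc91)) (.node (.leaf 0x18d61c89) (.leaf 0x0)))) (.node (.node (.node (.leaf 0x18779c8d) (.leaf 0x14cfdc8b)) (.node (.leaf 0x1b3e5c89) (.leaf 0x1cc51c8d))) (.node (.node (.leaf 0x155a9c93) (.leaf 0x18e55c8b)) (.node (.leaf 0x13185c8d) (.leaf 0x0))))))) (.node (.node (.node (.node (.node (.node (.leaf 0x1b6a9c91) (.leaf 0x19a41c91)) (.node (.leaf 0x15455c8b) (.leaf 0x179d5c8d))) (.node (.node (.leaf 0x1f085c89) (.leaf 0x17541c93)) (.node (.leaf 0x1d8c5c8d) (.leaf 0x1b879c91)))) (.node (.node (.node (.leaf 0x1291dc91) (.leaf 0x23ad9c93)) (.node (.leaf 0x11a99c89) (.leaf 0x15405c8b))) (.node (.node (.leaf 0x10bddc91) (.leaf 0x1c829c91)) (.node (.leaf 0x1b995c8b) (.leaf 0x0))))) (.node (.node (.node (.node (.leaf 0xf965c93) (.leaf 0x1c49dc91)) (.node (.leaf 0x18729c8d) (.leaf 0x10f81c89))) (.node (.node (.leaf 0x1fb19c8b)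 (.leaf 0x1dd79c93)) (.node (.leaf 0x1e6b1c91) (.leaf 0x1a09dc93)))) (.node (.node (.node (.leaf 0x1dbedc93) (.leaf 0x1b805c91)) (.node (.leaf 0x19701c8d) (.leaf 0x130e5c8d))) (.node (.node (.leaf 0x1a2c1c91) (.leaf 0x107fdc91)) (.node (.leaf 0x1b861c8b) (.leaf 0x0)))))) (.node (.node (.node (.node (.node (.leaf 0x12a4dc89) (.leaf 0x19575c93)) (.node (.leaf 0x15791c91) (.leaf 0x1864dc93))) (.node (.node (.leaf 0xf37dc8d) (.leaf 0x186d5c93)) (.node (.leaf 0xe16dc89) (.leaf 0x23729c8d)))) (.node (.node (.node (.leaf 0x1caedc8b) (.leaf 0x1c2c9c8b)) (.node (.leaf 0x1efc9c8d) (.leaf 0x1f405c93))) (.node (.node (.leaf 0x22b71c89) (.leaf 0x1f2e9c89)) (.node (.leaf 0x19419c91) (.leaf 0x0))))) (.node (.node (.node (.node (.leaf 0x1f7d5c93) (.leaf 0x14709c93)) (.node (.leaf 0x1a65dc91) (.leaf 0x1b3bdc93))) (.node (.node (.leaf 0x1ae75c8d) (.leaf 0x12825c93)) (.node (.leaf 0x14c91c93) (.leaf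 0x0)))) (.node (.node (.node (.leaf 0xf455c91) (.leaf 0x192c1c89)) (.node (.leaf 0x17aa9c91) (.leaf 0x19b29c89))) (.node (.node (.leaf 0x1d5c9c93) (.leaf 0x173e1c8d)) (.node (.leaf 0x1e8d9c8d) (.leaf 0x0))))))))))

/-- packed table -/
noncomputable def cov18 : BTree := (.node (.node (.node cov18_lll cov18_llr) (.node cov18_lrl cov18_lrr)) (.node (.node cov18_rll cov18_rlr) (.node cov18_rrl cov18_rrr)))

theorem cov18_ok : okCover 18 cov18 = true := by decide +kernel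

/-- straight-line program -/
def slp18 : List (Nat × Nat × Nat) :=
  [(0x2da9584a337b9a1301281aee23918a, 2, 2),
   (0x9beab822d7935c430a29650aa004e3, 2, 3),
   (0x52ed434d05889f025d8d3d5c048472, 2, 4),
   (0x9c68b2bd30b35c3a891261ae150087, 5, 4),
   (0x2a2d5545865bc47a01b3191d095c29, 4, 5),
   (0x33e70a4655b35c7b91090956062862, 7, 4),
   (0xa2ccab3235409f275e6d394800a470, 6, 4),
   (0x115f3bd526902d452c6e641a441c31, 9, 4),
   (0x54e572ae26409f51d18d3c1c148096, 9, 5),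
   (0x2a25751849dd76954e2199e16a608, 9, 6),
   (0xaca65359147b9a1801311dd671114c, 12, 6),
   (0x2322604cee52ee328454849f64552d, 11, 6),
   (0x72e962cd06889e3ac98d4914138217, 12, 6),
   (0x996e278e50482d16aeae619443a034, 15, 6),
   (0xbccaa93110889f67516d3986102495, 15, 7),
   (0xb9174a99ae4062502a0f3d85260d33, 15, 7),
   (0x1562b31657482d00cc6e651a74114f, 18, 7),
   (0x50e572558d1156131c13a46cf4c10e, 19, 5),
   (0x6966f35537902c18446e428476128b, 20, 5),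
   (0xa12b75c11668633128cf3b8121b125, 19, 5),
   (0xad08041d969dd71795421ba090b646, 20, 5),
   (0x820a6bc5729bc47505ac23876ad120, 22, 21),
   (0x244a6b22745bc49705ac82ab71c8e0, 22, 21),
   (0xada05a25eb8b9aab82481ccc221d81, 25, 21),
   (0x84aa6ba5f3439aaa06d122ca219d80, 25, 0),
   (0xb308eacd48a2ee30244793e11315a1, 25, 3),
   (0x9306e82d51bce840a447b3ea8299a0, 27, 0),
   (0x2bd75ba2d0935c7a0e2901a6162882, 28, 21),
   (0x358b05a5f48b9ac9864825ea718940, 30, 0),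
   (0x94c8e8b28552eed7a447b00d582061, 29, 6),
   (0xb2c6e432e654e8d7a447904b0ac480, 31, 0),
   (0xa4caa22db6889f035d883baa900643, 31, 27),
   (0x9d4c2515cf902d4bac696360821e21, 34, 0),
   (0x5c0a2519cfb0657a4c89636b119d00, 34, 0),
   (0x91e6e0d06f02ab0226e5b2171619a2, 34, 22),
   (0x8b2ad3cc3620a14521667a4b21ddc0, 37, 0),
   (0x34dc42b29152ee30044783e48b55a9, 36, 36),
   (0x751f221cb302ab00a6e3b2d0c8984d, 37, 0),
   (0x7956890c94080d64b6b08a9879bae2, 38, 0),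
   (0xb18a988553392ef43a149086cab560, 41, 0),
   (0x548d77a6b32d80869dc3a0a0b0c584, 42, 17),
   (0x146ebb221533c89731a1982853c86a, 43, 0),
   (0xbceaa8b2c672e4d79c49a04a41a200, 42, 0),
   (0x5a2f333d35935c480a366168050467, 44, 39),
   (0x532b472da6409f2b5e71390a102603, 44, 0),
   (0x10e13695d7482d17aeb2628c722281, 47, 0),
   (0x112ab699d4486487ce16628a71c6e0, 47, 0),
   (0xa24d75c8b1ad80c11dc35342f84d04, 49, 25),
   (0xba4b49d8c88482c11dc45340faae23, 49, 0),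
   (0x5a0d3abee9a44e3031aa1389681641, 51, 0),
   (0x9c4ab83e89ba0e40b1aa13872a9ac0, 51, 0),
   (0x41e0fb2813ad0b24b6e38accc23841, 51, 24),
   (0x89eaf9282b85cd64b68444cac1b840, 53, 0),
   (0x79a71b1077004b24b615429875ba82, 54, 14),
   (0xb5eb27a82b21cd143a904886c2b660, 56, 0),
   (0x12293946b02bc69731a0586e63d88a, 56, 13),
   (0xbb0b444cd622e0d79c41526ae1c640, 56, 0),
   (0x346c42b56a9bc40a850c851d790ce9, 57, 33),
   (0x74e3220940a2ee132587b15f54406d, 58, 0),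
   (0x7d26895c012aaa9734e38916665a02, 59, 0),
   (0xb4ea98ac8730a086b981928b71be80, 62, 0),
   (0xbacca1cdb2409f52d1913ba09082c4, 62, 29),
   (0x596e20d5d1482d034c7263688391ea, 64, 0),
   (0x299603c1b2411f4bd4311ba6962ac2, 65, 0),
   (0x35ca4651d14aad35c0f20b6a8189e0, 66, 0),
   (0x6ced1530d520a143a1617952395c0e, 67, 27),
   (0x755f210ef050293624a7b19018ac8d, 68, 0),
   (0x79968bc2b6004b43b4838b9899aa42, 67, 0),
   (0xb5ca95d20f21cd36394193468a8a20, 70, 0),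
   (0x5321774da5889f69516838cc00a6a4, 70, 24),
   (0x10e8b6d5c6902cf8cca9606e43a20a, 72, 0),
   (0x112f36c1c5b064f42cc9602833c6aa, 72, 0),
   (0xbcab4159e48a50b629cd384b01ccc0, 72, 0),
   (0x34af0ad90b7b9a02853124e8238d8a, 74, 72),
   (0xbc57483d25b35c431d125566060462, 76, 0),
   (0x5c8b3a59067b9aabb131142a419c20, 77, 0),
   (0x74496535659bc47a250c954c385c01, 76, 47),
   (0x72072536665bc47ba62cb40a4ad020, 78, 0),
   (0x846a6bbd33b35c7a11120acac02843, 80, 67),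
   (0xaa205a3d2b935c7b8e3604ccc0a844, 80, 0),
   (0x826869d9058b9ac5864f256e33880a, 82, 0),
   (0xb34aea45849bc475250b91ab01dc20, 81, 0),
   (0x325f0148772d80c991d50a9b48ace8, 84, 77),
   (0xba2d40442b33c83aa9b0389d391589, 85, 0),
   (0xab2250cd2a72e50300561ddf4410ed, 84, 0),
   (0x31e644d1a07a916706f18556564862, 85, 0),
   (0xbb2aa44dc4b092f69d72a40a61c420, 88, 0),
   (0x84ae69a6af2d80c111c30b551a2d07, 89, 87),
   (0xa4577aa21633c83029a13b8529952c, 90, 0),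
   (0x2cd55332d172e50080491bee8a11a7, 89, 0),
   (0x2500671e337a916486ed82eac2c843, 90, 0),
   (0x54c976b255b092f41d6ea160334401, 93, 0),
   (0x52c746b2d09092f89e6eb9aa42a020, 93, 0),
   (0xbbcd42a2d3935c3a9e2952e0c08044, 95, 64),
   (0x5daf3325f58b9a183248116833900a, 96, 0),
   (0x546b4735669bc49b1d0cb90b01c820, 95, 0),
   (0xa2277abd26935c329e365416160082, 97, 21),
   (0x9a6ab859178b9a13324f150a719140, 99, 0),
   (0xa34cab45959bc4971d0bb948384801, 98, 0),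
   (0xbb4aa921905bc4971e33a1864ad820, 100, 0),
   (0xb9a6a71115686364d20f394436480b, 100, 83),
   (0xaba807c98612671696cb192f03a02a, 101, 0),
   (0x83ae17d9851256869a5320e953c40a, 103, 0),
   (0xb3ea95c4e4bb54c13914940a61cc20, 103, 0),
   (0x20a466cc6aaacaf8c1800dec772289, 106, 94),
   (0x95d0e152003288b9d8e14d6237b0ad, 105, 0),
   (0x4558fb96c17024aa446969a7059c82, 106, 0),
   (0x8c18fa1a40706caba0896957599c62, 108, 0),
   (0x950769de2469de25a548718b0ab020, 110, 0),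
   (0x1dc2571d0b7aa324828dace0c35844, 110, 18),
   (0xace66b125b0a514126e85683bbc0a, 112, 0),
   (0x4a86e11da48dd1364a8fb18b0aac20, 111, 0),
   (0x75df619ccb0aa150268494e2c4144d, 113, 74),
   (0x6aecf0b2e538a902226a8d6434980e, 115, 0),
   (0x6ce4f0328638af51c56a442c44942e, 115, 0),
   (0x7563620e77601700c8a24d1ea418ed, 117, 0),
   (0x79a7194295385564a0976956063862, 116, 0),
   (0xb5eb28d27061c4f4254b718a41b420, 119, 0),
   (0x2a2433366a5bc418022caddd4b10e9, 119, 60),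
   (0x2311070a8052ee9b0667355e58c86d, 119, 0),
   (0x50d34682641156879eacbc2c69442e, 122, 0),
   (0x10513712aa018a9b32035d1f78c8ed, 123, 0),
   (0xba5947c8c00b88d89ed0515759a062, 122, 0),
   (0x5a073b46e43b54e931f4118b0aa420, 125, 0),
   (0xa3567b3c66020a975e355067064882, 126, 21),
   (0xbb66793c850c4c9751105017565862, 126, 0),
   (0x5baac8d9463cae86cd34110b01bc20, 128, 0),
   (0x2adc3332e854e8408047abed1941a9, 128, 90),
   (0x229f071eac050b2486e332e334584d, 128, 0),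
   (0x1a9f571e0c0dcd6482842cd0b8c84d, 130, 0),
   (0x8ad06b2833aeef4126a355259440e, 132, 0),
   (0xa556b2e43ce8f88d6a2c126b202e, 132, 0),
   (0x2023070d6a65676904a2351177a4ed, 134, 0),
   (0x906767c14039a9142497715955b462, 133, 0),
   (0x89eafb504465e724a14b698702b820, 136, 0),
   (0x741121917460675058c24ddea894ed, 136, 19),
   (0x7d988849453a6860c5d76d56099062, 136, 0),
   (0xb3c69a4446622773c9ab740a4aa820, 139, 0),
   (0x6ae48530b018ab73c66079924b502e, 139, 72),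
   (0x7162910cd40820b64aa4b5d0a7cced, 141, 0),
   (0x71909110b7006b365a039522a7aced, 141, 0),
   (0x7b98dbc8950a4d43c6d0416605a862, 141, 0),
   (0xb346e5c5503a2f3649f449aa428820, 144, 0),
   (0x6d6515004499567ba06c79ad04d02e, 145, 84),
   (0x742321100aa98ac5a423b5df444ced, 146, 0),
   (0x7551610c2a814cc9a404951f78aced, 146, 0),
   (0x79991bc120b11c7a3432415759a862, 146, 0),
   (0xb5c725d1047a9ac9b8f1498b0a8820, 149, 0),
   (0x4320d3ac1218ab7546657a4d6251c1, 149, 112),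
   (0x48e8e614910820b14aa6b22ef54da7, 151, 0),
   (0x492ee61868006b315a059468f52da7, 151, 0),
   (0x6caaf3ba0c0a4d4bc6c444cab02843, 151, 0),
   (0x74616636833a2f35c9ea4d4c520801, 154, 0),
   (0x722b2636e43c68b9d9ea4c0a618820, 154, 0),
   (0x60ecb880343148868ab09a9c793ee9, 154, 102),
   (0x61253404172987168a155a9c7b3e89, 156, 0),
   (0x3c9146243523a1315ec6501e38acad, 156, 0),
   (0x1a1853b52693ed4bd62e005709a882, 157, 0),
   (0x245863b525b3e57a410e082755a862, 159, 0),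
   (0x54877639067da2b9d12d392b028820, 161, 0),
   (0xa9960b0634411f27160d1dc4a624f3, 162, 146),
   (0x816619011788df671aad2504a624eb, 162, 0),
   (0xa1aa78912b906cf6de0e54c021a185, 164, 0),
   (0x2b8c39c9aa4262b156cf05037830e4, 163, 0),
   (0x336e1ac5c24a245041f624ceba0d8a, 166, 0),
   (0x2b680821c24c6c60d5f21acf3b918a, 166, 0),
   (0x33a64a25a0449f73c2d1095955a862, 168, 0),
   (0xbb6aa9a1c44c6cb651f23987028820, 169, 0),
   (0xac9453384f62664082cb1c6e83c1b4, 168, 152),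
   (0x84446bb4161a2aa391e50c969651d3, 171, 0),
   (0xaa045a34322460a38de605a6965dcb, 171, 0),
   (0x824069b8f154a82606d723ea81ada5, 173, 0),
   (0xb342ea3c73020b73a63592ccc82844, 172, 0),
   (0x9340ebbc8b0c4d43a510b4cacaa843, 174, 0),
   (0x8b88d5d9453caf3621347d4c380801, 176, 0),
   (0x4386d9c9463da8b645377c0a4a8820, 176, 0),
   (0xb22aea34cb24427bc9f0488132a983, 176, 88),
   (0x9460ebb4b31a007a59f54882b32984, 178, 0),
   (0x8ca8d5b8d50a48c9bed0400e5b886a, 180, 0),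
   (0x9466e2b6f03a143ad9f44918658022, 181, 0),
   (0x44e8f20ab61b010345656c8ee50537, 180, 0),
   (0x4d6765020f08c94bc8a67458d11d0b, 183, 0),
   (0x69a91006cb4c245aa08e7cce2b8d8a, 182, 0),
   (0x696e8082534d6c68446e7ace2a118a, 184, 0),
   (0x7196939235441f7a482db15809a862, 186, 0),
   (0x6dca862a504d2cb9c4ee79864a8820, 187, 0),
   (0x1a0c5945779bc49701acaaa14258e1, 187, 163),
   (0x831c444d55a2eed78447302c594469, 187, 0),
   (0xab1c38ad50bce8d7804728646b2089, 189, 0),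
   (0x80da1914545d66eb100c31e377a548, 191, 0),
   (0xb4049412e551a8f8c82770e755b40c, 190, 0),
   (0x7d0084a96615e76944ec686b02b883, 193, 0),
   (0xb4c89408b702eaf8c98371e1433541, 194, 0),
   (0x92c69888d40ce0f4598471eb72b540, 194, 0),
   (0x42a0d9ddc54d2cb644f278cd520801, 194, 0),
   (0x8aaad5d1c64de53620f6790b018820, 196, 0),
   (0x9aa0b2d12f71e5500af66349108d06, 198, 176),
   (0xa8a8534d166b2302016f1b95238537, 199, 0),
   (0x80266bd52f70e54510b60b45161d0b, 200, 0),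
   (0xb068ea99ab7c1050489148af338d8a, 199, 0),
   (0x902ee815b37d6260d86848a8b3918a, 201, 0),
   (0x8916da19d5b42573bc294026562862, 203, 0),
   (0x928ae9ddb07d22b658e8492a618820, 204, 0)]

/-- levels -/
def levels18 : List (Nat × List Nat) :=
  [(0, [206, 0, 1, 3, 4, 5, 6, 7, 8, 9, 10, 11, 12, 13, 14, 15, 16, 17, 18, 19, 20, 21, 22, 23]),
   (1, [206, 24, 25, 27, 29, 31, 33, 36, 38, 42, 45, 49, 53, 55, 57, 59, 63, 67, 71, 75]),
   (2, [206, 78, 80, 84, 89, 95, 98, 102, 106, 111, 114, 120, 126, 129, 137, 140]),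
   (8, [206, 145, 150, 156, 162, 170, 178, 188, 198]),
   (4, [206, 205])]

/-- stabilising facts -/
def gens18 : List Nat := [1826, 1827, 1828]

theorem chain18_ok : okChain 18 gens18 slp18 levels18 = true := by decide +kernel

theorem chain18_size : chainSize levels18 = 138240 := by decide +kernel

end CfsgLib.Spor.J4.Index
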