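import Cfsg.Agent.Lib.Spor.J4.Index.Check

/-!
Coverage and stabiliser of node 19 (generated).
-/

set_option autoImplicit false
set_option linter.all false

namespace CfsgLib.Spor.J4.Index

open CfsgLib.PresCert

/-- packed table -/
noncomputable def cov19_lll : BTree := (.node (.node (.node (.node (.node (.node (.node (.node (.node (.leaf 0x9425cb9) (.leaf 0x13781cc7)) (.node (.leaf 0x12609cbd) (.leaf 0x1086dcc7))) (.node (.node (.leaf 0x16b55cc5) (.leaf 0x175c5cc5)) (.node (.leaf 0x1085dca5) (.leaf 0xf1d9cbb)))) (.node (.node (.node (.leaf 0xcea5cc1) (.leaf 0x11af1cc7)) (.node (.leaf 0x9409ca5) (.leaf 0x1745dca5))) (.node (.node (.leaf 0x12d4dcc5) (.leaf 0x102c1cc5)) (.node (.leaf 0x12b4dcc3) (.leaf 0x0))))) (.node (.node (.node (.node (.leaf 0x10b05cc7) (.leaf 0x11af5ca9)) (.node (.leaf 0x1085dcb9) (.leaf 0xf8ddcc5))) (.node (.node (.leaf 0x11afdcc5) (.leaf 0x1057dcc3))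 (.node (.leaf 0xe211cc7) (.leaf 0x12a05cc3)))) (.node (.node (.node (.leaf 0x149b1cbd) (.leaf 0x12b49cb5)) (.node (.leaf 0x8741cc1) (.leaf 0x131fdca5))) (.node (.node (.leaf 0x134b5cbb) (.leaf 0x10ec9cc7)) (.node (.leaf 0x1666dca5) (.leaf 0x0)))))) (.node (.node (.node (.node (.node (.leaf 0x11509cc7) (.leaf 0x17579cad)) (.node (.leaf 0x10685cb9) (.leaf 0x111b1cc1))) (.node (.node (.leaf 0xe969cc7) (.leaf 0x101c1ca9)) (.node (.leaf 0x14585cc1) (.leaf 0xdd85cb5)))) (.node (.node (.node (.leaf 0xc2c5cb9) (.leaf 0x11ff9ca5)) (.node (.leaf 0x11f9dcc1) (.leaf 0x119d1cc1))) (.node (.node (.leaf 0x10b51cb9) (.leaf 0x11165cc1)) (.node (.leaf 0x10d65cc3) (.leaf 0x0))))) (.node (.node (.node (.node (.leaf 0x11635ca9) (.leaf 0xe519cad)) (.node (.leaf 0x138d1cc1) (.leaf 0xf4e5cad))) (.node (.node (.leaf 0x9409cbb) (.leaf 0x545dcb9)) (.node (.leaf 0xe3edcc5) (.leaf 0xce65cc5))))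 (.node (.node (.node (.leaf 0x10e05cad) (.leaf 0x11541cbd)) (.node (.leaf 0x11f39cbd) (.leaf 0x12d11cc3))) (.node (.node (.leaf 0x101a9cad) (.leaf 0x10109cc3)) (.node (.leaf 0xd519ca9) (.leaf 0x0))))))) (.node (.node (.node (.node (.node (.node (.leaf 0xf1d9cc1) (.leaf 0x12169cc5)) (.node (.leaf 0x10401cb9) (.leaf 0x813dcc3))) (.node (.node (.leaf 0x979dcb5) (.leaf 0x10599cc3)) (.node (.leaf 0x12831cb9) (.leaf 0x1394dcc1)))) (.node (.node (.node (.leaf 0x124bdcc7) (.leaf 0xc6a1cc7)) (.node (.leaf 0x17051cc1) (.leaf 0x12d4dcb9))) (.node (.node (.leaf 0x14ee9cbb) (.leaf 0x13589ca5)) (.node (.leaf 0xcad9ca5) (.leaf 0x0))))) (.node (.node (.node (.node (.leaf 0x1377dcc1) (.leaf 0x13451cb5)) (.node (.leaf 0x11751cad) (.leaf 0x12f2dcb9))) (.node (.node (.leaf 0xc429cad) (.leaf 0xe871ca5)) (.node (.leaf 0x11165cc5) (.leaf 0xe985cad)))) (.node (.node (.node (.leaf 0x8715cc7)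 (.leaf 0xa3d9cbd)) (.node (.leaf 0x10499cbb) (.leaf 0xe0e1cb5))) (.node (.node (.leaf 0x8e7dca5) (.leaf 0x10c8dcc7)) (.node (.leaf 0x11fa9ca5) (.leaf 0x0)))))) (.node (.node (.node (.node (.node (.leaf 0x10d21cc7) (.leaf 0x10f49cc7)) (.node (.leaf 0x10f31cb9) (.leaf 0x1244dcbd))) (.node (.node (.leaf 0x10ce9cc5) (.leaf 0xe5a5cc5)) (.node (.leaf 0xd7e9cc5) (.leaf 0x13939cc3)))) (.node (.node (.node (.leaf 0xeb29ca9) (.leaf 0xf929cc3)) (.node (.leaf 0x12919cb9) (.leaf 0x14d51cc3))) (.node (.node (.leaf 0x101b1cb5) (.leaf 0x1311dca5)) (.node (.leaf 0xf8e1cb5) (.leaf 0x0))))) (.node (.node (.node (.node (.leaf 0x15e15cc7) (.leaf 0xeba5cc3)) (.node (.leaf 0x11c0dca9) (.leaf 0x121a9cc5))) (.node (.node (.leaf 0x128d9cc1) (.leaf 0xe389cc3)) (.node (.leaf 0x11c99cbb) (.leaf 0x0)))) (.node (.node (.node (.leaf 0x1cd4) (.leaf 0x10f51cc7)) (.node (.leaf 0x943dca5) (.leaf 0xeaa5cb5)))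 (.node (.node (.leaf 0x175adcc7) (.leaf 0x13115cc1)) (.node (.leaf 0x102b1cc7) (.leaf 0x0)))))))) (.node (.node (.node (.node (.node (.node (.node (.leaf 0xf7bdcb9) (.leaf 0x11525cb9)) (.node (.leaf 0x110a9cc3) (.leaf 0xec8dcbb))) (.node (.node (.leaf 0x152adcb5) (.leaf 0x13681cc5)) (.node (.leaf 0x11319cb5) (.leaf 0xdde1cad)))) (.node (.node (.node (.leaf 0x11c51cad) (.leaf 0x899dcc1)) (.node (.leaf 0xe681cc7) (.leaf 0x6d91cbd))) (.node (.node (.leaf 0x11635ca5) (.leaf 0x11751cbb)) (.node (.leaf 0xeaa5cbd) (.leaf 0x0))))) (.node (.node (.node (.node (.leaf 0x16521cc1) (.leaf 0x1693dcbb)) (.node (.leaf 0xf081cb9) (.leaf 0x123b1cc3))) (.node (.node (.leaf 0x116a5cbd) (.leaf 0x11b9dcc3)) (.node (.leaf 0x10b51cc7) (.leaf 0xa385cb5)))) (.node (.node (.node (.leaf 0x11b09cc5) (.leaf 0xc591cc3)) (.node (.leaf 0xa191cbd) (.leaf 0x13a59cbd))) (.node (.node (.leaf 0xeb39ca9)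 (.leaf 0xedc5cb5)) (.node (.leaf 0x12d11cc1) (.leaf 0x0)))))) (.node (.node (.node (.node (.node (.leaf 0x943dcad) (.leaf 0x112e5ca9)) (.node (.leaf 0xdcb9cc3) (.leaf 0x14d51ca9))) (.node (.node (.leaf 0x12a21cbb) (.leaf 0x13a1dcb9)) (.node (.leaf 0x11b51cc7) (.leaf 0xedc5cc5)))) (.node (.node (.node (.leaf 0x11795cbd) (.leaf 0x123f1ca5)) (.node (.leaf 0xe745cc5) (.leaf 0x12045ca9))) (.node (.node (.leaf 0x139f9cc7) (.leaf 0x10d7dca9)) (.node (.leaf 0x13a1dcc1) (.leaf 0x0))))) (.node (.node (.node (.node (.leaf 0xf929cc5) (.leaf 0xd455cc7)) (.node (.leaf 0x10079cbd) (.leaf 0xd641cc1))) (.node (.node (.leaf 0x11a29cad) (.leaf 0x176d1cbd)) (.node (.leaf 0xc2d1cb9) (.leaf 0x16201cc5)))) (.node (.node (.node (.leaf 0x473dcb5) (.leaf 0xd519cc7)) (.node (.leaf 0x813dcc1) (.leaf 0x129e1cc5))) (.node (.node (.leaf 0xd4fdcc1) (.leaf 0x10be1cc3)) (.node (.leaf 0x9e2dcbb) (.leaf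 0x0))))))) (.node (.node (.node (.node (.node (.node (.leaf 0x16949cc1) (.leaf 0xe211ca5)) (.node (.leaf 0x100f5cb9) (.leaf 0x1057dcc7))) (.node (.node (.leaf 0x545dcc5) (.leaf 0x1040dcc5)) (.node (.leaf 0x128edcbd) (.leaf 0xa625cad)))) (.node (.node (.node (.leaf 0x10fadcb9) (.leaf 0x15205ca9)) (.node (.leaf 0xd21dcb9) (.leaf 0xdeadcc1))) (.node (.node (.leaf 0x107bdcc7) (.leaf 0x12d25cb5)) (.node (.leaf 0x11db9cb9) (.leaf 0x0))))) (.node (.node (.node (.node (.leaf 0xd70dca9) (.leaf 0x179b9cc7)) (.node (.leaf 0xeaa5cb9) (.leaf 0x11839cc1))) (.node (.node (.leaf 0x15089cad) (.leaf 0x13139cb5)) (.node (.leaf 0x119d1cad) (.leaf 0x9425cc3)))) (.node (.node (.node (.leaf 0x1164dca9) (.leaf 0x125d9ca5)) (.node (.leaf 0x11c99cb9) (.leaf 0x10a19cbd))) (.node (.node (.leaf 0x9409cc3) (.leaf 0x13341cb5)) (.node (.leaf 0x12ff9cb5) (.leaf 0x0)))))) (.node (.node (.node (.node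 (.node (.leaf 0xc721cc5) (.leaf 0x10f09cc3)) (.node (.leaf 0x116edcc7) (.leaf 0x12eb1cbb))) (.node (.node (.leaf 0xe465cc3) (.leaf 0xf76dcc5)) (.node (.leaf 0x13831cc5) (.leaf 0x102c1cc3)))) (.node (.node (.node (.leaf 0x11885cc5) (.leaf 0x9425cc1)) (.node (.leaf 0x173d9cc7) (.leaf 0xdec5cc1))) (.node (.node (.leaf 0x4781ca9) (.leaf 0x13a59cc5)) (.node (.leaf 0x14c0dcb9) (.leaf 0x0))))) (.node (.node (.node (.node (.leaf 0x10279ca9) (.leaf 0xa329cbb)) (.node (.leaf 0x1282dcbd) (.leaf 0xc595cc7))) (.node (.node (.leaf 0x10f25ca5) (.leaf 0xe7c5cc7)) (.node (.leaf 0x1357dcbd) (.leaf 0x0)))) (.node (.node (.node (.leaf 0x13675ca9) (.leaf 0xf075cc3)) (.node (.leaf 0x10d89cad) (.leaf 0x123b5cb5))) (.node (.node (.leaf 0xc4bdcb5) (.leaf 0x10bbdcc3)) (.node (.leaf 0x139e9cb5) (.leaf 0x0))))))))) (.node (.node (.node (.node (.node (.node (.node (.node (.leaf 0x13b0dcc5) (.leaf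 0xf8c1ca9)) (.node (.leaf 0xd741cc7) (.leaf 0x17429cb5))) (.node (.node (.leaf 0x111b9cad) (.leaf 0x120a9ca5)) (.node (.leaf 0x1531dcb5) (.leaf 0x10a09cc7)))) (.node (.node (.node (.leaf 0x10e85cc1) (.leaf 0x13529cb9)) (.node (.leaf 0x9425cb5) (.leaf 0xf1e1cb5))) (.node (.node (.leaf 0x11ef9cc7) (.leaf 0xfac5cb9)) (.node (.leaf 0x1049dca5) (.leaf 0x0))))) (.node (.node (.node (.node (.leaf 0xf929cbd) (.leaf 0x1232dcb9)) (.node (.leaf 0x10ecdcbd) (.leaf 0x13959ca9))) (.node (.node (.leaf 0xf6bdcbd) (.leaf 0xcf45cc7)) (.node (.leaf 0x14939ca5) (.leaf 0x13805ca5)))) (.node (.node (.node (.leaf 0xc661cc1) (.leaf 0xedc5cb9)) (.node (.leaf 0xe389cbd) (.leaf 0xe6d5cc1))) (.node (.node (.leaf 0xfac5cc5) (.leaf 0x15ba1cc7)) (.node (.leaf 0xdf4dcb9) (.leaf 0x0)))))) (.node (.node (.node (.node (.node (.leaf 0x11f9dcc3) (.leaf 0xeae1cb5)) (.node (.leaf 0x11385ca5) (.leaf 0x12301cbb)))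 (.node (.node (.leaf 0xe955cc7) (.leaf 0xf081cc7)) (.node (.leaf 0x11149cc7) (.leaf 0x8229cbd)))) (.node (.node (.node (.leaf 0x15515cb5) (.leaf 0x101adcc1)) (.node (.leaf 0x88c1ca5) (.leaf 0xd9a1cc1))) (.node (.node (.leaf 0xc4bdca5) (.leaf 0xc591cc7)) (.node (.leaf 0x12abdcbd) (.leaf 0x0))))) (.node (.node (.node (.node (.leaf 0x12649cc5) (.leaf 0xa3d9cb9)) (.node (.leaf 0x13201cbb) (.leaf 0x10599cc7))) (.node (.node (.leaf 0x13789cbd) (.leaf 0xcef9cc3)) (.node (.leaf 0xd2bdcc1) (.leaf 0xeb29cc3)))) (.node (.node (.node (.leaf 0x8719cad) (.leaf 0x11da9cc5)) (.node (.leaf 0x14a41ca9) (.leaf 0x1164dcc1))) (.node (.node (.leaf 0xefd5ca9) (.leaf 0x1323dcb5)) (.node (.leaf 0xa9e5ca9) (.leaf 0x0))))))) (.node (.node (.node (.node (.node (.node (.leaf 0x13681cc1) (.leaf 0x111a1cc7)) (.node (.leaf 0x10425cb5) (.leaf 0x13341cad))) (.node (.node (.leaf 0xd799cb5) (.leaf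 0x120f5cad)) (.node (.leaf 0x14929cad) (.leaf 0xa735ca9)))) (.node (.node (.node (.leaf 0xd4fdcad) (.leaf 0x138d5cb5)) (.node (.leaf 0x123b5cbd) (.leaf 0xe05dcbb))) (.node (.node (.leaf 0x10655cc7) (.leaf 0x1221dca9)) (.node (.leaf 0x12b1dcbd) (.leaf 0x0))))) (.node (.node (.node (.node (.leaf 0x138c5cbb) (.leaf 0x16659cbd)) (.node (.leaf 0x15b59cc1) (.leaf 0xdde1cc7))) (.node (.node (.leaf 0xeae1cc7) (.leaf 0xf979cad)) (.node (.leaf 0x11319cc7) (.leaf 0xdd85cad)))) (.node (.node (.node (.leaf 0x8229cc1) (.leaf 0xc735cc7)) (.node (.leaf 0x16ac1cb9) (.leaf 0xe441cad))) (.node (.node (.leaf 0x8719cbd) (.leaf 0x16505cc1)) (.node (.leaf 0x11da9cb9) (.leaf 0x0)))))) (.node (.node (.node (.node (.node (.leaf 0xc881cc7) (.leaf 0xa329ca5)) (.node (.leaf 0xc1b5ca5) (.leaf 0x1568dcb9))) (.node (.node (.leaf 0x17579ca9) (.leaf 0x119b5cbb)) (.node (.leaf 0x943dcc7) (.leaf 0xc661cbd))))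 (.node (.node (.node (.leaf 0x96ddcb9) (.leaf 0xa979cbd)) (.node (.leaf 0x126edcc1) (.leaf 0xa9e9cc3))) (.node (.node (.leaf 0x127adcb9) (.leaf 0x108b5cc3)) (.node (.leaf 0x12d11cb5) (.leaf 0x0))))) (.node (.node (.node (.node (.leaf 0x12f3dca9) (.leaf 0xebb9ca5)) (.node (.leaf 0x8e4dcad) (.leaf 0x15849cb9))) (.node (.node (.leaf 0x13ab1cc5) (.leaf 0xe37dcc1)) (.node (.leaf 0x102b9cbd) (.leaf 0x0)))) (.node (.node (.node (.leaf 0xf69dcc3) (.leaf 0xe051ca5)) (.node (.leaf 0x12831cbd) (.leaf 0xf8ddcbb))) (.node (.node (.leaf 0xab61cc7) (.leaf 0x1244dcbb)) (.node (.leaf 0x112cdcc7) (.leaf 0x0)))))))) (.node (.node (.node (.node (.node (.node (.node (.leaf 0xe7c5cc5) (.leaf 0xa979cb9)) (.node (.leaf 0x14545cc1) (.leaf 0x133c1ca5))) (.node (.node (.leaf 0x12ff9cc5) (.leaf 0xce65cc1)) (.node (.leaf 0xc735cc1) (.leaf 0xe711cc5)))) (.node (.node (.node (.leaf 0x15c55cad)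 (.leaf 0x138b9cc7)) (.node (.leaf 0x12325cc5) (.leaf 0x11165ca9))) (.node (.node (.leaf 0x13139cbd) (.leaf 0x10a09cc5)) (.node (.leaf 0x10addcbd) (.leaf 0x0))))) (.node (.node (.node (.node (.leaf 0x1112dcbd) (.leaf 0x13a1dcad)) (.node (.leaf 0xe179cb9) (.leaf 0x10bf9cc1))) (.node (.node (.leaf 0x1012dcc1) (.leaf 0xf739ca9)) (.node (.leaf 0xebb9cbd) (.leaf 0xe955cad)))) (.node (.node (.node (.leaf 0x979dcad) (.leaf 0xef59cc1)) (.node (.leaf 0xe681ca9) (.leaf 0x11009cbb))) (.node (.node (.leaf 0xd521cb9) (.leaf 0x1311dcc1)) (.node (.leaf 0x102b9cc7) (.leaf 0x0)))))) (.node (.node (.node (.node (.node (.leaf 0x1323dcc5) (.leaf 0x15b45cc5)) (.node (.leaf 0x107bdcc5) (.leaf 0x12eb1cbd))) (.node (.node (.leaf 0x6d91cc7) (.leaf 0xe179ca9)) (.node (.leaf 0x12dfdcb9) (.leaf 0xf67dcc3)))) (.node (.node (.node (.leaf 0x16df5cbb) (.leaf 0xe441cbb)) (.node (.leaf 0x1323dcbb)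 (.leaf 0x1042dcc7))) (.node (.node (.leaf 0x81bdcb5) (.leaf 0xc595cc5)) (.node (.leaf 0x12b49ca5) (.leaf 0x0))))) (.node (.node (.node (.node (.leaf 0x111b9cb9) (.leaf 0x12a45cbd)) (.node (.leaf 0x11d45cad) (.leaf 0xf081ca5))) (.node (.node (.leaf 0x10499cb5) (.leaf 0x6b91cc1)) (.node (.leaf 0x124bdcbb) (.leaf 0x0)))) (.node (.node (.node (.leaf 0x1106dcc3) (.leaf 0x116a9cc3)) (.node (.leaf 0x1164dcb9) (.leaf 0x12445cad))) (.node (.node (.leaf 0x10455cc5) (.leaf 0x12d21cb5)) (.node (.leaf 0xedc5cbd) (.leaf 0x0))))))) (.node (.node (.node (.node (.node (.node (.leaf 0x15651cb9) (.leaf 0x943dcc5)) (.node (.leaf 0xd1a9cbb) (.leaf 0x1456dcc1))) (.node (.node (.leaf 0x14a0dcc5) (.leaf 0x10425cc5)) (.node (.leaf 0x1344dcc7) (.leaf 0x8715cc1)))) (.node (.node (.node (.leaf 0xd521cc1) (.leaf 0x12515cb5)) (.node (.leaf 0x14119cc5) (.leaf 0x12efdca9))) (.node (.node (.leaf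 0x1163dcc7) (.leaf 0x13b3dcb9)) (.node (.leaf 0xc881cc1) (.leaf 0x0))))) (.node (.node (.node (.node (.leaf 0x127e5cb9) (.leaf 0x12115cc3)) (.node (.leaf 0xc141ca9) (.leaf 0x1015dcc3))) (.node (.node (.leaf 0x104f5cad) (.leaf 0xa52dcc7)) (.node (.leaf 0x15d91cc7) (.leaf 0x113d1ca9)))) (.node (.node (.node (.leaf 0x1015dcbb) (.leaf 0x12649cbd)) (.node (.leaf 0xd6f5ca9) (.leaf 0x12d21cc3))) (.node (.node (.leaf 0xd2bdcad) (.leaf 0x10aadcc7)) (.node (.leaf 0x122a5cad) (.leaf 0x0)))))) (.node (.node (.node (.node (.node (.leaf 0x11b41cbd) (.leaf 0xe955cbb)) (.node (.leaf 0x12a81cb9) (.leaf 0xa9e9ca9))) (.node (.node (.leaf 0x126a1ca9) (.leaf 0xf8ddcc1)) (.node (.leaf 0x13ae5cc5) (.leaf 0x16505cad)))) (.node (.node (.node (.leaf 0x109b9cb9) (.leaf 0xe6d5ca5)) (.node (.leaf 0x12eb1cc3) (.leaf 0xdf05cc3))) (.node (.node (.leaf 0x8dc9cc7) (.leaf 0x136b5ca9)) (.node (.leaf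 0xa52dcb9) (.leaf 0x0))))) (.node (.node (.node (.node (.leaf 0x11ca9cb5) (.leaf 0x11af5cc7)) (.node (.leaf 0x13ae5ca9) (.leaf 0x10625ca9))) (.node (.node (.leaf 0xd455ca9) (.leaf 0x13919cc3)) (.node (.leaf 0x11ef5cc5) (.leaf 0x0)))) (.node (.node (.node (.leaf 0x11171ca9) (.leaf 0x150d1cc3)) (.node (.leaf 0x11b05cc7) (.leaf 0x12719cb5))) (.node (.node (.leaf 0x1232dcc3) (.leaf 0xec8dcbd)) (.node (.leaf 0x13a15cb9) (.leaf 0x0))))))))))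

/-- packed table -/
noncomputable def cov19_llr : BTree := (.node (.node (.node (.node (.node (.node (.node (.node (.node (.leaf 0x13451cbb) (.leaf 0x13775cc7)) (.node (.leaf 0xf5d5cc5) (.leaf 0xf4e5cb9))) (.node (.node (.leaf 0x11459cc5) (.leaf 0x10ecdcc5)) (.node (.leaf 0x12021cc5) (.leaf 0xc9f9cc7)))) (.node (.node (.node (.leaf 0x11c49cc3) (.leaf 0x1176dcc5)) (.node (.leaf 0xc7f9ca9) (.leaf 0x12611cb5))) (.node (.node (.leaf 0x113e5cbd) (.leaf 0x12d4dcad)) (.node (.leaf 0x120fdcc3) (.leaf 0x0))))) (.node (.node (.node (.node (.leaf 0x15651ca9) (.leaf 0x979dcc3)) (.node (.leaf 0x16e6dca9) (.leaf 0x139d1ca9))) (.node (.node (.leaf 0x10d4dcb9) (.leaf 0xf079cc7)) (.node (.leaf 0x1311dcb9) (.leaf 0x11c99cc3)))) (.node (.node (.node (.leaf 0x111a1cb5) (.leaf 0xe765ca5)) (.node (.leaf 0x14f79cb5) (.leaf 0x120a9cb5))) (.node (.node (.leaf 0xd455cb9) (.leaf 0xd0edcc5))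 (.node (.leaf 0xc5ddcc1) (.leaf 0x0)))))) (.node (.node (.node (.node (.node (.leaf 0xed79cc5) (.leaf 0x12cb1cc5)) (.node (.leaf 0x115ddcb9) (.leaf 0xe5b1cb5))) (.node (.node (.leaf 0xd905cc1) (.leaf 0xa735ca5)) (.node (.leaf 0x10dfdcc5) (.leaf 0x12115cb5)))) (.node (.node (.node (.leaf 0x1152dcb5) (.leaf 0x101a9cc1)) (.node (.leaf 0x17579cc1) (.leaf 0x12f35cc5))) (.node (.node (.leaf 0x14a49ca5) (.leaf 0xcea5cc7)) (.node (.leaf 0x13341cbd) (.leaf 0x0))))) (.node (.node (.node (.node (.leaf 0xd9a1ca5) (.leaf 0x13231cad)) (.node (.leaf 0x10569cc7) (.leaf 0x11d6dcad))) (.node (.node (.leaf 0x139adcbb) (.leaf 0x165d5cad)) (.node (.leaf 0x102b9cad) (.leaf 0xe629cb5)))) (.node (.node (.node (.leaf 0x101d5cc7) (.leaf 0x943dcc1)) (.node (.leaf 0x1066dcb5) (.leaf 0x813dcbb))) (.node (.node (.leaf 0xc259cc5) (.leaf 0x126cdcb5)) (.node (.leaf 0xa979cbb) (.leaf 0x0))))))) (.node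 (.node (.node (.node (.node (.node (.leaf 0xc725cc3) (.leaf 0x17629cbd)) (.node (.leaf 0x1112dcc1) (.leaf 0x1600dcb9))) (.node (.node (.leaf 0x1176dcb5) (.leaf 0xe5b1cc5)) (.node (.leaf 0x1727dcbd) (.leaf 0x813dcbd)))) (.node (.node (.node (.leaf 0x12a21cb9) (.leaf 0xea31ca5)) (.node (.leaf 0x11e6dcc1) (.leaf 0x13959cbb))) (.node (.node (.leaf 0xcef9cbb) (.leaf 0xdefdcc7)) (.node (.leaf 0x14345cc5) (.leaf 0x0))))) (.node (.node (.node (.node (.leaf 0x15a55cc1) (.leaf 0xd421cc1)) (.node (.leaf 0x102c1cbd) (.leaf 0x12e75cc1))) (.node (.node (.leaf 0x10401ca5) (.leaf 0xd741cbb)) (.node (.leaf 0x1319dcc1) (.leaf 0x1076dcc7)))) (.node (.node (.node (.leaf 0x11339cbb) (.leaf 0xc231cc5)) (.node (.leaf 0x13341cbb) (.leaf 0xe441cb5))) (.node (.node (.leaf 0xc72dcbd) (.leaf 0x1032dcb9)) (.node (.leaf 0x15515cbb) (.leaf 0x0)))))) (.node (.node (.node (.node (.node (.leaf 0x11b05cc5)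 (.leaf 0x473dcc7)) (.node (.leaf 0x10079cc5) (.leaf 0x139ddca9))) (.node (.node (.leaf 0xcad9cbd) (.leaf 0x10ed1cc5)) (.node (.leaf 0x10e11cbd) (.leaf 0xed79cc3)))) (.node (.node (.node (.leaf 0x81bdcbb) (.leaf 0xa4c9cbb)) (.node (.leaf 0x11635cad) (.leaf 0x813dca9))) (.node (.node (.leaf 0x12a21cc1) (.leaf 0x1cd0)) (.node (.leaf 0x13a1dcc3) (.leaf 0x0))))) (.node (.node (.node (.node (.leaf 0x124c5cc7) (.leaf 0xa3a9ca9)) (.node (.leaf 0x13549cc5) (.leaf 0x1245dcb5))) (.node (.node (.leaf 0xd455cbd) (.leaf 0x1cce)) (.node (.leaf 0x12d61cc1) (.leaf 0x0)))) (.node (.node (.node (.leaf 0x10529cc5) (.leaf 0x10599ca9)) (.node (.leaf 0x11a79cc5) (.leaf 0x138d5cb9))) (.node (.node (.leaf 0xc4e5cb9) (.leaf 0xf53dcc7)) (.node (.leaf 0x112d1cc7) (.leaf 0x0)))))))) (.node (.node (.node (.node (.node (.node (.node (.leaf 0xe7b5cc5) (.leaf 0x979dcc5)) (.node (.leaf 0x116a5cc7)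 (.leaf 0x119b5ca9))) (.node (.node (.leaf 0x11f5dcc5) (.leaf 0x125d9cc5)) (.node (.leaf 0x138c9cc7) (.leaf 0x12719cad)))) (.node (.node (.node (.leaf 0xf69dcc5) (.leaf 0x138b5cc7)) (.node (.leaf 0x15199cc3) (.leaf 0xea31cad))) (.node (.node (.leaf 0xcf0dca9) (.leaf 0x129d5cb5)) (.node (.leaf 0xe175cbd) (.leaf 0x0))))) (.node (.node (.node (.node (.leaf 0x10ecdcc7) (.leaf 0x11c0dcc7)) (.node (.leaf 0x11ff5cbb) (.leaf 0x1199dca9))) (.node (.node (.leaf 0x9409ca9) (.leaf 0x12b49cad)) (.node (.leaf 0x11541cad) (.leaf 0x128d9cc3)))) (.node (.node (.node (.leaf 0x171f9cb9) (.leaf 0xd429cc1)) (.node (.leaf 0x113d1cc1) (.leaf 0x10d45ca9))) (.node (.node (.leaf 0x12b99cc5) (.leaf 0x126cdcbd)) (.node (.leaf 0x13b19ca9) (.leaf 0x0)))))) (.node (.node (.node (.node (.node (.leaf 0x15619ca9) (.leaf 0x12631ca5)) (.node (.leaf 0x10f09cc7) (.leaf 0x12f91ca5))) (.node (.node (.leaf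 0xdfadcc1) (.leaf 0xe591ca5)) (.node (.leaf 0x103a9cad) (.leaf 0x13231cc3)))) (.node (.node (.node (.leaf 0x101d5ca9) (.leaf 0x1546dcb9)) (.node (.leaf 0x11335cc7) (.leaf 0xc681cc3))) (.node (.node (.leaf 0x101c1cb5) (.leaf 0x12e39cc5)) (.node (.leaf 0x12ca9cc7) (.leaf 0x0))))) (.node (.node (.node (.node (.leaf 0x109b9cb5) (.leaf 0xa52dcbb)) (.node (.leaf 0x11f5dcc3) (.leaf 0xe591cc3))) (.node (.node (.leaf 0xc48dcb5) (.leaf 0x12b05cc7)) (.node (.leaf 0xc231cc3) (.leaf 0x0)))) (.node (.node (.node (.leaf 0x12009cb9) (.leaf 0x12e3dcc5)) (.node (.leaf 0xea31cc3) (.leaf 0xe0e1cc3))) (.node (.node (.leaf 0xc1b5cb9) (.leaf 0x13451cc3)) (.node (.leaf 0x16be5cc1) (.leaf 0x0))))))) (.node (.node (.node (.node (.node (.node (.leaf 0xf435cbd) (.leaf 0x11589cb9)) (.node (.leaf 0x111a1cbb) (.leaf 0x10569cc1))) (.node (.node (.leaf 0x1152dca5) (.leaf 0x12d25ca9)) (.node (.leaf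 0xe441cc5) (.leaf 0xc72dcc1)))) (.node (.node (.node (.leaf 0xf7e5cc7) (.leaf 0x10f99ca9)) (.node (.leaf 0xd015cad) (.leaf 0x12359cc7))) (.node (.node (.leaf 0x1012dcc7) (.leaf 0xf4e5cbb)) (.node (.leaf 0x123f1cc1) (.leaf 0x0))))) (.node (.node (.node (.node (.leaf 0x8e7dca9) (.leaf 0x17579cc3)) (.node (.leaf 0xe745cb9) (.leaf 0xe765cad))) (.node (.node (.leaf 0x11a79cb5) (.leaf 0x10ab5cc5)) (.node (.leaf 0x10531cb5) (.leaf 0x16941cb9)))) (.node (.node (.node (.leaf 0xef59cb9) (.leaf 0x120f5cc1)) (.node (.leaf 0x8961cbd) (.leaf 0x139ddca5))) (.node (.node (.leaf 0xd975ca9) (.leaf 0x119d1ca9)) (.node (.leaf 0x137a5cad) (.leaf 0x0)))))) (.node (.node (.node (.node (.node (.leaf 0xcf0dcad) (.leaf 0x10b05cc5)) (.node (.leaf 0x11339cb9) (.leaf 0xe1a1ca9))) (.node (.node (.leaf 0x1076dcc5) (.leaf 0x13779cc5)) (.node (.leaf 0xf8e1cc7) (.leaf 0xf53dcbb)))) (.node (.node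 (.node (.leaf 0xf4e5cc1) (.leaf 0xcf45cc5)) (.node (.leaf 0x14605cc5) (.leaf 0xf865cc5))) (.node (.node (.leaf 0x1cd8) (.leaf 0x158d5cc7)) (.node (.leaf 0x10221cc3) (.leaf 0x0))))) (.node (.node (.node (.node (.leaf 0x13991cb9) (.leaf 0xd9a1cbb)) (.node (.leaf 0xd601cc5) (.leaf 0x10f25ca9))) (.node (.node (.leaf 0x12d11ca9) (.leaf 0x1519dca9)) (.node (.leaf 0x11a01cc3) (.leaf 0x0)))) (.node (.node (.node (.leaf 0x10091cb5) (.leaf 0x11af5cbd)) (.node (.leaf 0x11885cc1) (.leaf 0x124bdcc3))) (.node (.node (.leaf 0x122ddcc7) (.leaf 0x14e15cc7)) (.node (.leaf 0x17381cb9) (.leaf 0x0))))))))) (.node (.node (.node (.node (.node (.node (.node (.node (.leaf 0x11119cad) (.leaf 0x11215cc5)) (.node (.leaf 0xd521cbd) (.leaf 0x14399cc7))) (.node (.node (.leaf 0x111a1cad) (.leaf 0xf929cad)) (.node (.leaf 0x11299cc1) (.leaf 0xe5c1cad)))) (.node (.node (.node (.leaf 0x10e91cc1) (.leaf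 0xe519cc5)) (.node (.leaf 0x10685cc1) (.leaf 0xa3d9cad))) (.node (.node (.leaf 0x134b5cbd) (.leaf 0x138c5cc5)) (.node (.leaf 0x104a9ca5) (.leaf 0x0))))) (.node (.node (.node (.node (.leaf 0x943dcb5) (.leaf 0x139ddcb5)) (.node (.leaf 0x14861ca9) (.leaf 0xc1b5cc5))) (.node (.node (.leaf 0x17481cc5) (.leaf 0x8741cc7)) (.node (.leaf 0x10d4dcc5) (.leaf 0xa385cb9)))) (.node (.node (.node (.leaf 0x14eb5cc1) (.leaf 0xd799cc3)) (.node (.leaf 0x14c39ca5) (.leaf 0xf595cbd))) (.node (.node (.leaf 0x13139cbb) (.leaf 0x139f5cc7)) (.node (.leaf 0x10f15cc1) (.leaf 0x0)))))) (.node (.node (.node (.node (.node (.leaf 0xf71dcb9) (.leaf 0x119a5cc3)) (.node (.leaf 0x12a3dcc1) (.leaf 0xd9a1ca9))) (.node (.node (.leaf 0x10e19ca9) (.leaf 0x10ed9cc5)) (.node (.leaf 0x11b41cc7) (.leaf 0x11ef5cc7)))) (.node (.node (.node (.leaf 0xc231cc7) (.leaf 0x150b9cc1)) (.node (.leaf 0x11a29cc1) (.leaf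 0x12919cb5))) (.node (.node (.leaf 0x1187dcc7) (.leaf 0xd275ca9)) (.node (.leaf 0x16c15cbd) (.leaf 0x0))))) (.node (.node (.node (.node (.leaf 0xd4fdcb9) (.leaf 0x10885cc5)) (.node (.leaf 0x10655cbd) (.leaf 0x10341cb9))) (.node (.node (.leaf 0x10655cc3) (.leaf 0x170f1cbb)) (.node (.leaf 0x10655cbb) (.leaf 0xf5a1cbd)))) (.node (.node (.node (.leaf 0xc71dca9) (.leaf 0x171f9cb5)) (.node (.leaf 0xab01cb9) (.leaf 0x13a59ca5))) (.node (.node (.leaf 0xc1cdcb9) (.leaf 0x13521cc7)) (.node (.leaf 0xe5c1ca9) (.leaf 0x0))))))) (.node (.node (.node (.node (.node (.node (.leaf 0x102f5cc3) (.leaf 0xd641cc3)) (.node (.leaf 0x1040dcb5) (.leaf 0x161c9cb5))) (.node (.node (.leaf 0x15205cc5) (.leaf 0x1199dcc1)) (.node (.leaf 0xcb69ca5) (.leaf 0x8e7dcc3)))) (.node (.node (.node (.leaf 0xab85cc7) (.leaf 0x8229cc5)) (.node (.leaf 0x8e4dcbb) (.leaf 0x10531cbb))) (.node (.node (.leaf 0xc2d1cc7)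 (.leaf 0xe765cc3)) (.node (.leaf 0x12445cb9) (.leaf 0x0))))) (.node (.node (.node (.node (.leaf 0xf8e1ca9) (.leaf 0xd6e9cc5)) (.node (.leaf 0xd741cad) (.leaf 0x11ff9cbb))) (.node (.node (.leaf 0x138b9cc3) (.leaf 0x108a1cc3)) (.node (.leaf 0x15161cc5) (.leaf 0xd429cc3)))) (.node (.node (.node (.leaf 0x10d89cb5) (.leaf 0xe441cb9)) (.node (.leaf 0xea31cb9) (.leaf 0x14cc1cc1))) (.node (.node (.leaf 0x13779cbb) (.leaf 0xdf4dcad)) (.node (.leaf 0x15651cc5) (.leaf 0x0)))))) (.node (.node (.node (.node (.node (.leaf 0xc71dcc5) (.leaf 0x12c29cbb)) (.node (.leaf 0xc1c5ca5) (.leaf 0xdfadcad))) (.node (.node (.leaf 0x10f09cb9) (.leaf 0x13781cc5)) (.node (.leaf 0x10159cbd) (.leaf 0x10ec5cbd)))) (.node (.node (.node (.leaf 0x15889cc5) (.leaf 0x8229ca9)) (.node (.leaf 0x11255cc7) (.leaf 0x10f69cc5))) (.node (.node (.leaf 0x159c5ca9) (.leaf 0x12405cad)) (.node (.leaf 0x13949cb5)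 (.leaf 0x0))))) (.node (.node (.node (.node (.leaf 0x11955cad) (.leaf 0xd781cc5)) (.node (.leaf 0xe985cc7) (.leaf 0x12b49cbd))) (.node (.node (.leaf 0x11585cb5) (.leaf 0xb439cb5)) (.node (.leaf 0x10fedcbd) (.leaf 0x0)))) (.node (.node (.node (.leaf 0xcb3dcc1) (.leaf 0xe05dcc1)) (.node (.leaf 0xf2ddcbd) (.leaf 0x11621cc7))) (.node (.node (.leaf 0x12b7dcc7) (.leaf 0x10e11cc7)) (.node (.leaf 0x11735cbd) (.leaf 0x0)))))))) (.node (.node (.node (.node (.node (.node (.node (.leaf 0x13935cbb) (.leaf 0xe955cc1)) (.node (.leaf 0x11c99cb5) (.leaf 0xb439cc7))) (.node (.node (.leaf 0x10e99ca9) (.leaf 0xa4c9cc1)) (.node (.leaf 0x14605ca9) (.leaf 0x159c5cc7)))) (.node (.node (.node (.leaf 0xdc3dcad) (.leaf 0x118c5cc7)) (.node (.leaf 0x1163dcc3) (.leaf 0x14545cb9))) (.node (.node (.leaf 0x16885ca9) (.leaf 0x10f25cc3)) (.node (.leaf 0xe911cb9) (.leaf 0x0))))) (.node (.node (.node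 (.node (.leaf 0x13781cc1) (.leaf 0x106a5cc7)) (.node (.leaf 0x1015dcb5) (.leaf 0x119a5ca9))) (.node (.node (.leaf 0x10401cad) (.leaf 0x12865ca5)) (.node (.leaf 0x1057dca9) (.leaf 0x12921cb5)))) (.node (.node (.node (.leaf 0x1176dcad) (.leaf 0x10c29cc7)) (.node (.leaf 0x88c1ca9) (.leaf 0xf5d5cb9))) (.node (.node (.leaf 0x118d1cc1) (.leaf 0x11ed9cbb)) (.node (.leaf 0xe441cbd) (.leaf 0x0)))))) (.node (.node (.node (.node (.node (.leaf 0x11751cb5) (.leaf 0xa3d9cc7)) (.node (.leaf 0xcf45cbd) (.leaf 0x13675cc5))) (.node (.node (.leaf 0x121a5cc5) (.leaf 0xc881ca9)) (.node (.leaf 0x12445cbb) (.leaf 0xc4e5ca9)))) (.node (.node (.node (.leaf 0x101c1cbb) (.leaf 0x11541cc3)) (.node (.leaf 0x115ddcb5) (.leaf 0x12831ca9))) (.node (.node (.leaf 0xc1cdcb5) (.leaf 0xe37dcc5)) (.node (.leaf 0x12b4dcc1) (.leaf 0x0))))) (.node (.node (.node (.node (.leaf 0x11e11cc7) (.leaf 0x113e5cc1))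 (.node (.leaf 0x11dd5cbb) (.leaf 0x10311ca9))) (.node (.node (.leaf 0x106d1ca9) (.leaf 0xdeadcad)) (.node (.leaf 0xa191cbb) (.leaf 0x0)))) (.node (.node (.node (.leaf 0x1026dcc5) (.leaf 0x15249cbd)) (.node (.leaf 0x122b5ca9) (.leaf 0x12775ca9))) (.node (.node (.leaf 0x13751cb9) (.leaf 0xe6d5cb5)) (.node (.leaf 0x11ffdcb5) (.leaf 0x0))))))) (.node (.node (.node (.node (.node (.node (.leaf 0x4349cb9) (.leaf 0xf765cc1)) (.node (.leaf 0x13115cbb) (.leaf 0x11b6dcc5))) (.node (.node (.leaf 0x10f91ca5) (.leaf 0x13751cb5)) (.node (.leaf 0x11e45cbd) (.leaf 0x102c1cc7)))) (.node (.node (.node (.leaf 0x11525cb5) (.leaf 0x10575cc3)) (.node (.leaf 0x1447dcad) (.leaf 0x126a1cad))) (.node (.node (.leaf 0x11a01cc1) (.leaf 0x12f7dcb9)) (.node (.leaf 0x10ab5ca9) (.leaf 0x0))))) (.node (.node (.node (.node (.leaf 0x13805ca9) (.leaf 0xf8ddcad)) (.node (.leaf 0x1283dcc1) (.leaf 0x116a9cc7)))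 (.node (.node (.leaf 0x10579ca9) (.leaf 0x1032dcc3)) (.node (.leaf 0xe145cbb) (.leaf 0xeb39cb5)))) (.node (.node (.node (.leaf 0x9e2dcc1) (.leaf 0x13529cbd)) (.node (.leaf 0x96ddca9) (.leaf 0x119a5cc7))) (.node (.node (.leaf 0x1514dcc5) (.leaf 0x13b19cc3)) (.node (.leaf 0x11589cbd) (.leaf 0x0)))))) (.node (.node (.node (.node (.node (.leaf 0x1230dca9) (.leaf 0xc1c5cc3)) (.node (.leaf 0x1520dcad) (.leaf 0xf4e5cbd))) (.node (.node (.leaf 0x10d71cbd) (.leaf 0x124c5cc1)) (.node (.leaf 0xf7d9cc7) (.leaf 0x17029ca9)))) (.node (.node (.node (.leaf 0xd1a9cb5) (.leaf 0x131c5cb9)) (.node (.leaf 0x108a1cc1) (.leaf 0x131f5ca5))) (.node (.node (.leaf 0x8dc5cc7) (.leaf 0x159b9ca9)) (.node (.leaf 0x13a15cc3) (.leaf 0x0))))) (.node (.node (.node (.node (.leaf 0x14f1dcc3) (.leaf 0xdaf9cc7)) (.node (.leaf 0x10b91ca9) (.leaf 0x10f51cc3))) (.node (.node (.leaf 0x16c31cc1) (.leaf 0xdf21cc5))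 (.node (.leaf 0xf71dcc5) (.leaf 0x0)))) (.node (.node (.node (.leaf 0x15581cc7) (.leaf 0x133adcad)) (.node (.leaf 0x10fadcc7) (.leaf 0x10c8dcc5))) (.node (.node (.leaf 0x12919cc7) (.leaf 0x12c99ca5)) (.node (.leaf 0x13779cc7) (.leaf 0x0))))))))))

/-- packed table -/
noncomputable def cov19_lrl : BTree := (.node (.node (.node (.node (.node (.node (.node (.node (.node (.leaf 0x15109cad) (.leaf 0xf785cc7)) (.node (.leaf 0xc661cc7) (.leaf 0x11af1cc5))) (.node (.node (.leaf 0xeb29cc5) (.leaf 0x14749ca9)) (.node (.leaf 0x1164dcbb) (.leaf 0x131f5cbb)))) (.node (.node (.node (.leaf 0xf785cc3) (.leaf 0x11b09cc7)) (.node (.leaf 0x4349cc7) (.leaf 0x10c91cc7))) (.node (.node (.leaf 0x16fcdcc5) (.leaf 0x111a1cc3)) (.node (.leaf 0x11385ca9) (.leaf 0x0))))) (.node (.node (.node (.node (.leaf 0x11ff9cc1) (.leaf 0x12c99ca9)) (.node (.leaf 0x12491cc3) (.leaf 0x138d1cc5))) (.node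 (.node (.leaf 0xc681ca9) (.leaf 0x12c29cc3)) (.node (.leaf 0x1282dcbb) (.leaf 0x13959ca5)))) (.node (.node (.node (.leaf 0xcbedcc7) (.leaf 0xd1a9cc3)) (.node (.leaf 0xe179cbd) (.leaf 0x13201ca5))) (.node (.node (.leaf 0x14705cad) (.leaf 0xf67dcc1)) (.node (.leaf 0xedd5cc7) (.leaf 0x0)))))) (.node (.node (.node (.node (.node (.leaf 0xcef9cb5) (.leaf 0x11f39cc5)) (.node (.leaf 0x104a9ca9) (.leaf 0xd1a9cc1))) (.node (.node (.leaf 0x10621cc7) (.leaf 0x111b9cc3)) (.node (.leaf 0x10501ca5) (.leaf 0x13019cc5)))) (.node (.node (.node (.leaf 0xf435cbb) (.leaf 0x11ca9cbd)) (.node (.leaf 0xc48dcc7) (.leaf 0x12d25ca5))) (.node (.node (.leaf 0x11165cc3) (.leaf 0x173ddcb5)) (.node (.leaf 0x1152dcbd) (.leaf 0x0))))) (.node (.node (.node (.node (.leaf 0xe5a5cbb) (.leaf 0x10ec5cc5)) (.node (.leaf 0x12d25cbd) (.leaf 0x139e9cbd))) (.node (.node (.leaf 0x13779cbd) (.leaf 0x10ec5cc1))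 (.node (.leaf 0xe175cbb) (.leaf 0xe985cbd)))) (.node (.node (.node (.leaf 0x1141dcc5) (.leaf 0x115adcc3)) (.node (.leaf 0x10249cc1) (.leaf 0xf1d9cbd))) (.node (.node (.leaf 0xc1cdcad) (.leaf 0x12971cc5)) (.node (.leaf 0xba39cbb) (.leaf 0x0))))))) (.node (.node (.node (.node (.node (.node (.leaf 0x11f0dcc3) (.leaf 0xe13dcc5)) (.node (.leaf 0x103e9cc5) (.leaf 0xa3a9cbb))) (.node (.node (.leaf 0xe3c1cc7) (.leaf 0x12445ca9)) (.node (.leaf 0x11b6dca9) (.leaf 0x125f5cc5)))) (.node (.node (.node (.leaf 0x126a1cc7) (.leaf 0x15f3dcb5)) (.node (.leaf 0x102b5cc5) (.leaf 0x14a49cc7))) (.node (.node (.leaf 0xcf0dcbb) (.leaf 0x16701cc5)) (.node (.leaf 0x160d5cc1) (.leaf 0x0))))) (.node (.node (.node (.node (.leaf 0x153d5cc1) (.leaf 0x14c0dcc5)) (.node (.leaf 0x12ec9ca9) (.leaf 0x170ddcad))) (.node (.node (.leaf 0x1040dcad) (.leaf 0x151b5cc3)) (.node (.leaf 0x15d91ca9) (.leaf 0xe235cbb))))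 (.node (.node (.node (.leaf 0x15779cad) (.leaf 0x139adcc3)) (.node (.leaf 0x11d45cc1) (.leaf 0x1049dcc3))) (.node (.node (.leaf 0xc725cbd) (.leaf 0x124c5cb9)) (.node (.leaf 0xedd5cbd) (.leaf 0x0)))))) (.node (.node (.node (.node (.node (.leaf 0x11735cb5) (.leaf 0x10341cc1)) (.node (.leaf 0x11c25cc1) (.leaf 0xe6d5cb9))) (.node (.node (.leaf 0x106a5cb9) (.leaf 0x139ddcad)) (.node (.leaf 0x10d71ca9) (.leaf 0xe211cc5)))) (.node (.node (.node (.leaf 0x101d5cbb) (.leaf 0xdf4dcc5)) (.node (.leaf 0xdcb9cc7) (.leaf 0xdf2dcc5))) (.node (.node (.leaf 0xea31cc1) (.leaf 0xcad9cc5)) (.node (.leaf 0x102b9cc1) (.leaf 0x0))))) (.node (.node (.node (.node (.leaf 0x120f5cbd) (.leaf 0x979dcb9)) (.node (.leaf 0x12491cb9) (.leaf 0x139ddcbd))) (.node (.node (.leaf 0x11585ca5) (.leaf 0x12395cc3)) (.node (.leaf 0x1284dcbb) (.leaf 0x0)))) (.node (.node (.node (.leaf 0xc5a1cc5) (.leaf 0xf711ca9))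 (.node (.leaf 0x125d1cc1) (.leaf 0xe745ca9))) (.node (.node (.leaf 0x109f5cc5) (.leaf 0x1184dca9)) (.node (.leaf 0x12d45cb9) (.leaf 0x0)))))))) (.node (.node (.node (.node (.node (.node (.node (.leaf 0xe235ca9) (.leaf 0xd6adcb9)) (.node (.leaf 0x10401cc5) (.leaf 0x12ca9cbb))) (.node (.node (.leaf 0xce65cbd) (.leaf 0x12009cb5)) (.node (.leaf 0x119b5cc1) (.leaf 0xc30dcc1)))) (.node (.node (.node (.leaf 0x138b5cbd) (.leaf 0x13529ca9)) (.node (.leaf 0xe591cc7) (.leaf 0xd7e9cc1))) (.node (.node (.leaf 0xd641ca5) (.leaf 0xf8c1cc5)) (.node (.leaf 0xdfedcc5) (.leaf 0x0))))) (.node (.node (.node (.node (.leaf 0xd455cb5) (.leaf 0x12445cc7)) (.node (.leaf 0x103e9cc1) (.leaf 0x11a29cbb))) (.node (.node (.leaf 0x113d1cc3) (.leaf 0xeb29cc1)) (.node (.leaf 0x13b49ca9) (.leaf 0xa385cbb)))) (.node (.node (.node (.leaf 0x111b1cc5) (.leaf 0xe175cc5)) (.node (.leaf 0x129b9cc5) (.leaf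 0x15a25cbb))) (.node (.node (.leaf 0xeb9dcc5) (.leaf 0xb439cc3)) (.node (.leaf 0x12e3dcc7) (.leaf 0x0)))))) (.node (.node (.node (.node (.node (.leaf 0x12fe1cc5) (.leaf 0xdf05cc1)) (.node (.leaf 0xd975cc3) (.leaf 0x11735ca9))) (.node (.node (.leaf 0xd30dcb9) (.leaf 0x116b1cb9)) (.node (.leaf 0x14c0dca5) (.leaf 0xc4e5cc3)))) (.node (.node (.node (.leaf 0x10cedcc7) (.leaf 0xe3edca5)) (.node (.leaf 0x14c0dcad) (.leaf 0xe05dcb9))) (.node (.node (.leaf 0xf8a1cc7) (.leaf 0xf6bdcc1)) (.node (.leaf 0x12491cbb) (.leaf 0x0))))) (.node (.node (.node (.node (.leaf 0x1cb0) (.leaf 0x123b1cb9)) (.node (.leaf 0x120adcc3) (.leaf 0x14c79cc7))) (.node (.node (.leaf 0x104a9cb5) (.leaf 0xc2c5cc5)) (.node (.leaf 0xdc3dcc1) (.leaf 0xf53dcbd)))) (.node (.node (.node (.leaf 0x10f31cc5) (.leaf 0x13a59cad)) (.node (.leaf 0x11b19cbd) (.leaf 0xe1a1cad))) (.node (.node (.leaf 0xc591cad) (.leaf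 0x12ca9cb9)) (.node (.leaf 0x11c99cc1) (.leaf 0x0))))))) (.node (.node (.node (.node (.node (.node (.leaf 0x102cdcc3) (.leaf 0x111b1cc3)) (.node (.leaf 0x111b9cbb) (.leaf 0x13b49cc7))) (.node (.node (.leaf 0x14f7dcc7) (.leaf 0x1042dcc5)) (.node (.leaf 0x10f69cc1) (.leaf 0xf8b1ca5)))) (.node (.node (.node (.leaf 0x8e4dcc5) (.leaf 0x545dca9)) (.node (.leaf 0xd059cbd) (.leaf 0x14be9cc3))) (.node (.node (.leaf 0xdf4dcc3) (.leaf 0x15ff1cbd)) (.node (.leaf 0x10409cc7) (.leaf 0x0))))) (.node (.node (.node (.node (.leaf 0xf76dcb9) (.leaf 0x13939cb5)) (.node (.leaf 0xdf8dcc5) (.leaf 0xf69dcc7))) (.node (.node (.leaf 0x16fc5cc3) (.leaf 0x15249cc1)) (.node (.leaf 0x12c49cc5) (.leaf 0xe441ca9)))) (.node (.node (.node (.leaf 0x10a79cc5) (.leaf 0xedd5cb9)) (.node (.leaf 0x1284dcb9) (.leaf 0x113d1cc5))) (.node (.node (.leaf 0xf8c1cb9) (.leaf 0xd6adcc5)) (.node (.leaf 0x13551cc5)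 (.leaf 0x0)))))) (.node (.node (.node (.node (.node (.leaf 0x10739cc5) (.leaf 0x1163dca9)) (.node (.leaf 0x14805cad) (.leaf 0x11751ca9))) (.node (.node (.leaf 0xcef9cb9) (.leaf 0xeae1cad)) (.node (.leaf 0x14af1cbd) (.leaf 0x10ec9cbd)))) (.node (.node (.node (.leaf 0x1076dcbd) (.leaf 0x10f51cc5)) (.node (.leaf 0x10cb1cad) (.leaf 0x10579cc7))) (.node (.node (.leaf 0x4781cc1) (.leaf 0x112cdcc5)) (.node (.leaf 0x10479cc3) (.leaf 0x0))))) (.node (.node (.node (.node (.leaf 0x13859cbd) (.leaf 0x121f1ca9)) (.node (.leaf 0x15675cb5) (.leaf 0x139d1cbd))) (.node (.node (.leaf 0x10f31ca5) (.leaf 0x10379cc7)) (.node (.leaf 0x122c5cc7) (.leaf 0x0)))) (.node (.node (.node (.leaf 0x13681ca9) (.leaf 0xf559cb5)) (.node (.leaf 0x14bcdcc3) (.leaf 0xf765cc7))) (.node (.node (.leaf 0xd419cbb) (.leaf 0x11b15cc5)) (.node (.leaf 0xfac5cad) (.leaf 0x0))))))))) (.node (.node (.node (.node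 (.node (.node (.node (.node (.leaf 0xe65dcc7) (.leaf 0x112cdcbd)) (.node (.leaf 0xc881cc5) (.leaf 0x13529cad))) (.node (.node (.leaf 0xcf0dca5) (.leaf 0x10519cc7)) (.node (.leaf 0xd059ca9) (.leaf 0x10ecdcc3)))) (.node (.node (.node (.leaf 0x8e7dcc1) (.leaf 0x16b15ca9)) (.node (.leaf 0x899dca9) (.leaf 0x103e9cc3))) (.node (.node (.leaf 0xd429cbd) (.leaf 0xf6cdcb5)) (.node (.leaf 0xcf0dcc3) (.leaf 0x0))))) (.node (.node (.node (.node (.leaf 0x545dcb5) (.leaf 0xe321cb9)) (.node (.leaf 0xe025cc7) (.leaf 0x12f3dca5))) (.node (.node (.leaf 0xd601cad) (.leaf 0x12395cc5)) (.node (.leaf 0xcd61cc5) (.leaf 0x11ff9cb5)))) (.node (.node (.node (.leaf 0xd741ca5) (.leaf 0xab01cc1)) (.node (.leaf 0x126a1cbd) (.leaf 0x13529cb5))) (.node (.node (.leaf 0x1451dcb9) (.leaf 0x1080dcc1)) (.node (.leaf 0x10d89cb9) (.leaf 0x0)))))) (.node (.node (.node (.node (.node (.leaf 0x13231cc5) (.leaf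 0x1477dcbd)) (.node (.leaf 0xcf0dcc7) (.leaf 0xf711cc1))) (.node (.node (.leaf 0x120f5cb9) (.leaf 0x112d1cbd)) (.node (.leaf 0x10d89cc5) (.leaf 0xa625cc5)))) (.node (.node (.node (.leaf 0xd421cbd) (.leaf 0x101b9cc1)) (.node (.leaf 0x104f5cb5) (.leaf 0xeaa5cc5))) (.node (.node (.leaf 0xee49cc7) (.leaf 0x11e25cc1)) (.node (.leaf 0x10159cbb) (.leaf 0x0))))) (.node (.node (.node (.node (.leaf 0x119b5ca5) (.leaf 0x545dcc7)) (.node (.leaf 0x1012dcbd) (.leaf 0x17429ca5))) (.node (.node (.leaf 0x1581dcc7) (.leaf 0xa191ca5)) (.node (.leaf 0x1012dcbb) (.leaf 0x12a49cb5)))) (.node (.node (.node (.leaf 0xc725cb5) (.leaf 0x109b9cc7)) (.node (.leaf 0xc681cb5) (.leaf 0x12515ca9))) (.node (.node (.leaf 0x101c1cb9) (.leaf 0x11af5cc5)) (.node (.leaf 0xf559cc5) (.leaf 0x0))))))) (.node (.node (.node (.node (.node (.node (.leaf 0x10e19cc1) (.leaf 0xe145cc5)) (.node (.leaf 0xc429cb5)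 (.leaf 0xe6d5ca9))) (.node (.node (.leaf 0x15779cb5) (.leaf 0x104a9cbd)) (.node (.leaf 0x11b69ca9) (.leaf 0x10b35cc7)))) (.node (.node (.node (.leaf 0xd799cc7) (.leaf 0x13a15cb5)) (.node (.leaf 0x11039cad) (.leaf 0x12dfdca5))) (.node (.node (.leaf 0x16639cb9) (.leaf 0xd6adcc3)) (.node (.leaf 0xd2bdcc7) (.leaf 0x0))))) (.node (.node (.node (.node (.leaf 0x9409cc1) (.leaf 0x13451cc1)) (.node (.leaf 0x111a1cc5) (.leaf 0x13521cb5))) (.node (.node (.leaf 0x15825cc3) (.leaf 0x13751cad)) (.node (.leaf 0x10825cc7) (.leaf 0x11acdcc1)))) (.node (.node (.node (.leaf 0xc429ca9) (.leaf 0x170cdcad)) (.node (.leaf 0xd799cb9) (.leaf 0xe3ddcb5))) (.node (.node (.leaf 0x9409cbd) (.leaf 0x1311dcb5)) (.node (.leaf 0x12691cbb) (.leaf 0x0)))))) (.node (.node (.node (.node (.node (.leaf 0xc72dcc5) (.leaf 0xd601cc1)) (.node (.leaf 0x81bdca5) (.leaf 0xe465ca9))) (.node (.node (.leaf 0xef59ca9)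 (.leaf 0x11b41cc5)) (.node (.leaf 0x138e5cc7) (.leaf 0x1184dcc5)))) (.node (.node (.node (.leaf 0x13959cc3) (.leaf 0xe01dcc3)) (.node (.leaf 0x1164dcad) (.leaf 0xf1e1cc3))) (.node (.node (.leaf 0x10d69cc3) (.leaf 0xe13dca9)) (.node (.leaf 0xe0e1cb9) (.leaf 0x0))))) (.node (.node (.node (.node (.leaf 0xd30dcbd) (.leaf 0x6d91cb5)) (.node (.leaf 0x10e3dcad) (.leaf 0x11751cc5))) (.node (.node (.leaf 0x13041cc7) (.leaf 0xe681cc3)) (.node (.leaf 0x12d4dcc1) (.leaf 0x0)))) (.node (.node (.node (.leaf 0xd0edcc1) (.leaf 0xe321cc3)) (.node (.leaf 0x120a9ca9) (.leaf 0x138e5cb9))) (.node (.node (.leaf 0xc4bdcbb) (.leaf 0x139ddcc7)) (.node (.leaf 0xe519cbd) (.leaf 0x0)))))))) (.node (.node (.node (.node (.node (.node (.node (.leaf 0xd521cbb) (.leaf 0xf6ddcbd)) (.node (.leaf 0x152b5cc5) (.leaf 0x15b11cc5))) (.node (.node (.leaf 0x13019cc3) (.leaf 0x10be1cc1)) (.node (.leaf 0x103c5cad)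 (.leaf 0x10dfdcc3)))) (.node (.node (.node (.leaf 0x10501cbd) (.leaf 0x12649ca9)) (.node (.leaf 0x1666dcbd) (.leaf 0x13751cc7))) (.node (.node (.leaf 0x10f15cbb) (.leaf 0x11b19cc5)) (.node (.leaf 0x11c41ca9) (.leaf 0x0))))) (.node (.node (.node (.node (.leaf 0x13789cc1) (.leaf 0x1128dcc3)) (.node (.leaf 0xc48dcbd) (.leaf 0x106d9cc1))) (.node (.node (.leaf 0xc2a9ca9) (.leaf 0x13a1dcbd)) (.node (.leaf 0x102c9cc5) (.leaf 0x15ff1cb5)))) (.node (.node (.node (.leaf 0xd781cad) (.leaf 0x13675cc3)) (.node (.leaf 0x116a5cc5) (.leaf 0xf7bdcc3))) (.node (.node (.leaf 0xebb9cc5) (.leaf 0xfac1cc5)) (.node (.leaf 0x13131cb5) (.leaf 0x0)))))) (.node (.node (.node (.node (.node (.leaf 0x11b49cbb) (.leaf 0xd455cc3)) (.node (.leaf 0x14f4dcb9) (.leaf 0x12d61cad))) (.node (.node (.leaf 0x13351cc5) (.leaf 0xb439cbb)) (.node (.leaf 0x1184dca5) (.leaf 0x16755cc1)))) (.node (.node (.node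 (.leaf 0xc9f9cb5) (.leaf 0x120a9cc3)) (.node (.leaf 0x1085dca9) (.leaf 0x12b05cc5))) (.node (.node (.leaf 0xc9f9cbb) (.leaf 0x112e1cc5)) (.node (.leaf 0x12b49cc1) (.leaf 0x0))))) (.node (.node (.node (.node (.leaf 0x13115ca9) (.leaf 0xdf41ca5)) (.node (.leaf 0x11459cb9) (.leaf 0x13129cad))) (.node (.node (.leaf 0x9425cc7) (.leaf 0xdefdca5)) (.node (.leaf 0xc681cbb) (.leaf 0x0)))) (.node (.node (.node (.leaf 0x102f5cb5) (.leaf 0x13131cad)) (.node (.leaf 0x119a5cc1) (.leaf 0x120f5cc3))) (.node (.node (.leaf 0xd601cb5) (.leaf 0x1701dcb5)) (.node (.leaf 0xdf21cc1) (.leaf 0x0))))))) (.node (.node (.node (.node (.node (.node (.leaf 0x1389dcc7) (.leaf 0x10fa9ca9)) (.node (.leaf 0x12a05ca9) (.leaf 0x11c51cc7))) (.node (.node (.leaf 0xa979cc7) (.leaf 0x10b91cc3)) (.node (.leaf 0x1484dcb9) (.leaf 0xc721cc1)))) (.node (.node (.node (.leaf 0x10f91cb9) (.leaf 0x14c0dcbb)) (.node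 (.leaf 0xc48dcad) (.leaf 0x15675cbb))) (.node (.node (.leaf 0xf711cbd) (.leaf 0x10471cc5)) (.node (.leaf 0xc6a1ca5) (.leaf 0x0))))) (.node (.node (.node (.node (.leaf 0xd671cad) (.leaf 0x148b9cc1)) (.node (.leaf 0x125f5cb9) (.leaf 0x1319dcc5))) (.node (.node (.leaf 0x12ca9cc3) (.leaf 0xf6cdcb9)) (.node (.leaf 0x11215cc1) (.leaf 0x13675ca5)))) (.node (.node (.node (.leaf 0x11b6dca5) (.leaf 0x11589cc3)) (.node (.leaf 0x80f1cc3) (.leaf 0x13201cc5))) (.node (.node (.leaf 0x101c1cad) (.leaf 0x170c5cb9)) (.node (.leaf 0x111b1ca9) (.leaf 0x0)))))) (.node (.node (.node (.node (.node (.leaf 0x14421cc5) (.leaf 0x10299cc5)) (.node (.leaf 0x10eadcc1) (.leaf 0xd741ca9))) (.node (.node (.leaf 0x1017dcc5) (.leaf 0x545dcbb)) (.node (.leaf 0xe7b5cc7) (.leaf 0xf6cdca5)))) (.node (.node (.node (.leaf 0x131c5cc3) (.leaf 0xdf2dcbd)) (.node (.leaf 0x14611cc5) (.leaf 0xdf21cc3))) (.node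 (.node (.leaf 0x8dc1cc7) (.leaf 0x12efdcb5)) (.node (.leaf 0x139fdcb5) (.leaf 0x0))))) (.node (.node (.node (.node (.leaf 0xc1cdca9) (.leaf 0x125d1cbb)) (.node (.leaf 0x16835cc5) (.leaf 0x1581dcc5))) (.node (.node (.leaf 0x1176dcc7) (.leaf 0x1199dcbb)) (.node (.leaf 0xd275cc5) (.leaf 0x0)))) (.node (.node (.node (.leaf 0x10e89cc5) (.leaf 0xf865cc3)) (.node (.leaf 0xa735cbd) (.leaf 0x14891cbb))) (.node (.node (.leaf 0x11ef9cc5) (.leaf 0x10addcc5)) (.node (.leaf 0x9e2dcc5) (.leaf 0x0))))))))))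

/-- packed table -/
noncomputable def cov19_lrr : BTree := (.node (.node (.node (.node (.node (.node (.node (.node (.node (.leaf 0x11795cbb) (.leaf 0x10f51cc1)) (.node (.leaf 0xb5ddcc5) (.leaf 0xd975cc5))) (.node (.node (.leaf 0xc9f9cb9) (.leaf 0x129c1cbd)) (.node (.leaf 0x13789cc7) (.leaf 0x106a9cc1)))) (.node (.node (.node (.leaf 0x10e89cc1) (.leaf 0xc5a1cc3)) (.node (.leaf 0x899dcc7) (.leaf 0xdf21cb5))) (.node (.node (.leaf 0x12c45cc1) (.leaf 0x179edcbb)) (.node (.leaf 0x12d21cb9) (.leaf 0x0))))) (.node (.node (.node (.node (.leaf 0xe5a5cbd) (.leaf 0x10b39cc7)) (.node (.leaf 0x12491cc1) (.leaf 0x12f2dca5))) (.node (.node (.leaf 0xf929cb9) (.leaf 0x13a1dcb5)) (.node (.leaf 0x116b1ca9) (.leaf 0x159b9cc1)))) (.node (.node (.node (.leaf 0x11b51cb9) (.leaf 0xfa4dca9)) (.node (.leaf 0x116a9cbd) (.leaf 0xeae1cbb))) (.node (.node (.leaf 0xd6adca5) (.leaf 0x148b9cb9))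 (.node (.leaf 0x123f1cbd) (.leaf 0x0)))))) (.node (.node (.node (.node (.node (.leaf 0x10f09cb5) (.leaf 0xa52dcc5)) (.node (.leaf 0xc48dca9) (.leaf 0x12d6dca5))) (.node (.node (.leaf 0xc4ddcad) (.leaf 0xc1cdcc3)) (.node (.leaf 0x12699cc3) (.leaf 0xdf05cad)))) (.node (.node (.node (.leaf 0xd1a9cc7) (.leaf 0x81bdcc1)) (.node (.leaf 0xa735cb9) (.leaf 0x12c49cad))) (.node (.node (.leaf 0xe1f5cc7) (.leaf 0x11da9cc7)) (.node (.leaf 0x1357dcc1) (.leaf 0x0))))) (.node (.node (.node (.node (.leaf 0x119a5ca5) (.leaf 0x11da9ca5)) (.node (.leaf 0xd6adcc1) (.leaf 0xe765cb5))) (.node (.node (.leaf 0x118d1cad) (.leaf 0x1244dcc1)) (.node (.leaf 0xc2c5cad) (.leaf 0xe051cad)))) (.node (.node (.node (.leaf 0x473dcb9) (.leaf 0xd455cc1)) (.node (.leaf 0x12f91cc1) (.leaf 0x11ff5cb5))) (.node (.node (.leaf 0x101b1cad) (.leaf 0x106d1cbd)) (.node (.leaf 0xc881cc3) (.leaf 0x0))))))) (.node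 (.node (.node (.node (.node (.node (.leaf 0x10499cc3) (.leaf 0x14ce1ca9)) (.node (.leaf 0x10401cb5) (.leaf 0x172e1cc5))) (.node (.node (.leaf 0x1519dcc3) (.leaf 0x13861cad)) (.node (.leaf 0x12641cc5) (.leaf 0x11f39cad)))) (.node (.node (.node (.leaf 0xec8dcc3) (.leaf 0xf7bdcc5)) (.node (.leaf 0x10625cb5) (.leaf 0xf595cb9))) (.node (.node (.leaf 0x149adcad) (.leaf 0xe0e1cc5)) (.node (.leaf 0xc721cc7) (.leaf 0x0))))) (.node (.node (.node (.node (.leaf 0xf785cb9) (.leaf 0x1176dcb9)) (.node (.leaf 0xe595cc7) (.leaf 0x11535cc1))) (.node (.node (.leaf 0x1040dca5) (.leaf 0x11585cb9)) (.node (.leaf 0x1232dca9) (.leaf 0x11535cc3)))) (.node (.node (.node (.leaf 0xe871cbb) (.leaf 0xe519cb5)) (.node (.leaf 0x11b6dcad) (.leaf 0xd0edcc3))) (.node (.node (.leaf 0xc721cbd) (.leaf 0x14b09cc7)) (.node (.leaf 0x11fb5ca5) (.leaf 0x0)))))) (.node (.node (.node (.node (.node (.leaf 0x15191cc3)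 (.leaf 0x10579cc5)) (.node (.leaf 0x101a9ca5) (.leaf 0x12b1dca9))) (.node (.node (.leaf 0xdc75cc7) (.leaf 0x162d5ca5)) (.node (.leaf 0x12115cbb) (.leaf 0x13019ca9)))) (.node (.node (.node (.leaf 0xc1b5cbb) (.leaf 0xba39cb5)) (.node (.leaf 0xe765cb9) (.leaf 0xb5a5ca9))) (.node (.node (.leaf 0x106a9cb5) (.leaf 0xe629cc1)) (.node (.leaf 0x11ffdcad) (.leaf 0x0))))) (.node (.node (.node (.node (.leaf 0x103e9cbd) (.leaf 0xe211cb5)) (.node (.leaf 0x11621cc5) (.leaf 0x121f1cb5))) (.node (.node (.leaf 0x12d11cbd) (.leaf 0xe37dca5)) (.node (.leaf 0x1418dcc5) (.leaf 0x0)))) (.node (.node (.node (.leaf 0xee2dcc7) (.leaf 0xf891ca9)) (.node (.leaf 0x8719cc7) (.leaf 0x138e5ca5))) (.node (.node (.leaf 0xc4e5cb5) (.leaf 0xe6d5cad)) (.node (.leaf 0x1176dcbd) (.leaf 0x0)))))))) (.node (.node (.node (.node (.node (.node (.node (.leaf 0xd059cc3) (.leaf 0xba39cb9)) (.node (.leaf 0x88c1cad)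 (.leaf 0x136fdcbd))) (.node (.node (.leaf 0x1418dcad) (.leaf 0x12115ca9)) (.node (.leaf 0x10159cc1) (.leaf 0xe389cad)))) (.node (.node (.node (.leaf 0xf8c1cbd) (.leaf 0x11e21ca5)) (.node (.leaf 0xd799ca5) (.leaf 0xf7e5cc3))) (.node (.node (.leaf 0x1164dcb5) (.leaf 0x131f5cc5)) (.node (.leaf 0x1566dcbd) (.leaf 0x0))))) (.node (.node (.node (.node (.leaf 0x9425cc5) (.leaf 0x10bf9cc5)) (.node (.leaf 0x10069ca9) (.leaf 0x13319cc7))) (.node (.node (.leaf 0x1107dca5) (.leaf 0x131fdca9)) (.node (.leaf 0xcad9cb5) (.leaf 0xf53dcb9)))) (.node (.node (.node (.leaf 0x10135ca5) (.leaf 0x13139cc1)) (.node (.leaf 0x10c5dca5) (.leaf 0xd015cbb))) (.node (.node (.leaf 0xd671cb9) (.leaf 0x16199cb5)) (.node (.leaf 0xc48dcc3) (.leaf 0x0)))))) (.node (.node (.node (.node (.node (.leaf 0xc681ca5) (.leaf 0x136fdca9)) (.node (.leaf 0xcef9cc7) (.leaf 0x1283dcc7))) (.node (.node (.leaf 0x1283dcb9)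 (.leaf 0xe595ca5)) (.node (.leaf 0xdf41cc3) (.leaf 0xc591cc5)))) (.node (.node (.node (.leaf 0x11d81cc7) (.leaf 0x11c25cc3)) (.node (.leaf 0x15989cbd) (.leaf 0x979dcc1))) (.node (.node (.leaf 0x149e1cbd) (.leaf 0x122b5cb5)) (.node (.leaf 0xeb39ca5) (.leaf 0x0))))) (.node (.node (.node (.node (.leaf 0x130b5ca9) (.leaf 0xdf2dca5)) (.node (.leaf 0x123d1cbd) (.leaf 0xe595cc3))) (.node (.node (.leaf 0x17051cc3) (.leaf 0x15d65cc3)) (.node (.leaf 0x12919cbd) (.leaf 0x0)))) (.node (.node (.node (.leaf 0x113d9cad) (.leaf 0x123f1cad)) (.node (.leaf 0x102b1cc5) (.leaf 0xa329cc7))) (.node (.node (.leaf 0xf7e5cbd) (.leaf 0xa191cb5)) (.node (.leaf 0x16ac1cc1) (.leaf 0x0))))))) (.node (.node (.node (.node (.node (.node (.leaf 0x1063dcad) (.leaf 0xe051cb9)) (.node (.leaf 0x106f5cc1) (.leaf 0x11c65cc7))) (.node (.node (.leaf 0x1514dcc7) (.leaf 0xc429cc5)) (.node (.leaf 0x11d81cc1)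 (.leaf 0x10729cc1)))) (.node (.node (.node (.leaf 0xd671cc1) (.leaf 0x13861cb5)) (.node (.leaf 0x10499cc7) (.leaf 0xeae1cbd))) (.node (.node (.leaf 0x15b29cbd) (.leaf 0x12169cb5)) (.node (.leaf 0x12775cc5) (.leaf 0x0))))) (.node (.node (.node (.node (.leaf 0x16bd9cbb) (.leaf 0x122ddca9)) (.node (.leaf 0x10091cb9) (.leaf 0x11d6dcb5))) (.node (.node (.leaf 0xa3d9cc5) (.leaf 0xc30dcc3)) (.node (.leaf 0x12589cc3) (.leaf 0x110a5cc5)))) (.node (.node (.node (.leaf 0xed79cb9) (.leaf 0x125e9ca5)) (.node (.leaf 0xdf25cc5) (.leaf 0x115adcc7))) (.node (.node (.leaf 0xd781ca9) (.leaf 0x10e89cc7)) (.node (.leaf 0xe0e1ca5) (.leaf 0x0)))))) (.node (.node (.node (.node (.node (.leaf 0x10731cc5) (.leaf 0xc06dcc1)) (.node (.leaf 0xe871cb9) (.leaf 0xa4c9cad))) (.node (.node (.leaf 0xc7f9cb9) (.leaf 0x12431ca5)) (.node (.leaf 0x11021cb5) (.leaf 0xe179cc7)))) (.node (.node (.node (.leaf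 0x12609cbb) (.leaf 0xe519cbb)) (.node (.leaf 0x14cc1cad) (.leaf 0xe955ca9))) (.node (.node (.leaf 0x8dedca9) (.leaf 0x15045cbd)) (.node (.leaf 0x11db9ca9) (.leaf 0x0))))) (.node (.node (.node (.node (.leaf 0x113b1ca9) (.leaf 0x545dcc3)) (.node (.leaf 0xe595cc5) (.leaf 0x12c4dca5))) (.node (.node (.leaf 0x10825cb9) (.leaf 0x126a1cc3)) (.node (.leaf 0xada5cc5) (.leaf 0x0)))) (.node (.node (.node (.leaf 0x10081cb5) (.leaf 0x11f29cc5)) (.node (.leaf 0x1157dcc1) (.leaf 0xa4c9cc3))) (.node (.node (.leaf 0x161c9cc5) (.leaf 0x12c99cbd)) (.node (.leaf 0x12c2dca5) (.leaf 0x0))))))))) (.node (.node (.node (.node (.node (.node (.node (.node (.leaf 0x16df5cbd) (.leaf 0xe765ca9)) (.node (.leaf 0xf1e1cc7) (.leaf 0x11b69cc7))) (.node (.node (.leaf 0x157e1ca5) (.leaf 0x10f91cc3)) (.node (.leaf 0xd30dcb5) (.leaf 0xe119cc3)))) (.node (.node (.node (.leaf 0x9409cb9) (.leaf 0x1318dcb5))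 (.node (.leaf 0x1015dcc1) (.leaf 0x6d91ca5))) (.node (.node (.leaf 0x10a29cc7) (.leaf 0x118d1cc5)) (.node (.leaf 0xe145cbd) (.leaf 0x0))))) (.node (.node (.node (.node (.leaf 0x1542dcb5) (.leaf 0xdefdcc5)) (.node (.leaf 0x12049cc7) (.leaf 0x16411cc3))) (.node (.node (.leaf 0x114e9cbb) (.leaf 0x11b39cc5)) (.node (.leaf 0xcb69cad) (.leaf 0x6b91cad)))) (.node (.node (.node (.leaf 0x14319cc1) (.leaf 0x12919ca9)) (.node (.leaf 0xc681cbd) (.leaf 0x12d4dca5))) (.node (.node (.leaf 0xf7bdcbb) (.leaf 0xdec5cb5)) (.node (.leaf 0x12405cbd) (.leaf 0x0)))))) (.node (.node (.node (.node (.node (.leaf 0x138d5cc5) (.leaf 0x119b5cc3)) (.node (.leaf 0x1378dcc3) (.leaf 0xc1cdcc5))) (.node (.node (.leaf 0x103e9cb9) (.leaf 0xf075cc5)) (.node (.leaf 0x10bf9ca5) (.leaf 0xdec5cc5)))) (.node (.node (.node (.leaf 0x13451cbd) (.leaf 0x115f9cbd)) (.node (.leaf 0x13a15cc1) (.leaf 0x12b49cb9)))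 (.node (.node (.leaf 0x1282dcc5) (.leaf 0x10d7dcc7)) (.node (.leaf 0xd4fdca9) (.leaf 0x0))))) (.node (.node (.node (.node (.leaf 0x170bdcc7) (.leaf 0x12445cc1)) (.node (.leaf 0xc141cc3) (.leaf 0x16ed1cc1))) (.node (.node (.leaf 0xc2d1cc3) (.leaf 0xab01cc7)) (.node (.leaf 0xc2d1cbb) (.leaf 0x115adcc1)))) (.node (.node (.node (.leaf 0xc735cb5) (.leaf 0x111b1cc7)) (.node (.leaf 0xe911cbd) (.leaf 0xa9e5cc5))) (.node (.node (.leaf 0x11ff9cc3) (.leaf 0x12c99cb9)) (.node (.leaf 0xd799cc1) (.leaf 0x0))))))) (.node (.node (.node (.node (.node (.node (.leaf 0x1086dcc3) (.leaf 0x13b21cb5)) (.node (.leaf 0x111b1cbb) (.leaf 0x13b3dcc7))) (.node (.node (.leaf 0x103e9cc7) (.leaf 0x115adcbd)) (.node (.leaf 0x1221dcc5) (.leaf 0xce81cc3)))) (.node (.node (.node (.leaf 0x13989ca9) (.leaf 0x120bdcc7)) (.node (.leaf 0x13b09cc3) (.leaf 0xe389cc5))) (.node (.node (.leaf 0x12a21cbd) (.leaf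 0x11df5cbb)) (.node (.leaf 0x943dcbb) (.leaf 0x0))))) (.node (.node (.node (.node (.leaf 0xd601ca9) (.leaf 0x12405cbb)) (.node (.leaf 0xe145cb9) (.leaf 0x12719cc5))) (.node (.node (.leaf 0x1042dca5) (.leaf 0xd275cc1)) (.node (.leaf 0x119b5cad) (.leaf 0xe351cc1)))) (.node (.node (.node (.leaf 0x10dadcb5) (.leaf 0x1160dcc1)) (.node (.leaf 0x11b75cad) (.leaf 0xe595cad))) (.node (.node (.leaf 0x138b5cb9) (.leaf 0x116a9cc5)) (.node (.leaf 0x1245dcc7) (.leaf 0x0)))))) (.node (.node (.node (.node (.node (.leaf 0xc735cc5) (.leaf 0x11b65cc1)) (.node (.leaf 0xc1cdca5) (.leaf 0xf6cdca9))) (.node (.node (.leaf 0xed79ca9) (.leaf 0xfac1cb5)) (.node (.leaf 0x11861cc7) (.leaf 0x102b9cc3)))) (.node (.node (.node (.leaf 0x15cc5cbd) (.leaf 0x12905cc5)) (.node (.leaf 0x12ff9cc7) (.leaf 0xebb9cad))) (.node (.node (.leaf 0x149edcc5) (.leaf 0x10311cb9)) (.node (.leaf 0xf929cb5) (.leaf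 0x0))))) (.node (.node (.node (.node (.leaf 0x1283dcbd) (.leaf 0x12691cbd)) (.node (.leaf 0xd905cbb) (.leaf 0xf591cc7))) (.node (.node (.leaf 0x109f5cad) (.leaf 0x8229cc3)) (.node (.leaf 0x1221dcc7) (.leaf 0x0)))) (.node (.node (.node (.leaf 0xc001cc1) (.leaf 0xe05dca5)) (.node (.leaf 0xf7d9cc5) (.leaf 0x13405cc7))) (.node (.node (.leaf 0xc4ddcb9) (.leaf 0x14705cbd)) (.node (.leaf 0x112c1cc7) (.leaf 0x0)))))))) (.node (.node (.node (.node (.node (.node (.node (.leaf 0xce81ca9) (.leaf 0x127c9cc3)) (.node (.leaf 0xf075cb9) (.leaf 0xa3d9cb5))) (.node (.node (.leaf 0x10221ca5) (.leaf 0x125e9cc1)) (.node (.leaf 0x11b65cbd) (.leaf 0x128d9cbb)))) (.node (.node (.node (.leaf 0xc681cc7) (.leaf 0x139adcb5)) (.node (.leaf 0x10a79ca9) (.leaf 0x11c39cc5))) (.node (.node (.leaf 0x10f09cbd) (.leaf 0x14315cc1)) (.node (.leaf 0x106e5cc7) (.leaf 0x0))))) (.node (.node (.node (.node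 (.leaf 0xf785cc1) (.leaf 0x167ddcb5)) (.node (.leaf 0x14139cb5) (.leaf 0x10e19cc3))) (.node (.node (.leaf 0xc2d1cc1) (.leaf 0x15439cbb)) (.node (.leaf 0xf6cdcc5) (.leaf 0x11bf1cc3)))) (.node (.node (.node (.leaf 0x10221cc5) (.leaf 0x15f91cbb)) (.node (.leaf 0xe0e1ca9) (.leaf 0x15595cc7))) (.node (.node (.leaf 0x8741cbd) (.leaf 0x16fcdca5)) (.node (.leaf 0x10a05cc1) (.leaf 0x0)))))) (.node (.node (.node (.node (.node (.leaf 0x1086dcad) (.leaf 0xab01ca5)) (.node (.leaf 0x10f25cb9) (.leaf 0xcb69cc3))) (.node (.node (.leaf 0x6b91cc7) (.leaf 0x6d91cad)) (.node (.leaf 0x1066dcbb) (.leaf 0x88c1cc3)))) (.node (.node (.node (.leaf 0xc1cdcbd) (.leaf 0x175c9cc1)) (.node (.leaf 0x1725dcbb) (.leaf 0x101b9cc5))) (.node (.node (.leaf 0x101d5cb5) (.leaf 0x81bdcc5)) (.node (.leaf 0x132f9cb5) (.leaf 0x0))))) (.node (.node (.node (.node (.leaf 0xd1a9cb9) (.leaf 0x11269cc7)) (.node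 (.leaf 0xe3ddcc7) (.leaf 0x13131cc1))) (.node (.node (.leaf 0xd6f5cb9) (.leaf 0xada5cc1)) (.node (.leaf 0x10cc9cbb) (.leaf 0x0)))) (.node (.node (.node (.leaf 0x163cdcc1) (.leaf 0x15cc5cc1)) (.node (.leaf 0x111b9cc1) (.leaf 0xeaa5ca9))) (.node (.node (.leaf 0x1040dcc7) (.leaf 0x10d89ca9)) (.node (.leaf 0x17119cbb) (.leaf 0x0))))))) (.node (.node (.node (.node (.node (.node (.leaf 0x134b5cc5) (.leaf 0x12699cb9)) (.node (.leaf 0xefd5cb9) (.leaf 0x151adcc1))) (.node (.node (.leaf 0x12959cc7) (.leaf 0xc4ddcc7)) (.node (.leaf 0x104f5ca5) (.leaf 0x1611dcc3)))) (.node (.node (.node (.leaf 0x16f75cb9) (.leaf 0x13529cc1)) (.node (.leaf 0x1049dcad) (.leaf 0x11ef9cc1))) (.node (.node (.leaf 0x1184dcb5) (.leaf 0x11da5cb5)) (.node (.leaf 0x170cdca9) (.leaf 0x0))))) (.node (.node (.node (.node (.leaf 0x101b9ca9) (.leaf 0xd2bdcbd)) (.node (.leaf 0x15849cb5) (.leaf 0xd6adcc7)))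 (.node (.node (.leaf 0x12ff9cc1) (.leaf 0x139fdcc1)) (.node (.leaf 0xa625cbb) (.leaf 0x113b1cc3)))) (.node (.node (.node (.leaf 0x11535cbb) (.leaf 0x12631cad)) (.node (.leaf 0xa52dcc1) (.leaf 0x813dcc7))) (.node (.node (.leaf 0x81bdcad) (.leaf 0x12f3dcc1)) (.node (.leaf 0xd641ca9) (.leaf 0x0)))))) (.node (.node (.node (.node (.node (.leaf 0x11b9dca5) (.leaf 0x11679cc3)) (.node (.leaf 0x13b3dcc5) (.leaf 0x11861cc5))) (.node (.node (.leaf 0xa191ca9) (.leaf 0x15205cbd)) (.node (.leaf 0xd21dcbb) (.leaf 0xe389cc7)))) (.node (.node (.node (.leaf 0x10d69ca5) (.leaf 0x12e39cc7)) (.node (.leaf 0xdc3dcc7) (.leaf 0x171f9ca5))) (.node (.node (.leaf 0xd429cbb) (.leaf 0x136fdcb9)) (.node (.leaf 0x13861cc3) (.leaf 0x0))))) (.node (.node (.node (.node (.leaf 0x121a9cc7) (.leaf 0x10d7dcc1)) (.node (.leaf 0x1357dcbb) (.leaf 0xf7d9cc3))) (.node (.node (.leaf 0xec8dcc5) (.leaf 0x1781dcc7))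 (.node (.leaf 0x12239cbb) (.leaf 0x0)))) (.node (.node (.node (.leaf 0x80f1cad) (.leaf 0x13019cb5)) (.node (.leaf 0x10e19cc7) (.leaf 0x148ddcc3))) (.node (.node (.leaf 0xd4fdca5) (.leaf 0xec8dca5)) (.node (.leaf 0xf76dcc7) (.leaf 0x0))))))))))

/-- packed table -/
noncomputable def cov19_rll : BTree := (.node (.node (.node (.node (.node (.node (.node (.node (.node (.leaf 0x13115cb9) (.leaf 0x13095cbb)) (.node (.leaf 0x9405cbb) (.leaf 0xd275cc3))) (.node (.node (.leaf 0x12491cc5) (.leaf 0x1282dcc3)) (.node (.leaf 0x146f9cbd) (.leaf 0xdb71cc7)))) (.node (.node (.node (.leaf 0x13779cc3) (.leaf 0xcd61cc1)) (.node (.leaf 0x6d91cc5) (.leaf 0xf081cad))) (.node (.node (.leaf 0x10cb1cb5) (.leaf 0x125d1cad)) (.node (.leaf 0x10cb1cc7) (.leaf 0x0))))) (.node (.node (.node (.node (.leaf 0x15c21cbd) (.leaf 0x12a6dca9)) (.node (.leaf 0x1057dcc5) (.leaf 0xdfe9cbd))) (.node (.node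 (.leaf 0xd799ca9) (.leaf 0xefd5cb5)) (.node (.leaf 0xd015cb5) (.leaf 0x10a81cc5)))) (.node (.node (.node (.leaf 0x111b9cb5) (.leaf 0x13041cc1)) (.node (.leaf 0x10a19cad) (.leaf 0x1318dcbd))) (.node (.node (.leaf 0xed79cbb) (.leaf 0x131b9cc7)) (.node (.leaf 0x16199cc5) (.leaf 0x0)))))) (.node (.node (.node (.node (.node (.leaf 0x110e1cbd) (.leaf 0xf1d9cb5)) (.node (.leaf 0x1049dca9) (.leaf 0x12efdcad))) (.node (.node (.leaf 0x12971cc7) (.leaf 0xe211cc3)) (.node (.leaf 0x88c1cb5) (.leaf 0x13b3dca5)))) (.node (.node (.node (.leaf 0xcad9cad) (.leaf 0x101b1cc1)) (.node (.leaf 0x1049dcc7) (.leaf 0x12d21ca5))) (.node (.node (.leaf 0x1456dcc3) (.leaf 0x13109cbd)) (.node (.leaf 0x11339cc5) (.leaf 0x0))))) (.node (.node (.node (.node (.leaf 0x15849ca5) (.leaf 0x10809ca9)) (.node (.leaf 0x1591dcc3) (.leaf 0x172e1cad))) (.node (.node (.leaf 0xf785cbd) (.leaf 0xc721cc3)) (.node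 (.leaf 0xe745cbb) (.leaf 0x12dadcc7)))) (.node (.node (.node (.leaf 0x13139cb9) (.leaf 0xd6e9cc7)) (.node (.leaf 0x10c91cc1) (.leaf 0x129c1ca9))) (.node (.node (.leaf 0x141c9cad) (.leaf 0x152ddcc5)) (.node (.leaf 0x979dcbd) (.leaf 0x0))))))) (.node (.node (.node (.node (.node (.node (.leaf 0x12009cbb) (.leaf 0x13a75cb9)) (.node (.leaf 0x1040dcb9) (.leaf 0xdefdca9))) (.node (.node (.leaf 0xd781cb5) (.leaf 0x133adcb5)) (.node (.leaf 0xdb71ca9) (.leaf 0x104f5ca9)))) (.node (.node (.node (.leaf 0x11d6dcc7) (.leaf 0x12a21ca5)) (.node (.leaf 0x14891cc3) (.leaf 0x16421cb9))) (.node (.node (.leaf 0xedd5cc3) (.leaf 0x145e5ca9)) (.node (.leaf 0x11e6dca9) (.leaf 0x0))))) (.node (.node (.node (.node (.leaf 0x15151cbd) (.leaf 0x11299cc3)) (.node (.leaf 0x1086dcb5) (.leaf 0xedc5ca5))) (.node (.node (.leaf 0x10409cad) (.leaf 0x120adcc5)) (.node (.leaf 0x11175cc5) (.leaf 0x11be9cc3))))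 (.node (.node (.node (.leaf 0xd799cad) (.leaf 0xe5a5cc1)) (.node (.leaf 0x16885cc7) (.leaf 0x1032dcc1))) (.node (.node (.leaf 0xc735cbd) (.leaf 0x120b1cbd)) (.node (.leaf 0x15fa5ca5) (.leaf 0x0)))))) (.node (.node (.node (.node (.node (.leaf 0x1358dcbb) (.leaf 0x139d1cc5)) (.node (.leaf 0x10f31cbd) (.leaf 0xf53dcad))) (.node (.node (.leaf 0x13359cc5) (.leaf 0x8229cc7)) (.node (.leaf 0x10f09ca9) (.leaf 0x10f91cc7)))) (.node (.node (.node (.leaf 0x12491ca9) (.leaf 0x122b5ca5)) (.node (.leaf 0xd975cc7) (.leaf 0x10d4dca9))) (.node (.node (.leaf 0x11b39cbd) (.leaf 0x11639cc1)) (.node (.leaf 0xa735cc7) (.leaf 0x0))))) (.node (.node (.node (.node (.leaf 0xd6e5cbb) (.leaf 0x6b91ca5)) (.node (.leaf 0xeb29cb9) (.leaf 0x10ab5cc7))) (.node (.node (.leaf 0x115adcb5) (.leaf 0x6d91cc1)) (.node (.leaf 0x11d6dcbb) (.leaf 0x0)))) (.node (.node (.node (.leaf 0xcb01cc1) (.leaf 0x15849cc7))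 (.node (.leaf 0xe179cbb) (.leaf 0xa625ca9))) (.node (.node (.leaf 0x14e0dcbd) (.leaf 0xdf2dca9)) (.node (.leaf 0x131f5cad) (.leaf 0x0)))))))) (.node (.node (.node (.node (.node (.node (.node (.leaf 0x127c9cc5) (.leaf 0xd6adcbd)) (.node (.leaf 0x109f5cc1) (.leaf 0x110a9cc5))) (.node (.node (.leaf 0xd015cc7) (.leaf 0x10e19cc5)) (.node (.leaf 0xf1e1cbb) (.leaf 0xe5c1cb5)))) (.node (.node (.node (.leaf 0x138c5cbd) (.leaf 0xf8b1cc7)) (.node (.leaf 0x10135cad) (.leaf 0xe629ca9))) (.node (.node (.leaf 0x1163dca5) (.leaf 0xc30dcc7)) (.node (.leaf 0x13ac9cc7) (.leaf 0x0))))) (.node (.node (.node (.node (.leaf 0x10cb1cb9) (.leaf 0x147fdcc3)) (.node (.leaf 0x12abdcc3) (.leaf 0x11679cbd))) (.node (.node (.leaf 0x1453dcbb) (.leaf 0xf6cdcc3)) (.node (.leaf 0x11525cad) (.leaf 0x6b91cb5)))) (.node (.node (.node (.leaf 0x130b5cc7) (.leaf 0x10e11cc1)) (.node (.leaf 0x10cc9cbd) (.leaf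 0x13131cbd))) (.node (.node (.leaf 0x13939cb9) (.leaf 0xf435cc3)) (.node (.leaf 0xf8e1cc1) (.leaf 0x0)))))) (.node (.node (.node (.node (.node (.leaf 0x13671cc7) (.leaf 0xa625ca5)) (.node (.leaf 0xd781cc3) (.leaf 0x152d9cc5))) (.node (.node (.leaf 0x11a29ca5) (.leaf 0xf435cc5)) (.node (.leaf 0x15b29cc7) (.leaf 0xc4bdcc3)))) (.node (.node (.node (.leaf 0x10f69cc7) (.leaf 0x168a5cb5)) (.node (.leaf 0x15331cc7) (.leaf 0x12c4dcb9))) (.node (.node (.leaf 0xc4e5ca5) (.leaf 0xdaf9cc5)) (.node (.leaf 0xeb29cbb) (.leaf 0x0))))) (.node (.node (.node (.node (.leaf 0x13529cc5) (.leaf 0x13a59ca9)) (.node (.leaf 0x161cdcc3) (.leaf 0x1323dca5))) (.node (.node (.leaf 0x15a25cad) (.leaf 0x1344dcc5)) (.node (.leaf 0x10f69cc3) (.leaf 0x12efdcbd)))) (.node (.node (.node (.leaf 0xc2d1cb5) (.leaf 0x8719cc3)) (.node (.leaf 0x1128dcad) (.leaf 0x11e59cb9))) (.node (.node (.leaf 0x81bdcb9)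 (.leaf 0x131fdcad)) (.node (.leaf 0x124bdcc1) (.leaf 0x0))))))) (.node (.node (.node (.node (.node (.node (.leaf 0x175b1cbd) (.leaf 0x10ec9cc5)) (.node (.leaf 0x14361cad) (.leaf 0x10091cc7))) (.node (.node (.leaf 0x11055cad) (.leaf 0xfac1cb9)) (.node (.leaf 0xc231cc1) (.leaf 0xcea1cc3)))) (.node (.node (.node (.leaf 0x9405cc3) (.leaf 0xec8dcb5)) (.node (.leaf 0xd035cad) (.leaf 0x133c1cb5))) (.node (.node (.leaf 0x10079cc7) (.leaf 0x12375cb9)) (.node (.leaf 0x103e9cb5) (.leaf 0x0))))) (.node (.node (.node (.node (.leaf 0x943dca9) (.leaf 0xe985ca5)) (.node (.leaf 0x11f9dcc5) (.leaf 0x13521cad))) (.node (.node (.leaf 0x10459cc1) (.leaf 0xd741cbd)) (.node (.leaf 0x10135cc5) (.leaf 0xa52dca9)))) (.node (.node (.node (.leaf 0x13201cc3) (.leaf 0x126a5cc3)) (.node (.leaf 0x11d6dcb9) (.leaf 0x1566dcc7))) (.node (.node (.leaf 0xf8b1cb9) (.leaf 0x156c1cc5)) (.node (.leaf 0x979dca9)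 (.leaf 0x0)))))) (.node (.node (.node (.node (.node (.leaf 0x8719cc5) (.leaf 0x16411cb9)) (.node (.leaf 0xf0edcc3) (.leaf 0xf53dcb5))) (.node (.node (.leaf 0xdf41cc7) (.leaf 0x15651cc7)) (.node (.leaf 0x138d1cc7) (.leaf 0x122f9cc1)))) (.node (.node (.node (.leaf 0x11839cbd) (.leaf 0x1176dcbb)) (.node (.leaf 0x14cb5cad) (.leaf 0x113d1cbb))) (.node (.node (.leaf 0x4781cc3) (.leaf 0xa735cc1)) (.node (.leaf 0x10ee5ca9) (.leaf 0x0))))) (.node (.node (.node (.node (.leaf 0xf929cbb) (.leaf 0x1244dcad)) (.node (.leaf 0x11679cb5) (.leaf 0x12c4dcbd))) (.node (.node (.leaf 0x10d71cbb) (.leaf 0x10c8dcc1)) (.node (.leaf 0x123b5cbb) (.leaf 0x0)))) (.node (.node (.node (.leaf 0x10aadcc5) (.leaf 0xa9e5cc3)) (.node (.leaf 0x10949cbd) (.leaf 0xd995cc5))) (.node (.node (.leaf 0x12b81cc7) (.leaf 0x13529ca5)) (.node (.leaf 0x136b5cb5) (.leaf 0x0))))))))) (.node (.node (.node (.node (.node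 (.node (.node (.node (.leaf 0xd4fdcbd) (.leaf 0xa9e9ca5)) (.node (.leaf 0xf1d9cc7) (.leaf 0xf0edca9))) (.node (.node (.leaf 0xd6f5cc7) (.leaf 0x150b9ca9)) (.node (.leaf 0x102b9cb9) (.leaf 0x102cdcbd)))) (.node (.node (.node (.leaf 0xce79cc1) (.leaf 0x136fdcc1)) (.node (.leaf 0x4349ca9) (.leaf 0x17321ca5))) (.node (.node (.leaf 0x13041ca9) (.leaf 0x10501cc5)) (.node (.leaf 0xd6f5cc5) (.leaf 0x0))))) (.node (.node (.node (.node (.leaf 0xd7e9cc3) (.leaf 0x11da5cbd)) (.node (.leaf 0x106e5cc5) (.leaf 0x1319dcb5))) (.node (.node (.leaf 0x116b1cc7) (.leaf 0x142bdcc5)) (.node (.leaf 0x10d71cc5) (.leaf 0xe591cad)))) (.node (.node (.node (.leaf 0xdb71cc5) (.leaf 0x473dcc3)) (.node (.leaf 0x12919cbb) (.leaf 0x10cb1cc3))) (.node (.node (.leaf 0x11535cb9) (.leaf 0x13811cc7)) (.node (.leaf 0xcef9cc1) (.leaf 0x0)))))) (.node (.node (.node (.node (.node (.leaf 0x1762dcc5) (.leaf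 0x128d9ca5)) (.node (.leaf 0x1230dcc1) (.leaf 0x112e5cc5))) (.node (.node (.leaf 0xcb69cc7) (.leaf 0x177edcad)) (.node (.leaf 0xdf21cb9) (.leaf 0x12631cc5)))) (.node (.node (.node (.leaf 0xf075cbb) (.leaf 0x101c1cc1)) (.node (.leaf 0xec8dcc1) (.leaf 0x12d4dcbb))) (.node (.node (.leaf 0xba39cc7) (.leaf 0xc2c5cc7)) (.node (.leaf 0xf53dcc1) (.leaf 0x0))))) (.node (.node (.node (.node (.leaf 0x11541cc5) (.leaf 0xd70dcc1)) (.node (.leaf 0x160ddcc3) (.leaf 0x12641ca9))) (.node (.node (.leaf 0x1012dcc3) (.leaf 0x15595cc1)) (.node (.leaf 0x10655cb9) (.leaf 0x16449cb5)))) (.node (.node (.node (.leaf 0x8719ca9) (.leaf 0xc6a1cbd)) (.node (.leaf 0x10685cb5) (.leaf 0x16421cc5))) (.node (.node (.leaf 0xc1c5cb9) (.leaf 0x12719cc1)) (.node (.leaf 0xb5ddcc1) (.leaf 0x0))))))) (.node (.node (.node (.node (.node (.node (.leaf 0x10e91cc5) (.leaf 0x16eedcb5)) (.node (.leaf 0xc429cb9)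 (.leaf 0x15ff1cb9))) (.node (.node (.leaf 0x177d5cb9) (.leaf 0x12515cad)) (.node (.leaf 0x11b65ca9) (.leaf 0x1085dcc1)))) (.node (.node (.node (.leaf 0xcb69cb5) (.leaf 0x10fc1ca9)) (.node (.leaf 0x11cbdcc5) (.leaf 0x12c4dcbb))) (.node (.node (.leaf 0x15c21cc5) (.leaf 0x88c1cc5)) (.node (.leaf 0x12865cbb) (.leaf 0x0))))) (.node (.node (.node (.node (.leaf 0x138b5cbb) (.leaf 0xe519cb9)) (.node (.leaf 0x16261cc1) (.leaf 0x13109cb9))) (.node (.node (.leaf 0x1107dcad) (.leaf 0x8741cc3)) (.node (.leaf 0xc1a5cc5) (.leaf 0x135e1cbd)))) (.node (.node (.node (.leaf 0xc4bdcc1) (.leaf 0xe0e1cbb)) (.node (.leaf 0xc681cb9) (.leaf 0xc001cc3))) (.node (.node (.leaf 0x8715cbd) (.leaf 0x103c5cc3)) (.node (.leaf 0x11029cc3) (.leaf 0x0)))))) (.node (.node (.node (.node (.node (.leaf 0x80f1ca5) (.leaf 0xe595cc1)) (.node (.leaf 0x101b1ca5) (.leaf 0x14b1dcc5))) (.node (.node (.leaf 0x13139ca9)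 (.leaf 0x11589cc1)) (.node (.leaf 0xf8ddcc7) (.leaf 0x11f39cb5)))) (.node (.node (.node (.leaf 0x15205cc3) (.leaf 0xab01ca9)) (.node (.leaf 0x13795cc7) (.leaf 0x6d91cbb))) (.node (.node (.leaf 0x132f9ca9) (.leaf 0x6d91ca9)) (.node (.leaf 0xe711cc7) (.leaf 0x0))))) (.node (.node (.node (.node (.leaf 0x12039cbb) (.leaf 0xe911cc5)) (.node (.leaf 0x10e3dcb5) (.leaf 0x15769cc5))) (.node (.node (.leaf 0x11535cbd) (.leaf 0xab01cc3)) (.node (.leaf 0x10699cad) (.leaf 0x0)))) (.node (.node (.node (.leaf 0xcea9cc5) (.leaf 0xba45cbd)) (.node (.leaf 0xf7e5cc5) (.leaf 0xf8ddcb9))) (.node (.node (.leaf 0xeb79cc7) (.leaf 0xe5c1cc5)) (.node (.leaf 0x10d89cbb) (.leaf 0x0)))))))) (.node (.node (.node (.node (.node (.node (.node (.leaf 0x10acdcc5) (.leaf 0x10621cc1)) (.node (.leaf 0x11da5cc3) (.leaf 0x11299ca9))) (.node (.node (.leaf 0x15045cc1) (.leaf 0xc591cc1)) (.node (.leaf 0xe025cbd)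 (.leaf 0x8229cb9)))) (.node (.node (.node (.leaf 0x12699cc5) (.leaf 0x9e2dca5)) (.node (.leaf 0x11e25cc5) (.leaf 0xe871ca9))) (.node (.node (.leaf 0x109b9cad) (.leaf 0x17209cb5)) (.node (.leaf 0xdc3dca9) (.leaf 0x0))))) (.node (.node (.node (.node (.leaf 0x13775cc1) (.leaf 0x102b1cc1)) (.node (.leaf 0x140f9cc3) (.leaf 0x1283dcc3))) (.node (.node (.leaf 0xc439cc3) (.leaf 0x116b1cbd)) (.node (.leaf 0x10341cc5) (.leaf 0x131fdcbb)))) (.node (.node (.node (.leaf 0x10531cc3) (.leaf 0xed79cc1)) (.node (.leaf 0xe591ca9) (.leaf 0xcad9cc3))) (.node (.node (.leaf 0x88c1cb9) (.leaf 0x12d61cb5)) (.node (.leaf 0xf595cb5) (.leaf 0x0)))))) (.node (.node (.node (.node (.node (.leaf 0x15c7dcc7) (.leaf 0x11635cc1)) (.node (.leaf 0xc2d1cc5) (.leaf 0x12ec9cbd))) (.node (.node (.leaf 0xe235cc3) (.leaf 0xe211cad)) (.node (.leaf 0x11f39cb9) (.leaf 0x123b1cb5)))) (.node (.node (.node (.leaf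 0xd421ca9) (.leaf 0x12649cc3)) (.node (.leaf 0x102f5cbd) (.leaf 0xf6bdca9))) (.node (.node (.leaf 0xc9f9cbd) (.leaf 0xf591cc5)) (.node (.leaf 0x101b1ca9) (.leaf 0x0))))) (.node (.node (.node (.node (.leaf 0x111a1cb9) (.leaf 0x1389dcc3)) (.node (.leaf 0x10159cb9) (.leaf 0xe5b1cc3))) (.node (.node (.leaf 0x1049dcb5) (.leaf 0xe4b1cbb)) (.node (.leaf 0xd799cbb) (.leaf 0x0)))) (.node (.node (.node (.leaf 0x10471cc7) (.leaf 0x81bdcc3)) (.node (.leaf 0x13109ca9) (.leaf 0xa9e5cad))) (.node (.node (.leaf 0xf7d9cbd) (.leaf 0x112d1cc5)) (.node (.leaf 0xdaf9cbd) (.leaf 0x0))))))) (.node (.node (.node (.node (.node (.node (.leaf 0x10809cc5) (.leaf 0x12691cb9)) (.node (.leaf 0x16281ca9) (.leaf 0x12561cc5))) (.node (.node (.leaf 0x11541ca5) (.leaf 0x16139ca5)) (.node (.leaf 0x1551dcbd) (.leaf 0xc71dcc1)))) (.node (.node (.node (.leaf 0x979dcc7) (.leaf 0x120f5cb5)) (.node (.leaf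 0x104a9cc7) (.leaf 0x9e2dca9))) (.node (.node (.leaf 0x1389dcb9) (.leaf 0xf4e5cb5)) (.node (.leaf 0x1085dcc5) (.leaf 0x0))))) (.node (.node (.node (.node (.leaf 0x10ed1cbb) (.leaf 0x12d4dcb5)) (.node (.leaf 0xdaf9cc1) (.leaf 0x13521cc5))) (.node (.node (.leaf 0x123b1cc5) (.leaf 0x14329cc3)) (.node (.leaf 0x119a5cad) (.leaf 0xe37dcad)))) (.node (.node (.node (.leaf 0xd455cbb) (.leaf 0x10c29cc3)) (.node (.leaf 0x96ddca5) (.leaf 0x12431cc5))) (.node (.node (.leaf 0xc1c5cad) (.leaf 0xf891cc1)) (.node (.leaf 0x11b69cc1) (.leaf 0x0)))))) (.node (.node (.node (.node (.node (.leaf 0x10c2dcc7) (.leaf 0x10bf9cb9)) (.node (.leaf 0xd21dcad) (.leaf 0xa3a9cbd))) (.node (.node (.leaf 0x10575ca5) (.leaf 0x545dcbd)) (.node (.leaf 0xba3dcc5) (.leaf 0x12efdcbb)))) (.node (.node (.node (.leaf 0x111b1cb5) (.leaf 0x126cdca5)) (.node (.leaf 0x12dfdcbb) (.leaf 0x12959ca9))) (.node (.node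 (.leaf 0xcdd5cc5) (.leaf 0xdde1cc5)) (.node (.leaf 0x115f9cbb) (.leaf 0x0))))) (.node (.node (.node (.node (.leaf 0x114e9cb9) (.leaf 0x10d71cc1)) (.node (.leaf 0xcef9ca9) (.leaf 0x12d4dcbd))) (.node (.node (.leaf 0x106a9cc5) (.leaf 0x10739cc7)) (.node (.leaf 0x113d9cb9) (.leaf 0x0)))) (.node (.node (.node (.leaf 0xd30dcad) (.leaf 0xefd5cc3)) (.node (.leaf 0x12581cb9) (.leaf 0xa9e9cad))) (.node (.node (.leaf 0x16c09cbd) (.leaf 0x13109cb5)) (.node (.leaf 0x12c49ca5) (.leaf 0x0))))))))))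

/-- packed table -/
noncomputable def cov19_rlr : BTree := (.node (.node (.node (.node (.node (.node (.node (.node (.node (.leaf 0x10685cbb) (.leaf 0x10f3dcc1)) (.node (.leaf 0xa9e9cc7) (.leaf 0x12649cad))) (.node (.node (.leaf 0x109f5cb9) (.leaf 0x10a81cc7)) (.node (.leaf 0x15e29cc5) (.leaf 0x139adca5)))) (.node (.node (.node (.leaf 0x128c5cc7) (.leaf 0x11735cc5)) (.node (.leaf 0xc5ddca9) (.leaf 0x103d5cc5))) (.node (.node (.leaf 0x12c4dcc5) (.leaf 0x119b5cb9)) (.node (.leaf 0x133c1cb9) (.leaf 0x0))))) (.node (.node (.node (.node (.leaf 0x10299cc7) (.leaf 0x12009cc1)) (.node (.leaf 0xdcb9cc5) (.leaf 0x12b21cad))) (.node (.node (.leaf 0x15085cc3) (.leaf 0x13b49cad)) (.node (.leaf 0xd6adca9) (.leaf 0xe0e1cad)))) (.node (.node (.node (.leaf 0x151a5cb5) (.leaf 0x12c4dcb5)) (.node (.leaf 0x15105cbd) (.leaf 0x14851cbd))) (.node (.node (.leaf 0x116b1ca5) (.leaf 0x12cb1ca5))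 (.node (.leaf 0x10f09cc1) (.leaf 0x0)))))) (.node (.node (.node (.node (.node (.leaf 0x11729cc5) (.leaf 0xd9a1cc3)) (.node (.leaf 0xf695cc7) (.leaf 0xed79ca5))) (.node (.node (.leaf 0xd21dca9) (.leaf 0x13139cad)) (.node (.leaf 0x11b6dcc1) (.leaf 0xf6cdcc7)))) (.node (.node (.node (.leaf 0x11b21cc5) (.leaf 0xc1c5cc1)) (.node (.leaf 0x13a1dcc7) (.leaf 0x12abdcc7))) (.node (.node (.leaf 0xd21dcc5) (.leaf 0x134edca5)) (.node (.leaf 0x147cdcc5) (.leaf 0x0))))) (.node (.node (.node (.node (.leaf 0x119b5cb5) (.leaf 0x12f2dcb5)) (.node (.leaf 0x11335cc5) (.leaf 0x104f5cbd))) (.node (.node (.leaf 0xc2a9cbb) (.leaf 0x12d6dcc1)) (.node (.leaf 0xc231ca9) (.leaf 0x12359cb5)))) (.node (.node (.node (.leaf 0x473dcbb) (.leaf 0x120f5cc7)) (.node (.leaf 0x12b8dcb9) (.leaf 0x1311dcc3))) (.node (.node (.leaf 0xc1b5cad) (.leaf 0x116a9cc1)) (.node (.leaf 0xe4b1cad) (.leaf 0x0))))))) (.node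 (.node (.node (.node (.node (.node (.leaf 0x125d9cc1) (.leaf 0x16901cad)) (.node (.leaf 0x10b05cc3) (.leaf 0xdf4dcb5))) (.node (.node (.leaf 0x123f1cc7) (.leaf 0xc4bdcc7)) (.node (.leaf 0x14939cad) (.leaf 0x10599cc5)))) (.node (.node (.node (.leaf 0x12c99cc1) (.leaf 0x14e31cc1)) (.node (.leaf 0xd7e9cad) (.leaf 0x13109cc1))) (.node (.node (.leaf 0x109a9cad) (.leaf 0x109b9cc3)) (.node (.leaf 0x1106dcb5) (.leaf 0x0))))) (.node (.node (.node (.node (.leaf 0xd401cbd) (.leaf 0x123f1cbb)) (.node (.leaf 0x11735cad) (.leaf 0x10625cb9))) (.node (.node (.leaf 0x138b5cc3) (.leaf 0x165d5cc3)) (.node (.leaf 0x1323dcb9) (.leaf 0x12d61cb9)))) (.node (.node (.node (.leaf 0x12515cbd) (.leaf 0x109c9cc7)) (.node (.leaf 0xdb71cad) (.leaf 0xa52dcb5))) (.node (.node (.leaf 0x10731cbd) (.leaf 0x12581cad)) (.node (.leaf 0xdfadca5) (.leaf 0x0)))))) (.node (.node (.node (.node (.node (.leaf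 0x15651cbb) (.leaf 0xdb71cbd)) (.node (.leaf 0x10745cc5) (.leaf 0x13681cb9))) (.node (.node (.leaf 0xe01dcc5) (.leaf 0x129c1cb5)) (.node (.leaf 0xab01cbd) (.leaf 0x126a5cc7)))) (.node (.node (.node (.leaf 0x81bdcbd) (.leaf 0x979dcbb)) (.node (.leaf 0x12d6dca9) (.leaf 0xa329ca9))) (.node (.node (.leaf 0x11215ca5) (.leaf 0xe911cad)) (.node (.leaf 0x1745dcc1) (.leaf 0x0))))) (.node (.node (.node (.node (.leaf 0x170bdca9) (.leaf 0xe389ca9)) (.node (.leaf 0x12a6dcbb) (.leaf 0x166d1cb5))) (.node (.node (.leaf 0x133adcbd) (.leaf 0xe389cc1)) (.node (.leaf 0x11da5ca9) (.leaf 0x0)))) (.node (.node (.node (.leaf 0x8961cc1) (.leaf 0x11ca9cc1)) (.node (.leaf 0xc681cad) (.leaf 0xf8ddca5))) (.node (.node (.leaf 0xc4e5cbb) (.leaf 0x16a7dcc1)) (.node (.leaf 0x112e1cc7) (.leaf 0x0)))))))) (.node (.node (.node (.node (.node (.node (.node (.leaf 0x8e4dca5) (.leaf 0xd275cbd)) (.node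 (.leaf 0xc2c5cbb) (.leaf 0x133adca5))) (.node (.node (.leaf 0x10c2dcc1) (.leaf 0x115adcb9)) (.node (.leaf 0x12919cc3) (.leaf 0x13041cc5)))) (.node (.node (.node (.leaf 0xf8b1cbd) (.leaf 0x16b15cb5)) (.node (.leaf 0x8e7dcc7) (.leaf 0x14c39cb9))) (.node (.node (.leaf 0x1164dca5) (.leaf 0x14705cb9)) (.node (.leaf 0x10091cbd) (.leaf 0x0))))) (.node (.node (.node (.node (.leaf 0x15439cb5) (.leaf 0x128edcc5)) (.node (.leaf 0xd601cbb) (.leaf 0x16001cc7))) (.node (.node (.leaf 0x10655cc1) (.leaf 0x12195ca9)) (.node (.leaf 0x10091ca9) (.leaf 0x13521cb9)))) (.node (.node (.node (.leaf 0xcea5ca9) (.leaf 0x11729cc1)) (.node (.leaf 0x11d6dcbd) (.leaf 0xf891cc5))) (.node (.node (.leaf 0xeba5cc5) (.leaf 0x106cdcc7)) (.node (.leaf 0x12b21ca9) (.leaf 0x0)))))) (.node (.node (.node (.node (.node (.leaf 0x126cdcc5) (.leaf 0x110e1cc3)) (.node (.leaf 0x14ef5cc7) (.leaf 0x16199cad)))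 (.node (.node (.leaf 0xd6f1cc7) (.leaf 0xa9e9cc1)) (.node (.leaf 0xd6f1cc5) (.leaf 0x10a05cc5)))) (.node (.node (.node (.leaf 0x122a5cc5) (.leaf 0x162bdcbd)) (.node (.leaf 0x14399ca5) (.leaf 0x109c9cc3))) (.node (.node (.leaf 0x123f1cc3) (.leaf 0x1086dcc1)) (.node (.leaf 0xd741cc5) (.leaf 0x0))))) (.node (.node (.node (.node (.leaf 0x100f5cbb) (.leaf 0x11f39ca5)) (.node (.leaf 0x12b49cc3) (.leaf 0xa979cb5))) (.node (.node (.leaf 0x14489cb5) (.leaf 0x119b5cbd)) (.node (.leaf 0xd6adcad) (.leaf 0x0)))) (.node (.node (.node (.leaf 0x12a81cbd) (.leaf 0x102b9cc5)) (.node (.leaf 0x11a15cc1) (.leaf 0x12115cad))) (.node (.node (.leaf 0x14275ca9) (.leaf 0x156bdcc1)) (.node (.leaf 0x1106dcc1) (.leaf 0x0))))))) (.node (.node (.node (.node (.node (.node (.leaf 0x15471cc5) (.leaf 0x12d6dcb5)) (.node (.leaf 0xc2a9cc5) (.leaf 0xc439cc7))) (.node (.node (.leaf 0x131c5cc7) (.leaf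 0xe65dcc1)) (.node (.leaf 0x1267dcc1) (.leaf 0xc725cc1)))) (.node (.node (.node (.leaf 0x1008dcc1) (.leaf 0xf7bdcb5)) (.node (.leaf 0x10111cc5) (.leaf 0x13675cbb))) (.node (.node (.leaf 0x14871cc7) (.leaf 0x148e5cbb)) (.node (.leaf 0xa9e9cbd) (.leaf 0x0))))) (.node (.node (.node (.node (.leaf 0x11679cad) (.leaf 0x11b6dcc7)) (.node (.leaf 0x10a29ca9) (.leaf 0x10685cc3))) (.node (.node (.leaf 0xdc75ca5) (.leaf 0x12631cb9)) (.node (.leaf 0xcb69cbb) (.leaf 0x153f9ca9)))) (.node (.node (.node (.leaf 0x134b5cb9) (.leaf 0x96ddcc7)) (.node (.leaf 0xe465cc5) (.leaf 0xeba5cb9))) (.node (.node (.leaf 0x11255ca9) (.leaf 0x11ffdcc7)) (.node (.leaf 0xd035cc3) (.leaf 0x0)))))) (.node (.node (.node (.node (.node (.leaf 0xd429cc7) (.leaf 0x123b1ca5)) (.node (.leaf 0x10ee5cc1) (.leaf 0x1358dca5))) (.node (.node (.leaf 0x13231ca9) (.leaf 0xd641cc7)) (.node (.leaf 0x134b9cc5) (.leaf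 0xf5a1cbb)))) (.node (.node (.node (.leaf 0x16199cc3) (.leaf 0x10d89cbd)) (.node (.leaf 0x1063dca9) (.leaf 0xa4c9cb5))) (.node (.node (.leaf 0x8dc1cc3) (.leaf 0x9e2dcb5)) (.node (.leaf 0xed79cad) (.leaf 0x0))))) (.node (.node (.node (.node (.leaf 0xc231cb9) (.leaf 0x10addcc7)) (.node (.leaf 0x102b9cbb) (.leaf 0x150fdcc5))) (.node (.node (.leaf 0xe4fdcc7) (.leaf 0x15e61cc7)) (.node (.leaf 0x8e4dcbd) (.leaf 0x0)))) (.node (.node (.node (.leaf 0xd905ca9) (.leaf 0x16bd9ca9)) (.node (.leaf 0x133adcc3) (.leaf 0x13201ca9))) (.node (.node (.leaf 0x143edcc7) (.leaf 0xa191cad)) (.node (.leaf 0x127e5cb5) (.leaf 0x0))))))))) (.node (.node (.node (.node (.node (.node (.node (.node (.leaf 0x134edcbd) (.leaf 0x10c49cc1)) (.node (.leaf 0x88c1cbd) (.leaf 0x12b21cb5))) (.node (.node (.leaf 0x10e91ca9) (.leaf 0x1357dca9)) (.node (.leaf 0x105f1ca9) (.leaf 0xf695cbb)))) (.node (.node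 (.node (.leaf 0x15089cb5) (.leaf 0x12515cc5)) (.node (.leaf 0x12445cbd) (.leaf 0xa735cad))) (.node (.node (.leaf 0xed79cbd) (.leaf 0x138c9cc5)) (.node (.leaf 0x12775cbd) (.leaf 0x0))))) (.node (.node (.node (.node (.leaf 0x10e3dcc5) (.leaf 0xa9e5cc7)) (.node (.leaf 0x12045cc7) (.leaf 0x13589cc5))) (.node (.node (.leaf 0x176c9cbd) (.leaf 0x13359cc7)) (.node (.leaf 0xd4fdcb5) (.leaf 0x6b91cbd)))) (.node (.node (.node (.leaf 0x11751ca5) (.leaf 0x12ff9cbb)) (.node (.leaf 0xd799cbd) (.leaf 0x125e9cad))) (.node (.node (.leaf 0xebb1cc5) (.leaf 0x101a1cbb)) (.node (.leaf 0xdf2dcb9) (.leaf 0x0)))))) (.node (.node (.node (.node (.node (.leaf 0xf8b1cc5) (.leaf 0x116e1cc7)) (.node (.leaf 0x10ee5cc7) (.leaf 0x10135ca9))) (.node (.node (.leaf 0x16a7dcbb) (.leaf 0x15f3dcad)) (.node (.leaf 0x10a19cc1) (.leaf 0xf67dcc5)))) (.node (.node (.node (.leaf 0xefd5cbd) (.leaf 0x17ae1cb5))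 (.node (.leaf 0xce81cc7) (.leaf 0xe629cc7))) (.node (.node (.leaf 0xe911cc7) (.leaf 0x116a5cc1)) (.node (.leaf 0xe119cc5) (.leaf 0x0))))) (.node (.node (.node (.node (.leaf 0xeae1cc1) (.leaf 0x10b91cc1)) (.node (.leaf 0xc2d1cbd) (.leaf 0x13231ca5))) (.node (.node (.leaf 0xf76dcbd) (.leaf 0x12b1dcc7)) (.node (.leaf 0x11c4dcc1) (.leaf 0xf1ddcbd)))) (.node (.node (.node (.leaf 0x8741ca9) (.leaf 0x545dcc1)) (.node (.leaf 0xc1b5cc1) (.leaf 0x10dfdcc7))) (.node (.node (.leaf 0x165c5cc7) (.leaf 0xcf45cc3)) (.node (.leaf 0x11d6dcc1) (.leaf 0x0))))))) (.node (.node (.node (.node (.node (.node (.leaf 0x10e89ca9) (.leaf 0x13935cb5)) (.node (.leaf 0x11dd5ca9) (.leaf 0xeb29cb5))) (.node (.node (.leaf 0xf559cbb) (.leaf 0x101b1cc3)) (.node (.leaf 0x12dfdcbd) (.leaf 0xe745cad)))) (.node (.node (.node (.leaf 0x117b9cc3) (.leaf 0x10f15ca9)) (.node (.leaf 0x11009cad) (.leaf 0xea31cb5)))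 (.node (.node (.leaf 0x10745cc7) (.leaf 0x121f1cc3)) (.node (.leaf 0x11029cc1) (.leaf 0x0))))) (.node (.node (.node (.node (.leaf 0xf8c1cbb) (.leaf 0xefd5cc1)) (.node (.leaf 0x12775cb9) (.leaf 0x11df5cbd))) (.node (.node (.leaf 0xc429ca5) (.leaf 0x10a09cc3)) (.node (.leaf 0x1221dcb9) (.leaf 0xdf8dca9)))) (.node (.node (.node (.leaf 0x166f1cc5) (.leaf 0x15d65cc1)) (.node (.leaf 0x12651cc7) (.leaf 0xdc3dcc5))) (.node (.node (.leaf 0x138c5cb9) (.leaf 0x11695cc5)) (.node (.leaf 0x1283dcad) (.leaf 0x0)))))) (.node (.node (.node (.node (.node (.leaf 0x8715cc5) (.leaf 0x11ff5cc1)) (.node (.leaf 0x101c1ca5) (.leaf 0x13551ca9))) (.node (.node (.leaf 0x1244dcc3) (.leaf 0x1164dcc7)) (.node (.leaf 0xd601cc7) (.leaf 0x10eddcbd)))) (.node (.node (.node (.leaf 0x14f7dcbd) (.leaf 0xb439cad)) (.node (.leaf 0x157c1cc3) (.leaf 0x122ddcb5))) (.node (.node (.leaf 0x140ddcb9) (.leaf 0x120fdcb5))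 (.node (.leaf 0x17729cad) (.leaf 0x0))))) (.node (.node (.node (.node (.leaf 0x10f11cc5) (.leaf 0xdf05cc5)) (.node (.leaf 0xeb39cc7) (.leaf 0x13959cbd))) (.node (.node (.leaf 0xc9f9cad) (.leaf 0x139f5cbd)) (.node (.leaf 0x11ebdcc7) (.leaf 0x0)))) (.node (.node (.node (.leaf 0xc30dca9) (.leaf 0xb439cbd)) (.node (.leaf 0x1042dca9) (.leaf 0x12239cb5))) (.node (.node (.leaf 0x13971cc5) (.leaf 0x13805cbd)) (.node (.leaf 0xdf2dcbb) (.leaf 0x0)))))))) (.node (.node (.node (.node (.node (.node (.node (.leaf 0x13989cbd) (.leaf 0xada5cbd)) (.node (.leaf 0x10569cc5) (.leaf 0xa735cb5))) (.node (.node (.leaf 0xf71dcbb) (.leaf 0x11da9cc1)) (.node (.leaf 0x10f21cc3) (.leaf 0x11119cc3)))) (.node (.node (.node (.leaf 0xd0edca9) (.leaf 0xd21dcc3)) (.node (.leaf 0x11a01cbb) (.leaf 0x14e01cc5))) (.node (.node (.leaf 0x10f09cbb) (.leaf 0x1032dcbd)) (.node (.leaf 0xa735cbb) (.leaf 0x0)))))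 (.node (.node (.node (.node (.leaf 0x13779cc1) (.leaf 0x12661cb5)) (.node (.leaf 0x813dcb5) (.leaf 0x106d9cbd))) (.node (.node (.leaf 0x10079cc1) (.leaf 0x112c1cbd)) (.node (.leaf 0xdf21cbb) (.leaf 0xf711cc7)))) (.node (.node (.node (.leaf 0x11b65cc7) (.leaf 0x10c35cc7)) (.node (.leaf 0x10a29cc5) (.leaf 0xc141cc5))) (.node (.node (.leaf 0x10609cc7) (.leaf 0xeb29cad)) (.node (.leaf 0x12f91cbb) (.leaf 0x0)))))) (.node (.node (.node (.node (.node (.leaf 0x133adcc1) (.leaf 0x8715cc3)) (.node (.leaf 0xcf45cb9) (.leaf 0x12b1dcad))) (.node (.node (.leaf 0xada5cc7) (.leaf 0xd741cc1)) (.node (.leaf 0x943dcb9) (.leaf 0xd521cc3)))) (.node (.node (.node (.leaf 0xc1c5cbb) (.leaf 0xdfedcc7)) (.node (.leaf 0x10bf9cad) (.leaf 0x10c5dcb9))) (.node (.node (.leaf 0xe3edcc3) (.leaf 0x146b1ca9)) (.node (.leaf 0x12b4dca5) (.leaf 0x0))))) (.node (.node (.node (.node (.leaf 0xd1a9cbd) (.leaf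 0xdf4dca5)) (.node (.leaf 0xcb69cbd) (.leaf 0x13139ca5))) (.node (.node (.leaf 0x146d5ca9) (.leaf 0xdc75cc1)) (.node (.leaf 0xdf8dcc7) (.leaf 0x0)))) (.node (.node (.node (.leaf 0x11639ca9) (.leaf 0xeaa5ca5)) (.node (.leaf 0x13551cc3) (.leaf 0xe175ca9))) (.node (.node (.leaf 0x11ff5cc7) (.leaf 0x11f39ca9)) (.node (.leaf 0x101a9ca9) (.leaf 0x0))))))) (.node (.node (.node (.node (.node (.node (.leaf 0xef59cc5) (.leaf 0xc1c5ca9)) (.node (.leaf 0x10479ca9) (.leaf 0x11b69cc5))) (.node (.node (.leaf 0xc4e5cad) (.leaf 0x12631cc3)) (.node (.leaf 0x1666dcbb) (.leaf 0xeba5cbd)))) (.node (.node (.node (.leaf 0xf785cc5) (.leaf 0x1157dcc7)) (.node (.leaf 0x10499cad) (.leaf 0x10e11cc5))) (.node (.node (.leaf 0x11751cc7) (.leaf 0x10625cbd)) (.node (.leaf 0x12d25cb9) (.leaf 0x0))))) (.node (.node (.node (.node (.leaf 0xcd61ca9) (.leaf 0xf67dcad)) (.node (.leaf 0xf591cc1) (.leaf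 0xeae1cb9))) (.node (.node (.leaf 0x123d1cc5) (.leaf 0xca51cc5)) (.node (.leaf 0xeaa5cbb) (.leaf 0xe985cb5)))) (.node (.node (.node (.leaf 0xcb69ca9) (.leaf 0x1157dcc3)) (.node (.leaf 0x899dcc3) (.leaf 0x142a5cc7))) (.node (.node (.leaf 0x101b9cad) (.leaf 0x14345cb9)) (.node (.leaf 0xe051cbd) (.leaf 0x0)))))) (.node (.node (.node (.node (.node (.leaf 0x102b1cc3) (.leaf 0xa3d9ca5)) (.node (.leaf 0x14695cc7) (.leaf 0xf8e1cc5))) (.node (.node (.leaf 0xea31ca9) (.leaf 0x149b1cc7)) (.node (.leaf 0x10d9dcb9) (.leaf 0xdf05cc7)))) (.node (.node (.node (.leaf 0x109c9cbd) (.leaf 0xc71dcc3)) (.node (.leaf 0x12719cbd) (.leaf 0x173cdcbd))) (.node (.node (.leaf 0x8dedcc5) (.leaf 0x111b9cc5)) (.node (.leaf 0xe441cc7) (.leaf 0x0))))) (.node (.node (.node (.node (.leaf 0x10575cc5) (.leaf 0x11b19cc7)) (.node (.leaf 0xf081cbd) (.leaf 0x104f5cb9))) (.node (.node (.leaf 0x12fe1ca9) (.leaf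 0x158edcc7)) (.node (.leaf 0xf6ddcc5) (.leaf 0x0)))) (.node (.node (.node (.leaf 0xf67dca9) (.leaf 0x101c1cc3)) (.node (.leaf 0x16199cbd) (.leaf 0xf5d5cbb))) (.node (.node (.leaf 0x11c25cad) (.leaf 0x10311cbb)) (.node (.leaf 0xcf45cc1) (.leaf 0x0))))))))))

/-- packed table -/
noncomputable def cov19_rrl : BTree := (.node (.node (.node (.node (.node (.node (.node (.node (.node (.leaf 0xefd5cbb) (.leaf 0x10f31cc1)) (.node (.leaf 0x11009ca5) (.leaf 0x137a5cc5))) (.node (.node (.leaf 0xd1a9cad) (.leaf 0x12c4dcc1)) (.node (.leaf 0x12b1dcbb) (.leaf 0x10a05cc7)))) (.node (.node (.node (.leaf 0xcea1cc1) (.leaf 0x11525ca9)) (.node (.leaf 0xd419ca5) (.leaf 0x16b55cad))) (.node (.node (.leaf 0x12d6dcc5) (.leaf 0x16505ca9)) (.node (.leaf 0xc48dca5) (.leaf 0x0))))) (.node (.node (.node (.node (.leaf 0x14cf5cc3) (.leaf 0x1531dcc3)) (.node (.leaf 0x10d89ca5) (.leaf 0x11729cc3)))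 (.node (.node (.leaf 0x124bdca9) (.leaf 0x11b05cbd)) (.node (.leaf 0x14b65cc7) (.leaf 0xe5b1cbb)))) (.node (.node (.node (.leaf 0x1054dca9) (.leaf 0x139fdcbb)) (.node (.leaf 0xc48dcb9) (.leaf 0x12649cb5))) (.node (.node (.leaf 0x1015dcb9) (.leaf 0x1017dcc7)) (.node (.leaf 0x10375cc5) (.leaf 0x0)))))) (.node (.node (.node (.node (.node (.leaf 0x10ee5cb5) (.leaf 0x119d1cc3)) (.node (.leaf 0x1546dcc5) (.leaf 0x1230dcbb))) (.node (.node (.leaf 0x1128dca9) (.leaf 0x150a1cc5)) (.node (.leaf 0x127c9cb9) (.leaf 0x102c9cc7)))) (.node (.node (.node (.leaf 0x11ff9cc7) (.leaf 0xdfadcbd)) (.node (.leaf 0xf5d5cc1) (.leaf 0x12f3dcc5))) (.node (.node (.leaf 0x128d9ca9) (.leaf 0x13751ca9)) (.node (.leaf 0x11215cb5) (.leaf 0x0))))) (.node (.node (.node (.node (.leaf 0x9425cbd) (.leaf 0xc9f9cc5)) (.node (.leaf 0x81bdca9) (.leaf 0xf759ca9))) (.node (.node (.leaf 0x1377dcbd) (.leaf 0x12359cc3))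 (.node (.leaf 0x10f69ca9) (.leaf 0xdf2dcc1)))) (.node (.node (.node (.leaf 0xc1a5cc7) (.leaf 0x11d7dcc5)) (.node (.leaf 0x943dcbd) (.leaf 0x10ed9cc7))) (.node (.node (.leaf 0x9e2dcc3) (.leaf 0x1267dcc5)) (.node (.leaf 0xf5d5cc3) (.leaf 0x0))))))) (.node (.node (.node (.node (.node (.node (.leaf 0xd521ca9) (.leaf 0x16b51cc3)) (.node (.leaf 0xcb01cc3) (.leaf 0x11ff9cb9))) (.node (.node (.leaf 0x13751cbd) (.leaf 0x1389dcb5)) (.node (.leaf 0x15b61ca9) (.leaf 0x10135cbd)))) (.node (.node (.node (.leaf 0xa191cc7) (.leaf 0x11585cc7)) (.node (.leaf 0x10581cc3) (.leaf 0x12b49cbb))) (.node (.node (.leaf 0xcef9cbd) (.leaf 0x8e7dcc5)) (.node (.leaf 0x102cdcc5) (.leaf 0x0))))) (.node (.node (.node (.node (.leaf 0x11055cc1) (.leaf 0x10535cc7)) (.node (.leaf 0xc661cc5) (.leaf 0x12375cb5))) (.node (.node (.leaf 0x138c5cc3) (.leaf 0x12e75cc3)) (.node (.leaf 0x10cb1ca5) (.leaf 0x156bdcc3))))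 (.node (.node (.node (.leaf 0x104f5cc3) (.leaf 0x11639cc5)) (.node (.leaf 0x113d1cb5) (.leaf 0xcec1cc7))) (.node (.node (.leaf 0x10729cbd) (.leaf 0x124bdcad)) (.node (.leaf 0x15fb9ca5) (.leaf 0x0)))))) (.node (.node (.node (.node (.node (.leaf 0x1163dcc5) (.leaf 0x120fdcc1)) (.node (.leaf 0x10f41cb9) (.leaf 0xd419cc7))) (.node (.node (.leaf 0xe13dcc7) (.leaf 0x169a1ca9)) (.node (.leaf 0x13185cc1) (.leaf 0xf759ca5)))) (.node (.node (.node (.leaf 0x11a35cc1) (.leaf 0xe955ca5)) (.node (.leaf 0x11639cad) (.leaf 0xdec5cc7))) (.node (.node (.leaf 0x16a2dcc1) (.leaf 0xdd85cc1)) (.node (.leaf 0x134b5cc3) (.leaf 0x0))))) (.node (.node (.node (.node (.leaf 0x14ce1cc1) (.leaf 0x12ba1ca5)) (.node (.leaf 0xf765cc5) (.leaf 0x10e91cc7))) (.node (.node (.leaf 0x1015dcbd) (.leaf 0xe389ca5)) (.node (.leaf 0x157c1cb5) (.leaf 0x0)))) (.node (.node (.node (.leaf 0xcea9ca9) (.leaf 0x10249cc3))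 (.node (.leaf 0x10809cc3) (.leaf 0xf8e1ca5))) (.node (.node (.leaf 0x14761cc5) (.leaf 0x107e5cc1)) (.node (.leaf 0x80f1cc1) (.leaf 0x0)))))))) (.node (.node (.node (.node (.node (.node (.node (.leaf 0x13939cbb) (.leaf 0xeca5cbd)) (.node (.leaf 0x14815cc1) (.leaf 0x133b9ca5))) (.node (.node (.leaf 0x10425ca9) (.leaf 0xed79cb5)) (.node (.leaf 0xc681cc1) (.leaf 0x12665cc1)))) (.node (.node (.node (.leaf 0xca51cc1) (.leaf 0xf8c1cc7)) (.node (.leaf 0x10bb5cc3) (.leaf 0xef59cc3))) (.node (.node (.leaf 0xe65dcc5) (.leaf 0xcea5cc5)) (.node (.leaf 0xe745cbd) (.leaf 0x0))))) (.node (.node (.node (.node (.leaf 0x11459cb5) (.leaf 0x12f91cb5)) (.node (.leaf 0x12719cb9) (.leaf 0x12c49cb5))) (.node (.node (.leaf 0x115f9cad) (.leaf 0xe05dcad)) (.node (.leaf 0x13b3dca9) (.leaf 0xa329cad)))) (.node (.node (.node (.leaf 0x1546dcb5) (.leaf 0x13231cc1)) (.node (.leaf 0xe0e1cc1) (.leaf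 0x10e69cbd))) (.node (.node (.leaf 0x6b91cc5) (.leaf 0x126a5cc5)) (.node (.leaf 0x139ddcc3) (.leaf 0x0)))))) (.node (.node (.node (.node (.node (.leaf 0x131fdcc5) (.leaf 0x120fdcbd)) (.node (.leaf 0x11255cc3) (.leaf 0xc001cc5))) (.node (.node (.leaf 0x10e11ca9) (.leaf 0xba45cbb)) (.node (.leaf 0x11b49cc7) (.leaf 0xe051cb5)))) (.node (.node (.node (.leaf 0xd4fdcbb) (.leaf 0x11ed9cc7)) (.node (.leaf 0x11339cc7) (.leaf 0x12b21cc5))) (.node (.node (.leaf 0xc1c5cb5) (.leaf 0xcea1cc5)) (.node (.leaf 0x142f9cc7) (.leaf 0x0))))) (.node (.node (.node (.node (.leaf 0x111b1cb9) (.leaf 0x10dadcc7)) (.node (.leaf 0x122f1cc3) (.leaf 0xe591cc1))) (.node (.node (.leaf 0x13131cc3) (.leaf 0xeb29cc7)) (.node (.leaf 0x11c41cc1) (.leaf 0x0)))) (.node (.node (.node (.leaf 0xe871cbd) (.leaf 0x12609ca5)) (.node (.leaf 0x168e1cc3) (.leaf 0x14f89cbb))) (.node (.node (.leaf 0x101b1cb9) (.leaf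 0x11215ca9)) (.node (.leaf 0x899dcc5) (.leaf 0x0))))))) (.node (.node (.node (.node (.node (.node (.leaf 0xdc75cc5) (.leaf 0x10ed1cc7)) (.node (.leaf 0x151a5cbb) (.leaf 0x11c41cc7))) (.node (.node (.leaf 0x11525ca5) (.leaf 0x1611dca5)) (.node (.leaf 0x13ab1cc7) (.leaf 0x10731cc1)))) (.node (.node (.node (.leaf 0x10f99cb9) (.leaf 0x1389dcad)) (.node (.leaf 0xf891cc7) (.leaf 0x14635cb9))) (.node (.node (.leaf 0x12f7dcc3) (.leaf 0x10459cc5)) (.node (.leaf 0x106e5cbd) (.leaf 0x0))))) (.node (.node (.node (.node (.leaf 0xf8ddca9) (.leaf 0x1357dcc3)) (.node (.leaf 0xe175cb9) (.leaf 0xf559ca5))) (.node (.node (.leaf 0xf559cb9) (.leaf 0x10311cc3)) (.node (.leaf 0xd9a1cad) (.leaf 0x129c1cc3)))) (.node (.node (.node (.leaf 0xd429cb9) (.leaf 0xd30dcc1)) (.node (.leaf 0xc259cc3) (.leaf 0xa191cc3))) (.node (.node (.leaf 0xdcb9ca9) (.leaf 0xe5b1cad)) (.node (.leaf 0x13795cc5)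 (.leaf 0x0)))))) (.node (.node (.node (.node (.node (.leaf 0x8741cc5) (.leaf 0x138e9cad)) (.node (.leaf 0x10809cad) (.leaf 0xa979cc3))) (.node (.node (.leaf 0x11729ca9) (.leaf 0x10b79cc7)) (.node (.leaf 0x12491cbd) (.leaf 0x131fdcb9)))) (.node (.node (.node (.leaf 0xcb3dcc5) (.leaf 0xdf4dcbd)) (.node (.leaf 0x17639cc7) (.leaf 0xab85cb5))) (.node (.node (.leaf 0x8dc1cc1) (.leaf 0x126cdcbb)) (.node (.leaf 0x11acdcb9) (.leaf 0x0))))) (.node (.node (.node (.node (.leaf 0xf865cbd) (.leaf 0x12d6dcad)) (.node (.leaf 0x11b65cc5) (.leaf 0x13139cc3))) (.node (.node (.leaf 0x133adca9) (.leaf 0xe05dcc5)) (.node (.leaf 0xe235cc7) (.leaf 0x0)))) (.node (.node (.node (.leaf 0x113d1ca5) (.leaf 0x12f35cc3)) (.node (.leaf 0x11695cc1) (.leaf 0x106d1cc3))) (.node (.node (.leaf 0x121f1cc7) (.leaf 0x10e85cc5)) (.node (.leaf 0x11e21cc5) (.leaf 0x0))))))))) (.node (.node (.node (.node (.node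 (.node (.node (.node (.leaf 0x15d41ca5) (.leaf 0x15219cc5)) (.node (.leaf 0x106a5cbb) (.leaf 0x11f39cc1))) (.node (.node (.leaf 0x10bbdcbb) (.leaf 0xf1d9cc5)) (.node (.leaf 0x16c7dcbb) (.leaf 0xf695cb9)))) (.node (.node (.node (.leaf 0xce81cc1) (.leaf 0x13b21cb9)) (.node (.leaf 0x1176dca5) (.leaf 0xc6a1ca9))) (.node (.node (.leaf 0xef59cbd) (.leaf 0xf6cdcbb)) (.node (.leaf 0x12045cc5) (.leaf 0x0))))) (.node (.node (.node (.node (.leaf 0x136b5cb9) (.leaf 0x12115cc7)) (.node (.leaf 0x10dadca5) (.leaf 0x12341cb5))) (.node (.node (.leaf 0x11229cc7) (.leaf 0x13a1dcbb)) (.node (.leaf 0x116a9ca9) (.leaf 0xba3dcc1)))) (.node (.node (.node (.leaf 0xc06dcbd) (.leaf 0x16dbdcb9)) (.node (.leaf 0x124bdcbd) (.leaf 0x101c1cc5))) (.node (.node (.leaf 0x106d9cad) (.leaf 0xb5ddcbd)) (.node (.leaf 0x4349cc5) (.leaf 0x0)))))) (.node (.node (.node (.node (.node (.leaf 0xcea1ca9) (.leaf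 0x13a15cbd)) (.node (.leaf 0xc5ddcc7) (.leaf 0x12c49cbd))) (.node (.node (.leaf 0x12b21cc7) (.leaf 0x16a7dcad)) (.node (.leaf 0x1755dcb9) (.leaf 0xfa4dcc5)))) (.node (.node (.node (.leaf 0x10669cc7) (.leaf 0x4349cc1)) (.node (.leaf 0xdb71cc1) (.leaf 0x11b65cc3))) (.node (.node (.leaf 0x10f95cad) (.leaf 0x1230dcb9)) (.node (.leaf 0x139ddcc1) (.leaf 0x0))))) (.node (.node (.node (.node (.leaf 0xd9a1cb5) (.leaf 0xf53dcc3)) (.node (.leaf 0x120fdcc7) (.leaf 0x1666dcad))) (.node (.node (.leaf 0x1319dcc7) (.leaf 0x13971cad)) (.node (.leaf 0x1012dcb9) (.leaf 0x170bdcc5)))) (.node (.node (.node (.leaf 0x8715ca9) (.leaf 0x12919ca5)) (.node (.leaf 0x1107dcc5) (.leaf 0x10eadcc7))) (.node (.node (.leaf 0x1057dcad) (.leaf 0xce81cc5)) (.node (.leaf 0xa191cc1) (.leaf 0x0))))))) (.node (.node (.node (.node (.node (.node (.leaf 0x10ee1cc7) (.leaf 0xd2bdca9)) (.node (.leaf 0x10409cb5)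 (.leaf 0x16be5cc3))) (.node (.node (.leaf 0x110a5cc3) (.leaf 0x12a3dcc7)) (.node (.leaf 0xc5a1cc7) (.leaf 0x121a9ca9)))) (.node (.node (.node (.leaf 0x11c99cc7) (.leaf 0x125d9cad)) (.node (.leaf 0xeb9dcc7) (.leaf 0x104f5cbb))) (.node (.node (.leaf 0x16a7dcbd) (.leaf 0x12691cc5)) (.node (.leaf 0x115f9ca5) (.leaf 0x0))))) (.node (.node (.node (.node (.leaf 0xf695cc5) (.leaf 0x11735cb9)) (.node (.leaf 0x125f5cc7) (.leaf 0x1076dcc1))) (.node (.node (.leaf 0xf8b1cc3) (.leaf 0x10a79cc7)) (.node (.leaf 0x1725dcb9) (.leaf 0x11415cc3)))) (.node (.node (.node (.leaf 0x16281cc3) (.leaf 0x13185cbb)) (.node (.leaf 0xa191cb9) (.leaf 0x13341ca9))) (.node (.node (.leaf 0xf785cbb) (.leaf 0x12a49cbd)) (.node (.leaf 0xa329cbd) (.leaf 0x0)))))) (.node (.node (.node (.node (.node (.leaf 0xc725cc5) (.leaf 0x12ae9cc3)) (.node (.leaf 0x101b9ca5) (.leaf 0x16b51cb5))) (.node (.node (.leaf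 0x134b5ca9) (.leaf 0x11055cc5)) (.node (.leaf 0x138d5cc7) (.leaf 0xc2c5cc3)))) (.node (.node (.node (.leaf 0x12b49ca9) (.leaf 0x133f9cad)) (.node (.leaf 0xd781cc7) (.leaf 0x12491cb5))) (.node (.node (.leaf 0xc9f9cc3) (.leaf 0xd731cc3)) (.node (.leaf 0xe985cc1) (.leaf 0x0))))) (.node (.node (.node (.node (.leaf 0x104f5cc1) (.leaf 0x138e5cb5)) (.node (.leaf 0xd21dcbd) (.leaf 0xcea1cc7))) (.node (.node (.leaf 0x115adca5) (.leaf 0x12e39cc3)) (.node (.leaf 0x173a9cc5) (.leaf 0x0)))) (.node (.node (.node (.leaf 0x10c29ca9) (.leaf 0xe871cb5)) (.node (.leaf 0x1315dcb9) (.leaf 0xf921cc5))) (.node (.node (.leaf 0xc4bdcb9) (.leaf 0x10e9dcc5)) (.node (.leaf 0x96ddcc5) (.leaf 0x0)))))))) (.node (.node (.node (.node (.node (.node (.node (.leaf 0x88c1cbb) (.leaf 0x132cdcb5)) (.node (.leaf 0xc71dcc7) (.leaf 0x11ce1ca9))) (.node (.node (.leaf 0xe519ca9) (.leaf 0x1568dcc5)) (.node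 (.leaf 0xc48dcbb) (.leaf 0x12965cbd)))) (.node (.node (.node (.leaf 0x11c41cad) (.leaf 0x16f89cb9)) (.node (.leaf 0x11751cc3) (.leaf 0x16755cbd))) (.node (.node (.leaf 0x15619cc1) (.leaf 0x1245dcad)) (.node (.leaf 0x1284dcc1) (.leaf 0x0))))) (.node (.node (.node (.node (.leaf 0xf76dcc1) (.leaf 0x11acdcc5)) (.node (.leaf 0x10159cb5) (.leaf 0x12b81cb5))) (.node (.node (.leaf 0x14405cad) (.leaf 0xe591cc5)) (.node (.leaf 0x11119cb9) (.leaf 0xeb39cad)))) (.node (.node (.node (.leaf 0xf6f9cc7) (.leaf 0x134b5cc1)) (.node (.leaf 0x10729cc3) (.leaf 0x10ec5cc7))) (.node (.node (.leaf 0x1074dcc5) (.leaf 0x11b6dcc3)) (.node (.leaf 0xc9f9cc1) (.leaf 0x0)))))) (.node (.node (.node (.node (.node (.leaf 0x133c1cc1) (.leaf 0x11b09cbd)) (.node (.leaf 0x10f51cb9) (.leaf 0x16449cbd))) (.node (.node (.leaf 0x103cdcc7) (.leaf 0x12149ca9)) (.node (.leaf 0x132d1cc3) (.leaf 0x13a61cc5))))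 (.node (.node (.node (.leaf 0x109f5cb5) (.leaf 0x115f9cc7)) (.node (.leaf 0xd6f9cc5) (.leaf 0x12581cb5))) (.node (.node (.leaf 0x141c9cb5) (.leaf 0xce79cc5)) (.node (.leaf 0xc72dcc7) (.leaf 0x0))))) (.node (.node (.node (.node (.leaf 0xcec1cc5) (.leaf 0x1546dcbd)) (.node (.leaf 0x169a1cbd) (.leaf 0x12cb1cc7))) (.node (.node (.leaf 0xc6f1ca9) (.leaf 0x11f19ca5)) (.node (.leaf 0xea31cbb) (.leaf 0x0)))) (.node (.node (.node (.leaf 0xd1a9ca9) (.leaf 0x10d45cc7)) (.node (.leaf 0xc1cdcc1) (.leaf 0xa625cb5))) (.node (.node (.leaf 0x11be9ca9) (.leaf 0x15e3dcc7)) (.node (.leaf 0x128d9cb5) (.leaf 0x0))))))) (.node (.node (.node (.node (.node (.node (.leaf 0xf075cbd) (.leaf 0x12b1dcc3)) (.node (.leaf 0x9425cbb) (.leaf 0x9e2dcad))) (.node (.node (.leaf 0x10f95ca5) (.leaf 0xf8b1cb5)) (.node (.leaf 0x129e1cbd) (.leaf 0x128d9cb9)))) (.node (.node (.node (.leaf 0x10471cc1) (.leaf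 0x1429dcc7)) (.node (.leaf 0x10479cad) (.leaf 0xd1a9cc5))) (.node (.node (.leaf 0xc141cb9) (.leaf 0x12a49cbb)) (.node (.leaf 0xd21dcb5) (.leaf 0x0))))) (.node (.node (.node (.node (.leaf 0x13801ca9) (.leaf 0xf435cc1)) (.node (.leaf 0xe37dca9) (.leaf 0x13019ca5))) (.node (.node (.leaf 0x112b9cc5) (.leaf 0x11751cb9)) (.node (.leaf 0x12775cbb) (.leaf 0x12921cad)))) (.node (.node (.node (.leaf 0xdb71ca5) (.leaf 0xdf4dcc1)) (.node (.leaf 0xd6f5ca5) (.leaf 0x10669cc5))) (.node (.node (.leaf 0x11141cc5) (.leaf 0x10e99cc5)) (.node (.leaf 0x171f9cc3) (.leaf 0x0)))))) (.node (.node (.node (.node (.node (.leaf 0x106d1cc7) (.leaf 0x106edcc3)) (.node (.leaf 0x10d89cc1) (.leaf 0x11e59cc7))) (.node (.node (.leaf 0x10d71cb9) (.leaf 0x12611ca9)) (.node (.leaf 0x11009cb5) (.leaf 0x11e45cc7)))) (.node (.node (.node (.leaf 0x109a9cbd) (.leaf 0x13959cb5)) (.node (.leaf 0x10a09cc1) (.leaf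 0xc001cc7))) (.node (.node (.leaf 0x4781cc5) (.leaf 0x139d9ca9)) (.node (.leaf 0x12661ca5) (.leaf 0x0))))) (.node (.node (.node (.node (.leaf 0x101adcc3) (.leaf 0x9e2dcbd)) (.node (.leaf 0x1230dcc3) (.leaf 0x12491cad))) (.node (.node (.leaf 0x96ddcbb) (.leaf 0xe235ca5)) (.node (.leaf 0xd905cb9) (.leaf 0x0)))) (.node (.node (.node (.leaf 0x103a9cc5) (.leaf 0xd741cb9)) (.node (.leaf 0x10aadca9) (.leaf 0x13a1dca5))) (.node (.node (.leaf 0xe765cc7) (.leaf 0xf559cc1)) (.node (.leaf 0xa52dcbd) (.leaf 0x0))))))))))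

/-- packed table -/
noncomputable def cov19_rrr : BTree := (.node (.node (.node (.node (.node (.node (.node (.node (.node (.leaf 0x17375cb9) (.leaf 0xa9e5ca5)) (.node (.leaf 0xdf09cc5) (.leaf 0x11255cc5))) (.node (.node (.leaf 0x14bc5cbd) (.leaf 0x10221ca9)) (.node (.leaf 0x13a1dca9) (.leaf 0x109f5cc7)))) (.node (.node (.node (.leaf 0x1107dcb5) (.leaf 0x13095cc1)) (.node (.leaf 0xd429cb5) (.leaf 0x115f9cc1))) (.node (.node (.leaf 0x10cc9cb5) (.leaf 0x138b9cc5)) (.node (.leaf 0x10499ca5) (.leaf 0x0))))) (.node (.node (.node (.node (.leaf 0x10e9dca9) (.leaf 0xd9a1cb9)) (.node (.leaf 0xa9e9cc5) (.leaf 0x11ca9cc7))) (.node (.node (.leaf 0x136b9cbd) (.leaf 0x12661cad)) (.node (.leaf 0x13041cc3) (.leaf 0xeaa5cc7)))) (.node (.node (.node (.leaf 0x11735ca5) (.leaf 0x122f1cb9)) (.node (.leaf 0x12831cbb) (.leaf 0x14f89ca9))) (.node (.node (.leaf 0xc6f1cad) (.leaf 0x10825cc1))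 (.node (.leaf 0x10379cc5) (.leaf 0x0)))))) (.node (.node (.node (.node (.node (.leaf 0xdfadcc3) (.leaf 0x13529cbb)) (.node (.leaf 0x14489ca9) (.leaf 0xc429cc7))) (.node (.node (.leaf 0xc4bdcad) (.leaf 0x175b1cc5)) (.node (.leaf 0x10d71cc7) (.leaf 0x1600dcc7)))) (.node (.node (.node (.leaf 0x10e85cc7) (.leaf 0x101d5cc1)) (.node (.leaf 0x138d5cc1) (.leaf 0x11735cc1))) (.node (.node (.leaf 0x1128dcc5) (.leaf 0x11679cb9)) (.node (.leaf 0x1315dcc7) (.leaf 0x0))))) (.node (.node (.node (.node (.leaf 0x132d1cb9) (.leaf 0x112cdca9)) (.node (.leaf 0x12775cc7) (.leaf 0xf7d9ca9))) (.node (.node (.leaf 0x107bdcc3) (.leaf 0xe145cc7)) (.node (.leaf 0x12b05cbb) (.leaf 0x1611dca9)))) (.node (.node (.node (.leaf 0x8719ca5) (.leaf 0x11d81cc5)) (.node (.leaf 0x11269ca5) (.leaf 0xab01cad))) (.node (.node (.leaf 0x13451ca9) (.leaf 0x131fdcc3)) (.node (.leaf 0xe179cc3) (.leaf 0x0)))))))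 (.node (.node (.node (.node (.node (.node (.leaf 0x10109ca9) (.leaf 0x14eb5cc7)) (.node (.leaf 0x1283dcc5) (.leaf 0x1389dcc5))) (.node (.node (.leaf 0x11795cb5) (.leaf 0x12665cad)) (.node (.leaf 0x1751dcbd) (.leaf 0xf929ca5)))) (.node (.node (.node (.leaf 0xea31cc7) (.leaf 0x102f5cc7)) (.node (.leaf 0x11025cad) (.leaf 0x13a59cb9))) (.node (.node (.leaf 0xd6e5cb9) (.leaf 0x12f2dcbb)) (.node (.leaf 0x12431cb9) (.leaf 0x0))))) (.node (.node (.node (.node (.leaf 0x13779cb9) (.leaf 0xeae1cc3)) (.node (.leaf 0x1085dcb5) (.leaf 0x11da9cc3))) (.node (.node (.leaf 0xc259cc1) (.leaf 0x116b1cc5)) (.node (.leaf 0x1581dcc1) (.leaf 0x14e15cc5)))) (.node (.node (.node (.leaf 0x15c69cc7) (.leaf 0x10159cc7)) (.node (.leaf 0x124bdcb9) (.leaf 0xa52dcad))) (.node (.node (.leaf 0xc71dcbd) (.leaf 0x14eb1cc7)) (.node (.leaf 0x1267dcbb) (.leaf 0x0)))))) (.node (.node (.node (.node (.node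 (.leaf 0x14eb9cc7) (.leaf 0x122f1cbb)) (.node (.leaf 0x101adca5) (.leaf 0xf53dca9))) (.node (.node (.leaf 0x4349ca5) (.leaf 0x15dc5cc3)) (.node (.leaf 0xd70dcc7) (.leaf 0x10a19cb9)))) (.node (.node (.node (.leaf 0x101b1cbb) (.leaf 0xd7e9ca9)) (.node (.leaf 0xe6d5cc3) (.leaf 0xe025ca9))) (.node (.node (.leaf 0xd21dca5) (.leaf 0xc6a1cc1)) (.node (.leaf 0x11b51cc5) (.leaf 0x0))))) (.node (.node (.node (.node (.leaf 0x1160dcbd) (.leaf 0xf8a1cc5)) (.node (.leaf 0xdbd9ca5) (.leaf 0x10425cc7))) (.node (.node (.leaf 0x11c25cbb) (.leaf 0xb439cb9)) (.node (.leaf 0xc4e5cc7) (.leaf 0x0)))) (.node (.node (.node (.leaf 0xc30dcc5) (.leaf 0xe4b1cb9)) (.node (.leaf 0x545dca5) (.leaf 0x138e5cbb))) (.node (.node (.leaf 0x13989cc5) (.leaf 0x136b5cc3)) (.node (.leaf 0xdf4dcbb) (.leaf 0x0)))))))) (.node (.node (.node (.node (.node (.node (.node (.leaf 0x13945cbb) (.leaf 0xa4c9cc5)) (.node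 (.leaf 0xf435cb9) (.leaf 0x15471cc3))) (.node (.node (.leaf 0xd2bdcc5) (.leaf 0xc2c5cc1)) (.node (.leaf 0xf075cc7) (.leaf 0x11885cc3)))) (.node (.node (.node (.leaf 0x15825cbd) (.leaf 0xf929ca9)) (.node (.leaf 0x1cc8) (.leaf 0x113d1cb9))) (.node (.node (.leaf 0xc141cc7) (.leaf 0x14421cc7)) (.node (.leaf 0x15c7dcbd) (.leaf 0x0))))) (.node (.node (.node (.node (.leaf 0xca51cc3) (.leaf 0x131c5cbd)) (.node (.leaf 0x10135cb5) (.leaf 0x10d4dcc3))) (.node (.node (.leaf 0x139adca9) (.leaf 0x12c4dcad)) (.node (.leaf 0x132f9cc3) (.leaf 0x122f1cc5)))) (.node (.node (.node (.leaf 0xf5d5ca9) (.leaf 0x9e2dcb9)) (.node (.leaf 0x13529cc3) (.leaf 0xf979ca5))) (.node (.node (.leaf 0x1091dcc1) (.leaf 0x1244dcb9)) (.node (.leaf 0x10579cc3) (.leaf 0x0)))))) (.node (.node (.node (.node (.node (.leaf 0xce79cc7) (.leaf 0x1157dcb9)) (.node (.leaf 0x137a1cc3) (.leaf 0xd30dcc7))) (.node (.node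 (.leaf 0x161c1cc7) (.leaf 0x11d7dcc1)) (.node (.leaf 0x11b39cc7) (.leaf 0x12009cc7)))) (.node (.node (.node (.leaf 0x134edcbb) (.leaf 0x13185cb9)) (.node (.leaf 0x133c1cbd) (.leaf 0x1176dcc1))) (.node (.node (.leaf 0x101b9cb5) (.leaf 0x11509cb9)) (.node (.leaf 0x11c41cc5) (.leaf 0x0))))) (.node (.node (.node (.node (.leaf 0x111b9cbd) (.leaf 0x170ddcb9)) (.node (.leaf 0x1672dcbd) (.leaf 0xb5a5cad))) (.node (.node (.leaf 0x10479cb5) (.leaf 0xdf05ca5)) (.node (.leaf 0x13109cc7) (.leaf 0x0)))) (.node (.node (.node (.leaf 0x153d5cad) (.leaf 0xd521cc7)) (.node (.leaf 0x10819cc5) (.leaf 0x12325cc7))) (.node (.node (.leaf 0x103c5ca5) (.leaf 0x13109cad)) (.node (.leaf 0xf8e1cad) (.leaf 0x0))))))) (.node (.node (.node (.node (.node (.node (.leaf 0x112c1cc5) (.leaf 0x138d5cad)) (.node (.leaf 0x12efdcc7) (.leaf 0x1057dcc1))) (.node (.node (.leaf 0x1106dcad) (.leaf 0x126edcbb))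 (.node (.leaf 0x106a9cb9) (.leaf 0x8719cc1)))) (.node (.node (.node (.leaf 0x88c1cc1) (.leaf 0x12665cb5)) (.node (.leaf 0x104a9cad) (.leaf 0x17381cb5))) (.node (.node (.leaf 0xf71dcbd) (.leaf 0x172e1cb5)) (.node (.leaf 0x14695ca5) (.leaf 0x0))))) (.node (.node (.node (.node (.leaf 0x158c1cc7) (.leaf 0xc1b5cc3)) (.node (.leaf 0x11b05cc1) (.leaf 0xa3d9cc3))) (.node (.node (.leaf 0xc72dcc3) (.leaf 0x127e5cad)) (.node (.leaf 0x15a51cc1) (.leaf 0xf67dca5)))) (.node (.node (.node (.leaf 0x14e31cad) (.leaf 0xf6cdcad)) (.node (.leaf 0x4349cc3) (.leaf 0xa329cb5))) (.node (.node (.leaf 0xf76dcbb) (.leaf 0x12f2dcbd)) (.node (.leaf 0xe955cbd) (.leaf 0x0)))))) (.node (.node (.node (.node (.node (.leaf 0x10729cc5) (.leaf 0x123b1ca9)) (.node (.leaf 0x122ddcc3) (.leaf 0xa329cc1))) (.node (.node (.leaf 0x16be5ca9) (.leaf 0x102cdcc1)) (.node (.leaf 0x12d31cc7) (.leaf 0xe175cc7))))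 (.node (.node (.node (.leaf 0x899dcb9) (.leaf 0x11735cbb)) (.node (.leaf 0xc5ddcc5) (.leaf 0x6d91cb9))) (.node (.node (.leaf 0x8dedcb9) (.leaf 0x14c75cc1)) (.node (.leaf 0x12d61cc5) (.leaf 0x0))))) (.node (.node (.node (.node (.leaf 0x1184dcad) (.leaf 0xa52dca5)) (.node (.leaf 0x1565dcb5) (.leaf 0x129e1cc7))) (.node (.node (.leaf 0xcd61cbb) (.leaf 0x16a69cc7)) (.node (.leaf 0x13a75cc1) (.leaf 0x0)))) (.node (.node (.node (.leaf 0x14329cc1) (.leaf 0x101adca9)) (.node (.leaf 0xebb9cc3) (.leaf 0x14139cb9))) (.node (.node (.leaf 0x12341cc7) (.leaf 0x12d21cad)) (.node (.leaf 0x16c41ca5) (.leaf 0x0))))))))) (.node (.node (.node (.node (.node (.node (.node (.node (.leaf 0x9405cbd) (.leaf 0x11525cbd)) (.node (.leaf 0xe1a1cc7) (.leaf 0x10d71cc3))) (.node (.node (.leaf 0xf559cbd) (.leaf 0xc1b5ca9)) (.node (.leaf 0x116b1cc1) (.leaf 0xe351cad)))) (.node (.node (.node (.leaf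 0x11c4dcad) (.leaf 0x11541ca9)) (.node (.leaf 0x473dcc1) (.leaf 0xdc75cc3))) (.node (.node (.leaf 0x108a1cbd) (.leaf 0x138bdcc5)) (.node (.leaf 0xa625cbd) (.leaf 0x0))))) (.node (.node (.node (.node (.leaf 0x176c9cb9) (.leaf 0x129c1cad)) (.node (.leaf 0x12021cc7) (.leaf 0xcd61cc3))) (.node (.node (.leaf 0x10cb1cbd) (.leaf 0xf8b1ca9)) (.node (.leaf 0x10d65cc5) (.leaf 0x6b91cb9)))) (.node (.node (.node (.leaf 0xd641cc5) (.leaf 0x15591cc7)) (.node (.leaf 0xea31cbd) (.leaf 0x11f0dcbd))) (.node (.node (.leaf 0xe985ca9) (.leaf 0xe595ca9)) (.node (.leaf 0x1357dcc7) (.leaf 0x0)))))) (.node (.node (.node (.node (.node (.leaf 0x545dcad) (.leaf 0xa3d9cbb)) (.node (.leaf 0x13795cc3) (.leaf 0x11269cc5))) (.node (.node (.leaf 0x123d1cc7) (.leaf 0x12491cc7)) (.node (.leaf 0x15b45cc7) (.leaf 0x13949ca5)))) (.node (.node (.node (.leaf 0x1267dcc7) (.leaf 0x12301cb5)) (.node (.leaf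 0x156c1cc3) (.leaf 0xa625cc7))) (.node (.node (.leaf 0xc4ddca5) (.leaf 0x10cb1cc1)) (.node (.leaf 0x12ff9cc3) (.leaf 0x0))))) (.node (.node (.node (.node (.leaf 0x17569cc5) (.leaf 0x11459cc7)) (.node (.leaf 0x107bdcbd) (.leaf 0x116a5cc3))) (.node (.node (.leaf 0x96ddcbd) (.leaf 0x11d6dcc3)) (.node (.leaf 0x10079cb9) (.leaf 0xd30dcc3)))) (.node (.node (.node (.leaf 0x1ca2) (.leaf 0x15515cc7)) (.node (.leaf 0x1245dcbd) (.leaf 0x12c49ca9))) (.node (.node (.leaf 0xe5c1cc7) (.leaf 0xec8dcb9)) (.node (.leaf 0x126a1cc1) (.leaf 0x0))))))) (.node (.node (.node (.node (.node (.node (.leaf 0x13551cb9) (.leaf 0xdb71cc3)) (.node (.leaf 0x100f5cbd) (.leaf 0x12d6dcb9))) (.node (.node (.leaf 0xe5b1cc1) (.leaf 0x12115ca5)) (.node (.leaf 0x11335cc3) (.leaf 0xe711ca9)))) (.node (.node (.node (.leaf 0xa4c9cc7) (.leaf 0xc725cc7)) (.node (.leaf 0x132cdcc7) (.leaf 0x13201cad))) (.node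 (.node (.leaf 0x12039cb9) (.leaf 0x11ffdcbd)) (.node (.leaf 0xe051cc5) (.leaf 0x0))))) (.node (.node (.node (.node (.leaf 0x11861ca9) (.leaf 0x11c4dcc7)) (.node (.leaf 0xa625cb9) (.leaf 0x15d8dcc3))) (.node (.node (.leaf 0x10501cc3) (.leaf 0xc595cc3)) (.node (.leaf 0x12abdcb9) (.leaf 0xd419cc3)))) (.node (.node (.node (.leaf 0x13915cc3) (.leaf 0x125d1ca5)) (.node (.leaf 0x1106dcb9) (.leaf 0x8229cbb))) (.node (.node (.leaf 0xd401cc1) (.leaf 0xf0edcbb)) (.node (.leaf 0xd9a1cbd) (.leaf 0x0)))))) (.node (.node (.node (.node (.node (.leaf 0x473dcc5) (.leaf 0x166f9cc3)) (.node (.leaf 0x10249cc5) (.leaf 0x1357dcb5))) (.node (.node (.leaf 0x10ee5cb9) (.leaf 0x12691cad)) (.node (.leaf 0xcb69cb9) (.leaf 0x10b39cb9)))) (.node (.node (.node (.leaf 0x16c09cbb) (.leaf 0x10f49cc5)) (.node (.leaf 0x105f1cc5) (.leaf 0x16525cc1))) (.node (.node (.leaf 0xc6a1cb5) (.leaf 0x102cdcc7))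 (.node (.leaf 0x10531cc1) (.leaf 0x0))))) (.node (.node (.node (.node (.leaf 0x129d5cc1) (.leaf 0x11635cc5)) (.node (.leaf 0x12239cb9) (.leaf 0xe05dcbd))) (.node (.node (.leaf 0xe519cc7) (.leaf 0x12341cc3)) (.node (.leaf 0xf081cbb) (.leaf 0x0)))) (.node (.node (.node (.leaf 0xce79ca9) (.leaf 0xe7b5ca9)) (.node (.leaf 0x10cedcc5) (.leaf 0xa735cc5))) (.node (.node (.leaf 0xd059cc1) (.leaf 0x13521ca5)) (.node (.leaf 0x11e35cc5) (.leaf 0x0)))))))) (.node (.node (.node (.node (.node (.node (.node (.leaf 0x12515cb9) (.leaf 0x17375cc1)) (.node (.leaf 0xd30dcc5) (.leaf 0xfa4dcbd))) (.node (.node (.leaf 0x10b39cc5) (.leaf 0xf711cc3)) (.node (.leaf 0xe595cbd) (.leaf 0x16659cb5)))) (.node (.node (.node (.leaf 0x1106dcc7) (.leaf 0x12b4dcbd)) (.node (.leaf 0xebb9cb9) (.leaf 0x139ddcbb))) (.node (.node (.leaf 0x10ee5cbb) (.leaf 0x1357dca5)) (.node (.leaf 0x10731cc3) (.leaf 0x0)))))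 (.node (.node (.node (.node (.leaf 0x10279cad) (.leaf 0x17ae1cb9)) (.node (.leaf 0x13341cc7) (.leaf 0x12515cc1))) (.node (.node (.leaf 0x107bdcc1) (.leaf 0x10f31cc7)) (.node (.leaf 0x1311dcbd) (.leaf 0x12ab9cc7)))) (.node (.node (.node (.leaf 0x10cb1cbb) (.leaf 0xf8ddcb5)) (.node (.leaf 0x10401cc7) (.leaf 0x813dcc5))) (.node (.node (.leaf 0x473dcbd) (.leaf 0x120bdcbd)) (.node (.leaf 0x132f9cc7) (.leaf 0x0)))))) (.node (.node (.node (.node (.node (.leaf 0xc2c5cbd) (.leaf 0x1080dcc3)) (.node (.leaf 0x10111ca5) (.leaf 0x1357dcad))) (.node (.node (.leaf 0xf979cb9) (.leaf 0x170f1cbd)) (.node (.leaf 0x118c5cc5) (.leaf 0x11011cb9)))) (.node (.node (.node (.leaf 0xc1cdcbb) (.leaf 0x17889cc3)) (.node (.leaf 0xec8dca9) (.leaf 0xe745cc7))) (.node (.node (.leaf 0xc1b5cb5) (.leaf 0x114e9cc1)) (.node (.leaf 0xdec5cbb) (.leaf 0x0))))) (.node (.node (.node (.node (.leaf 0x11e25cc7)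 (.leaf 0xa4c9cb9)) (.node (.leaf 0x11119cb5) (.leaf 0x10311cc5))) (.node (.node (.leaf 0x12ff9ca9) (.leaf 0xe37dcc3)) (.node (.leaf 0x1106dcbb) (.leaf 0x0)))) (.node (.node (.node (.leaf 0x113d1cad) (.leaf 0x12609cad)) (.node (.leaf 0xe321cc7) (.leaf 0xe145ca9))) (.node (.node (.leaf 0x111b9ca9) (.leaf 0xdf4dca9)) (.node (.leaf 0x126a1ca5) (.leaf 0x0))))))) (.node (.node (.node (.node (.node (.node (.leaf 0x13139cc5) (.leaf 0xec8dcad)) (.node (.leaf 0x13451cb9) (.leaf 0xc2a9cc7))) (.node (.node (.leaf 0x8e4dcc3) (.leaf 0x1184dcc1)) (.node (.leaf 0x15989cc7) (.leaf 0x16421cc3)))) (.node (.node (.node (.leaf 0x11541cb5) (.leaf 0x96ddcc3)) (.node (.leaf 0x80f1cc5) (.leaf 0x16529cc1))) (.node (.node (.leaf 0x10581cc7) (.leaf 0xf4e5cc7)) (.node (.leaf 0x109f5cc3) (.leaf 0x0))))) (.node (.node (.node (.node (.leaf 0x1583dca5) (.leaf 0x13a59cc7)) (.node (.leaf 0xcad9ca9)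 (.leaf 0x10c5dcc3))) (.node (.node (.leaf 0x13019cb9) (.leaf 0xd731cbd)) (.node (.leaf 0xe3ddcc5) (.leaf 0xe985cb9)))) (.node (.node (.node (.leaf 0x1451dcbb) (.leaf 0x13a15cbb)) (.node (.leaf 0x12865cbd) (.leaf 0xdf2dcb5))) (.node (.node (.leaf 0x101adcad) (.leaf 0xf53dca5)) (.node (.leaf 0xa4c9cbd) (.leaf 0x0)))))) (.node (.node (.node (.node (.node (.leaf 0x11ce1cad) (.leaf 0x12169cbb)) (.node (.leaf 0x14271cc5) (.leaf 0xd70dcc5))) (.node (.node (.leaf 0x10825cbb) (.leaf 0x12d45cc1)) (.node (.leaf 0x13859cc5) (.leaf 0xdf2dcad)))) (.node (.node (.node (.leaf 0x11165cad) (.leaf 0xe05dcb5)) (.node (.leaf 0x10061ca9) (.leaf 0x14545cc3))) (.node (.node (.leaf 0xef59cbb) (.leaf 0xe519cc1)) (.node (.leaf 0x12cb1cb9) (.leaf 0x0))))) (.node (.node (.node (.node (.leaf 0xd401ca9) (.leaf 0xd6e5cc5)) (.node (.leaf 0x9405ca5) (.leaf 0x14d81cc3))) (.node (.node (.leaf 0x12f2dcc5)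 (.leaf 0x129c1cbb)) (.node (.leaf 0x10479ca5) (.leaf 0x0)))) (.node (.node (.node (.leaf 0x111b1cad) (.leaf 0xf1e1cc5)) (.node (.leaf 0x11b55cc1) (.leaf 0x10455cc7))) (.node (.node (.leaf 0x1000dca9) (.leaf 0x10d7dcc3)) (.node (.leaf 0xe519ca5) (.leaf 0x0))))))))))

/-- packed table -/
noncomputable def cov19 : BTree := (.node (.node (.node cov19_lll cov19_llr) (.node cov19_lrl cov19_lrr)) (.node (.node cov19_rll cov19_rlr) (.node cov19_rrl cov19_rrr)))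

theorem cov19_ok : okCover 19 cov19 = true := by decide +kernel

/-- straight-line program -/
def slp19 : List (Nat × Nat × Nat) :=
  [(0x54da1bc8c443a875d8a98b1f0182a2, 3, 7),
   (0x8b1e99c02b302cd928e8a54a470ae3, 2, 8),
   (0x54c2d2c0e3b81e6722d48b2a49092b, 8, 5),
   (0xb36aa3b902a0e2c2266133ef282ca0, 3, 6),
   (0x684c79c2e2a02365aaa87a4ae1c984, 5, 5),
   (0x79ae1b42ab6112a135148966e00cf2, 5, 6),
   (0x54c2d410d2b8927596d4646b0181ee, 12, 5),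
   (0xb36aa4c990a2ca801e6179aee10e24, 7, 6),
   (0x646b49c1ab300a1228f74bed213903, 14, 6),
   (0x9d5b7410f20812f746d42b1425c0c3, 11, 5),
   (0x415e954a23ab9ac04e9731ec48082b, 16, 17),
   (0xbdab498d844adb1729e531d1090022, 14, 14),
   (0xbdab49ad0038da5928d17a58271030, 14, 15),
   (0xbdab49b8a2349a81a8ec4be205c024, 16, 15),
   (0x2c4e998d0babaec15156799a404032, 19, 14),
   (0x7a5056c0c4b8147706d58b28392e62, 20, 21),
   (0x2a12f50d92aadb114e9739ad02002e, 20, 0),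
   (0x9a82db0cd042ea775ca98b1e490a80, 24, 20),
   (0xb5e95980ab3c1a8228d14bd8e14823, 20, 0),
   (0x7a5056c8e3b3946006f4646a480a6b, 25, 23),
   (0x2a12f51230a09ac5ceb631ef21b820, 24, 0),
   (0x9aaf6600e30c1e6745b5416829112b, 22, 23),
   (0x6d92730d0253aec5beb1a4ca494020, 22, 0),
   (0xad2f60c0d240147134af6452322e6e, 28, 30),
   (0x8952753992a0ec82567733c22801ab, 24, 0),
   (0x6152698a24a42c8955573bdae1ac20, 32, 0),
   (0x49e25b40c2b914f1b4346227272ea0, 26, 33),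
   (0x2b0ef98e2e54ae825681326d0009ab, 30, 0),
   (0x2c4cf54182992e89568d3a6c35b820, 35, 0),
   (0x414c75402e782cd1cd31ad18458af2, 30, 35),
   (0x398a8bae8460e7505a29685ee84942, 32, 0),
   (0x8b12fabad0349b7150e59a90b20c20, 36, 0),
   (0xa4ee16c0ce8914f058a9430f212ea3, 32, 38),
   (0xd954aaca44baec1ccd13bd02941a0, 35, 0),
   (0x695497aed2a09111cccc3d6ee24020, 40, 0),
   (0x7a62cb42ab2827495d07684c470943, 36, 39),
   (0x31da1639e32c94924515bda901026b, 37, 0),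
   (0x64553308b0791a891d37ad2c372c20, 41, 0),
   (0x8952754102992cc1d68179af272da0, 38, 42),
   (0x65a87542ee9c8b11bd2da990412c20, 45, 0),
   (0xb35559b90248eec5d0e579a3091020, 40, 37),
   (0x68553a919248ad1051e8398a382eee, 44, 46),
   (0xaaacd8c0d2090ef196f4432627012b, 42, 0),
   (0x8d8f57b9925411714d25a19a458c20, 43, 0),
   (0x79ae16b94060cf5959142c67059122, 44, 42),
   (0xa990d0894088cef216e9b32705ca8e, 51, 0),
   (0x6c535a3aeb3918893d4599ac314020, 49, 0),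
   (0x432aaa12ee340a104df63a5ab14a23, 52, 41),
   (0x405f34c222a38b6928cca9ee3011ab, 49, 0),
   (0x435ea48d8ea08b624cf1a9af05c820, 56, 0),
   (0x3d5a5b90c288df4932c94054e0426b, 51, 50),
   (0xabee58c2806acc92058745a6293943, 52, 0),
   (0x79a256b932b8e87858354314020a6b, 53, 0),
   (0x2b0ef50904ac2d11d277499ab93820, 57, 0),
   (0xa1f3acaeb4822c19d45a19ae242c2, 54, 54),
   (0x6deb37910ba019119d5649822940ae, 61, 0),
   (0xaa62dbc28028ccf122c70b14493a6b, 56, 0),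
   (0xba0eaa8ecb7c18572691999b220820, 61, 0),
   (0xb66aa123278aec0552531d0382ece, 63, 61),
   (0x555b62c1f2b91261c43362282700eb, 59, 0),
   (0x9d43628de4bc927831aa8a28e12cc0, 67, 0),
   (0x6dd544c910a8cb121a613becb03982, 66, 0),
   (0xbc6693910e7acad85156a998390820, 63, 0)]

/-- levels -/
def levels19 : List (Nat × List Nat) :=
  [(1, [71, 0, 2, 3, 4, 6, 8, 9, 10, 11, 12, 13, 14, 15, 16, 17]),
   (0, [71, 18, 19, 20, 21, 22, 24, 26]),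
   (6, [71, 28, 30, 33, 36, 39, 42, 45]),
   (2, [71, 47, 48, 51, 54, 57, 61]),
   (3, [71, 65, 70])]

/-- stabilising facts -/
def gens19 : List Nat := [1833, 1834, 1835, 1837, 1838, 1839, 1840, 1841]

theorem chain19_ok : okChain 19 gens19 slp19 levels19 = true := by decide +kernel

theorem chain19_size : chainSize levels19 = 21504 := by decide +kernel

end CfsgLib.Spor.J4.Index
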