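import Cfsg.Agent.Lib.Spor.J4.Index.Check

/-!
Coverage and stabiliser of node 2 (generated).
-/

set_option autoImplicit false
set_option linter.all false

namespace CfsgLib.Spor.J4.Index

open CfsgLib.PresCert

/-- packed table -/
noncomputable def cov2_lll : BTree := (.node (.node (.node (.node (.node (.node (.node (.node (.node (.leaf 0x5158071) (.leaf 0xb070029)) (.node (.leaf 0x84d0071) (.leaf 0x6e6c02b))) (.node (.node (.leaf 0xebf0021) (.leaf 0xa42c029)) (.node (.leaf 0xe35c029) (.leaf 0x9b9c073)))) (.node (.node (.node (.leaf 0xedf0073) (.leaf 0x9710071)) (.node (.leaf 0x4278025) (.leaf 0x784802b))) (.node (.node (.leaf 0x8b1402b) (.leaf 0xe4c8073)) (.node (.leaf 0xc470025) (.leaf 0x0))))) (.node (.node (.node (.node (.leaf 0x416c021) (.leaf 0xa3f0029)) (.node (.leaf 0xcd74025) (.leaf 0x99a4029))) (.node (.node (.leaf 0x896c02b) (.leaf 0x4278029)) (.node (.leaf 0x98ac025) (.leaf 0xafb8071)))) (.node (.node (.node (.leaf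 0xc678071) (.leaf 0x96c8021)) (.node (.leaf 0x13260073) (.leaf 0x9b28071))) (.node (.node (.leaf 0x9a98021) (.leaf 0x7538029)) (.node (.leaf 0x8ab8073) (.leaf 0x0)))))) (.node (.node (.node (.node (.node (.leaf 0xafa8021) (.leaf 0x6e6c073)) (.node (.leaf 0x9110025) (.leaf 0xe418025))) (.node (.node (.leaf 0x8ae8025) (.leaf 0x96c4021)) (.node (.leaf 0x8d20025) (.leaf 0xf6cc073)))) (.node (.node (.node (.leaf 0xf988071) (.leaf 0x9404071)) (.node (.leaf 0x95a4071) (.leaf 0xb96802b))) (.node (.node (.leaf 0xb944021) (.leaf 0xa88c021)) (.node (.leaf 0xc570029) (.leaf 0x0))))) (.node (.node (.node (.node (.leaf 0x4ec4073) (.leaf 0x8544071)) (.node (.leaf 0xaf5402b) (.leaf 0x6bc4071))) (.node (.node (.leaf 0x802002b) (.leaf 0xddac073)) (.node (.leaf 0xce5c025) (.leaf 0xe68c025)))) (.node (.node (.node (.leaf 0xac8402b) (.leaf 0x416c02b)) (.node (.leaf 0xdaa4021) (.leaf 0x905c029))) (.node (.node (.leaf 0xdcf8025) (.leaf 0xd65c02b))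 (.node (.leaf 0xee80025) (.leaf 0x0))))))) (.node (.node (.node (.node (.node (.node (.leaf 0x80ac021) (.leaf 0x10304073)) (.node (.leaf 0x8520025) (.leaf 0x69b0025))) (.node (.node (.leaf 0x6b38029) (.leaf 0xea68025)) (.node (.leaf 0x8ae8021) (.leaf 0xaf5002b)))) (.node (.node (.node (.leaf 0x8e1c02b) (.leaf 0xa51002b)) (.node (.leaf 0x9718025) (.leaf 0xaaa4071))) (.node (.node (.leaf 0x77e402b) (.leaf 0xe074073)) (.node (.leaf 0xcb20071) (.leaf 0x0))))) (.node (.node (.node (.node (.leaf 0xcb84021) (.leaf 0xb000021)) (.node (.leaf 0xc8a4025) (.leaf 0xece))) (.node (.node (.leaf 0xb7d8021) (.leaf 0x733c021)) (.node (.leaf 0x95ac025) (.leaf 0xc49c071)))) (.node (.node (.node (.leaf 0x98e8071) (.leaf 0x939c073)) (.node (.leaf 0xeb04029) (.leaf 0xf7c8073))) (.node (.node (.leaf 0x11bc4073) (.leaf 0x9f5c029)) (.node (.leaf 0xbaa402b) (.leaf 0x0)))))) (.node (.node (.node (.node (.node (.leaf 0xee34071) (.leaf 0xd85c02b)) (.node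 (.leaf 0x9b9c025) (.leaf 0x1be))) (.node (.node (.leaf 0xce6c071) (.leaf 0x9f5c02b)) (.node (.leaf 0x8ef4021) (.leaf 0x8f74021)))) (.node (.node (.node (.leaf 0x138b8073) (.leaf 0x13094073)) (.node (.leaf 0x978c029) (.leaf 0x40c0029))) (.node (.node (.leaf 0xc6b8071) (.leaf 0x8768021)) (.node (.leaf 0x8998021) (.leaf 0x0))))) (.node (.node (.node (.node (.leaf 0xcce0025) (.leaf 0x753c025)) (.node (.leaf 0x5150021) (.leaf 0xd8a4073))) (.node (.node (.leaf 0xab40021) (.leaf 0xa9e4021)) (.node (.leaf 0x8e24025) (.leaf 0x0)))) (.node (.node (.node (.leaf 0x407c02b) (.leaf 0xa744029)) (.node (.leaf 0x40d8025) (.leaf 0xa2d0025))) (.node (.node (.leaf 0xba20021) (.leaf 0xeb64029)) (.node (.leaf 0x698c029) (.leaf 0x0)))))))) (.node (.node (.node (.node (.node (.node (.node (.leaf 0x4074025) (.leaf 0x9818021)) (.node (.leaf 0xb6e002b) (.leaf 0xd4a8071))) (.node (.node (.leaf 0x96c8071) (.leaf 0x7b20025)) (.node (.leaf 0x8c) (.leaf 0xa560071))))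 (.node (.node (.node (.leaf 0xb070073) (.leaf 0xf200025)) (.node (.leaf 0xaaec021) (.leaf 0xec1c071))) (.node (.node (.leaf 0xabe8021) (.leaf 0x8ad4073)) (.node (.leaf 0x8de402b) (.leaf 0x0))))) (.node (.node (.node (.node (.leaf 0xb598071) (.leaf 0xbaf8025)) (.node (.leaf 0xe8cc02b) (.leaf 0xb2c0073))) (.node (.node (.leaf 0x8bf8073) (.leaf 0xd414071)) (.node (.leaf 0x993402b) (.leaf 0xa724025)))) (.node (.node (.node (.leaf 0x6af4029) (.leaf 0xa9d4021)) (.node (.leaf 0x12984073) (.leaf 0x95c8021))) (.node (.node (.leaf 0x97a0071) (.leaf 0x95c8071)) (.node (.leaf 0x6e94021) (.leaf 0x0)))))) (.node (.node (.node (.node (.node (.leaf 0xb940071) (.leaf 0xc978029)) (.node (.leaf 0x842c029) (.leaf 0x89e0029))) (.node (.node (.leaf 0x9d54021) (.leaf 0xafa0071)) (.node (.leaf 0x135a4073) (.leaf 0x40dc029)))) (.node (.node (.node (.leaf 0xa8a4073) (.leaf 0xb454021)) (.node (.leaf 0xb1fc021) (.leaf 0xc4bc029))) (.node (.node (.leaf 0xc920071)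 (.leaf 0x80f8029)) (.node (.leaf 0x54) (.leaf 0x0))))) (.node (.node (.node (.node (.leaf 0xb690029) (.leaf 0xdf64029)) (.node (.leaf 0xb2ec071) (.leaf 0xac20025))) (.node (.node (.leaf 0xe6e8029) (.leaf 0x7654025)) (.node (.leaf 0xb400071) (.leaf 0x4ff002b)))) (.node (.node (.node (.leaf 0x8544073) (.leaf 0xa1dc021)) (.node (.leaf 0x8d84071) (.leaf 0xe5a8025))) (.node (.node (.leaf 0xca28025) (.leaf 0x8288021)) (.node (.leaf 0x42a4071) (.leaf 0x0))))))) (.node (.node (.node (.node (.node (.node (.leaf 0x778) (.leaf 0x7b20071)) (.node (.leaf 0x83c0071) (.leaf 0xeab4029))) (.node (.node (.leaf 0x8bd4029) (.leaf 0xed40025)) (.node (.leaf 0x9ae4021) (.leaf 0xeb74025)))) (.node (.node (.node (.leaf 0x753802b) (.leaf 0xea04025)) (.node (.leaf 0x9094071) (.leaf 0xecd002b))) (.node (.node (.leaf 0x8324025) (.leaf 0x6654025)) (.node (.leaf 0x899c071) (.leaf 0x0))))) (.node (.node (.node (.node (.leaf 0x9388071) (.leaf 0xa2d4021)) (.node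 (.leaf 0x52bc025) (.leaf 0x5608021))) (.node (.node (.leaf 0xc8b0025) (.leaf 0xd98802b)) (.node (.leaf 0xd550025) (.leaf 0x6f18071)))) (.node (.node (.node (.leaf 0x819c071) (.leaf 0xbae0021)) (.node (.leaf 0x8eb8029) (.leaf 0x8d30071))) (.node (.node (.leaf 0xee58071) (.leaf 0xf58802b)) (.node (.leaf 0x9e68025) (.leaf 0x0)))))) (.node (.node (.node (.node (.node (.leaf 0x547802b) (.leaf 0x8324021)) (.node (.leaf 0xc174029) (.leaf 0x96a8071))) (.node (.node (.leaf 0x94ac021) (.leaf 0xae0c02b)) (.node (.leaf 0xf3e8073) (.leaf 0x5d68025)))) (.node (.node (.node (.leaf 0x49d8071) (.leaf 0xb3a0025)) (.node (.leaf 0xcb88025) (.leaf 0x9e5c029))) (.node (.node (.leaf 0x804002b) (.leaf 0x9e74025)) (.node (.leaf 0x88dc021) (.leaf 0x0))))) (.node (.node (.node (.node (.leaf 0x7848029) (.leaf 0xf6e4025)) (.node (.leaf 0xe67c071) (.leaf 0x97a8073))) (.node (.node (.leaf 0xdeec029) (.leaf 0xf7bc029)) (.node (.leaf 0x596002b) (.leaf 0x0))))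 (.node (.node (.node (.leaf 0x879002b) (.leaf 0xb4f002b)) (.node (.leaf 0x410c025) (.leaf 0xa344021))) (.node (.node (.leaf 0x9510025) (.leaf 0xf824029)) (.node (.leaf 0xb004025) (.leaf 0x0))))))))) (.node (.node (.node (.node (.node (.node (.node (.node (.leaf 0x401c025) (.leaf 0x80f8073)) (.node (.leaf 0xa2d4073) (.leaf 0x6bc4073))) (.node (.node (.leaf 0x5938029) (.leaf 0xea94025)) (.node (.leaf 0xd6bc02b) (.leaf 0xae68021)))) (.node (.node (.node (.leaf 0xb73c021) (.leaf 0xf938025)) (.node (.leaf 0xa2bc02b) (.leaf 0xec7c071))) (.node (.node (.leaf 0xca20071) (.leaf 0x437c02b)) (.node (.leaf 0x73ec071) (.leaf 0x0))))) (.node (.node (.node (.node (.leaf 0x8200073) (.leaf 0xdf88025)) (.node (.leaf 0xf2a0073) (.leaf 0xa9e0025))) (.node (.node (.leaf 0xb3d802b) (.leaf 0xbaa4025)) (.node (.leaf 0xdda4073) (.leaf 0x42bc071)))) (.node (.node (.node (.leaf 0xd1ec02b) (.leaf 0xb804021)) (.node (.leaf 0x724c073) (.leaf 0xab94071)))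 (.node (.node (.leaf 0x9c3c029) (.leaf 0x698c071)) (.node (.leaf 0xb6b4025) (.leaf 0x0)))))) (.node (.node (.node (.node (.node (.leaf 0xc634073) (.leaf 0x8a68029)) (.node (.leaf 0xb238071) (.leaf 0xe3e0025))) (.node (.node (.leaf 0x8acc025) (.leaf 0xa094029)) (.node (.leaf 0xf4a8029) (.leaf 0xa784025)))) (.node (.node (.node (.leaf 0x593802b) (.leaf 0xa8f8071)) (.node (.leaf 0xf144029) (.leaf 0xdff0025))) (.node (.node (.leaf 0x6b58029) (.leaf 0xe444073)) (.node (.leaf 0x8004029) (.leaf 0x0))))) (.node (.node (.node (.node (.leaf 0x8be8073) (.leaf 0xaea0025)) (.node (.leaf 0xaf14071) (.leaf 0xeb74071))) (.node (.node (.leaf 0xa42402b) (.leaf 0xd554071)) (.node (.leaf 0xf6d0029) (.leaf 0x1b0)))) (.node (.node (.node (.leaf 0xa2d4071) (.leaf 0xfb10025)) (.node (.leaf 0x5478025) (.leaf 0x8494021))) (.node (.node (.leaf 0xa150071) (.leaf 0x42b0021)) (.node (.leaf 0x90f4029) (.leaf 0x0))))))) (.node (.node (.node (.node (.node (.node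 (.leaf 0x87d4071) (.leaf 0xa0c0021)) (.node (.leaf 0x8504025) (.leaf 0xf9a802b))) (.node (.node (.leaf 0xc454073) (.leaf 0x977c02b)) (.node (.leaf 0x42b002b) (.leaf 0xe030025)))) (.node (.node (.node (.leaf 0x9c60025) (.leaf 0x97a0073)) (.node (.leaf 0x9394073) (.leaf 0xf47802b))) (.node (.node (.leaf 0xc340025) (.leaf 0x9e0c025)) (.node (.leaf 0xf18402b) (.leaf 0x0))))) (.node (.node (.node (.node (.leaf 0xdefc021) (.leaf 0x8de4073)) (.node (.leaf 0xa04c073) (.leaf 0x895402b))) (.node (.node (.leaf 0xc8d4025) (.leaf 0xf640025)) (.node (.leaf 0xe378073) (.leaf 0x9f5c071)))) (.node (.node (.node (.leaf 0x8688021) (.leaf 0xa99802b)) (.node (.leaf 0xeb3002b) (.leaf 0xe5d4025))) (.node (.node (.leaf 0x403c071) (.leaf 0x6e6c029)) (.node (.leaf 0xbae0029) (.leaf 0x0)))))) (.node (.node (.node (.node (.node (.leaf 0xec78071) (.leaf 0xf2a8025)) (.node (.leaf 0x819c029) (.leaf 0xd3ac071))) (.node (.node (.leaf 0xf1f0073) (.leaf 0xd7ac073))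 (.node (.leaf 0x7468029) (.leaf 0xf8f0073)))) (.node (.node (.node (.leaf 0x9bd8021) (.leaf 0x118e0073)) (.node (.leaf 0x88c802b) (.leaf 0x9934071))) (.node (.node (.leaf 0xe40002b) (.leaf 0xdf64025)) (.node (.leaf 0xd898071) (.leaf 0x0))))) (.node (.node (.node (.node (.leaf 0xdef8071) (.leaf 0xdb60073)) (.node (.leaf 0xc38c02b) (.leaf 0x73ec021))) (.node (.node (.leaf 0x802) (.leaf 0xb628073)) (.node (.leaf 0x90b002b) (.leaf 0x0)))) (.node (.node (.node (.leaf 0x47f4029) (.leaf 0x96e4071)) (.node (.leaf 0x40b8025) (.leaf 0xf780021))) (.node (.node (.leaf 0x5658029) (.leaf 0x4128021)) (.node (.leaf 0xcb6c029) (.leaf 0x0)))))))) (.node (.node (.node (.node (.node (.node (.node (.leaf 0xc050025) (.leaf 0xb6ac025)) (.node (.leaf 0x84d0025) (.leaf 0xe80c071))) (.node (.node (.leaf 0xb5bc02b) (.leaf 0xf794071)) (.node (.leaf 0xbac402b) (.leaf 0xd898073)))) (.node (.node (.node (.leaf 0xf2d8071) (.leaf 0xf960029)) (.node (.leaf 0x266)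 (.leaf 0xef3c071))) (.node (.node (.leaf 0x8f54073) (.leaf 0xa9d4073)) (.node (.leaf 0x5d68029) (.leaf 0x0))))) (.node (.node (.node (.node (.leaf 0x407402b) (.leaf 0x7180025)) (.node (.leaf 0xb9d0021) (.leaf 0xc4c802b))) (.node (.node (.leaf 0x88ec029) (.leaf 0xac84071)) (.node (.leaf 0xca70025) (.leaf 0xa3b8029)))) (.node (.node (.node (.leaf 0xcd7802b) (.leaf 0x15f4)) (.node (.leaf 0xd8c4073) (.leaf 0x8d38071))) (.node (.node (.leaf 0xaf14029) (.leaf 0xb814021)) (.node (.leaf 0xf92002b) (.leaf 0x0)))))) (.node (.node (.node (.node (.node (.leaf 0xb8dc071) (.leaf 0xcf28073)) (.node (.leaf 0xe000071) (.leaf 0xc90002b))) (.node (.node (.leaf 0x8b3c025) (.leaf 0xb0b0029)) (.node (.leaf 0xee4) (.leaf 0xb0b4021)))) (.node (.node (.node (.leaf 0x9930025) (.leaf 0x4110021)) (.node (.leaf 0xdad0025) (.leaf 0x8f6c021))) (.node (.node (.leaf 0xee34021) (.leaf 0xa2f8029)) (.node (.leaf 0xd07c073) (.leaf 0x0))))) (.node (.node (.node (.node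 (.leaf 0xe110071) (.leaf 0xf5c0071)) (.node (.leaf 0xabac021) (.leaf 0xa8b0021))) (.node (.node (.leaf 0xc974025) (.leaf 0x11ea4073)) (.node (.leaf 0x9b98021) (.leaf 0x0)))) (.node (.node (.node (.leaf 0xb43c02b) (.leaf 0xa8b4025)) (.node (.leaf 0xf4d802b) (.leaf 0x2c4))) (.node (.node (.leaf 0xf64c02b) (.leaf 0xb914071)) (.node (.leaf 0xea20071) (.leaf 0x0))))))) (.node (.node (.node (.node (.node (.node (.leaf 0xa9d4071) (.leaf 0xb690073)) (.node (.leaf 0x6f18073) (.leaf 0xe8a8021))) (.node (.node (.leaf 0x9dd4021) (.leaf 0x9234029)) (.node (.leaf 0xc50c02b) (.leaf 0xb71402b)))) (.node (.node (.node (.leaf 0x753c02b) (.leaf 0xf980073)) (.node (.leaf 0x964c071) (.leaf 0xe2c0025))) (.node (.node (.leaf 0xaf0c02b) (.leaf 0x69b0073)) (.node (.leaf 0xcf18025) (.leaf 0x0))))) (.node (.node (.node (.node (.leaf 0xa840073) (.leaf 0xaa00025)) (.node (.leaf 0x4ea8071) (.leaf 0xb74c071))) (.node (.node (.leaf 0xbac4021) (.leaf 0x77e4025))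 (.node (.leaf 0xe550071) (.leaf 0x42bc073)))) (.node (.node (.node (.leaf 0xf104071) (.leaf 0x724c071)) (.node (.leaf 0x8444029) (.leaf 0x4fe8071))) (.node (.node (.leaf 0xa27c029) (.leaf 0x12a44073)) (.node (.leaf 0xba20025) (.leaf 0x0)))))) (.node (.node (.node (.node (.node (.leaf 0x8178021) (.leaf 0xf6d4025)) (.node (.leaf 0xd430073) (.leaf 0x97bc071))) (.node (.node (.leaf 0x45b0073) (.leaf 0x722c02b)) (.node (.leaf 0x40c002b) (.leaf 0xc534071)))) (.node (.node (.node (.leaf 0x40f0073) (.leaf 0x5478071)) (.node (.leaf 0x9738029) (.leaf 0xeacc071))) (.node (.node (.leaf 0x8d30021) (.leaf 0x4110029)) (.node (.leaf 0x90d4029) (.leaf 0x0))))) (.node (.node (.node (.node (.leaf 0xd0e8073) (.leaf 0x8bcc029)) (.node (.leaf 0xa0c002b) (.leaf 0xa28c025))) (.node (.node (.leaf 0xc314071) (.leaf 0x6af4025)) (.node (.leaf 0x4074029) (.leaf 0x0)))) (.node (.node (.node (.leaf 0x8794021) (.leaf 0x871c071)) (.node (.leaf 0xe5f8071) (.leaf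 0xafa4071))) (.node (.node (.leaf 0xab78021) (.leaf 0xeaf8073)) (.node (.leaf 0xf18c029) (.leaf 0x0))))))))))

/-- packed table -/
noncomputable def cov2_llr : BTree := (.node (.node (.node (.node (.node (.node (.node (.node (.node (.leaf 0xdd3802b) (.leaf 0xa374025)) (.node (.leaf 0x94dc025) (.leaf 0xb6b4021))) (.node (.node (.leaf 0xdf90071) (.leaf 0xea20021)) (.node (.leaf 0xe608071) (.leaf 0xb08002b)))) (.node (.node (.node (.leaf 0xc974071) (.leaf 0xf0dc071)) (.node (.leaf 0x62c402b) (.leaf 0x40e8071))) (.node (.node (.leaf 0xa8a4021) (.leaf 0x42c4073)) (.node (.leaf 0xa358021) (.leaf 0x0))))) (.node (.node (.node (.node (.leaf 0x860c025) (.leaf 0xfa60025)) (.node (.leaf 0xc830025) (.leaf 0xa858021))) (.node (.node (.leaf 0x9eb0021) (.leaf 0xa874071)) (.node (.leaf 0x828c073) (.leaf 0xed88071)))) (.node (.node (.node (.leaf 0xc1e8025) (.leaf 0xd76c029)) (.node (.leaf 0x850402b) (.leaf 0xc74c071))) (.node (.node (.leaf 0xddc0073)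 (.leaf 0x8530071)) (.node (.leaf 0xf1bc025) (.leaf 0x0)))))) (.node (.node (.node (.node (.node (.leaf 0x1598) (.leaf 0x90d802b)) (.node (.leaf 0x74f4021) (.leaf 0xaf20073))) (.node (.node (.leaf 0xc588029) (.leaf 0x9234073)) (.node (.leaf 0x8d30025) (.leaf 0x8d0c029)))) (.node (.node (.node (.leaf 0xbb40071) (.leaf 0x40cc071)) (.node (.leaf 0x7324029) (.leaf 0xc320029))) (.node (.node (.leaf 0x7848071) (.leaf 0x9c0c073)) (.node (.leaf 0x8c6c021) (.leaf 0x0))))) (.node (.node (.node (.node (.leaf 0x49d8073) (.leaf 0x96e4029)) (.node (.leaf 0xf37002b) (.leaf 0x698c021))) (.node (.node (.leaf 0x11c6c073) (.leaf 0x45b0029)) (.node (.leaf 0xce48025) (.leaf 0x9774021)))) (.node (.node (.node (.leaf 0x403802b) (.leaf 0x44f0029)) (.node (.leaf 0x6af4021) (.leaf 0x848c021))) (.node (.node (.leaf 0xdd08025) (.leaf 0x5358029)) (.node (.leaf 0x7538071) (.leaf 0x0))))))) (.node (.node (.node (.node (.node (.node (.leaf 0x47e402b) (.leaf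 0xc2d8073)) (.node (.leaf 0x94ac073) (.leaf 0xfa40021))) (.node (.node (.leaf 0xf974073) (.leaf 0x40d8021)) (.node (.leaf 0xe048073) (.leaf 0x733c073)))) (.node (.node (.node (.leaf 0xb714021) (.leaf 0xa9d4025)) (.node (.leaf 0xd5dc073) (.leaf 0xa75c021))) (.node (.node (.leaf 0x11cb0073) (.leaf 0x1a2)) (.node (.leaf 0xf648073) (.leaf 0x0))))) (.node (.node (.node (.node (.leaf 0xd41c025) (.leaf 0xb400025)) (.node (.leaf 0xc894025) (.leaf 0xa02c029))) (.node (.node (.leaf 0x88e4025) (.leaf 0xdfe8025)) (.node (.leaf 0x9c38021) (.leaf 0x7a4)))) (.node (.node (.node (.leaf 0xaf98029) (.leaf 0xbac0021)) (.node (.leaf 0xda14073) (.leaf 0x45b0021))) (.node (.node (.leaf 0xdbf8073) (.leaf 0xeff002b)) (.node (.leaf 0xae70021) (.leaf 0x0)))))) (.node (.node (.node (.node (.node (.leaf 0xf36) (.leaf 0xe108025)) (.node (.leaf 0xdb8c025) (.leaf 0x9388029))) (.node (.node (.leaf 0x10418073) (.leaf 0xde80071)) (.node (.leaf 0xcb88073) (.leaf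 0xa334071)))) (.node (.node (.node (.leaf 0x9948073) (.leaf 0x118cc073)) (.node (.leaf 0xc9f402b) (.leaf 0x8e84021))) (.node (.node (.leaf 0xd1a0025) (.leaf 0x6b34073)) (.node (.leaf 0x77a8025) (.leaf 0x0))))) (.node (.node (.node (.node (.leaf 0xa13c021) (.leaf 0xdb74073)) (.node (.leaf 0xbafc021) (.leaf 0x6f74025))) (.node (.node (.leaf 0xab70021) (.leaf 0x99a4021)) (.node (.leaf 0xa560029) (.leaf 0x0)))) (.node (.node (.node (.leaf 0x47f4021) (.leaf 0xb0b4073)) (.node (.leaf 0xc0c8025) (.leaf 0x7a90029))) (.node (.node (.leaf 0xab9402b) (.leaf 0xae68073)) (.node (.leaf 0x83b4029) (.leaf 0x0)))))))) (.node (.node (.node (.node (.node (.node (.node (.leaf 0x8bec029) (.leaf 0xb8a4021)) (.node (.leaf 0xc4bc025) (.leaf 0xe95402b))) (.node (.node (.leaf 0xeca0021) (.leaf 0xec44025)) (.node (.leaf 0xb158073) (.leaf 0xaedc021)))) (.node (.node (.node (.leaf 0x9c20025) (.leaf 0x722c029)) (.node (.leaf 0xda3402b) (.leaf 0xe32002b)))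 (.node (.node (.leaf 0xb948021) (.leaf 0x884c02b)) (.node (.leaf 0xc490025) (.leaf 0x0))))) (.node (.node (.node (.node (.leaf 0xc1a8021) (.leaf 0x10b48073)) (.node (.leaf 0x9b08021) (.leaf 0xa260073))) (.node (.node (.leaf 0x88ac025) (.leaf 0x8768071)) (.node (.leaf 0xc8b0029) (.leaf 0xa0c0025)))) (.node (.node (.node (.leaf 0xc5f8021) (.leaf 0xa714071)) (.node (.leaf 0x6154029) (.leaf 0x8530021))) (.node (.node (.leaf 0x9b08025) (.leaf 0xe478073)) (.node (.leaf 0xa1dc071) (.leaf 0x0)))))) (.node (.node (.node (.node (.node (.leaf 0x94dc021) (.leaf 0x7a38029)) (.node (.leaf 0x74) (.leaf 0xdafc02b))) (.node (.node (.leaf 0xcf98073) (.leaf 0x9994021)) (.node (.leaf 0xb50c071) (.leaf 0xb000073)))) (.node (.node (.node (.leaf 0xf7d4073) (.leaf 0x8dac029)) (.node (.leaf 0xab40029) (.leaf 0xda74071))) (.node (.node (.leaf 0x9c2402b) (.leaf 0x871c021)) (.node (.leaf 0xdc3402b) (.leaf 0x0))))) (.node (.node (.node (.node (.leaf 0x15b2)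 (.leaf 0xb15c071)) (.node (.leaf 0x44) (.leaf 0x11d8))) (.node (.node (.leaf 0xaa78029) (.leaf 0x8eb802b)) (.node (.leaf 0xe90c071) (.leaf 0x0)))) (.node (.node (.node (.leaf 0x9668025) (.leaf 0xf27c073)) (.node (.leaf 0xa700073) (.leaf 0xf294071))) (.node (.node (.leaf 0x6154071) (.leaf 0x4128071)) (.node (.leaf 0xdf20025) (.leaf 0x0))))))) (.node (.node (.node (.node (.node (.node (.leaf 0xa40402b) (.leaf 0xd594071)) (.node (.leaf 0x82a802b) (.leaf 0xd268021))) (.node (.node (.leaf 0xbb3c071) (.leaf 0xb338071)) (.node (.leaf 0x9cd4021) (.leaf 0xbadc021)))) (.node (.node (.node (.leaf 0x42a402b) (.leaf 0x9ac402b)) (.node (.leaf 0xf5e8029) (.leaf 0xc474071))) (.node (.node (.leaf 0xc314025) (.leaf 0xb338025)) (.node (.leaf 0x8c68071) (.leaf 0x0))))) (.node (.node (.node (.node (.leaf 0xa0a402b) (.leaf 0x62c4021)) (.node (.leaf 0xe6fc021) (.leaf 0x9e5c071))) (.node (.node (.leaf 0x9a8c029) (.leaf 0xa148073)) (.node (.leaf 0xa8f8029)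 (.leaf 0xf708071)))) (.node (.node (.node (.leaf 0x96c8025) (.leaf 0x9af8073)) (.node (.leaf 0x872c025) (.leaf 0x9394021))) (.node (.node (.leaf 0xb3f4071) (.leaf 0xa988073)) (.node (.leaf 0x8bcc02b) (.leaf 0x0)))))) (.node (.node (.node (.node (.node (.leaf 0x8db4073) (.leaf 0x93a4071)) (.node (.leaf 0xe8dc02b) (.leaf 0xd7d8071))) (.node (.node (.leaf 0x97bc073) (.leaf 0xaa00021)) (.node (.leaf 0xb3d8073) (.leaf 0x40c0071)))) (.node (.node (.node (.leaf 0xa03402b) (.leaf 0x79d4029)) (.node (.leaf 0xd180021) (.leaf 0x6af4071))) (.node (.node (.leaf 0x9eb8073) (.leaf 0x9f40021)) (.node (.leaf 0xe8f4071) (.leaf 0x0))))) (.node (.node (.node (.node (.leaf 0x8c6c025) (.leaf 0xd550071)) (.node (.leaf 0x7b20021) (.leaf 0xd9c8071))) (.node (.node (.leaf 0x9230021) (.leaf 0xb3a802b)) (.node (.leaf 0x8040029) (.leaf 0x0)))) (.node (.node (.node (.leaf 0x87a402b) (.leaf 0xea04073)) (.node (.leaf 0xc1a802b) (.leaf 0x410c029))) (.node (.node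 (.leaf 0x95c802b) (.leaf 0x40b802b)) (.node (.leaf 0xe50802b) (.leaf 0x0))))))))) (.node (.node (.node (.node (.node (.node (.node (.node (.leaf 0x5d4002b) (.leaf 0xa374029)) (.node (.leaf 0xd4fc025) (.leaf 0x7538025))) (.node (.node (.leaf 0xac84021) (.leaf 0x91c)) (.node (.leaf 0x86fc02b) (.leaf 0xe904025)))) (.node (.node (.node (.leaf 0xf2d8073) (.leaf 0xaf54073)) (.node (.leaf 0xa2ac021) (.leaf 0x9930073))) (.node (.node (.leaf 0xb628021) (.leaf 0x8d0c02b)) (.node (.leaf 0xae74071) (.leaf 0x0))))) (.node (.node (.node (.node (.leaf 0x8640025) (.leaf 0x84e0021)) (.node (.leaf 0x7a38071) (.leaf 0xc46c073))) (.node (.node (.leaf 0xe378071) (.leaf 0xd7b0073)) (.node (.leaf 0xb3a0071) (.leaf 0xe544025)))) (.node (.node (.node (.leaf 0xd4fc029) (.leaf 0xa738021)) (.node (.leaf 0x8f54071) (.leaf 0xf4e402b))) (.node (.node (.leaf 0xf6a4071) (.leaf 0xf078029)) (.node (.leaf 0xa27c02b) (.leaf 0x0)))))) (.node (.node (.node (.node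 (.node (.leaf 0xb580071) (.leaf 0x43ec021)) (.node (.leaf 0x8020071) (.leaf 0xb3d8025))) (.node (.node (.leaf 0xcfc4073) (.leaf 0x9410021)) (.node (.leaf 0x6088021) (.leaf 0x9f5c073)))) (.node (.node (.node (.leaf 0x5960025) (.leaf 0x978c071)) (.node (.leaf 0x8fa0025) (.leaf 0x9c60071))) (.node (.node (.leaf 0x4afc029) (.leaf 0x8e2802b)) (.node (.leaf 0x4df8021) (.leaf 0x0))))) (.node (.node (.node (.node (.leaf 0x8bd4073) (.leaf 0xa21802b)) (.node (.leaf 0x730c02b) (.leaf 0xa8a402b))) (.node (.node (.leaf 0xdae8071) (.leaf 0xa724071)) (.node (.leaf 0x94b8029) (.leaf 0xafc402b)))) (.node (.node (.node (.leaf 0xe32c029) (.leaf 0xd704071)) (.node (.leaf 0xd1a0071) (.leaf 0xa6f8025))) (.node (.node (.leaf 0x119bc073) (.leaf 0x4278021)) (.node (.leaf 0x90b8029) (.leaf 0x0))))))) (.node (.node (.node (.node (.node (.node (.leaf 0x407c025) (.leaf 0xa840071)) (.node (.leaf 0x5d68071) (.leaf 0x7180073))) (.node (.node (.leaf 0x88ec021)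 (.leaf 0x776002b)) (.node (.leaf 0xd9fc025) (.leaf 0xebfc025)))) (.node (.node (.node (.leaf 0x4fe8073) (.leaf 0xe9ec02b)) (.node (.leaf 0x8fec025) (.leaf 0x9bc0071))) (.node (.node (.leaf 0xf78802b) (.leaf 0xb310025)) (.node (.leaf 0xd3ac02b) (.leaf 0x0))))) (.node (.node (.node (.node (.leaf 0x236) (.leaf 0xe90c025)) (.node (.leaf 0xafd0073) (.leaf 0xf5d4025))) (.node (.node (.leaf 0xc8c0025) (.leaf 0xa324071)) (.node (.leaf 0xdcec029) (.leaf 0xe5a4025)))) (.node (.node (.node (.leaf 0x416c071) (.leaf 0x90e0029)) (.node (.leaf 0xab4002b) (.leaf 0xe6ec025))) (.node (.node (.leaf 0x92c0073) (.leaf 0xafa4073)) (.node (.leaf 0x560802b) (.leaf 0x0)))))) (.node (.node (.node (.node (.node (.leaf 0x8dac073) (.leaf 0x8bf002b)) (.node (.leaf 0x9710073) (.leaf 0xac84073))) (.node (.node (.leaf 0xbb40073) (.leaf 0x1270)) (.node (.leaf 0x85c8025) (.leaf 0xb318021)))) (.node (.node (.node (.leaf 0x1de) (.leaf 0xd8c8073)) (.node (.leaf 0x8c5c021)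 (.leaf 0xee58025))) (.node (.node (.leaf 0xc1a8071) (.leaf 0xad90021)) (.node (.leaf 0xc330029) (.leaf 0x0))))) (.node (.node (.node (.node (.leaf 0xa150021) (.leaf 0x96a8073)) (.node (.leaf 0xc2ac025) (.leaf 0x93b4021))) (.node (.node (.leaf 0xd5b8025) (.leaf 0xf618073)) (.node (.leaf 0xb9d8071) (.leaf 0x0)))) (.node (.node (.node (.leaf 0x47c8073) (.leaf 0xc894071)) (.node (.leaf 0xbb0c021) (.leaf 0x4128029))) (.node (.node (.leaf 0xc948071) (.leaf 0xd79c071)) (.node (.leaf 0x9814021) (.leaf 0x0)))))))) (.node (.node (.node (.node (.node (.node (.node (.leaf 0x8294029) (.leaf 0x9e5c025)) (.node (.leaf 0xc438073) (.leaf 0x6e94025))) (.node (.node (.leaf 0xac8c073) (.leaf 0x7ce)) (.node (.leaf 0xea48073) (.leaf 0xc830029)))) (.node (.node (.node (.leaf 0xa84002b) (.leaf 0xb41002b)) (.node (.leaf 0xd704025) (.leaf 0xe80c021))) (.node (.node (.leaf 0xdcc4073) (.leaf 0xf864073)) (.node (.leaf 0x13630073) (.leaf 0x0))))) (.node (.node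 (.node (.node (.leaf 0xaaa4021) (.leaf 0xab40073)) (.node (.leaf 0xa510021) (.leaf 0xeff8025))) (.node (.node (.leaf 0x9dd4029) (.leaf 0xa88c071)) (.node (.leaf 0x8acc071) (.leaf 0xe0c4025)))) (.node (.node (.node (.leaf 0x8604073) (.leaf 0x9484021)) (.node (.leaf 0x8768025) (.leaf 0x7468073))) (.node (.node (.leaf 0x406c02b) (.leaf 0x52bc029)) (.node (.leaf 0xf130071) (.leaf 0x0)))))) (.node (.node (.node (.node (.node (.leaf 0xf414071) (.leaf 0x437c021)) (.node (.leaf 0xb968073) (.leaf 0x18d8))) (.node (.node (.leaf 0xc420073) (.leaf 0x4ec402b)) (.node (.leaf 0xdbb002b) (.leaf 0xd5e4029)))) (.node (.node (.node (.leaf 0xb9d8073) (.leaf 0xc88c071)) (.node (.leaf 0xa7ec071) (.leaf 0xa27c071))) (.node (.node (.leaf 0x5478073) (.leaf 0x93ec02b)) (.node (.leaf 0xb1fc071) (.leaf 0x0))))) (.node (.node (.node (.node (.leaf 0xe120071) (.leaf 0x687002b)) (.node (.leaf 0x936c025) (.leaf 0xaf54025))) (.node (.node (.leaf 0xd534073) (.leaf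 0x556802b)) (.node (.leaf 0xd79c02b) (.leaf 0x0)))) (.node (.node (.node (.leaf 0x4ec4029) (.leaf 0xf5c0025)) (.node (.leaf 0x40e8025) (.leaf 0x40dc071))) (.node (.node (.leaf 0xd624073) (.leaf 0xaf50021)) (.node (.leaf 0xe52002b) (.leaf 0x0))))))) (.node (.node (.node (.node (.node (.node (.leaf 0x11ac) (.leaf 0xb878021)) (.node (.leaf 0xae18021) (.leaf 0xa998021))) (.node (.node (.leaf 0x9f3802b) (.leaf 0xa8b0073)) (.node (.leaf 0xe5a8071) (.leaf 0xb3a8021)))) (.node (.node (.node (.leaf 0x176) (.leaf 0xa9e4071)) (.node (.leaf 0x8e1c021) (.leaf 0x70cc025))) (.node (.node (.leaf 0x4ff0029) (.leaf 0xe01002b)) (.node (.leaf 0xae68071) (.leaf 0x0))))) (.node (.node (.node (.node (.leaf 0x7b20073) (.leaf 0xf938071)) (.node (.leaf 0xaf1402b) (.leaf 0xba2c021))) (.node (.node (.leaf 0xb0d802b) (.leaf 0xac9c071)) (.node (.leaf 0xce6c025) (.leaf 0xc868029)))) (.node (.node (.node (.leaf 0x9dd402b) (.leaf 0x82d402b)) (.node (.leaf 0x95bc073)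 (.leaf 0x9e40071))) (.node (.node (.leaf 0xebfc029) (.leaf 0x93f0071)) (.node (.leaf 0xd8a4071) (.leaf 0x0)))))) (.node (.node (.node (.node (.node (.leaf 0xb56c029) (.leaf 0xb87802b)) (.node (.leaf 0x81e4071) (.leaf 0xbac8021))) (.node (.node (.leaf 0x8f7c025) (.leaf 0x9e5c073)) (.node (.leaf 0x98a0025) (.leaf 0xea54025)))) (.node (.node (.node (.leaf 0xf0d4029) (.leaf 0xd778029)) (.node (.leaf 0x8be8025) (.leaf 0x8040073))) (.node (.node (.leaf 0xa2ac071) (.leaf 0x9f10021)) (.node (.leaf 0x88fc021) (.leaf 0x0))))) (.node (.node (.node (.node (.leaf 0xd0d0073) (.leaf 0x5e88073)) (.node (.leaf 0x7170021) (.leaf 0xd3ac021))) (.node (.node (.leaf 0x5658025) (.leaf 0xafa0025)) (.node (.leaf 0x4ea8021) (.leaf 0x0)))) (.node (.node (.node (.leaf 0x8790071) (.leaf 0x70cc02b)) (.node (.leaf 0xd5cc029) (.leaf 0x6088073))) (.node (.node (.leaf 0x94) (.leaf 0x855c071)) (.node (.leaf 0xa034021) (.leaf 0x0))))))))))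

/-- packed table -/
noncomputable def cov2_lrl : BTree := (.node (.node (.node (.node (.node (.node (.node (.node (.node (.leaf 0x4df8029) (.leaf 0x90b8021)) (.node (.leaf 0x9504025) (.leaf 0x8fd402b))) (.node (.node (.leaf 0xec1c021) (.leaf 0xb58c021)) (.node (.leaf 0xd580071) (.leaf 0x8bf8071)))) (.node (.node (.node (.leaf 0xa218029) (.leaf 0xe67c02b)) (.node (.leaf 0xb5b4021) (.leaf 0x94ac02b))) (.node (.node (.leaf 0xe1e8073) (.leaf 0xb6f8025)) (.node (.leaf 0xa3b8073) (.leaf 0x0))))) (.node (.node (.node (.node (.leaf 0x111e4073) (.leaf 0xe2a0029)) (.node (.leaf 0x8200071) (.leaf 0x40e8073))) (.node (.node (.leaf 0xda7c071) (.leaf 0x8c8c021)) (.node (.leaf 0xc53402b) (.leaf 0xe7dc02b)))) (.node (.node (.node (.leaf 0x51c4073) (.leaf 0x9774029)) (.node (.leaf 0x2d8) (.leaf 0x899c02b))) (.node (.node (.leaf 0x80f802b) (.leaf 0xfa7c073)) (.node (.leaf 0xcaa4073) (.leaf 0x0)))))) (.node (.node (.node (.node (.node (.leaf 0xa034071)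 (.leaf 0xb3a0029)) (.node (.leaf 0x8774071) (.leaf 0x94dc071))) (.node (.node (.leaf 0xd0b4071) (.leaf 0x9038021)) (.node (.leaf 0x8d38025) (.leaf 0xc2c8073)))) (.node (.node (.node (.leaf 0xb03002b) (.leaf 0x9b9c071)) (.node (.leaf 0xf0f0073) (.leaf 0xb95c02b))) (.node (.node (.leaf 0xd868073) (.leaf 0xa8a4071)) (.node (.leaf 0x819c02b) (.leaf 0x0))))) (.node (.node (.node (.node (.leaf 0xb7f0029) (.leaf 0xc264073)) (.node (.leaf 0x923402b) (.leaf 0x9e78029))) (.node (.node (.leaf 0xb584021) (.leaf 0xf128025)) (.node (.leaf 0x40b8071) (.leaf 0xf240029)))) (.node (.node (.node (.leaf 0x8040071) (.leaf 0xa724029)) (.node (.leaf 0x9198071) (.leaf 0x8cb8029))) (.node (.node (.leaf 0xb9c0073) (.leaf 0xd67c02b)) (.node (.leaf 0x9eb0073) (.leaf 0x0))))))) (.node (.node (.node (.node (.node (.node (.leaf 0x87c4071) (.leaf 0x15e)) (.node (.leaf 0xc4fc025) (.leaf 0xeacc025))) (.node (.node (.leaf 0xafc4029) (.leaf 0xa858025)) (.node (.leaf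 0xd270073) (.leaf 0xa83c025)))) (.node (.node (.node (.leaf 0xc50c071) (.leaf 0xd274073)) (.node (.leaf 0xd70c025) (.leaf 0x83e8073))) (.node (.node (.leaf 0x11ca4073) (.leaf 0xb070071)) (.node (.leaf 0xcb04071) (.leaf 0x0))))) (.node (.node (.node (.node (.leaf 0x70cc073) (.leaf 0xf66c071)) (.node (.leaf 0x8880025) (.leaf 0xf92c073))) (.node (.node (.leaf 0xc8d4071) (.leaf 0x848c071)) (.node (.leaf 0xf650029) (.leaf 0xe1b8025)))) (.node (.node (.node (.leaf 0x416c025) (.leaf 0xf83802b)) (.node (.leaf 0x8770025) (.leaf 0xe818025))) (.node (.node (.leaf 0xdbc8073) (.leaf 0xb714071)) (.node (.leaf 0x1ce) (.leaf 0x0)))))) (.node (.node (.node (.node (.node (.leaf 0xc6a4073) (.leaf 0x7848025)) (.node (.leaf 0x7350029) (.leaf 0x9c68029))) (.node (.node (.leaf 0xcb50025) (.leaf 0x7538021)) (.node (.leaf 0x8cb8071) (.leaf 0x95c8029)))) (.node (.node (.node (.leaf 0x9904021) (.leaf 0xccf8073)) (.node (.leaf 0x9bc0021) (.leaf 0xa170025)))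 (.node (.node (.leaf 0xc220029) (.leaf 0x9930029)) (.node (.leaf 0xc4a002b) (.leaf 0x0))))) (.node (.node (.node (.node (.leaf 0x9ed8071) (.leaf 0x11b78073)) (.node (.leaf 0x5358025) (.leaf 0xe9c0073))) (.node (.node (.leaf 0x939c02b) (.leaf 0xb310073)) (.node (.leaf 0x855c02b) (.leaf 0x0)))) (.node (.node (.node (.leaf 0x80b002b) (.leaf 0xb3d8071)) (.node (.leaf 0xafc8073) (.leaf 0x8bd4071))) (.node (.node (.leaf 0xb968071) (.leaf 0x9d54025)) (.node (.leaf 0xa988029) (.leaf 0x0)))))))) (.node (.node (.node (.node (.node (.node (.node (.leaf 0xc04c025) (.leaf 0x9e4002b)) (.node (.leaf 0xc4e4025) (.leaf 0x94ac071))) (.node (.node (.leaf 0xc534021) (.leaf 0xbac8025)) (.node (.leaf 0x9818025) (.leaf 0x123e)))) (.node (.node (.node (.leaf 0xd6b402b) (.leaf 0x9c1c021)) (.node (.leaf 0xa700021) (.leaf 0x8d0c021))) (.node (.node (.leaf 0x83a4025) (.leaf 0xf1bc029)) (.node (.leaf 0xc36c02b) (.leaf 0x0))))) (.node (.node (.node (.node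 (.leaf 0xc1ec073) (.leaf 0x84b0021)) (.node (.leaf 0xe63402b) (.leaf 0xe25c025))) (.node (.node (.leaf 0xf2a8071) (.leaf 0x9c20021)) (.node (.leaf 0x8ae8071) (.leaf 0xe1e8071)))) (.node (.node (.node (.leaf 0x81c0073) (.leaf 0xb208021)) (.node (.leaf 0x8fec021) (.leaf 0x8cf0021))) (.node (.node (.leaf 0x8bf8029) (.leaf 0xa024025)) (.node (.leaf 0xaedc025) (.leaf 0x0)))))) (.node (.node (.node (.node (.node (.leaf 0xafd0021) (.leaf 0x565802b)) (.node (.leaf 0x401c071) (.leaf 0xd62c071))) (.node (.node (.leaf 0x8b14025) (.leaf 0xe5a4029)) (.node (.leaf 0x42bc02b) (.leaf 0x4d34071)))) (.node (.node (.node (.leaf 0x9948025) (.leaf 0xd180071)) (.node (.leaf 0x9ae4025) (.leaf 0xa710025))) (.node (.node (.leaf 0xc90c071) (.leaf 0x86d8021)) (.node (.leaf 0x8b3c021) (.leaf 0x0))))) (.node (.node (.node (.node (.leaf 0xa188021) (.leaf 0x834)) (.node (.leaf 0x583c021) (.leaf 0xa89002b))) (.node (.node (.leaf 0xf65802b) (.leaf 0xd28802b))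 (.node (.leaf 0xd764071) (.leaf 0xa874025)))) (.node (.node (.node (.leaf 0x119ec073) (.leaf 0xdd80073)) (.node (.leaf 0xc464021) (.leaf 0x906402b))) (.node (.node (.leaf 0xf80802b) (.leaf 0xaaa4025)) (.node (.leaf 0xfad4073) (.leaf 0x0))))))) (.node (.node (.node (.node (.node (.node (.leaf 0xafb8021) (.leaf 0x93d0029)) (.node (.leaf 0xc3d4071) (.leaf 0xa784071))) (.node (.node (.leaf 0x6348071) (.leaf 0xd224029)) (.node (.leaf 0x93a402b) (.leaf 0xa218025)))) (.node (.node (.node (.leaf 0x9064025) (.leaf 0xb8dc021)) (.node (.leaf 0xb9c0029) (.leaf 0xcc54021))) (.node (.node (.leaf 0xdfd802b) (.leaf 0xcc40073)) (.node (.leaf 0xf408073) (.leaf 0x0))))) (.node (.node (.node (.node (.leaf 0xafa002b) (.leaf 0xef84025)) (.node (.leaf 0xc37802b) (.leaf 0x8c80021))) (.node (.node (.leaf 0xf624071) (.leaf 0xe8ec071)) (.node (.leaf 0xe544071) (.leaf 0x4110071)))) (.node (.node (.node (.leaf 0x4190071) (.leaf 0xeecc029)) (.node (.leaf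 0x6b3802b) (.leaf 0xe120025))) (.node (.node (.leaf 0x8e28021) (.leaf 0xd3f8073)) (.node (.leaf 0x8cb8073) (.leaf 0x0)))))) (.node (.node (.node (.node (.node (.leaf 0xc6a4025) (.leaf 0x109f8073)) (.node (.leaf 0xd728073) (.leaf 0x7654073))) (.node (.node (.leaf 0x92c4021) (.leaf 0xe918073)) (.node (.leaf 0xb968029) (.leaf 0xce5c071)))) (.node (.node (.node (.leaf 0x769c021) (.leaf 0xb49c025)) (.node (.leaf 0x4ba0025) (.leaf 0xae0c071))) (.node (.node (.leaf 0xa28c071) (.leaf 0xd3d4073)) (.node (.leaf 0xbac4025) (.leaf 0x0))))) (.node (.node (.node (.node (.leaf 0xa114021) (.leaf 0x8d20071)) (.node (.leaf 0xeef8073) (.leaf 0xcce0073))) (.node (.node (.leaf 0xc32c071) (.leaf 0x9e78021)) (.node (.leaf 0x8bec02b) (.leaf 0x0)))) (.node (.node (.node (.leaf 0x60) (.leaf 0x8ab8021)) (.node (.leaf 0xe7a4073) (.leaf 0x99a402b))) (.node (.node (.leaf 0xf0f8073) (.leaf 0x40b8021)) (.node (.leaf 0xf14c029) (.leaf 0x0))))))))) (.node (.node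 (.node (.node (.node (.node (.node (.node (.leaf 0x8020021) (.leaf 0x8954029)) (.node (.leaf 0xe1fc02b) (.leaf 0x9904071))) (.node (.node (.leaf 0x86c402b) (.leaf 0xf6d4029)) (.node (.leaf 0x6f74071) (.leaf 0xd0d0071)))) (.node (.node (.node (.leaf 0xd4f0073) (.leaf 0xb904029)) (.node (.leaf 0xa5d0021) (.leaf 0x6bc4029))) (.node (.node (.leaf 0x5be8029) (.leaf 0x90ac02b)) (.node (.leaf 0xd734029) (.leaf 0x0))))) (.node (.node (.node (.node (.leaf 0xd5e0071) (.leaf 0xc940073)) (.node (.leaf 0xe808073) (.leaf 0xee80071))) (.node (.node (.leaf 0x9904029) (.leaf 0xf130021)) (.node (.leaf 0x977402b) (.leaf 0x8820071)))) (.node (.node (.node (.leaf 0x9958071) (.leaf 0xb580025)) (.node (.leaf 0xfa4002b) (.leaf 0x45b002b))) (.node (.node (.leaf 0x5b7c025) (.leaf 0xb11c02b)) (.node (.leaf 0xfabc073) (.leaf 0x0)))))) (.node (.node (.node (.node (.node (.leaf 0x128) (.leaf 0x437c073)) (.node (.leaf 0x5d40021) (.leaf 0xae0c029))) (.node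 (.node (.leaf 0x8b38025) (.leaf 0xf8f802b)) (.node (.leaf 0xcce4073) (.leaf 0xb204021)))) (.node (.node (.node (.leaf 0xc5a0025) (.leaf 0xa75c025)) (.node (.leaf 0x9184021) (.leaf 0xb69002b))) (.node (.node (.leaf 0xaae0021) (.leaf 0xecb0021)) (.node (.leaf 0x8020029) (.leaf 0x0))))) (.node (.node (.node (.node (.leaf 0xccbc025) (.leaf 0xb454029)) (.node (.leaf 0x606c021) (.leaf 0xab6c071))) (.node (.node (.leaf 0x7324071) (.leaf 0x9e74029)) (.node (.leaf 0x4fe8029) (.leaf 0xb844071)))) (.node (.node (.node (.leaf 0xa2d0071) (.leaf 0xc408071)) (.node (.leaf 0xa5e0021) (.leaf 0xef24071))) (.node (.node (.leaf 0x9e68021) (.leaf 0xafd0071)) (.node (.leaf 0x42b0073) (.leaf 0x0))))))) (.node (.node (.node (.node (.node (.node (.leaf 0x38) (.leaf 0xeefc02b)) (.node (.leaf 0xc518025) (.leaf 0xf7b4071))) (.node (.node (.leaf 0xda28073) (.leaf 0xb9ec025)) (.node (.leaf 0xf6ec029) (.leaf 0x8cdc021)))) (.node (.node (.node (.leaf 0x9c38025)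 (.leaf 0x978c073)) (.node (.leaf 0x8fd4025) (.leaf 0x8acc073))) (.node (.node (.leaf 0x9994073) (.leaf 0xa890025)) (.node (.leaf 0x8c6c071) (.leaf 0x0))))) (.node (.node (.node (.node (.leaf 0x6f18021) (.leaf 0x899c029)) (.node (.leaf 0xefd4073) (.leaf 0xa034029))) (.node (.node (.leaf 0x88c8025) (.leaf 0xb3a8025)) (.node (.leaf 0xc24c073) (.leaf 0xcd00073)))) (.node (.node (.node (.leaf 0xcd50073) (.leaf 0x93a4073)) (.node (.leaf 0x6b5802b) (.leaf 0xe3e0071))) (.node (.node (.leaf 0xc0) (.leaf 0xe1cc029)) (.node (.leaf 0x89e0021) (.leaf 0x0)))))) (.node (.node (.node (.node (.node (.leaf 0x86c4025) (.leaf 0xb628025)) (.node (.leaf 0x102) (.leaf 0x9c64029))) (.node (.node (.leaf 0x437c071) (.leaf 0xe964071)) (.node (.leaf 0xcf1c071) (.leaf 0xa184025)))) (.node (.node (.node (.leaf 0xe78802b) (.leaf 0xa380029)) (.node (.leaf 0x8194073) (.leaf 0x9948071))) (.node (.node (.leaf 0x9738073) (.leaf 0xe920071)) (.node (.leaf 0x84d0073)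 (.leaf 0x0))))) (.node (.node (.node (.node (.leaf 0xdedc071) (.leaf 0x11b6c073)) (.node (.leaf 0xebf402b) (.leaf 0x77ac071))) (.node (.node (.leaf 0xd5e0025) (.leaf 0xfaac025)) (.node (.leaf 0xafa0029) (.leaf 0x0)))) (.node (.node (.node (.leaf 0x47f4073) (.leaf 0xb31002b)) (.node (.leaf 0x4128025) (.leaf 0x7aa))) (.node (.node (.leaf 0xa6f8021) (.leaf 0x5960029)) (.node (.leaf 0xce08071) (.leaf 0x0)))))))) (.node (.node (.node (.node (.node (.node (.node (.leaf 0x4ea8029) (.leaf 0x8b8c021)) (.node (.leaf 0xb94402b) (.leaf 0x8c2c021))) (.node (.node (.leaf 0xac9c021) (.leaf 0xb030071)) (.node (.leaf 0x8e58021) (.leaf 0x94c4029)))) (.node (.node (.node (.leaf 0xdaa4071) (.leaf 0xcb20073)) (.node (.leaf 0xcdec073) (.leaf 0x82e))) (.node (.node (.leaf 0x6f1802b) (.leaf 0xc704073)) (.node (.leaf 0x7538073) (.leaf 0x0))))) (.node (.node (.node (.node (.leaf 0xf78002b) (.leaf 0xc4e8029)) (.node (.leaf 0x884c025) (.leaf 0xd4b002b)))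 (.node (.node (.leaf 0x77e4021) (.leaf 0xb9c4029)) (.node (.leaf 0x8a68025) (.leaf 0xa150025)))) (.node (.node (.node (.leaf 0x4190025) (.leaf 0xa324029)) (.node (.leaf 0x608802b) (.leaf 0xda8402b))) (.node (.node (.leaf 0x98a0021) (.leaf 0x5d6802b)) (.node (.leaf 0x7180029) (.leaf 0x0)))))) (.node (.node (.node (.node (.node (.leaf 0x51c402b) (.leaf 0xcf34073)) (.node (.leaf 0xe010071) (.leaf 0x82a8073))) (.node (.node (.leaf 0xfa60071) (.leaf 0xeed0029)) (.node (.leaf 0xb50c073) (.leaf 0x6154025)))) (.node (.node (.node (.leaf 0x9994025) (.leaf 0xab10071)) (.node (.leaf 0x172) (.leaf 0x6830025))) (.node (.node (.leaf 0x465c029) (.leaf 0x872c021)) (.node (.leaf 0x1b6) (.leaf 0x0))))) (.node (.node (.node (.node (.leaf 0xccf8025) (.leaf 0xf710025)) (.node (.leaf 0x74f4029) (.leaf 0xcb2c021))) (.node (.node (.leaf 0xd514073) (.leaf 0x9c0c021)) (.node (.leaf 0x8e1c025) (.leaf 0x0)))) (.node (.node (.node (.leaf 0x7a9002b) (.leaf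 0xdef8025)) (.node (.leaf 0xdd08073) (.leaf 0x88e4073))) (.node (.node (.leaf 0x5658073) (.leaf 0xf7d4071)) (.node (.leaf 0xb2c0025) (.leaf 0x0))))))) (.node (.node (.node (.node (.node (.node (.leaf 0x10b4) (.leaf 0xe50c073)) (.node (.leaf 0xa56002b) (.leaf 0xec50071))) (.node (.node (.leaf 0x88ec071) (.leaf 0xcfac02b)) (.node (.leaf 0x5478029) (.leaf 0x8fd4071)))) (.node (.node (.node (.leaf 0x8fd4073) (.leaf 0xf6f4025)) (.node (.leaf 0xd02c025) (.leaf 0xfa6802b))) (.node (.node (.leaf 0xd84c073) (.leaf 0xea6c071)) (.node (.leaf 0x9af8021) (.leaf 0x0))))) (.node (.node (.node (.node (.leaf 0x93e4025) (.leaf 0x9d2c071)) (.node (.leaf 0x5b7c029) (.leaf 0x40dc073))) (.node (.node (.leaf 0x77e4029) (.leaf 0x8fa0021)) (.node (.leaf 0x9b9c029) (.leaf 0xf748071)))) (.node (.node (.node (.leaf 0xd6b0025) (.leaf 0xa218073)) (.node (.leaf 0x79d4071) (.leaf 0xe1b0025))) (.node (.node (.leaf 0xfaac029) (.leaf 0xd514071)) (.node (.leaf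 0xe0e0029) (.leaf 0x0)))))) (.node (.node (.node (.node (.node (.leaf 0x819c021) (.leaf 0xb2c002b)) (.node (.leaf 0xa5e002b) (.leaf 0xd7ac071))) (.node (.node (.leaf 0xc5a4073) (.leaf 0x9c60021)) (.node (.leaf 0xe5c0071) (.leaf 0xb070021)))) (.node (.node (.node (.leaf 0x8688071) (.leaf 0xebf8071)) (.node (.leaf 0xcb80025) (.leaf 0x9064073))) (.node (.node (.leaf 0xaf98073) (.leaf 0x82f0029)) (.node (.leaf 0xda7002b) (.leaf 0x0))))) (.node (.node (.node (.node (.leaf 0x73ec02b) (.leaf 0xdd98073)) (.node (.leaf 0xa31c029) (.leaf 0x990402b))) (.node (.node (.leaf 0x5568021) (.leaf 0x5568071)) (.node (.leaf 0x2c) (.leaf 0x0)))) (.node (.node (.node (.leaf 0x40a8029) (.leaf 0xba04029)) (.node (.leaf 0xd5b8071) (.leaf 0x4afc073))) (.node (.node (.leaf 0x48) (.leaf 0x40e802b)) (.node (.leaf 0x9fa4021) (.leaf 0x0))))))))))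

/-- packed table -/
noncomputable def cov2_lrr : BTree := (.node (.node (.node (.node (.node (.node (.node (.node (.node (.leaf 0xc028025) (.leaf 0xa02c021)) (.node (.leaf 0xb158071) (.leaf 0xd100021))) (.node (.node (.leaf 0xf6f002b) (.leaf 0x8bcc021)) (.node (.leaf 0x735002b) (.leaf 0xa450025)))) (.node (.node (.node (.leaf 0xd18002b) (.leaf 0xb158029)) (.node (.leaf 0xed68073) (.leaf 0x90f4073))) (.node (.node (.leaf 0x9650025) (.leaf 0x8c68021)) (.node (.leaf 0x923002b) (.leaf 0x0))))) (.node (.node (.node (.node (.leaf 0x971802b) (.leaf 0x44f0021)) (.node (.leaf 0xe8c402b) (.leaf 0xcfc4071))) (.node (.node (.leaf 0xb628071) (.leaf 0xa75c02b)) (.node (.leaf 0xd8c8025) (.leaf 0xafa8071)))) (.node (.node (.node (.leaf 0x821c025) (.leaf 0x9784029)) (.node (.leaf 0x8c28071) (.leaf 0x9198021))) (.node (.node (.leaf 0xf7c0073) (.leaf 0x5124073)) (.node (.leaf 0xe330073) (.leaf 0x0)))))) (.node (.node (.node (.node (.node (.leaf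 0xe028071) (.leaf 0x83c0021)) (.node (.leaf 0x5350021) (.leaf 0xf184021))) (.node (.node (.leaf 0xddd8071) (.leaf 0x90b0021)) (.node (.leaf 0xcd28025) (.leaf 0x698c02b)))) (.node (.node (.node (.leaf 0xa38002b) (.leaf 0xd5b0073)) (.node (.leaf 0xaedc073) (.leaf 0x724c025))) (.node (.node (.leaf 0x8c80073) (.leaf 0x91dc021)) (.node (.leaf 0x8024029) (.leaf 0x0))))) (.node (.node (.node (.node (.leaf 0xcbe4073) (.leaf 0x9be0071)) (.node (.leaf 0x5840021) (.leaf 0x666002b))) (.node (.node (.leaf 0xbb40021) (.leaf 0xf708025)) (.node (.leaf 0xce60025) (.leaf 0xcfc002b)))) (.node (.node (.node (.leaf 0xb4f0029) (.leaf 0x8d14029)) (.node (.leaf 0x40f0071) (.leaf 0xcb2c02b))) (.node (.node (.leaf 0x853002b) (.leaf 0x950)) (.node (.leaf 0xb310071) (.leaf 0x0))))))) (.node (.node (.node (.node (.node (.node (.leaf 0x47f402b) (.leaf 0xd54c02b)) (.node (.leaf 0xc508025) (.leaf 0xf7e002b))) (.node (.node (.leaf 0x9934029) (.leaf 0x6830071))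 (.node (.leaf 0x909402b) (.leaf 0xe060021)))) (.node (.node (.node (.leaf 0xd85c021) (.leaf 0xb9d002b)) (.node (.leaf 0xc55802b) (.leaf 0x86cc071))) (.node (.node (.leaf 0xa188071) (.leaf 0xf4a4029)) (.node (.leaf 0x914802b) (.leaf 0x0))))) (.node (.node (.node (.node (.leaf 0xd788029) (.leaf 0xcddc073)) (.node (.leaf 0xc88c025) (.leaf 0xe020029))) (.node (.node (.leaf 0xdb8c071) (.leaf 0xd9b002b)) (.node (.leaf 0x7654029) (.leaf 0x978002b)))) (.node (.node (.node (.leaf 0xc18c071) (.leaf 0xba2002b)) (.node (.leaf 0xc704025) (.leaf 0xe8e4073))) (.node (.node (.leaf 0x9bf0073) (.leaf 0x52bc02b)) (.node (.leaf 0x9a98071) (.leaf 0x0)))))) (.node (.node (.node (.node (.node (.leaf 0xd9fc071) (.leaf 0x8c8c073)) (.node (.leaf 0x416c029) (.leaf 0xe94002b))) (.node (.node (.leaf 0x5e88029) (.leaf 0x42b0071)) (.node (.leaf 0xc56c025) (.leaf 0xb814029)))) (.node (.node (.node (.leaf 0xf330073) (.leaf 0xdff0029)) (.node (.leaf 0x9a98025)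 (.leaf 0x51a8021))) (.node (.node (.leaf 0x81c0071) (.leaf 0xb73c02b)) (.node (.leaf 0x896c021) (.leaf 0x0))))) (.node (.node (.node (.node (.leaf 0xcc4c025) (.leaf 0xf104021)) (.node (.leaf 0xec0802b) (.leaf 0xe994073))) (.node (.node (.leaf 0xd21c02b) (.leaf 0xf61c073)) (.node (.leaf 0x6b34029) (.leaf 0x0)))) (.node (.node (.node (.leaf 0x87c4021) (.leaf 0xa734025)) (.node (.leaf 0x9934073) (.leaf 0xe980073))) (.node (.node (.leaf 0x8820021) (.leaf 0x40f0021)) (.node (.leaf 0xdfe8029) (.leaf 0x0)))))))) (.node (.node (.node (.node (.node (.node (.node (.leaf 0x5be802b) (.leaf 0xd9b0021)) (.node (.leaf 0x9c38073) (.leaf 0xf22402b))) (.node (.node (.leaf 0xea6c021) (.leaf 0x5124029)) (.node (.leaf 0xc34c029) (.leaf 0x9f10025)))) (.node (.node (.node (.leaf 0x7a38073) (.leaf 0x8d38021)) (.node (.leaf 0xa7ec021) (.leaf 0xa34402b))) (.node (.node (.leaf 0xb9d802b) (.leaf 0xafd0025)) (.node (.leaf 0x106) (.leaf 0x0))))) (.node (.node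 (.node (.node (.leaf 0x8004071) (.leaf 0x84c0021)) (.node (.leaf 0xa05c021) (.leaf 0xb50c025))) (.node (.node (.leaf 0x9a8c021) (.leaf 0xb73c025)) (.node (.leaf 0xca78025) (.leaf 0xe000025)))) (.node (.node (.node (.leaf 0xcde8029) (.leaf 0xa334073)) (.node (.leaf 0x7c0) (.leaf 0xa424025))) (.node (.node (.leaf 0x6f18029) (.leaf 0x8c8c029)) (.node (.leaf 0x13b04073) (.leaf 0x0)))))) (.node (.node (.node (.node (.node (.leaf 0x135ac073) (.leaf 0xf7c8025)) (.node (.leaf 0x84) (.leaf 0x73ec025))) (.node (.node (.leaf 0xcb04025) (.leaf 0x9c68021)) (.node (.leaf 0x5460029) (.leaf 0x926c021)))) (.node (.node (.node (.leaf 0x9958025) (.leaf 0xf05c071)) (.node (.leaf 0x9dcc073) (.leaf 0x9110073))) (.node (.node (.leaf 0xc690071) (.leaf 0x4074073)) (.node (.leaf 0xc948021) (.leaf 0x0))))) (.node (.node (.node (.node (.leaf 0xcce4025) (.leaf 0x5c58071)) (.node (.leaf 0x1970) (.leaf 0x8530073))) (.node (.node (.leaf 0xd50c073) (.leaf 0x812))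 (.node (.leaf 0xf490073) (.leaf 0x0)))) (.node (.node (.node (.leaf 0xa31c021) (.leaf 0xf9e8025)) (.node (.leaf 0xabe0073) (.leaf 0xa1e4071))) (.node (.node (.leaf 0xe818029) (.leaf 0xe5c0021)) (.node (.leaf 0xda84071) (.leaf 0x0))))))) (.node (.node (.node (.node (.node (.node (.leaf 0xe80) (.leaf 0xc760073)) (.node (.leaf 0x4ff0021) (.leaf 0x74f4025))) (.node (.node (.leaf 0x8ab8025) (.leaf 0xf650025)) (.node (.leaf 0xe5b4071) (.leaf 0x8c2c029)))) (.node (.node (.node (.leaf 0xcfd0073) (.leaf 0x9c0c071)) (.node (.leaf 0xb580021) (.leaf 0x9c24071))) (.node (.node (.leaf 0xa188029) (.leaf 0xf330025)) (.node (.leaf 0xec7c02b) (.leaf 0x0))))) (.node (.node (.node (.node (.leaf 0x9abc021) (.leaf 0xb4f0071)) (.node (.leaf 0x92c4025) (.leaf 0xaa7802b))) (.node (.node (.leaf 0x6348021) (.leaf 0xc8b8029)) (.node (.leaf 0xd554025) (.leaf 0x9eb802b)))) (.node (.node (.node (.leaf 0x765402b) (.leaf 0x8294073)) (.node (.leaf 0xab0c021)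 (.leaf 0xbaf802b))) (.node (.node (.leaf 0x4ea8073) (.leaf 0xdc10073)) (.node (.leaf 0x49d802b) (.leaf 0x0)))))) (.node (.node (.node (.node (.node (.leaf 0x8d84073) (.leaf 0xe0f0073)) (.node (.leaf 0xd458073) (.leaf 0x97a8071))) (.node (.node (.leaf 0x1202) (.leaf 0x43ec073)) (.node (.leaf 0xa5d0071) (.leaf 0x7a38021)))) (.node (.node (.node (.leaf 0xd53002b) (.leaf 0xd9e4073)) (.node (.leaf 0xc56c029) (.leaf 0x80bc071))) (.node (.node (.leaf 0x94b8021) (.leaf 0xd0e8071)) (.node (.leaf 0x9110029) (.leaf 0x0))))) (.node (.node (.node (.node (.leaf 0xd0b4073) (.leaf 0xd6b0073)) (.node (.leaf 0xe0ac02b) (.leaf 0x7180021))) (.node (.node (.leaf 0xf748073) (.leaf 0xa714021)) (.node (.leaf 0x5be8025) (.leaf 0x0)))) (.node (.node (.node (.leaf 0x87b8071) (.leaf 0xb000025)) (.node (.leaf 0x80f8025) (.leaf 0x6b58073))) (.node (.node (.leaf 0xb584029) (.leaf 0xd03c073)) (.node (.leaf 0xb9d8025) (.leaf 0x0))))))))) (.node (.node (.node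 (.node (.node (.node (.node (.node (.leaf 0x50) (.leaf 0xcccc029)) (.node (.leaf 0x6e94073) (.leaf 0xd14c02b))) (.node (.node (.leaf 0xf61c071) (.leaf 0xab10021)) (.node (.leaf 0xb39002b) (.leaf 0x82a8071)))) (.node (.node (.node (.leaf 0x9d24021) (.leaf 0xce54073)) (.node (.leaf 0x85e0029) (.leaf 0x86b002b))) (.node (.node (.leaf 0xc390025) (.leaf 0xe330071)) (.node (.leaf 0x4ba002b) (.leaf 0x0))))) (.node (.node (.node (.node (.leaf 0xc828071) (.leaf 0xf444025)) (.node (.leaf 0x8d68021) (.leaf 0x5124021))) (.node (.node (.leaf 0xb670029) (.leaf 0xca20073)) (.node (.leaf 0x91f8029) (.leaf 0x218)))) (.node (.node (.node (.leaf 0xc23c025) (.leaf 0x926c029)) (.node (.leaf 0x8f74071) (.leaf 0xee1c02b))) (.node (.node (.leaf 0x84d0021) (.leaf 0x8bec071)) (.node (.leaf 0x99e0071) (.leaf 0x0)))))) (.node (.node (.node (.node (.node (.leaf 0xafe8021) (.leaf 0x83e8021)) (.node (.leaf 0x9148025) (.leaf 0xd654071))) (.node (.node (.leaf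 0x8b28025) (.leaf 0xf528071)) (.node (.leaf 0xea) (.leaf 0xaf64029)))) (.node (.node (.node (.leaf 0x5938025) (.leaf 0x634802b)) (.node (.leaf 0x8b3c071) (.leaf 0x214))) (.node (.node (.leaf 0x6348029) (.leaf 0x8acc029)) (.node (.leaf 0x9d24025) (.leaf 0x0))))) (.node (.node (.node (.node (.leaf 0xcccc025) (.leaf 0xda3002b)) (.node (.leaf 0x606c073) (.leaf 0x7760029))) (.node (.node (.leaf 0x4fe802b) (.leaf 0x13c)) (.node (.leaf 0xfad8071) (.leaf 0xeaac025)))) (.node (.node (.node (.leaf 0xe2dc071) (.leaf 0x40c0073)) (.node (.leaf 0x5460025) (.leaf 0xec04025))) (.node (.node (.leaf 0xd9cc073) (.leaf 0x4038073)) (.node (.leaf 0x6bc4021) (.leaf 0x0))))))) (.node (.node (.node (.node (.node (.node (.leaf 0xe4) (.leaf 0xd3dc029)) (.node (.leaf 0x4110073) (.leaf 0xae74025))) (.node (.node (.leaf 0x8a68073) (.leaf 0xdda4025)) (.node (.leaf 0xc518073) (.leaf 0xe57802b)))) (.node (.node (.node (.leaf 0xf54802b) (.leaf 0xa404021)) (.node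 (.leaf 0x4fe8025) (.leaf 0x465c073))) (.node (.node (.leaf 0x7468021) (.leaf 0x91a4021)) (.node (.leaf 0xc9c0025) (.leaf 0x0))))) (.node (.node (.node (.node (.leaf 0xd62c021) (.leaf 0xdd20071)) (.node (.leaf 0x8eb8071) (.leaf 0x8668073))) (.node (.node (.leaf 0x74f402b) (.leaf 0xb844025)) (.node (.leaf 0x95bc02b) (.leaf 0xa17002b)))) (.node (.node (.node (.leaf 0xb598029) (.leaf 0x9c64021)) (.node (.leaf 0xdc08029) (.leaf 0xb020021))) (.node (.node (.leaf 0x5b7c021) (.leaf 0xc68c073)) (.node (.leaf 0x49d8021) (.leaf 0x0)))))) (.node (.node (.node (.node (.node (.leaf 0xcd9c073) (.leaf 0x8b14029)) (.node (.leaf 0x95a402b) (.leaf 0x4df8071))) (.node (.node (.leaf 0x4350071) (.leaf 0xf168029)) (.node (.leaf 0x85c0025) (.leaf 0xf128071)))) (.node (.node (.node (.leaf 0xe20c073) (.leaf 0xcb00073)) (.node (.leaf 0x9770029) (.leaf 0xc464071))) (.node (.node (.leaf 0xd75c073) (.leaf 0x8ad8029)) (.node (.leaf 0xb428025) (.leaf 0x0)))))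 (.node (.node (.node (.node (.leaf 0xa80402b) (.leaf 0x753c021)) (.node (.leaf 0x5358071) (.leaf 0x1100c073))) (.node (.node (.leaf 0x8324071) (.leaf 0xe904071)) (.node (.leaf 0x918c025) (.leaf 0x0)))) (.node (.node (.node (.leaf 0x47c8021) (.leaf 0xf8b4025)) (.node (.leaf 0xc114025) (.leaf 0xe9c0025))) (.node (.node (.leaf 0xa3b802b) (.leaf 0x6c90025)) (.node (.leaf 0xf1dc02b) (.leaf 0x0)))))))) (.node (.node (.node (.node (.node (.node (.node (.leaf 0x47ec02b) (.leaf 0x9d6c025)) (.node (.leaf 0xf8c8021) (.leaf 0x855c073))) (.node (.node (.leaf 0xf5d4073) (.leaf 0xbadc071)) (.node (.leaf 0xbac002b) (.leaf 0x722c071)))) (.node (.node (.node (.leaf 0x9f4002b) (.leaf 0xb5bc021)) (.node (.leaf 0x188) (.leaf 0x80f8071))) (.node (.node (.leaf 0x83e8025) (.leaf 0xaf98025)) (.node (.leaf 0xcb2c071) (.leaf 0x0))))) (.node (.node (.node (.node (.leaf 0x193c) (.leaf 0xa100029)) (.node (.leaf 0xc52c02b) (.leaf 0xb1c8021))) (.node (.node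 (.leaf 0x9dcc029) (.leaf 0x5c58021)) (.node (.leaf 0x8ad8071) (.leaf 0x9410073)))) (.node (.node (.node (.leaf 0x9c24029) (.leaf 0x9ac4071)) (.node (.leaf 0xc560071) (.leaf 0xc414071))) (.node (.node (.leaf 0xc050071) (.leaf 0xae9c02b)) (.node (.leaf 0x6660073) (.leaf 0x0)))))) (.node (.node (.node (.node (.node (.leaf 0x40f002b) (.leaf 0xcd28029)) (.node (.leaf 0x7760073) (.leaf 0x918c071))) (.node (.node (.leaf 0x9d90021) (.leaf 0xd238073)) (.node (.leaf 0xccbc071) (.leaf 0xdf6c025)))) (.node (.node (.node (.leaf 0xb670021) (.leaf 0xb690025)) (.node (.leaf 0xcf80073) (.leaf 0xc8a4071))) (.node (.node (.leaf 0x86c4071) (.leaf 0xc470073)) (.node (.leaf 0x9094073) (.leaf 0x0))))) (.node (.node (.node (.node (.leaf 0xa130071) (.leaf 0x85c802b)) (.node (.leaf 0x9110071) (.leaf 0xaf50025))) (.node (.node (.leaf 0x8bec025) (.leaf 0x7324073)) (.node (.leaf 0xc92002b) (.leaf 0x0)))) (.node (.node (.node (.leaf 0x7b20029) (.leaf 0xcb4402b))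 (.node (.leaf 0x9e0c073) (.leaf 0x12774073))) (.node (.node (.leaf 0xd648073) (.leaf 0xd01c073)) (.node (.leaf 0x8bcc071) (.leaf 0x0))))))) (.node (.node (.node (.node (.node (.node (.leaf 0x6b34021) (.leaf 0x8f7c02b)) (.node (.leaf 0x93f002b) (.leaf 0x9148021))) (.node (.node (.leaf 0x8ad4025) (.leaf 0x5960021)) (.node (.leaf 0xf984029) (.leaf 0xb9c4071)))) (.node (.node (.node (.leaf 0x848c073) (.leaf 0x9f80025)) (.node (.leaf 0xd01c025) (.leaf 0xf0d4025))) (.node (.node (.leaf 0x97bc02b) (.leaf 0xace4021)) (.node (.leaf 0xac84029) (.leaf 0x0))))) (.node (.node (.node (.node (.leaf 0xf934073) (.leaf 0x4278073)) (.node (.leaf 0x9234071) (.leaf 0xd02c073))) (.node (.node (.leaf 0xb428021) (.leaf 0xafc802b)) (.node (.leaf 0x412802b) (.leaf 0x5e88071)))) (.node (.node (.node (.leaf 0x92e8071) (.leaf 0x44f002b)) (.node (.leaf 0xaf30073) (.leaf 0x42b0029))) (.node (.node (.leaf 0xdfd8071) (.leaf 0x82d4021)) (.node (.leaf 0xa260029)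 (.leaf 0x0)))))) (.node (.node (.node (.node (.node (.leaf 0x8604025) (.leaf 0xc508073)) (.node (.leaf 0x5460073) (.leaf 0x8688073))) (.node (.node (.leaf 0xf13002b) (.leaf 0x90e0021)) (.node (.leaf 0xe5cc071) (.leaf 0xba34021)))) (.node (.node (.node (.leaf 0x8200025) (.leaf 0x97a0029)) (.node (.leaf 0xcc54071) (.leaf 0xf5ec025))) (.node (.node (.leaf 0x80) (.leaf 0x5960073)) (.node (.leaf 0xb204029) (.leaf 0x0))))) (.node (.node (.node (.node (.leaf 0xa128021) (.leaf 0x90d4021)) (.node (.leaf 0x993002b) (.leaf 0xf84002b))) (.node (.node (.leaf 0x42bc021) (.leaf 0x93a4029)) (.node (.leaf 0x8c28021) (.leaf 0x0)))) (.node (.node (.node (.leaf 0xec78021) (.leaf 0xddd8025)) (.node (.leaf 0xc14c025) (.leaf 0xa8f8073))) (.node (.node (.leaf 0xa02402b) (.leaf 0xa260021)) (.node (.leaf 0xa024021) (.leaf 0x0))))))))))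

/-- packed table -/
noncomputable def cov2_rll : BTree := (.node (.node (.node (.node (.node (.node (.node (.node (.node (.leaf 0x4038025) (.leaf 0x8d14021)) (.node (.leaf 0xc01402b) (.leaf 0x6e94029))) (.node (.node (.leaf 0xec7c021) (.leaf 0x5608071)) (.node (.leaf 0xec50073) (.leaf 0x40cc073)))) (.node (.node (.node (.leaf 0xdc9c025) (.leaf 0x6b38071)) (.node (.leaf 0x4274025) (.leaf 0xa714025))) (.node (.node (.leaf 0xca28071) (.leaf 0x9394029)) (.node (.leaf 0x96e802b) (.leaf 0x0))))) (.node (.node (.node (.node (.leaf 0x8194021) (.leaf 0xc3e4029)) (.node (.leaf 0x98e8021) (.leaf 0x6bc4025))) (.node (.node (.leaf 0xdbc8071) (.leaf 0xafb802b)) (.node (.leaf 0xe5d4071) (.leaf 0x698c073)))) (.node (.node (.node (.leaf 0x546002b) (.leaf 0xd798029)) (.node (.leaf 0xcc58071) (.leaf 0x9b2c071))) (.node (.node (.leaf 0x80bc02b) (.leaf 0xded0025)) (.node (.leaf 0xc90c021) (.leaf 0x0)))))) (.node (.node (.node (.node (.node (.leaf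 0x127e4073) (.leaf 0xebf0071)) (.node (.leaf 0x9114025) (.leaf 0xa3b8025))) (.node (.node (.leaf 0x10d44073) (.leaf 0x97bc029)) (.node (.leaf 0x4d34025) (.leaf 0x77ac073)))) (.node (.node (.node (.leaf 0x77a8071) (.leaf 0xcfb4029)) (.node (.leaf 0x7b2002b) (.leaf 0x6e6c071))) (.node (.node (.leaf 0xa9d8021) (.leaf 0x40d8029)) (.node (.leaf 0x7350073) (.leaf 0x0))))) (.node (.node (.node (.node (.leaf 0xc56002b) (.leaf 0x10268073)) (.node (.leaf 0x9188021) (.leaf 0xa4dc02b))) (.node (.node (.leaf 0xb714029) (.leaf 0xb37c073)) (.node (.leaf 0xce54025) (.leaf 0xd4a802b)))) (.node (.node (.node (.leaf 0xac9c02b) (.leaf 0xb7d0071)) (.node (.leaf 0x8200029) (.leaf 0xe608025))) (.node (.node (.leaf 0xdcec025) (.leaf 0xe920025)) (.node (.leaf 0xadfc021) (.leaf 0x0))))))) (.node (.node (.node (.node (.node (.node (.leaf 0x8790073) (.leaf 0xeaac071)) (.node (.leaf 0x9d6c071) (.leaf 0xe980025))) (.node (.node (.leaf 0xa890029) (.leaf 0x98a0071))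 (.node (.leaf 0xc3b0073) (.leaf 0xa6f8071)))) (.node (.node (.node (.leaf 0x9b28021) (.leaf 0xa05c02b)) (.node (.leaf 0x6af4073) (.leaf 0xb914021))) (.node (.node (.leaf 0xc3d4025) (.leaf 0x6b34025)) (.node (.leaf 0xdff8073) (.leaf 0x0))))) (.node (.node (.node (.node (.leaf 0xb4f0073) (.leaf 0xb004021)) (.node (.leaf 0xc87c025) (.leaf 0xb714073))) (.node (.node (.leaf 0x97c0073) (.leaf 0xb15c021)) (.node (.leaf 0x9584025) (.leaf 0xfb4802b)))) (.node (.node (.node (.leaf 0x8194025) (.leaf 0xd38c073)) (.node (.leaf 0x8774025) (.leaf 0x9eb8025))) (.node (.node (.leaf 0x5be8073) (.leaf 0x69b002b)) (.node (.leaf 0xae84021) (.leaf 0x0)))))) (.node (.node (.node (.node (.node (.leaf 0x95a4029) (.leaf 0x4350021)) (.node (.leaf 0x5d68073) (.leaf 0xa988025))) (.node (.node (.leaf 0xab78029) (.leaf 0xdf6802b)) (.node (.leaf 0x8cb4071) (.leaf 0x8ad8073)))) (.node (.node (.node (.leaf 0x83b4071) (.leaf 0xec04071)) (.node (.leaf 0x40e8021)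 (.leaf 0x44f0073))) (.node (.node (.leaf 0x40f0025) (.leaf 0x9668071)) (.node (.leaf 0x849402b) (.leaf 0x0))))) (.node (.node (.node (.node (.leaf 0x8c28025) (.leaf 0x724c029)) (.node (.leaf 0x717002b) (.leaf 0xeab002b))) (.node (.node (.leaf 0x95bc025) (.leaf 0xaaec025)) (.node (.leaf 0xc31c073) (.leaf 0x0)))) (.node (.node (.node (.leaf 0x40a802b) (.leaf 0x6660021)) (.node (.leaf 0x6b38073) (.leaf 0x90d8071))) (.node (.node (.leaf 0xa554021) (.leaf 0xaf64021)) (.node (.leaf 0x98a0073) (.leaf 0x0)))))))) (.node (.node (.node (.node (.node (.node (.node (.leaf 0x5bcc02b) (.leaf 0xc100073)) (.node (.leaf 0xf8e802b) (.leaf 0x94b8071))) (.node (.node (.leaf 0xeaf8071) (.leaf 0xb204073)) (.node (.leaf 0x9814025) (.leaf 0x73ec029)))) (.node (.node (.node (.leaf 0x79d4073) (.leaf 0xa32402b)) (.node (.leaf 0xec44073) (.leaf 0x90ac021))) (.node (.node (.leaf 0x9e68071) (.leaf 0x868802b)) (.node (.leaf 0xc49c025) (.leaf 0x0))))) (.node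 (.node (.node (.node (.leaf 0x81c0021) (.leaf 0xf4e4071)) (.node (.leaf 0xc868025) (.leaf 0xa370073))) (.node (.node (.leaf 0x8bec073) (.leaf 0xf8c802b)) (.node (.leaf 0x8ad4071) (.leaf 0xab10025)))) (.node (.node (.node (.leaf 0xc24c025) (.leaf 0xafcc071)) (.node (.leaf 0x8f6c071) (.leaf 0x8cb4021))) (.node (.node (.leaf 0x9af8025) (.leaf 0x95bc071)) (.node (.leaf 0xaea0021) (.leaf 0x0)))))) (.node (.node (.node (.node (.node (.leaf 0xad04071) (.leaf 0x88fc029)) (.node (.leaf 0xf534029) (.leaf 0x8b14073))) (.node (.node (.leaf 0x8bf0071) (.leaf 0xb000071)) (.node (.leaf 0x9404021) (.leaf 0x4ff0071)))) (.node (.node (.node (.leaf 0x427402b) (.leaf 0x85c8029)) (.node (.leaf 0xdae8025) (.leaf 0xcc4c073))) (.node (.node (.leaf 0xec1c02b) (.leaf 0x80bc029)) (.node (.leaf 0xdd18025) (.leaf 0x0))))) (.node (.node (.node (.node (.leaf 0x8bcc073) (.leaf 0x6b34071)) (.node (.leaf 0x5c) (.leaf 0x905c021))) (.node (.node (.leaf 0x8998025)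 (.leaf 0xd16c02b)) (.node (.leaf 0x8178073) (.leaf 0xa744021)))) (.node (.node (.node (.leaf 0x60d402b) (.leaf 0x7280073)) (.node (.leaf 0x8dac071) (.leaf 0x8de4071))) (.node (.node (.leaf 0xee3802b) (.leaf 0xa2d4029)) (.node (.leaf 0xb6ac073) (.leaf 0x0))))))) (.node (.node (.node (.node (.node (.node (.leaf 0xfa5c02b) (.leaf 0xa094021)) (.node (.leaf 0xe5c002b) (.leaf 0x10e2c073))) (.node (.node (.leaf 0x9dcc021) (.leaf 0xade0025)) (.node (.leaf 0x8778021) (.leaf 0xb9c402b)))) (.node (.node (.node (.leaf 0x4ff0073) (.leaf 0x412c073)) (.node (.leaf 0x5938073) (.leaf 0xdba8071))) (.node (.node (.leaf 0xed1402b) (.leaf 0xf6f4071)) (.node (.leaf 0xb3a002b) (.leaf 0x0))))) (.node (.node (.node (.node (.leaf 0x1a2c) (.leaf 0x78)) (.node (.leaf 0x43ec02b) (.leaf 0xa148025))) (.node (.node (.leaf 0xb7e8029) (.leaf 0x9824021)) (.node (.leaf 0x5568025) (.leaf 0x77e4071)))) (.node (.node (.node (.leaf 0x465c021) (.leaf 0xbac0025)) (.node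 (.leaf 0x6b3402b) (.leaf 0xed38071))) (.node (.node (.leaf 0x199e) (.leaf 0xf720073)) (.node (.leaf 0x8e84029) (.leaf 0x0)))))) (.node (.node (.node (.node (.node (.leaf 0x86b0025) (.leaf 0xabe8025)) (.node (.leaf 0xa6) (.leaf 0xf6e4029))) (.node (.node (.leaf 0xaae0073) (.leaf 0xe764073)) (.node (.leaf 0xc5d0025) (.leaf 0x722c021)))) (.node (.node (.node (.leaf 0xab70073) (.leaf 0xd9f4073)) (.node (.leaf 0xedb8071) (.leaf 0xaf0c071))) (.node (.node (.leaf 0x800402b) (.leaf 0xf658071)) (.node (.leaf 0xbb3c025) (.leaf 0x0))))) (.node (.node (.node (.node (.leaf 0x8dcc029) (.leaf 0x96c4073)) (.node (.leaf 0xb43c071) (.leaf 0xe5f8025))) (.node (.node (.leaf 0x77a8073) (.leaf 0x958)) (.node (.leaf 0xcb7802b) (.leaf 0x0)))) (.node (.node (.node (.leaf 0x47f4025) (.leaf 0xc0c8029)) (.node (.leaf 0x8458029) (.leaf 0xedc002b))) (.node (.node (.leaf 0xa98802b) (.leaf 0x40dc021)) (.node (.leaf 0xeeb0029) (.leaf 0x0))))))))) (.node (.node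 (.node (.node (.node (.node (.node (.node (.leaf 0x401c021) (.leaf 0x5938071)) (.node (.leaf 0xcfb8071) (.leaf 0x9b2c073))) (.node (.node (.leaf 0x9234025) (.leaf 0xdf1802b)) (.node (.leaf 0x6f7402b) (.leaf 0x884c073)))) (.node (.node (.node (.leaf 0x8bc4021) (.leaf 0x4ba0021)) (.node (.leaf 0xa7f0071) (.leaf 0xb690071))) (.node (.node (.leaf 0xc6ec073) (.leaf 0xb43c073)) (.node (.leaf 0x5478021) (.leaf 0x0))))) (.node (.node (.node (.node (.leaf 0xcdbc02b) (.leaf 0x9d24071)) (.node (.leaf 0x9e40073) (.leaf 0xaf20071))) (.node (.node (.leaf 0x9ac4029) (.leaf 0xa3f0021)) (.node (.leaf 0xe284073) (.leaf 0xafe8071)))) (.node (.node (.node (.leaf 0x8604021) (.leaf 0xad04025)) (.node (.leaf 0xae9c021) (.leaf 0xb6ac029))) (.node (.node (.leaf 0x6d34029) (.leaf 0xb9c4073)) (.node (.leaf 0xf7b4025) (.leaf 0x0)))))) (.node (.node (.node (.node (.node (.leaf 0xe030071) (.leaf 0x8e58071)) (.node (.leaf 0x7c) (.leaf 0xe25c029))) (.node (.node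 (.leaf 0xcb00025) (.leaf 0xa13c073)) (.node (.leaf 0xb6b402b) (.leaf 0xb904021)))) (.node (.node (.node (.leaf 0xf008071) (.leaf 0x9bd8071)) (.node (.leaf 0xf444029) (.leaf 0xa804025))) (.node (.node (.leaf 0x11eb4073) (.leaf 0xab6c029)) (.node (.leaf 0x401c029) (.leaf 0x0))))) (.node (.node (.node (.node (.leaf 0x769c029) (.leaf 0x77ac021)) (.node (.leaf 0x9334025) (.leaf 0x10a))) (.node (.node (.leaf 0xf710029) (.leaf 0x9828021)) (.node (.leaf 0xcddc025) (.leaf 0xc5d402b)))) (.node (.node (.node (.leaf 0xab0c029) (.leaf 0x724c021)) (.node (.leaf 0xee3402b) (.leaf 0x8b2802b))) (.node (.node (.leaf 0xca24025) (.leaf 0xab94025)) (.node (.leaf 0xadf8021) (.leaf 0x0))))))) (.node (.node (.node (.node (.node (.node (.leaf 0x87b4029) (.leaf 0x60d4021)) (.node (.leaf 0x11004073) (.leaf 0xeca0071))) (.node (.node (.leaf 0x9e0c029) (.leaf 0x769c025)) (.node (.leaf 0x8cb802b) (.leaf 0x6870025)))) (.node (.node (.node (.leaf 0x8520071)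 (.leaf 0x995c021)) (.node (.leaf 0x90ac071) (.leaf 0x80bc073))) (.node (.node (.leaf 0x9eb0071) (.leaf 0xb804029)) (.node (.leaf 0xda6802b) (.leaf 0x0))))) (.node (.node (.node (.node (.leaf 0xfc) (.leaf 0xa28c021)) (.node (.leaf 0x94dc073) (.leaf 0x8520073))) (.node (.node (.leaf 0x97c002b) (.leaf 0x62c4029)) (.node (.leaf 0x95a4025) (.leaf 0x7280021)))) (.node (.node (.node (.leaf 0x973802b) (.leaf 0x5bcc071)) (.node (.leaf 0xc6f0025) (.leaf 0xb518029))) (.node (.node (.leaf 0x8044071) (.leaf 0xa9e4025)) (.node (.leaf 0xd5f002b) (.leaf 0x0)))))) (.node (.node (.node (.node (.node (.leaf 0xc690025) (.leaf 0xcc1802b)) (.node (.leaf 0x4190029) (.leaf 0x939c071))) (.node (.node (.leaf 0x9c2002b) (.leaf 0xae0c073)) (.node (.leaf 0x45b0025) (.leaf 0xddf8025)))) (.node (.node (.node (.leaf 0xa72402b) (.leaf 0xb158021)) (.node (.leaf 0x5460021) (.leaf 0xc90c02b))) (.node (.node (.leaf 0xd764073) (.leaf 0xa538025)) (.node (.leaf 0x848c02b)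 (.leaf 0x0))))) (.node (.node (.node (.node (.leaf 0x724c02b) (.leaf 0x9d30071)) (.node (.leaf 0x42b0025) (.leaf 0xaea0071))) (.node (.node (.leaf 0xd75c071) (.leaf 0xe84c029)) (.node (.leaf 0x97d402b) (.leaf 0x0)))) (.node (.node (.node (.leaf 0x47e4021) (.leaf 0x83b402b)) (.node (.leaf 0xf1cc073) (.leaf 0xcc00071))) (.node (.node (.leaf 0x12180073) (.leaf 0x410c021)) (.node (.leaf 0x7760025) (.leaf 0x0)))))))) (.node (.node (.node (.node (.node (.node (.node (.leaf 0xc5a0029) (.leaf 0xb74c025)) (.node (.leaf 0x5658021) (.leaf 0x9bc0073))) (.node (.node (.leaf 0xda40071) (.leaf 0xecb0071)) (.node (.leaf 0xa170029) (.leaf 0xb9c002b)))) (.node (.node (.node (.leaf 0x9c24025) (.leaf 0xed40071)) (.node (.leaf 0x8d68071) (.leaf 0xa33402b))) (.node (.node (.leaf 0xa170071) (.leaf 0x13668073)) (.node (.leaf 0x42a4073) (.leaf 0x0))))) (.node (.node (.node (.node (.leaf 0xaf6402b) (.leaf 0xafec021)) (.node (.leaf 0xd54802b) (.leaf 0xd5fc071)))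 (.node (.node (.leaf 0xc8c0071) (.leaf 0xd90802b)) (.node (.leaf 0xf560073) (.leaf 0xdefc071)))) (.node (.node (.node (.leaf 0x8178025) (.leaf 0xa4dc021)) (.node (.leaf 0xb7f0021) (.leaf 0xab70025))) (.node (.node (.leaf 0x535802b) (.leaf 0xaf30071)) (.node (.leaf 0xab40071) (.leaf 0x0)))))) (.node (.node (.node (.node (.node (.leaf 0xed44071) (.leaf 0x83a4021)) (.node (.leaf 0x9bc0025) (.leaf 0xd85c071))) (.node (.node (.leaf 0x8de4029) (.leaf 0xb030029)) (.node (.leaf 0xb518073) (.leaf 0xce0c071)))) (.node (.node (.node (.leaf 0xf684021) (.leaf 0xb6ac071)) (.node (.leaf 0xe1c0073) (.leaf 0xda68071))) (.node (.node (.leaf 0x8668029) (.leaf 0xa2f4029)) (.node (.leaf 0x90ac073) (.leaf 0x0))))) (.node (.node (.node (.node (.leaf 0xc9b4073) (.leaf 0x733c071)) (.node (.leaf 0xb0d8029) (.leaf 0xdcf8071))) (.node (.node (.leaf 0xc978025) (.leaf 0xa324073)) (.node (.leaf 0xa380071) (.leaf 0x0)))) (.node (.node (.node (.leaf 0xf430029)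 (.leaf 0xa78402b)) (.node (.leaf 0xaf9802b) (.leaf 0xfab8073))) (.node (.node (.leaf 0x11628073) (.leaf 0x62c4025)) (.node (.leaf 0xae0c021) (.leaf 0x0))))))) (.node (.node (.node (.node (.node (.node (.leaf 0xf5a002b) (.leaf 0x12b14073)) (.node (.leaf 0x83e8071) (.leaf 0xce0c073))) (.node (.node (.leaf 0x683002b) (.leaf 0x8f50021)) (.node (.leaf 0x9738071) (.leaf 0xce04071)))) (.node (.node (.node (.leaf 0x853802b) (.leaf 0xe444071)) (.node (.leaf 0xaa78073) (.leaf 0xaa78025))) (.node (.node (.leaf 0xaae002b) (.leaf 0x5c58029)) (.node (.leaf 0xa8b0071) (.leaf 0x0))))) (.node (.node (.node (.node (.leaf 0xa094071) (.leaf 0x470c029)) (.node (.leaf 0xa970021) (.leaf 0xb8a4029))) (.node (.node (.leaf 0xda74073) (.leaf 0xbadc025)) (.node (.leaf 0x40cc029) (.leaf 0xdec002b)))) (.node (.node (.node (.leaf 0x9c3c021) (.leaf 0x435002b)) (.node (.leaf 0x70cc021) (.leaf 0xa380021))) (.node (.node (.leaf 0xe6ec029) (.leaf 0xe028025)) (.node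 (.leaf 0x8fec071) (.leaf 0x0)))))) (.node (.node (.node (.node (.node (.leaf 0x4190021) (.leaf 0x6870029)) (.node (.leaf 0xdaa402b) (.leaf 0x97c0071))) (.node (.node (.leaf 0x85c8073) (.leaf 0x6660029)) (.node (.leaf 0x99a0021) (.leaf 0xa998025)))) (.node (.node (.node (.leaf 0x8640021) (.leaf 0xdd28071)) (.node (.leaf 0xb43c021) (.leaf 0xaae0071))) (.node (.node (.leaf 0x4fe8021) (.leaf 0xa898025)) (.node (.leaf 0xf624025) (.leaf 0x0))))) (.node (.node (.node (.node (.leaf 0x90d8073) (.leaf 0xda68021)) (.node (.leaf 0x7a90071) (.leaf 0xeadc073))) (.node (.node (.leaf 0xa26002b) (.leaf 0xd4c002b)) (.node (.leaf 0xcb78021) (.leaf 0x0)))) (.node (.node (.node (.leaf 0x9c) (.leaf 0xcc5402b)) (.node (.leaf 0xdacc029) (.leaf 0x11be))) (.node (.node (.leaf 0x84e0071) (.leaf 0xda40073)) (.node (.leaf 0xad90029) (.leaf 0x0))))))))))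

/-- packed table -/
noncomputable def cov2_rlr : BTree := (.node (.node (.node (.node (.node (.node (.node (.node (.node (.leaf 0x8024025) (.leaf 0xa8b0025)) (.node (.leaf 0xa034073) (.leaf 0xc8c4029))) (.node (.node (.leaf 0xf05c02b) (.leaf 0xbaa4071)) (.node (.leaf 0x7350071) (.leaf 0x6660025)))) (.node (.node (.node (.leaf 0x8bf0029) (.leaf 0xecbc071)) (.node (.leaf 0xa2d002b) (.leaf 0x820002b))) (.node (.node (.leaf 0xca24071) (.leaf 0xe12c025)) (.node (.leaf 0xc454025) (.leaf 0x0))))) (.node (.node (.node (.node (.leaf 0x971002b) (.leaf 0xc50c021)) (.node (.leaf 0xe8d402b) (.leaf 0xb58c02b))) (.node (.node (.leaf 0x9ed8021) (.leaf 0xb504025)) (.node (.leaf 0x93d002b) (.leaf 0xc898071)))) (.node (.node (.node (.leaf 0x81e4025) (.leaf 0x412c029)) (.node (.leaf 0x8c5c071) (.leaf 0x90f4021))) (.node (.node (.leaf 0xe4b8073) (.leaf 0xce3c071)) (.node (.leaf 0xb15c025) (.leaf 0x0)))))) (.node (.node (.node (.node (.node (.leaf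 0x8538029) (.leaf 0x4350073)) (.node (.leaf 0x74f4071) (.leaf 0xb95c021))) (.node (.node (.leaf 0x9dd4071) (.leaf 0xc58402b)) (.node (.leaf 0xdecc073) (.leaf 0x77ac02b)))) (.node (.node (.node (.leaf 0x8bf0021) (.leaf 0xabe802b)) (.node (.leaf 0x9b9c02b) (.leaf 0x9994071))) (.node (.node (.leaf 0x410c073) (.leaf 0x8be8071)) (.node (.leaf 0xc028029) (.leaf 0x0))))) (.node (.node (.node (.node (.leaf 0x939c029) (.leaf 0xad4c02b)) (.node (.leaf 0x583c02b) (.leaf 0x4190073))) (.node (.node (.leaf 0x77a8021) (.leaf 0xecbc02b)) (.node (.leaf 0x938802b) (.leaf 0xd4e4029)))) (.node (.node (.node (.leaf 0x96e8025) (.leaf 0x4350029)) (.node (.leaf 0xc1e8029) (.leaf 0x5e88025))) (.node (.node (.leaf 0xae74073) (.leaf 0x42c4021)) (.node (.leaf 0xa450071) (.leaf 0x0))))))) (.node (.node (.node (.node (.node (.node (.leaf 0x47f4071) (.leaf 0x7a90025)) (.node (.leaf 0x7324021) (.leaf 0xc5f802b))) (.node (.node (.leaf 0xafb8029) (.leaf 0xc9e4029))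 (.node (.leaf 0xace4071) (.leaf 0xe070021)))) (.node (.node (.node (.leaf 0x44f0071) (.leaf 0xa614025)) (.node (.leaf 0x98ac021) (.leaf 0xdb88071))) (.node (.node (.leaf 0xa184071) (.leaf 0xb208029)) (.node (.leaf 0xf10402b) (.leaf 0x0))))) (.node (.node (.node (.node (.leaf 0x5bcc021) (.leaf 0x84b0029)) (.node (.leaf 0xafe8073) (.leaf 0xa37402b))) (.node (.node (.leaf 0xf83402b) (.leaf 0xb8a402b)) (.node (.leaf 0xd594025) (.leaf 0xd414073)))) (.node (.node (.node (.leaf 0x8178071) (.leaf 0x113bc073)) (.node (.leaf 0xc700025) (.leaf 0xc53c071))) (.node (.node (.leaf 0xa55402b) (.leaf 0x77c)) (.node (.leaf 0xae74021) (.leaf 0x0)))))) (.node (.node (.node (.node (.node (.leaf 0x51a802b) (.leaf 0xc2ac029)) (.node (.leaf 0xdb90025) (.leaf 0x8e34071))) (.node (.node (.leaf 0xf8c8071) (.leaf 0xa450021)) (.node (.leaf 0x718002b) (.leaf 0xb95c071)))) (.node (.node (.node (.leaf 0x8058073) (.leaf 0xace4025)) (.node (.leaf 0xb43c029) (.leaf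 0xd92c071))) (.node (.node (.leaf 0x91a4025) (.leaf 0x9824073)) (.node (.leaf 0xbb40025) (.leaf 0x0))))) (.node (.node (.node (.node (.leaf 0xa148021) (.leaf 0xf6a4025)) (.node (.leaf 0x42a4025) (.leaf 0xc2c8071))) (.node (.node (.leaf 0xd5cc025) (.leaf 0x42a4021)) (.node (.leaf 0xef9c029) (.leaf 0x0)))) (.node (.node (.node (.leaf 0x47e4029) (.leaf 0x86d8073)) (.node (.leaf 0xafb8073) (.leaf 0xbaa4029))) (.node (.node (.leaf 0xecf8073) (.leaf 0xcf0c071)) (.node (.leaf 0x9af8071) (.leaf 0x0)))))))) (.node (.node (.node (.node (.node (.node (.node (.leaf 0x8058021) (.leaf 0xaa80073)) (.node (.leaf 0x8bc4029) (.leaf 0xb8a4073))) (.node (.node (.leaf 0xd03c071) (.leaf 0x9584071)) (.node (.leaf 0xa184029) (.leaf 0x9f40025)))) (.node (.node (.node (.leaf 0x978c02b) (.leaf 0xb914025)) (.node (.leaf 0x9c24073) (.leaf 0x4ba0073))) (.node (.node (.leaf 0x83b4025) (.leaf 0x11c2c073)) (.node (.leaf 0xdd78029) (.leaf 0x0))))) (.node (.node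 (.node (.node (.leaf 0xaf98071) (.leaf 0x8b3c073)) (.node (.leaf 0xb770021) (.leaf 0xd5f0071))) (.node (.node (.leaf 0xb7d0021) (.leaf 0xb0b4029)) (.node (.leaf 0xc9fc02b) (.leaf 0xa5d0025)))) (.node (.node (.node (.leaf 0x86bc021) (.leaf 0x11a)) (.node (.leaf 0xa13c029) (.leaf 0xf0))) (.node (.node (.leaf 0x97a802b) (.leaf 0xd454029)) (.node (.leaf 0xf8b4073) (.leaf 0x0)))))) (.node (.node (.node (.node (.node (.leaf 0x6c90029) (.leaf 0x190)) (.node (.leaf 0x9d1c073) (.leaf 0xb3f4025))) (.node (.node (.leaf 0x5d68021) (.leaf 0xae00025)) (.node (.leaf 0xb598073) (.leaf 0xf4fc029)))) (.node (.node (.node (.leaf 0xc24002b) (.leaf 0x5be8071)) (.node (.leaf 0xa424029) (.leaf 0xa538021))) (.node (.node (.leaf 0x91dc025) (.leaf 0x96e402b)) (.node (.leaf 0x4ba0029) (.leaf 0x0))))) (.node (.node (.node (.node (.leaf 0xdb90071) (.leaf 0xaa8002b)) (.node (.leaf 0x9384025) (.leaf 0x860c02b))) (.node (.node (.leaf 0xa22c071) (.leaf 0xd90002b))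 (.node (.leaf 0xa384071) (.leaf 0x0)))) (.node (.node (.node (.leaf 0x9930071) (.leaf 0xf8e0025)) (.node (.leaf 0xaaec073) (.leaf 0xae84073))) (.node (.node (.leaf 0x49d8025) (.leaf 0x6f74021)) (.node (.leaf 0xda14071) (.leaf 0x0))))))) (.node (.node (.node (.node (.node (.node (.leaf 0xc2cc02b) (.leaf 0x62)) (.node (.leaf 0x77e4073) (.leaf 0x8dac021))) (.node (.node (.leaf 0xaae0029) (.leaf 0xb7d0025)) (.node (.leaf 0xda28025) (.leaf 0xc87c071)))) (.node (.node (.node (.leaf 0x9d90071) (.leaf 0xadbc025)) (.node (.leaf 0xbb0c02b) (.leaf 0xdbfc071))) (.node (.node (.leaf 0x9eb8071) (.leaf 0x606c02b)) (.node (.leaf 0x73ec073) (.leaf 0x0))))) (.node (.node (.node (.node (.leaf 0x6088071) (.leaf 0x79d4025)) (.node (.leaf 0xa130073) (.leaf 0xe8fc073))) (.node (.node (.leaf 0x410c02b) (.leaf 0xaedc071)) (.node (.leaf 0xa538071) (.leaf 0xa83c021)))) (.node (.node (.node (.leaf 0x96c4025) (.leaf 0xb7b0071)) (.node (.leaf 0xf780071) (.leaf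 0xb030021))) (.node (.node (.leaf 0x534c021) (.leaf 0x9510071)) (.node (.leaf 0x8b8c029) (.leaf 0x0)))))) (.node (.node (.node (.node (.node (.leaf 0xb4b8029) (.leaf 0xe4f802b)) (.node (.leaf 0xcd7c025) (.leaf 0x9fa4029))) (.node (.node (.leaf 0xcae0073) (.leaf 0x6c9002b)) (.node (.leaf 0x84e0073) (.leaf 0x12a6)))) (.node (.node (.node (.leaf 0x99a0025) (.leaf 0xb9d8029)) (.node (.leaf 0xb97c02b) (.leaf 0x97a002b))) (.node (.node (.leaf 0xa188073) (.leaf 0xa700071)) (.node (.leaf 0x6b58025) (.leaf 0x0))))) (.node (.node (.node (.node (.leaf 0x94ac029) (.leaf 0x4df8073)) (.node (.leaf 0xb790021) (.leaf 0xca44029))) (.node (.node (.leaf 0x4d34021) (.leaf 0xae2002b)) (.node (.leaf 0xc38402b) (.leaf 0x0)))) (.node (.node (.node (.leaf 0x47e4025) (.leaf 0x9dd4073)) (.node (.leaf 0x7760071) (.leaf 0x8ad802b))) (.node (.node (.leaf 0x5e88021) (.leaf 0x8154021)) (.node (.leaf 0xba34025) (.leaf 0x0))))))))) (.node (.node (.node (.node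 (.node (.node (.node (.node (.leaf 0x9d3002b) (.leaf 0x7a38025)) (.node (.leaf 0x91f8021) (.leaf 0x95c8073))) (.node (.node (.leaf 0xafcc073) (.leaf 0x9394071)) (.node (.leaf 0xb390071) (.leaf 0x8a68071)))) (.node (.node (.node (.leaf 0xedd0073) (.leaf 0x8f7c021)) (.node (.leaf 0xd73c025) (.leaf 0x8edc021))) (.node (.node (.leaf 0xc514029) (.leaf 0xb518071)) (.node (.leaf 0x9064071) (.leaf 0x0))))) (.node (.node (.node (.node (.leaf 0x81e4073) (.leaf 0xdc7c02b)) (.node (.leaf 0x7350021) (.leaf 0xadf8029))) (.node (.node (.leaf 0xe708071) (.leaf 0xeb28025)) (.node (.leaf 0x98e8025) (.leaf 0x615402b)))) (.node (.node (.node (.leaf 0x860c021) (.leaf 0xb8dc025)) (.node (.leaf 0xcc10025) (.leaf 0xf62002b))) (.node (.node (.leaf 0x5bcc029) (.leaf 0xb598025)) (.node (.leaf 0x9abc071) (.leaf 0x0)))))) (.node (.node (.node (.node (.node (.leaf 0x99e0021) (.leaf 0xade0071)) (.node (.leaf 0x842c021) (.leaf 0xcb78071))) (.node (.node (.leaf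 0xcf90073) (.leaf 0xca78071)) (.node (.leaf 0x40cc021) (.leaf 0x93e4021)))) (.node (.node (.node (.leaf 0x9934025) (.leaf 0x11ab4073)) (.node (.leaf 0xb49c021) (.leaf 0x8024073))) (.node (.node (.leaf 0x7dc) (.leaf 0xdc)) (.node (.leaf 0xdd28025) (.leaf 0x0))))) (.node (.node (.node (.node (.leaf 0x8cb4025) (.leaf 0x77ac025)) (.node (.leaf 0x606c029) (.leaf 0x6870073))) (.node (.node (.leaf 0x11c94073) (.leaf 0x144)) (.node (.leaf 0x9ed8073) (.leaf 0x872c02b)))) (.node (.node (.node (.leaf 0xb5b4073) (.leaf 0x52bc071)) (.node (.leaf 0x95a4073) (.leaf 0xf008073))) (.node (.node (.leaf 0xb97c021) (.leaf 0xaf30025)) (.node (.leaf 0x99a4071) (.leaf 0x0))))))) (.node (.node (.node (.node (.node (.node (.leaf 0x412c025) (.leaf 0xb790071)) (.node (.leaf 0x8a6802b) (.leaf 0x6e6c025))) (.node (.node (.leaf 0xb428071) (.leaf 0x69b0071)) (.node (.leaf 0xef44071) (.leaf 0xb0b402b)))) (.node (.node (.node (.leaf 0x9184029) (.leaf 0x977c073))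 (.node (.leaf 0xa380073) (.leaf 0xf34c025))) (.node (.node (.leaf 0x77a802b) (.leaf 0x730c025)) (.node (.leaf 0x8c80071) (.leaf 0x0))))) (.node (.node (.node (.node (.leaf 0xef24021) (.leaf 0xdbd0071)) (.node (.leaf 0x4ec4071) (.leaf 0xb5d0025))) (.node (.node (.leaf 0x88dc025) (.leaf 0x9e74073)) (.node (.leaf 0xd62c02b) (.leaf 0xa18802b)))) (.node (.node (.node (.leaf 0xc184071) (.leaf 0xca40029)) (.node (.leaf 0xa3b8071) (.leaf 0x410c071))) (.node (.node (.leaf 0x93ec071) (.leaf 0xf57c02b)) (.node (.leaf 0xd5fc02b) (.leaf 0x0)))))) (.node (.node (.node (.node (.node (.leaf 0xc6a0025) (.leaf 0xc32c021)) (.node (.leaf 0x1172c073) (.leaf 0x96c4071))) (.node (.node (.leaf 0xb844021) (.leaf 0xee24029)) (.node (.leaf 0xc5bc025) (.leaf 0xa9bc025)))) (.node (.node (.node (.leaf 0xbb3c073) (.leaf 0x9e40029)) (.node (.leaf 0xf05c021) (.leaf 0x427802b))) (.node (.node (.leaf 0x51c4025) (.leaf 0xe45c071)) (.node (.leaf 0x88ec073) (.leaf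 0x0))))) (.node (.node (.node (.node (.leaf 0x6154021) (.leaf 0x9b98071)) (.node (.leaf 0x42c4025) (.leaf 0x8294071))) (.node (.node (.leaf 0xa6e002b) (.leaf 0xc4fc073)) (.node (.leaf 0xb4ac073) (.leaf 0x0)))) (.node (.node (.node (.leaf 0x47ec021) (.leaf 0x88dc02b)) (.node (.leaf 0xe9e8073) (.leaf 0x90ac029))) (.node (.node (.leaf 0xa424073) (.leaf 0x9770071)) (.node (.leaf 0x10814073) (.leaf 0x0)))))))) (.node (.node (.node (.node (.node (.node (.node (.leaf 0x34) (.leaf 0x9fa402b)) (.node (.leaf 0xb9c0071) (.leaf 0xae98025))) (.node (.node (.leaf 0x11b70073) (.leaf 0x7280029)) (.node (.leaf 0x90dc025) (.leaf 0xa100021)))) (.node (.node (.node (.leaf 0x802402b) (.leaf 0xf5d802b)) (.node (.leaf 0x971c025) (.leaf 0xedb8025))) (.node (.node (.leaf 0xf78402b) (.leaf 0xba34073)) (.node (.leaf 0xc408025) (.leaf 0x0))))) (.node (.node (.node (.node (.leaf 0x18c0) (.leaf 0x6660071)) (.node (.leaf 0xb410021) (.leaf 0xafec025))) (.node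 (.node (.leaf 0xd5fc021) (.leaf 0xae84025)) (.node (.leaf 0xafa402b) (.leaf 0xef84029)))) (.node (.node (.node (.leaf 0xc184025) (.leaf 0x8b28021)) (.node (.leaf 0xc760025) (.leaf 0xc6dc029))) (.node (.node (.leaf 0x4074071) (.leaf 0x6e9402b)) (.node (.leaf 0x6e6c021) (.leaf 0x0)))))) (.node (.node (.node (.node (.node (.leaf 0x86c4073) (.leaf 0x84c4029)) (.node (.leaf 0x8458021) (.leaf 0x819c073))) (.node (.node (.leaf 0x90d8029) (.leaf 0x117d0073)) (.node (.leaf 0xc588025) (.leaf 0x977002b)))) (.node (.node (.node (.leaf 0xeae402b) (.leaf 0x8d2c021)) (.node (.leaf 0x95ac021) (.leaf 0xc75402b))) (.node (.node (.leaf 0x8db4021) (.leaf 0x9504073)) (.node (.leaf 0xae00071) (.leaf 0x0))))) (.node (.node (.node (.node (.leaf 0xe12c071) (.leaf 0x7760021)) (.node (.leaf 0x9368025) (.leaf 0xeb28071))) (.node (.node (.leaf 0x94b802b) (.leaf 0xa334029)) (.node (.leaf 0x8d20021) (.leaf 0x0)))) (.node (.node (.node (.leaf 0x7170029) (.leaf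 0xea2002b)) (.node (.leaf 0x40c0025) (.leaf 0xa1dc025))) (.node (.node (.leaf 0x5568029) (.leaf 0x11e2)) (.node (.leaf 0xb878025) (.leaf 0x0))))))) (.node (.node (.node (.node (.node (.node (.leaf 0x97d4025) (.leaf 0xb914073)) (.node (.leaf 0x5124025) (.leaf 0x8d70021))) (.node (.node (.leaf 0x9dcc071) (.leaf 0x97c0029)) (.node (.leaf 0xf010073) (.leaf 0xb0b4071)))) (.node (.node (.node (.leaf 0x90b0025) (.leaf 0xd70c071)) (.node (.leaf 0x9cd4029) (.leaf 0x12c8))) (.node (.node (.leaf 0xe108071) (.leaf 0xacd4021)) (.node (.leaf 0xa374071) (.leaf 0x0))))) (.node (.node (.node (.node (.leaf 0xb37c02b) (.leaf 0x4274073)) (.node (.leaf 0x9d04021) (.leaf 0xabe0071))) (.node (.node (.leaf 0xb7d8029) (.leaf 0xf54)) (.node (.leaf 0xbafc029) (.leaf 0x9eb0025)))) (.node (.node (.node (.leaf 0x96a8025) (.leaf 0x8cdc02b)) (.node (.leaf 0x95ac071) (.leaf 0x9094029))) (.node (.node (.leaf 0x6154073) (.leaf 0xd3f8071)) (.node (.leaf 0xa554025)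 (.leaf 0x0)))))) (.node (.node (.node (.node (.node (.leaf 0xd204073) (.leaf 0xdad0071)) (.node (.leaf 0xe51c02b) (.leaf 0xcf90071))) (.node (.node (.leaf 0x8f74025) (.leaf 0xa42c021)) (.node (.leaf 0x9510021) (.leaf 0x8288029)))) (.node (.node (.node (.leaf 0xd1b8073) (.leaf 0x977c029)) (.node (.leaf 0xe838073) (.leaf 0x8004073))) (.node (.node (.leaf 0xc23c073) (.leaf 0xf8c4073)) (.node (.leaf 0x88ac02b) (.leaf 0x0))))) (.node (.node (.node (.node (.leaf 0x8c68025) (.leaf 0x8fa0071)) (.node (.leaf 0x82d4025) (.leaf 0x43ec029))) (.node (.node (.leaf 0xd654025) (.leaf 0xb1fc025)) (.node (.leaf 0xcf84073) (.leaf 0x0)))) (.node (.node (.node (.leaf 0xa4) (.leaf 0x884c029)) (.node (.leaf 0xe68c029) (.leaf 0x86d8071))) (.node (.node (.leaf 0xd4c8025) (.leaf 0xa274021)) (.node (.leaf 0xae68025) (.leaf 0x0))))))))))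

/-- packed table -/
noncomputable def cov2_rrl : BTree := (.node (.node (.node (.node (.node (.node (.node (.node (.node (.leaf 0xc014021) (.leaf 0xa344025)) (.node (.leaf 0xdefc02b) (.leaf 0xc8e0029))) (.node (.node (.leaf 0x9230025) (.leaf 0xb9c4025)) (.node (.leaf 0xfb10029) (.leaf 0xf8c4071)))) (.node (.node (.node (.leaf 0xe21c029) (.leaf 0xe0c4029)) (.node (.leaf 0xc264025) (.leaf 0x8778071))) (.node (.node (.leaf 0xe578021) (.leaf 0x5358021)) (.node (.leaf 0x732402b) (.leaf 0x0))))) (.node (.node (.node (.node (.leaf 0x8db4029) (.leaf 0x8504021)) (.node (.leaf 0x9178029) (.leaf 0x12e5c073))) (.node (.node (.leaf 0xc5d0073) (.leaf 0xa784029)) (.node (.leaf 0xb49c071) (.leaf 0xa53c025)))) (.node (.node (.node (.leaf 0x465c071) (.leaf 0xe7f4025)) (.node (.leaf 0xdec8029) (.leaf 0xb410025))) (.node (.node (.leaf 0x8acc02b) (.leaf 0x722c025)) (.node (.leaf 0x40c0021) (.leaf 0x0)))))) (.node (.node (.node (.node (.node (.leaf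 0x986) (.leaf 0xc35c073)) (.node (.leaf 0x9388073) (.leaf 0xb9ec02b))) (.node (.node (.leaf 0x8ad8025) (.leaf 0x8d84029)) (.node (.leaf 0x8d2c025) (.leaf 0xacc0073)))) (.node (.node (.node (.leaf 0x9094025) (.leaf 0x9dcc02b)) (.node (.leaf 0xae00021) (.leaf 0x769c02b))) (.node (.node (.leaf 0x4350025) (.leaf 0xb2ec025)) (.node (.leaf 0x8ad4021) (.leaf 0x0))))) (.node (.node (.node (.node (.leaf 0x9bd8029) (.leaf 0xa7f0025)) (.node (.leaf 0xaa5c021) (.leaf 0x88))) (.node (.node (.leaf 0x11ca0073) (.leaf 0x62c4073)) (.node (.leaf 0xc5bc029) (.leaf 0x6e94071)))) (.node (.node (.node (.leaf 0x64) (.leaf 0xed88025)) (.node (.leaf 0x81e4029) (.leaf 0xf184071))) (.node (.node (.leaf 0xb4ac029) (.leaf 0x6f18025)) (.node (.leaf 0xde80073) (.leaf 0x0))))))) (.node (.node (.node (.node (.node (.node (.leaf 0x47e4071) (.leaf 0xc2f4073)) (.node (.leaf 0xc514025) (.leaf 0xa27c073))) (.node (.node (.leaf 0x9584029) (.leaf 0x733c025)) (.node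 (.leaf 0x99e0025) (.leaf 0xf1d4071)))) (.node (.node (.node (.leaf 0x5c58025) (.leaf 0xd250073)) (.node (.leaf 0xcd50071) (.leaf 0x92ec073))) (.node (.node (.leaf 0x43ec025) (.leaf 0x412c02b)) (.node (.leaf 0xc414025) (.leaf 0x0))))) (.node (.node (.node (.node (.leaf 0x79d402b) (.leaf 0x49d8029)) (.node (.leaf 0xc898025) (.leaf 0xf1d4025))) (.node (.node (.leaf 0xc8e0025) (.leaf 0x932802b)) (.node (.leaf 0x6348073) (.leaf 0xe8a0025)))) (.node (.node (.node (.leaf 0x86b0021) (.leaf 0x97a0021)) (.node (.leaf 0xc74c025) (.leaf 0xa260071))) (.node (.node (.leaf 0x8058071) (.leaf 0x137c4073)) (.node (.leaf 0xb50402b) (.leaf 0x0)))))) (.node (.node (.node (.node (.node (.leaf 0xabe0029) (.leaf 0x8c6c073)) (.node (.leaf 0x465c02b) (.leaf 0xafa0073))) (.node (.node (.leaf 0xcb6c025) (.leaf 0x9d8)) (.node (.leaf 0xc04c073) (.leaf 0xf91c071)))) (.node (.node (.node (.leaf 0xeae8073) (.leaf 0xe2c0029)) (.node (.leaf 0x12a98073) (.leaf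 0x5960071))) (.node (.node (.leaf 0xc46402b) (.leaf 0xedc0021)) (.node (.leaf 0xf988025) (.leaf 0x0))))) (.node (.node (.node (.node (.leaf 0x8c5c025) (.leaf 0xde7c071)) (.node (.leaf 0xb7b0021) (.leaf 0x9c1c073))) (.node (.node (.leaf 0x769c073) (.leaf 0xb300025)) (.node (.leaf 0xafa4029) (.leaf 0x0)))) (.node (.node (.node (.leaf 0x87d4029) (.leaf 0xe5b4025)) (.node (.leaf 0x40cc025) (.leaf 0xc72802b))) (.node (.node (.leaf 0xa83c02b) (.leaf 0xf500073)) (.node (.leaf 0xdfd8021) (.leaf 0x0)))))))) (.node (.node (.node (.node (.node (.node (.node (.leaf 0x9bd802b) (.leaf 0x40dc02b)) (.node (.leaf 0x84c0025) (.leaf 0xf114025))) (.node (.node (.leaf 0x6c90021) (.leaf 0x93d0073)) (.node (.leaf 0xade0021) (.leaf 0xec28073)))) (.node (.node (.node (.leaf 0x9c1c025) (.leaf 0xc2f4071)) (.node (.leaf 0x85fc029) (.leaf 0xf370021))) (.node (.node (.leaf 0x9d9002b) (.leaf 0xafcc025)) (.node (.leaf 0x8494025) (.leaf 0x0))))) (.node (.node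 (.node (.node (.leaf 0x8dac02b) (.leaf 0xf2a0071)) (.node (.leaf 0xac9c073) (.leaf 0x148))) (.node (.node (.leaf 0xcf1c025) (.leaf 0xf7bc025)) (.node (.leaf 0x9f38073) (.leaf 0xa510025)))) (.node (.node (.node (.leaf 0xd20802b) (.leaf 0xb310029)) (.node (.leaf 0x7a3802b) (.leaf 0x85c8071))) (.node (.node (.leaf 0x9948021) (.leaf 0x9400021)) (.node (.leaf 0xf794025) (.leaf 0x0)))))) (.node (.node (.node (.node (.node (.leaf 0xac9c029) (.leaf 0xdf68071)) (.node (.leaf 0x8024071) (.leaf 0xa560073))) (.node (.node (.leaf 0xc9c0029) (.leaf 0xae9c025)) (.node (.leaf 0xc53c025) (.leaf 0xa1e4025)))) (.node (.node (.node (.leaf 0xf658021) (.leaf 0xb1c8029)) (.node (.leaf 0x9abc025) (.leaf 0x96a8021))) (.node (.node (.leaf 0xb56c021) (.leaf 0x470c021)) (.node (.leaf 0xf408025) (.leaf 0x0))))) (.node (.node (.node (.node (.leaf 0x899c073) (.leaf 0xafdc025)) (.node (.leaf 0x58) (.leaf 0xb07002b))) (.node (.node (.leaf 0x896c025) (.leaf 0x86fc073))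 (.node (.leaf 0xc25402b) (.leaf 0x0)))) (.node (.node (.node (.leaf 0xa840029) (.leaf 0xbb0c025)) (.node (.leaf 0xc6a0029) (.leaf 0x733c02b))) (.node (.node (.leaf 0x99a4073) (.leaf 0xde44073)) (.node (.leaf 0xa700025) (.leaf 0x0))))))) (.node (.node (.node (.node (.node (.node (.leaf 0x178) (.leaf 0x7170071)) (.node (.leaf 0xa128029) (.leaf 0x12e0))) (.node (.node (.leaf 0xcaa4025) (.leaf 0xb7b0025)) (.node (.leaf 0xc32c02b) (.leaf 0xd79c021)))) (.node (.node (.node (.leaf 0xa35802b) (.leaf 0xed24025)) (.node (.leaf 0xcfd0025) (.leaf 0xf1dc021))) (.node (.node (.leaf 0xb968021) (.leaf 0xadfc02b)) (.node (.leaf 0x8c8c071) (.leaf 0x0))))) (.node (.node (.node (.node (.leaf 0xafc8071) (.leaf 0xef4802b)) (.node (.leaf 0xde90073) (.leaf 0x606c071))) (.node (.node (.leaf 0x6b58021) (.leaf 0x8fd4029)) (.node (.leaf 0x9770021) (.leaf 0x9620029)))) (.node (.node (.node (.leaf 0x4df8025) (.leaf 0xac0c025)) (.node (.leaf 0xaf64071) (.leaf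 0xa710021))) (.node (.node (.leaf 0xb3f4021) (.leaf 0xab94073)) (.node (.leaf 0x8bd402b) (.leaf 0x0)))))) (.node (.node (.node (.node (.node (.leaf 0x10d8c073) (.leaf 0xbaa4073)) (.node (.leaf 0xc5f8071) (.leaf 0xb338021))) (.node (.node (.leaf 0xaf0c073) (.leaf 0x8d70029)) (.node (.leaf 0xa384021) (.leaf 0xc2dc071)))) (.node (.node (.node (.leaf 0xd9c8025) (.leaf 0x848c029)) (.node (.leaf 0x978c021) (.leaf 0xaaec071))) (.node (.node (.leaf 0x7848073) (.leaf 0xdf20071)) (.node (.leaf 0x6348025) (.leaf 0x0))))) (.node (.node (.node (.node (.leaf 0x110c4073) (.leaf 0x86fc029)) (.node (.leaf 0x9504071) (.leaf 0x99a0071))) (.node (.node (.leaf 0x5608025) (.leaf 0xacc002b)) (.node (.leaf 0xc4) (.leaf 0x0)))) (.node (.node (.node (.leaf 0x407c029) (.leaf 0xb9ec029)) (.node (.leaf 0xb4ac021) (.leaf 0xb204071))) (.node (.node (.leaf 0xc4c8071) (.leaf 0x412c021)) (.node (.leaf 0xf864025) (.leaf 0x0))))))))) (.node (.node (.node (.node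 (.node (.node (.node (.node (.leaf 0x5150073) (.leaf 0x4128073)) (.node (.leaf 0xa22c02b) (.leaf 0xd4c8071))) (.node (.node (.leaf 0x9fa4071) (.leaf 0xafe8025)) (.node (.leaf 0x42c402b) (.leaf 0x89a8021)))) (.node (.node (.node (.leaf 0x401c073) (.leaf 0x722c073)) (.node (.leaf 0x918c073) (.leaf 0xd4d8073))) (.node (.node (.leaf 0x5608073) (.leaf 0xb9d0025)) (.node (.leaf 0xeca002b) (.leaf 0x0))))) (.node (.node (.node (.node (.leaf 0xdadc029) (.leaf 0x7324025)) (.node (.leaf 0xf29c073) (.leaf 0x394))) (.node (.node (.leaf 0x8bf0073) (.leaf 0xec3c025)) (.node (.leaf 0xe434073) (.leaf 0x5568073)))) (.node (.node (.node (.leaf 0x85fc021) (.leaf 0xb940025)) (.node (.leaf 0x8bf8025) (.leaf 0xdc9c071))) (.node (.node (.leaf 0xd92c02b) (.leaf 0xb58c025)) (.node (.leaf 0xf414073) (.leaf 0x0)))))) (.node (.node (.node (.node (.node (.leaf 0xa0) (.leaf 0x82a8029)) (.node (.leaf 0x4038071) (.leaf 0x9650071))) (.node (.node (.leaf 0xcfb8073)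 (.leaf 0xed9c073)) (.node (.leaf 0x855c025) (.leaf 0xa874021)))) (.node (.node (.node (.leaf 0x995c025) (.leaf 0x9ac4073)) (.node (.leaf 0xe110073) (.leaf 0x9c38071))) (.node (.node (.leaf 0x6bc402b) (.leaf 0xed38025)) (.node (.leaf 0x4038029) (.leaf 0x0))))) (.node (.node (.node (.node (.leaf 0x8cb8025) (.leaf 0xa2d0073)) (.node (.leaf 0xb2ec02b) (.leaf 0xacd4025))) (.node (.node (.leaf 0x8954025) (.leaf 0xd92c021)) (.node (.leaf 0x4afc02b) (.leaf 0x40d8073)))) (.node (.node (.node (.leaf 0x62c4071) (.leaf 0x9668073)) (.node (.leaf 0xec7802b) (.leaf 0xe964025))) (.node (.node (.leaf 0xa13c071) (.leaf 0x470c02b)) (.node (.leaf 0xc2dc021) (.leaf 0x0))))))) (.node (.node (.node (.node (.node (.node (.leaf 0x47c802b) (.leaf 0xb37c025)) (.node (.leaf 0x44f0025) (.leaf 0xae70025))) (.node (.node (.leaf 0x4afc071) (.leaf 0x9328071)) (.node (.leaf 0x5460071) (.leaf 0xe668025)))) (.node (.node (.node (.leaf 0x8f68021) (.leaf 0x9770073))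 (.node (.leaf 0x4ff0025) (.leaf 0x7350025))) (.node (.node (.leaf 0xc31c025) (.leaf 0xb318025)) (.node (.leaf 0xac20021) (.leaf 0x0))))) (.node (.node (.node (.node (.leaf 0xaf0c021) (.leaf 0x40f0029)) (.node (.leaf 0xce04073) (.leaf 0x9784021))) (.node (.node (.leaf 0xc8c4025) (.leaf 0xb37c029)) (.node (.leaf 0xd580025) (.leaf 0x97bc021)))) (.node (.node (.node (.leaf 0x81c0025) (.leaf 0x9f28021)) (.node (.leaf 0xc5a4071) (.leaf 0x6830021))) (.node (.node (.leaf 0xae98021) (.leaf 0x92c0029)) (.node (.leaf 0xb97c025) (.leaf 0x0)))))) (.node (.node (.node (.node (.node (.leaf 0x86c8025) (.leaf 0xb948025)) (.node (.leaf 0x8604071) (.leaf 0x5b7c02b))) (.node (.node (.leaf 0xe690073) (.leaf 0xd268071)) (.node (.leaf 0xe4d0073) (.leaf 0x8154071)))) (.node (.node (.node (.leaf 0xf8d0073) (.leaf 0x9720071)) (.node (.leaf 0x4274029) (.leaf 0xd26802b))) (.node (.node (.leaf 0x51a8025) (.leaf 0xf81802b)) (.node (.leaf 0x88c8021) (.leaf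 0x0))))) (.node (.node (.node (.node (.leaf 0xcc3c025) (.leaf 0x96c8073)) (.node (.leaf 0x82a8025) (.leaf 0xdbfc073))) (.node (.node (.leaf 0xe7fc02b) (.leaf 0x512402b)) (.node (.leaf 0xba34071) (.leaf 0x0)))) (.node (.node (.node (.leaf 0x47ec029) (.leaf 0xe050029)) (.node (.leaf 0xa8f802b) (.leaf 0x186))) (.node (.node (.leaf 0x8954071) (.leaf 0x412c071)) (.node (.leaf 0xc828073) (.leaf 0x0)))))))) (.node (.node (.node (.node (.node (.node (.node (.leaf 0x30) (.leaf 0x90)) (.node (.leaf 0x84e0025) (.leaf 0xf0dc073))) (.node (.node (.leaf 0xe67c021) (.leaf 0x93a4021)) (.node (.leaf 0x8cf0071) (.leaf 0xf464073)))) (.node (.node (.node (.leaf 0xb6f8021) (.leaf 0xb77002b)) (.node (.leaf 0xcd7c071) (.leaf 0xb390021))) (.node (.node (.leaf 0x411002b) (.leaf 0x9188071)) (.node (.leaf 0xef2402b) (.leaf 0x0))))) (.node (.node (.node (.node (.leaf 0x9410025) (.leaf 0xa1dc073)) (.node (.leaf 0x6c90073) (.leaf 0xb81402b))) (.node (.node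 (.leaf 0x88e4071) (.leaf 0xafc4025)) (.node (.leaf 0x9368021) (.leaf 0xa094073)))) (.node (.node (.node (.leaf 0xc18c025) (.leaf 0x730c029)) (.node (.leaf 0xa09402b) (.leaf 0xb3d8029))) (.node (.node (.leaf 0xab94029) (.leaf 0x3dc)) (.node (.leaf 0xb11c025) (.leaf 0x0)))))) (.node (.node (.node (.node (.node (.leaf 0x2d2) (.leaf 0x8c68073)) (.node (.leaf 0x9b98025) (.leaf 0x8770071))) (.node (.node (.leaf 0x5658071) (.leaf 0x9384021)) (.node (.leaf 0xdf68021) (.leaf 0xde7c025)))) (.node (.node (.node (.leaf 0x9ac4021) (.leaf 0xf6d0025)) (.node (.leaf 0xdadc025) (.leaf 0x416c073))) (.node (.node (.leaf 0xd494073) (.leaf 0x60d4029)) (.node (.leaf 0x5c5802b) (.leaf 0x0))))) (.node (.node (.node (.node (.leaf 0x8cf0025) (.leaf 0x9334071)) (.node (.leaf 0x5124071) (.leaf 0xeab802b))) (.node (.node (.leaf 0xb9c0021) (.leaf 0x6654021)) (.node (.leaf 0xd7d802b) (.leaf 0x0)))) (.node (.node (.node (.leaf 0xd66c025) (.leaf 0xcb80029))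 (.node (.leaf 0x9584073) (.leaf 0x9780021))) (.node (.node (.leaf 0x4d34029) (.leaf 0xea68071)) (.node (.leaf 0x8530029) (.leaf 0x0))))))) (.node (.node (.node (.node (.node (.node (.leaf 0xe85402b) (.leaf 0xb790025)) (.node (.leaf 0x9380073) (.leaf 0xdfc002b))) (.node (.node (.leaf 0x4afc025) (.leaf 0x97a8029)) (.node (.leaf 0xd41c073) (.leaf 0xd7d8021)))) (.node (.node (.node (.leaf 0x8b38071) (.leaf 0xb2ec029)) (.node (.leaf 0x828c071) (.leaf 0xd7ec02b))) (.node (.node (.leaf 0xd880073) (.leaf 0xb080029)) (.node (.leaf 0x8538021) (.leaf 0x0))))) (.node (.node (.node (.node (.leaf 0xd3dc025) (.leaf 0xc270073)) (.node (.leaf 0x6d3402b) (.leaf 0x730c021))) (.node (.node (.leaf 0xb94802b) (.leaf 0x419002b)) (.node (.leaf 0xe86c029) (.leaf 0xc14c071)))) (.node (.node (.node (.leaf 0xa6e0021) (.leaf 0x97c0021)) (.node (.leaf 0xaa00071) (.leaf 0xb3a0073))) (.node (.node (.leaf 0x9fa4073) (.leaf 0xa0a4029)) (.node (.leaf 0x83b4073)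 (.leaf 0x0)))))) (.node (.node (.node (.node (.node (.leaf 0x972002b) (.leaf 0xd12002b)) (.node (.leaf 0x8d68025) (.leaf 0xa858071))) (.node (.node (.leaf 0xe1b8071) (.leaf 0x884c071)) (.node (.leaf 0xc2dc02b) (.leaf 0x6870021)))) (.node (.node (.node (.leaf 0xc1ec025) (.leaf 0xb5bc025)) (.node (.leaf 0xcbe4025) (.leaf 0x8d84021))) (.node (.node (.leaf 0x9718021) (.leaf 0xb23802b)) (.node (.leaf 0xda7802b) (.leaf 0x0))))) (.node (.node (.node (.node (.leaf 0x90a) (.leaf 0xc490029)) (.node (.leaf 0x4ec4021) (.leaf 0x121a))) (.node (.node (.leaf 0x5be8021) (.leaf 0x12408073)) (.node (.leaf 0x406c029) (.leaf 0x0)))) (.node (.node (.node (.leaf 0x6c) (.leaf 0x51a8029)) (.node (.leaf 0x8154025) (.leaf 0xe4a4073))) (.node (.node (.leaf 0x77a8029) (.leaf 0x69b0029)) (.node (.leaf 0xf500025) (.leaf 0x0))))))))))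

/-- packed table -/
noncomputable def cov2_rrr : BTree := (.node (.node (.node (.node (.node (.node (.node (.node (.node (.leaf 0x98) (.leaf 0xe010021)) (.node (.leaf 0xa13c02b) (.leaf 0xa538073))) (.node (.node (.leaf 0x13718073) (.leaf 0xb6f8071)) (.node (.leaf 0x93b402b) (.leaf 0x9400073)))) (.node (.node (.node (.leaf 0x8998071) (.leaf 0xa6f8073)) (.node (.leaf 0xa2d402b) (.leaf 0x9504021))) (.node (.node (.leaf 0x964c025) (.leaf 0xafa4025)) (.node (.leaf 0x746802b) (.leaf 0x0))))) (.node (.node (.node (.node (.leaf 0x51c4071) (.leaf 0x8954073)) (.node (.leaf 0x8820025) (.leaf 0xb918071))) (.node (.node (.leaf 0x8f50025) (.leaf 0xb080073)) (.node (.leaf 0xe674073) (.leaf 0xce00073)))) (.node (.node (.node (.leaf 0x85e0021) (.leaf 0xed44025)) (.node (.leaf 0xcc3c071) (.leaf 0x958402b))) (.node (.node (.leaf 0x753c071) (.leaf 0xa988071)) (.node (.leaf 0x9668021) (.leaf 0x0)))))) (.node (.node (.node (.node (.node (.leaf 0xd7cc025)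 (.leaf 0xb944025)) (.node (.leaf 0x5150029) (.leaf 0x7280071))) (.node (.node (.leaf 0xb56802b) (.leaf 0xadbc071)) (.node (.leaf 0x8ab8071) (.leaf 0xab6c025)))) (.node (.node (.node (.leaf 0xc474073) (.leaf 0xa7ec025)) (.node (.leaf 0xf6dc02b) (.leaf 0xdf90025))) (.node (.node (.leaf 0xab9c021) (.leaf 0xa6e4025)) (.node (.leaf 0x4df802b) (.leaf 0x0))))) (.node (.node (.node (.node (.leaf 0xb51802b) (.leaf 0x7a90073)) (.node (.leaf 0x6d34071) (.leaf 0xab70071))) (.node (.node (.leaf 0x8f68029) (.leaf 0xce08073)) (.node (.leaf 0xce3c025) (.leaf 0xe86c025)))) (.node (.node (.node (.leaf 0x70cc029) (.leaf 0x8cdc029)) (.node (.leaf 0x51a8071) (.leaf 0xf800029))) (.node (.node (.leaf 0xb2c0029) (.leaf 0xe8ec025)) (.node (.leaf 0xa9e0021) (.leaf 0x0))))))) (.node (.node (.node (.node (.node (.node (.leaf 0x87a4073) (.leaf 0xa970025)) (.node (.leaf 0x9d54071) (.leaf 0x9620021))) (.node (.node (.leaf 0xe7f4071) (.leaf 0xe354071)) (.node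 (.leaf 0xe0a0073) (.leaf 0xaa80025)))) (.node (.node (.node (.leaf 0x9d90029) (.leaf 0x9780073)) (.node (.leaf 0xb030073) (.leaf 0x753c029))) (.node (.node (.leaf 0xc30c025) (.leaf 0x6b38025)) (.node (.leaf 0xa22c029) (.leaf 0x0))))) (.node (.node (.node (.node (.leaf 0xef70073) (.leaf 0xca60071)) (.node (.leaf 0xafdc073) (.leaf 0x9650021))) (.node (.node (.leaf 0x9904073) (.leaf 0xa710071)) (.node (.leaf 0xd5f0021) (.leaf 0xcc50073)))) (.node (.node (.node (.leaf 0x8194071) (.leaf 0x42c4029)) (.node (.leaf 0x86d8025) (.leaf 0x228))) (.node (.node (.leaf 0x5bcc073) (.leaf 0x7180071)) (.node (.leaf 0x8cb4073) (.leaf 0x0)))))) (.node (.node (.node (.node (.node (.leaf 0x465c025) (.leaf 0xb2c0071)) (.node (.leaf 0x11724073) (.leaf 0x9f28029))) (.node (.node (.leaf 0x7848021) (.leaf 0xabac025)) (.node (.leaf 0xc4c8021) (.leaf 0xacc0029)))) (.node (.node (.node (.leaf 0x83a4071) (.leaf 0xd8c0073)) (.node (.leaf 0xf640029) (.leaf 0xdedc073)))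 (.node (.node (.leaf 0x9958021) (.leaf 0xadbc021)) (.node (.leaf 0x84c0073) (.leaf 0x0))))) (.node (.node (.node (.node (.leaf 0xdecc071) (.leaf 0x5b7c073)) (.node (.leaf 0x42bc025) (.leaf 0xe0ec02b))) (.node (.node (.leaf 0xe458073) (.leaf 0x6830029)) (.node (.leaf 0x5938021) (.leaf 0x0)))) (.node (.node (.node (.leaf 0x87d4021) (.leaf 0xedc0071)) (.node (.leaf 0x80bc025) (.leaf 0x113d8073))) (.node (.node (.leaf 0xf8e0073) (.leaf 0xa374073)) (.node (.leaf 0x8538071) (.leaf 0x0)))))))) (.node (.node (.node (.node (.node (.node (.node (.leaf 0x8058025) (.leaf 0x40d8071)) (.node (.leaf 0x5c58073) (.leaf 0xa8f8025))) (.node (.node (.leaf 0xeca8021) (.leaf 0xa9e0073)) (.node (.leaf 0x90d8025) (.leaf 0xe5cc025)))) (.node (.node (.node (.leaf 0x9c0c025) (.leaf 0xaf54029)) (.node (.leaf 0xd50002b) (.leaf 0xeb90025))) (.node (.node (.leaf 0x42bc029) (.leaf 0xa04c025)) (.node (.leaf 0x8538073) (.leaf 0x0))))) (.node (.node (.node (.node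 (.leaf 0x470c025) (.leaf 0x9f5c021)) (.node (.leaf 0xe62802b) (.leaf 0xc390029))) (.node (.node (.leaf 0xe65c02b) (.leaf 0x6f74029)) (.node (.leaf 0xb568073) (.leaf 0x9e0c071)))) (.node (.node (.node (.leaf 0x78c) (.leaf 0x9f38071)) (.node (.leaf 0x8778025) (.leaf 0xc560021))) (.node (.node (.leaf 0xaf0c029) (.leaf 0xe80c02b)) (.node (.leaf 0x69b0021) (.leaf 0x0)))))) (.node (.node (.node (.node (.node (.leaf 0x9ae4071) (.leaf 0xba2c029)) (.node (.leaf 0x9d30073) (.leaf 0x437c029))) (.node (.node (.leaf 0xa218071) (.leaf 0xf66c025)) (.node (.leaf 0x40e8029) (.leaf 0x698c025)))) (.node (.node (.node (.leaf 0x7654021) (.leaf 0x82f0021)) (.node (.leaf 0xdacc025) (.leaf 0xc6f0073))) (.node (.node (.leaf 0x98ac02b) (.leaf 0xaf64073)) (.node (.leaf 0xc114071) (.leaf 0x0))))) (.node (.node (.node (.node (.leaf 0xb15802b) (.leaf 0x977c021)) (.node (.leaf 0x90f4071) (.leaf 0x94c4021))) (.node (.node (.leaf 0xd540073) (.leaf 0x6654073))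 (.node (.leaf 0x8880021) (.leaf 0x0)))) (.node (.node (.node (.leaf 0xe0ac071) (.leaf 0x7654071)) (.node (.leaf 0xb59802b) (.leaf 0xa364021))) (.node (.node (.leaf 0x964c073) (.leaf 0xf200071)) (.node (.leaf 0x7280025) (.leaf 0x0))))))) (.node (.node (.node (.node (.node (.node (.leaf 0xebc) (.leaf 0xef3c025)) (.node (.leaf 0x43ec071) (.leaf 0x9e7402b))) (.node (.node (.leaf 0x6b58071) (.leaf 0xa2ac025)) (.node (.leaf 0x9d6c073) (.leaf 0x40b8029)))) (.node (.node (.node (.leaf 0xdd18071) (.leaf 0x6654071)) (.node (.leaf 0x40cc02b) (.leaf 0x9c1c071))) (.node (.node (.leaf 0x437c025) (.leaf 0xaa80071)) (.node (.leaf 0xf34c073) (.leaf 0x0))))) (.node (.node (.node (.node (.leaf 0x93d0025) (.leaf 0xaf3002b)) (.node (.leaf 0x534c029) (.leaf 0xb50c021))) (.node (.node (.leaf 0xbb3c021) (.leaf 0xa804021)) (.node (.leaf 0x9738021) (.leaf 0x5608029)))) (.node (.node (.node (.leaf 0xa724073) (.leaf 0xa738029)) (.node (.leaf 0xb4f0021)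 (.leaf 0xa424071))) (.node (.node (.leaf 0x52bc073) (.leaf 0x5e8802b)) (.node (.leaf 0x8be802b) (.leaf 0x0)))))) (.node (.node (.node (.node (.node (.leaf 0x8640071) (.leaf 0x728002b)) (.node (.leaf 0x6af402b) (.leaf 0x9e40025))) (.node (.node (.leaf 0x8ef4029) (.leaf 0x9400071)) (.node (.leaf 0x11fb8073) (.leaf 0xe5c802b)))) (.node (.node (.node (.leaf 0xf5ec029) (.leaf 0xf9e8029)) (.node (.leaf 0x971c021) (.leaf 0xd4a8021))) (.node (.node (.leaf 0x88ec02b) (.leaf 0xf42402b)) (.node (.leaf 0xf3e8025) (.leaf 0x0))))) (.node (.node (.node (.node (.leaf 0x8c80025) (.leaf 0xe19c02b)) (.node (.leaf 0xa840021) (.leaf 0xd9b0071))) (.node (.node (.leaf 0xc30c071) (.leaf 0xb2ec073)) (.node (.leaf 0x829402b) (.leaf 0x0)))) (.node (.node (.node (.leaf 0x80b0029) (.leaf 0x9e74071)) (.node (.leaf 0xdb5c073) (.leaf 0xab9c025))) (.node (.node (.leaf 0xe59402b) (.leaf 0x40d802b)) (.node (.leaf 0xe074025) (.leaf 0x0))))))))) (.node (.node (.node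 (.node (.node (.node (.node (.node (.leaf 0x1e) (.leaf 0xd73c071)) (.node (.leaf 0x9e0c02b) (.leaf 0xa358025))) (.node (.node (.leaf 0xda84021) (.leaf 0x45b0071)) (.node (.leaf 0x4c) (.leaf 0x89b8021)))) (.node (.node (.node (.leaf 0xd260073) (.leaf 0x9410071)) (.node (.leaf 0xabe0021) (.leaf 0x6088025))) (.node (.node (.leaf 0xa8a4029) (.leaf 0x92c0021)) (.node (.leaf 0x753c073) (.leaf 0x0))))) (.node (.node (.node (.node (.leaf 0x8d8402b) (.leaf 0x84c4021)) (.node (.leaf 0xf294073) (.leaf 0xebf8025))) (.node (.node (.leaf 0xcc00073) (.leaf 0xecbc021)) (.node (.leaf 0xcc58073) (.leaf 0xb0b0021)))) (.node (.node (.node (.leaf 0xc614021) (.leaf 0xa404025)) (.node (.leaf 0xfa4402b) (.leaf 0xe1b0073))) (.node (.node (.leaf 0xaf20029) (.leaf 0xccc002b)) (.node (.leaf 0x9038029) (.leaf 0x0)))))) (.node (.node (.node (.node (.node (.leaf 0x995c071) (.leaf 0x7468025)) (.node (.leaf 0xc014071) (.leaf 0xe4d0025))) (.node (.node (.leaf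 0x9d6c021) (.leaf 0xaa5c025)) (.node (.leaf 0xef8802b) (.leaf 0xeca8071)))) (.node (.node (.node (.leaf 0x8be8029) (.leaf 0x4274071)) (.node (.leaf 0xcb50071) (.leaf 0x7ec))) (.node (.node (.leaf 0xb0d8073) (.leaf 0xa6e0025)) (.node (.leaf 0x5150071) (.leaf 0x0))))) (.node (.node (.node (.node (.leaf 0xcbd0073) (.leaf 0x9824071)) (.node (.leaf 0x730c071) (.leaf 0x136))) (.node (.node (.leaf 0x401c02b) (.leaf 0xfa40071)) (.node (.leaf 0x8d1002b) (.leaf 0x4d3402b)))) (.node (.node (.node (.leaf 0xdab8071) (.leaf 0xea54071)) (.node (.leaf 0x86c4029) (.leaf 0x4ba0071))) (.node (.node (.leaf 0xa148071) (.leaf 0xa2d0029)) (.node (.leaf 0xf974025) (.leaf 0x0))))))) (.node (.node (.node (.node (.node (.node (.leaf 0x6b38021) (.leaf 0x8768073)) (.node (.leaf 0xa114029) (.leaf 0xe81402b))) (.node (.node (.leaf 0xca54073) (.leaf 0xdcf402b)) (.node (.leaf 0x10cc8073) (.leaf 0xc700073)))) (.node (.node (.node (.leaf 0xa22c021) (.leaf 0x9774073))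 (.node (.leaf 0xf4e4021) (.leaf 0x964c021))) (.node (.node (.leaf 0x9064029) (.leaf 0xa324025)) (.node (.leaf 0xa6e4021) (.leaf 0x0))))) (.node (.node (.node (.node (.leaf 0x11ea) (.leaf 0x70cc071)) (.node (.leaf 0x9c6) (.leaf 0xded0073))) (.node (.node (.leaf 0xddf8071) (.leaf 0xa9e0071)) (.node (.leaf 0x6088029) (.leaf 0xa18402b)))) (.node (.node (.node (.leaf 0x51c4029) (.leaf 0xf110029)) (.node (.leaf 0x86fc025) (.leaf 0xe50c025))) (.node (.node (.leaf 0xa13002b) (.leaf 0xe8f4025)) (.node (.leaf 0xe7a4071) (.leaf 0x0)))))) (.node (.node (.node (.node (.node (.leaf 0xc6b8025) (.leaf 0xe708025)) (.node (.leaf 0x9720073) (.leaf 0xb518021))) (.node (.node (.leaf 0x8dcc021) (.leaf 0x4278071)) (.node (.leaf 0xc94802b) (.leaf 0xae84071)))) (.node (.node (.node (.leaf 0x939c021) (.leaf 0x11a08073)) (.node (.leaf 0x4274021) (.leaf 0x6c90071))) (.node (.node (.leaf 0x9198025) (.leaf 0x77ac029)) (.node (.leaf 0x88e4021) (.leaf 0x0)))))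 (.node (.node (.node (.node (.leaf 0xeb90029) (.leaf 0x8880071)) (.node (.leaf 0xebf002b) (.leaf 0xda7c073))) (.node (.node (.leaf 0xc340071) (.leaf 0xab5c021)) (.node (.leaf 0xb004071) (.leaf 0x0)))) (.node (.node (.node (.leaf 0x87b402b) (.leaf 0xe550025)) (.node (.leaf 0x4110025) (.leaf 0xa334021))) (.node (.node (.leaf 0x8020073) (.leaf 0x9774071)) (.node (.leaf 0xcf18073) (.leaf 0x0)))))))) (.node (.node (.node (.node (.node (.node (.node (.leaf 0x40) (.leaf 0xe0ac021)) (.node (.leaf 0xbaf8021) (.leaf 0xd59802b))) (.node (.node (.leaf 0xafc8029) (.leaf 0xf7f8029)) (.node (.leaf 0xbac802b) (.leaf 0xe668071)))) (.node (.node (.node (.leaf 0x9f1002b) (.leaf 0x9b0802b)) (.node (.leaf 0x918c021) (.leaf 0xec28025))) (.node (.node (.leaf 0x11cd8073) (.leaf 0xa560025)) (.node (.leaf 0x8b14071) (.leaf 0x0))))) (.node (.node (.node (.node (.leaf 0xef34021) (.leaf 0x52bc021)) (.node (.leaf 0x99e0073) (.leaf 0xb504021))) (.node (.node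 (.leaf 0x74f4073) (.leaf 0xfa98025)) (.node (.leaf 0x8bf802b) (.leaf 0xb11c021)))) (.node (.node (.node (.leaf 0xd954029) (.leaf 0xafc8025)) (.node (.leaf 0xb37c071) (.leaf 0xce48071))) (.node (.node (.leaf 0x9bd8073) (.leaf 0xeff8029)) (.node (.leaf 0x855c029) (.leaf 0x0)))))) (.node (.node (.node (.node (.node (.leaf 0xc678025) (.leaf 0xe418071)) (.node (.leaf 0xdba8025) (.leaf 0xd9d0029))) (.node (.node (.leaf 0xdf88071) (.leaf 0xe8a8071)) (.node (.leaf 0xf528073) (.leaf 0x769c071)))) (.node (.node (.node (.leaf 0x9d90073) (.leaf 0xb238073)) (.node (.leaf 0x8520021) (.leaf 0xa384025))) (.node (.node (.leaf 0x8688029) (.leaf 0x93e402b)) (.node (.leaf 0xc4e4073) (.leaf 0x0))))) (.node (.node (.node (.node (.leaf 0x1abc) (.leaf 0xdb88073)) (.node (.leaf 0x5350029) (.leaf 0x7a90021))) (.node (.node (.leaf 0xd5e4025) (.leaf 0x730c073)) (.node (.leaf 0x1a38) (.leaf 0x0)))) (.node (.node (.node (.leaf 0xe0c8071) (.leaf 0xf960025))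 (.node (.leaf 0x40dc025) (.leaf 0xd66c073))) (.node (.node (.leaf 0x7468071) (.leaf 0xc95c02b)) (.node (.leaf 0xa370025) (.leaf 0x0))))))) (.node (.node (.node (.node (.node (.node (.leaf 0xe048071) (.leaf 0xb390029)) (.node (.leaf 0x5358073) (.leaf 0xa22c073))) (.node (.node (.leaf 0x4d34073) (.leaf 0x97d4021)) (.node (.leaf 0x6830073) (.leaf 0xe578071)))) (.node (.node (.node (.leaf 0x939402b) (.leaf 0xcc10029)) (.node (.leaf 0x9720021) (.leaf 0x96e4073))) (.node (.node (.leaf 0xc35c025) (.leaf 0xb568029)) (.node (.leaf 0x8f5002b) (.leaf 0x0))))) (.node (.node (.node (.node (.leaf 0x7170073) (.leaf 0xb5b4071)) (.node (.leaf 0xe430029) (.leaf 0xe4d402b))) (.node (.node (.leaf 0x3c) (.leaf 0xf464025)) (.node (.leaf 0x8e58025) (.leaf 0x40b8073)))) (.node (.node (.node (.leaf 0x6d34021) (.leaf 0xa27c025)) (.node (.leaf 0xd1b8071) (.leaf 0xe0c8025))) (.node (.node (.leaf 0x9178021) (.leaf 0x93d0071)) (.node (.leaf 0xaf20025) (.leaf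 0x0)))))) (.node (.node (.node (.node (.node (.leaf 0x971c02b) (.leaf 0xaa78071)) (.node (.leaf 0xb4b8021) (.leaf 0x42a4029))) (.node (.node (.leaf 0x8f6c025) (.leaf 0xa5e0025)) (.node (.leaf 0x9720029) (.leaf 0xca70071)))) (.node (.node (.node (.leaf 0x51a8073) (.leaf 0x9780029)) (.node (.leaf 0x8bd4025) (.leaf 0x8f54021))) (.node (.node (.leaf 0x83a4073) (.leaf 0x6870071)) (.node (.leaf 0xc920021) (.leaf 0x0))))) (.node (.node (.node (.node (.leaf 0x94b8073) (.leaf 0x866802b)) (.node (.leaf 0x8544021) (.leaf 0xdcc4071))) (.node (.node (.leaf 0x8310029) (.leaf 0x97a8021)) (.node (.leaf 0xaf2002b) (.leaf 0x0)))) (.node (.node (.node (.leaf 0x12cf0073) (.leaf 0xafa8025)) (.node (.leaf 0xf76c029) (.leaf 0x9404073))) (.node (.node (.leaf 0x84c0071) (.leaf 0xf1dc071)) (.node (.leaf 0xdf6c071) (.leaf 0x0))))))))))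

/-- packed table -/
noncomputable def cov2 : BTree := (.node (.node (.node cov2_lll cov2_llr) (.node cov2_lrl cov2_lrr)) (.node (.node cov2_rll cov2_rlr) (.node cov2_rrl cov2_rrr)))

theorem cov2_ok : okCover 2 cov2 = true := by decide +kernel

/-- straight-line program -/
def slp2 : List (Nat × Nat × Nat) :=
  [(0xb52f510d844040652ca989df284dcd, 1, 3),
   (0x20823bd516651ed498e05955374251, 2, 3),
   (0x906284d6e54a283240c2b4f6ade8f, 5, 3),
   (0x74a132094158d89395a678234bdaa8, 4, 4),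
   (0x810720d1f788948034cc2a4f6aba6b, 5, 4),
   (0x11061939b3040c88bd4c2acf6ad2e9, 6, 4),
   (0xa08371c0d2490ed621e05c553756c5, 6, 5),
   (0x83a72b51f78d50a29ccb025a11106c, 9, 10),
   (0xa56d79c0d24b9a75a9e56450320820, 11, 0),
   (0x152e1b39b30550629d498adf28106c, 9, 11),
   (0x242439d516639af5a8f1494d7a0820, 13, 0),
   (0x1c244758b53cd6f681914a0d7a044a, 14, 11),
   (0x1ca049d8b53b9a95a9867a234b8820, 14, 0)]

/-- levels -/
def levels2 : List (Nat × List Nat) :=
  [(0, [17, 0, 1, 2, 3, 4, 5, 6, 7, 8, 9, 10]),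
   (3, [17, 12, 14, 16])]

/-- stabilising facts -/
def gens2 : List Nat := [8, 9, 10, 28]

theorem chain2_ok : okChain 2 gens2 slp2 levels2 = true := by decide +kernel

theorem chain2_size : chainSize levels2 = 48 := by decide +kernel

end CfsgLib.Spor.J4.Index
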