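import Cfsg.Agent.Lib.Spor.J4.Index.Check

/-!
Coverage and stabiliser of node 3 (generated).
-/

set_option autoImplicit false
set_option linter.all false

namespace CfsgLib.Spor.J4.Index

open CfsgLib.PresCert

/-- packed table -/
noncomputable def cov3_lll : BTree := (.node (.node (.node (.node (.node (.node (.node (.node (.node (.leaf 0x40400bd) (.leaf 0xa14c0b9)) (.node (.leaf 0xdacc0d3) (.leaf 0xf7fc0d3))) (.node (.node (.leaf 0x49b40b9) (.leaf 0xd0a80bd)) (.node (.leaf 0x774c0af) (.leaf 0xe0300bf)))) (.node (.node (.node (.leaf 0xd6bc0bd) (.leaf 0x111080d1)) (.node (.leaf 0xd4280bd) (.leaf 0xda2c0bd))) (.node (.node (.leaf 0xd6a00ad) (.leaf 0xde300b5)) (.node (.leaf 0xf7b80d3) (.leaf 0x0))))) (.node (.node (.node (.node (.leaf 0x112680d3) (.leaf 0xf3180b3)) (.node (.leaf 0x118500bf) (.leaf 0xc2f40b9))) (.node (.node (.leaf 0xe3200bd) (.leaf 0x116fc0bd)) (.node (.leaf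 0x90ec0d1) (.leaf 0xe8400d3)))) (.node (.node (.node (.leaf 0x83e00b9) (.leaf 0x10c180d3)) (.node (.leaf 0xe1a40bd) (.leaf 0xd6c00d1))) (.node (.node (.leaf 0x9b340b1) (.leaf 0xd6bc0d1)) (.node (.leaf 0x9dfc0ad) (.leaf 0x0)))))) (.node (.node (.node (.node (.node (.leaf 0xce000bf) (.leaf 0xecd40d1)) (.node (.leaf 0x8e700b1) (.leaf 0xa7100d1))) (.node (.node (.leaf 0xe2dc0d1) (.leaf 0x10c240d3)) (.node (.leaf 0x11bd00b9) (.leaf 0xb8540ad)))) (.node (.node (.node (.leaf 0xf3280d3) (.leaf 0x117180b3)) (.node (.leaf 0x111080d3) (.leaf 0x102680d1))) (.node (.node (.leaf 0x111340bd) (.leaf 0xed780b3)) (.node (.leaf 0xc7300af) (.leaf 0x0))))) (.node (.node (.node (.node (.leaf 0x125d40bf) (.leaf 0xc0200d1)) (.node (.leaf 0x138f00bf) (.leaf 0xd41c0b3))) (.node (.node (.leaf 0xc0580bd) (.leaf 0x12d2c0d3)) (.node (.leaf 0x120940bd) (.leaf 0xb2500bf)))) (.node (.node (.node (.leaf 0xd2f40d3)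 (.leaf 0xdeb80d3)) (.node (.leaf 0x129e80bf) (.leaf 0xf6200b1))) (.node (.node (.leaf 0xcf980d1) (.leaf 0xb8540b3)) (.node (.leaf 0xf2dc0d3) (.leaf 0x0))))))) (.node (.node (.node (.node (.node (.node (.leaf 0xc8f00d1) (.leaf 0x12e880bd)) (.node (.leaf 0x115540bf) (.leaf 0xad880b3))) (.node (.node (.leaf 0x94800b1) (.leaf 0x93580d3)) (.node (.leaf 0x101b00bf) (.leaf 0x98000b9)))) (.node (.node (.node (.leaf 0x121300bd) (.leaf 0xeda80b1)) (.node (.leaf 0x63680bd) (.leaf 0xb2ec0ad))) (.node (.node (.leaf 0xf1340b1) (.leaf 0xc7440ad)) (.node (.leaf 0x12f540bf) (.leaf 0x0))))) (.node (.node (.node (.node (.leaf 0xda8c0b3) (.leaf 0xc51c0d3)) (.node (.leaf 0x9d2c0d1) (.leaf 0xfa740b5))) (.node (.node (.leaf 0xf81c0d1) (.leaf 0xd0a80d3)) (.node (.leaf 0x80640b1) (.leaf 0x129e80bd)))) (.node (.node (.node (.leaf 0xe18c0b9) (.leaf 0xe8740d1)) (.node (.leaf 0x126880bf) (.leaf 0x1077c0bd)))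 (.node (.node (.leaf 0x49b40d3) (.leaf 0xdb600d1)) (.node (.leaf 0xee900bf) (.leaf 0x0)))))) (.node (.node (.node (.node (.node (.leaf 0x879c0b1) (.leaf 0x83d40ad)) (.node (.leaf 0xf6200d1) (.leaf 0x16d1c0bd))) (.node (.node (.leaf 0x893c0b1) (.leaf 0xc4180b1)) (.node (.leaf 0xf0800bf) (.leaf 0xcdf00bf)))) (.node (.node (.node (.leaf 0x1383c0bf) (.leaf 0xdcc00bd)) (.node (.leaf 0xdd440d1) (.leaf 0xdb500b5))) (.node (.node (.leaf 0xa3a40d1) (.leaf 0x1073c0bd)) (.node (.leaf 0x9d680b1) (.leaf 0x0))))) (.node (.node (.node (.node (.leaf 0xdfc80d3) (.leaf 0x92f00b1)) (.node (.leaf 0xc9080bf) (.leaf 0x751c0af))) (.node (.node (.leaf 0xa2bc0bf) (.leaf 0xf61c0b3)) (.node (.leaf 0x94800af) (.leaf 0x0)))) (.node (.node (.node (.leaf 0xdb740b1) (.leaf 0x111e80bf)) (.node (.leaf 0x137c80bf) (.leaf 0x104040bd))) (.node (.node (.leaf 0xb7880d1) (.leaf 0x11b940bf)) (.node (.leaf 0xf7fc0d1)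 (.leaf 0x0)))))))) (.node (.node (.node (.node (.node (.node (.node (.leaf 0xaa) (.leaf 0xc6400d3)) (.node (.leaf 0xe1e40b1) (.leaf 0xeb5c0bd))) (.node (.node (.leaf 0x13a900d3) (.leaf 0xa00c0bf)) (.node (.leaf 0xc4180bf) (.leaf 0xc2600d1)))) (.node (.node (.node (.leaf 0xb23c0bd) (.leaf 0xd0d40d3)) (.node (.leaf 0xc1440d3) (.leaf 0x98000bf))) (.node (.node (.leaf 0xcca40b5) (.leaf 0xa4600b3)) (.node (.leaf 0x103f40bd) (.leaf 0x0))))) (.node (.node (.node (.node (.leaf 0xb44c0b9) (.leaf 0x9f840bf)) (.node (.leaf 0x11bd80b5) (.leaf 0xe0b40d3))) (.node (.node (.leaf 0x11ce40bd) (.leaf 0xd4dc0ad)) (.node (.leaf 0xd2ec0d1) (.leaf 0xf3940ad)))) (.node (.node (.node (.leaf 0x83400b1) (.leaf 0x63d40d1)) (.node (.leaf 0xaff80b9) (.leaf 0xd6040b3))) (.node (.node (.leaf 0x92180af) (.leaf 0xe1e40ad)) (.node (.leaf 0x122780b5) (.leaf 0x0)))))) (.node (.node (.node (.node (.node (.leaf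 0xeda40bd) (.leaf 0x43640b5)) (.node (.leaf 0xf61c0d1) (.leaf 0x11eac0d3))) (.node (.node (.leaf 0x9d500d1) (.leaf 0xf4700bd)) (.node (.leaf 0x10a600bd) (.leaf 0x132b80b5)))) (.node (.node (.node (.leaf 0xe6780bf) (.leaf 0x10d5c0bd)) (.node (.leaf 0x69980b9) (.leaf 0x129580b1))) (.node (.node (.leaf 0x135140bf) (.leaf 0xed5c0b9)) (.node (.leaf 0xa2c80bd) (.leaf 0x0))))) (.node (.node (.node (.node (.leaf 0x61540ad) (.leaf 0xd9b40b9)) (.node (.leaf 0x13a480bd) (.leaf 0xcdc00d3))) (.node (.node (.leaf 0xc5ac0bf) (.leaf 0x80640bf)) (.node (.leaf 0xc7300b9) (.leaf 0xdc4c0bd)))) (.node (.node (.node (.leaf 0xe3b40d3) (.leaf 0xd6680ad)) (.node (.leaf 0x114fc0b5) (.leaf 0x11a5c0b3))) (.node (.node (.leaf 0x100e80bf) (.leaf 0xecd40d3)) (.node (.leaf 0xb8540b1) (.leaf 0x0))))))) (.node (.node (.node (.node (.node (.node (.leaf 0x121200bd) (.leaf 0x11ec80af)) (.node (.leaf 0x114f40b5)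 (.leaf 0xf9ac0bd))) (.node (.node (.leaf 0xa2cc0d3) (.leaf 0xebb40d3)) (.node (.leaf 0xd2040b5) (.leaf 0xd0940d1)))) (.node (.node (.node (.leaf 0xb4580d3) (.leaf 0xaf680b9)) (.node (.leaf 0x12d000d3) (.leaf 0xc1940b5))) (.node (.node (.leaf 0xea380d1) (.leaf 0x125b00b1)) (.node (.leaf 0x92b00d3) (.leaf 0x0))))) (.node (.node (.node (.node (.leaf 0xc90c0bf) (.leaf 0x80440b1)) (.node (.leaf 0xa4600ad) (.leaf 0xf7640b1))) (.node (.node (.leaf 0x63d40ad) (.leaf 0xe7300b1)) (.node (.leaf 0xd4c80b5) (.leaf 0xde9c0b1)))) (.node (.node (.node (.leaf 0xe1c40b9) (.leaf 0xde9c0b3)) (.node (.leaf 0xabf80b5) (.leaf 0x11a180bd))) (.node (.node (.leaf 0xe8340d1) (.leaf 0xeba40d1)) (.node (.leaf 0xf73c0bf) (.leaf 0x0)))))) (.node (.node (.node (.node (.node (.leaf 0xc5f80bf) (.leaf 0xe8680bd)) (.node (.leaf 0x10d2c0bd) (.leaf 0x8c980d1))) (.node (.node (.leaf 0xe3800bd) (.leaf 0xdaac0d1))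 (.node (.leaf 0x12a600b1) (.leaf 0xc2f40bd)))) (.node (.node (.node (.leaf 0x110300bf) (.leaf 0xd2f40bf)) (.node (.leaf 0xda9c0b1) (.leaf 0x139a00bd))) (.node (.node (.leaf 0xb6f80b5) (.leaf 0x121fc0d1)) (.node (.leaf 0x80440d1) (.leaf 0x0))))) (.node (.node (.node (.node (.leaf 0xc5f00b9) (.leaf 0xf5e40af)) (.node (.leaf 0x124dc0bd) (.leaf 0x98000b3))) (.node (.node (.leaf 0xf8f80d1) (.leaf 0x147d00bd)) (.node (.leaf 0xe8d40af) (.leaf 0x0)))) (.node (.node (.node (.leaf 0xeec80b5) (.leaf 0x8ac00b1)) (.node (.leaf 0xeae00bf) (.leaf 0x134500b1))) (.node (.node (.leaf 0xebb40b1) (.leaf 0x12d300bf)) (.node (.leaf 0x83e00b1) (.leaf 0x0))))))))) (.node (.node (.node (.node (.node (.node (.node (.node (.leaf 0x85e00bd) (.leaf 0xf9000bf)) (.node (.leaf 0x11fb00bf) (.leaf 0x138a00bd))) (.node (.node (.leaf 0xf8f80b9) (.leaf 0x12c980bd)) (.node (.leaf 0xd6f80bd) (.leaf 0x8c700b1))))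 (.node (.node (.node (.leaf 0xcca40b3) (.leaf 0xcba40b9)) (.node (.leaf 0xd4140bd) (.leaf 0xc15c0af))) (.node (.node (.leaf 0xf9f00bf) (.leaf 0xe4e00af)) (.node (.leaf 0xced40bd) (.leaf 0x0))))) (.node (.node (.node (.node (.leaf 0xe4440b9) (.leaf 0x774c0b1)) (.node (.leaf 0x116240b1) (.leaf 0xd0140d3))) (.node (.node (.leaf 0x120a00af) (.leaf 0xe9280bd)) (.node (.leaf 0xc6cc0d3) (.leaf 0xe3800d3)))) (.node (.node (.node (.leaf 0x83940b9) (.leaf 0xe7300bd)) (.node (.leaf 0xdde40bf) (.leaf 0x95400d1))) (.node (.node (.leaf 0xc6200bf) (.leaf 0xc51c0d1)) (.node (.leaf 0xc1780d1) (.leaf 0x0)))))) (.node (.node (.node (.node (.node (.leaf 0xd2c00d1) (.leaf 0xe1180d1)) (.node (.leaf 0x135280bd) (.leaf 0xcca40bf))) (.node (.node (.leaf 0xa2e80d1) (.leaf 0x13a900d1)) (.node (.leaf 0xe8240bd) (.leaf 0xf98c0bd)))) (.node (.node (.node (.leaf 0x164000bf) (.leaf 0xaf680d1)) (.node (.leaf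 0x123e00ad) (.leaf 0xb36c0ad))) (.node (.node (.leaf 0x49b40d1) (.leaf 0xfa600d1)) (.node (.leaf 0x9d2c0b3) (.leaf 0x0))))) (.node (.node (.node (.node (.leaf 0xdf940b9) (.leaf 0xb2500ad)) (.node (.leaf 0x63980b3) (.leaf 0xc1f40bf))) (.node (.node (.leaf 0xb9880b5) (.leaf 0x109b80b9)) (.node (.leaf 0xf7240d1) (.leaf 0x83400bf)))) (.node (.node (.node (.leaf 0xc3300bf) (.leaf 0xde0c0af)) (.node (.leaf 0xe99c0d1) (.leaf 0xd4e40af))) (.node (.node (.leaf 0xdd400d1) (.leaf 0xfb200b5)) (.node (.leaf 0xc9040bd) (.leaf 0x0))))))) (.node (.node (.node (.node (.node (.node (.leaf 0xc8f40d1) (.leaf 0xee740bd)) (.node (.leaf 0xed180b9) (.leaf 0x10fac0bf))) (.node (.node (.leaf 0xb1140d1) (.leaf 0x126880bd)) (.node (.leaf 0xc2400bd) (.leaf 0xc16c0b5)))) (.node (.node (.node (.leaf 0x9c140b9) (.leaf 0xd2080b5)) (.node (.leaf 0xf0800d3) (.leaf 0xc15c0ad))) (.node (.node (.leaf 0xea140d1)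 (.leaf 0xe8340af)) (.node (.leaf 0x12d500d1) (.leaf 0x0))))) (.node (.node (.node (.node (.leaf 0xd3980b9) (.leaf 0xddb80d1)) (.node (.leaf 0x135980bd) (.leaf 0x111680d3))) (.node (.node (.leaf 0x127b00b1) (.leaf 0x103e40bd)) (.node (.leaf 0xe8040b3) (.leaf 0xc1f40b1)))) (.node (.node (.node (.leaf 0xe18c0d3) (.leaf 0x135780bf)) (.node (.leaf 0xb2680bd) (.leaf 0xea1c0b9))) (.node (.node (.leaf 0x10e3c0bd) (.leaf 0x922c0ad)) (.node (.leaf 0x13abc0d3) (.leaf 0x0)))))) (.node (.node (.node (.node (.node (.leaf 0x89500bd) (.leaf 0x9fe00d1)) (.node (.leaf 0x11a5c0bd) (.leaf 0xcdd40d3))) (.node (.node (.leaf 0xb03c0bd) (.leaf 0x11f780d1)) (.node (.leaf 0xeb340d1) (.leaf 0xfa880d3)))) (.node (.node (.node (.leaf 0xa4100b3) (.leaf 0x106680bf)) (.node (.leaf 0xb7880d3) (.leaf 0xfb200d3))) (.node (.node (.leaf 0x115900bf) (.leaf 0x12dbc0bd)) (.node (.leaf 0x9d600d3) (.leaf 0x0)))))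 (.node (.node (.node (.node (.leaf 0x9f980b3) (.leaf 0x131500bd)) (.node (.leaf 0xda880b9) (.leaf 0x10fbc0bf))) (.node (.node (.leaf 0xead00ad) (.leaf 0xb7a80bf)) (.node (.leaf 0xcce80b9) (.leaf 0x0)))) (.node (.node (.node (.leaf 0x1077c0bf) (.leaf 0x12a2c0af)) (.node (.leaf 0x101c40bf) (.leaf 0x1074c0bd))) (.node (.node (.leaf 0xeba00b1) (.leaf 0xcb780b5)) (.node (.leaf 0x436c0d3) (.leaf 0x0)))))))) (.node (.node (.node (.node (.node (.node (.node (.leaf 0xa2c40b3) (.leaf 0xc7cc0d1)) (.node (.leaf 0xcdc00d1) (.leaf 0xb7480b9))) (.node (.node (.leaf 0xe3c80d1) (.leaf 0xc5bc0b1)) (.node (.leaf 0xe6c80d1) (.leaf 0xa14c0bd)))) (.node (.node (.node (.leaf 0xdbcc0d1) (.leaf 0x751c0bf)) (.node (.leaf 0xe7300bf) (.leaf 0xdd880bd))) (.node (.node (.leaf 0x893c0bd) (.leaf 0xc2180d1)) (.node (.leaf 0x117180ad) (.leaf 0x0))))) (.node (.node (.node (.node (.leaf 0x87180b9) (.leaf 0xf9380af))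 (.node (.leaf 0xdacc0d1) (.leaf 0xdacc0b9))) (.node (.node (.leaf 0xcfec0ad) (.leaf 0xca700d1)) (.node (.leaf 0xed340b1) (.leaf 0xb1140b9)))) (.node (.node (.node (.leaf 0xa1280b1) (.leaf 0x126c00bf)) (.node (.leaf 0xebbc0b3) (.leaf 0x130540bd))) (.node (.node (.leaf 0xd43c0ad) (.leaf 0xa2200d3)) (.node (.leaf 0xf0ac0af) (.leaf 0x0)))))) (.node (.node (.node (.node (.node (.leaf 0xec2c0b9) (.leaf 0xe1a00ad)) (.node (.leaf 0x10bf40b9) (.leaf 0xe0bc0d3))) (.node (.node (.leaf 0x40740bd) (.leaf 0xf5480b9)) (.node (.leaf 0x118c40d3) (.leaf 0xf4880d3)))) (.node (.node (.node (.leaf 0x11b940bd) (.leaf 0x93200bf)) (.node (.leaf 0xd3f80b5) (.leaf 0x113340d1))) (.node (.node (.leaf 0x16e540b5) (.leaf 0xcfd00b5)) (.node (.leaf 0x49940b5) (.leaf 0x0))))) (.node (.node (.node (.node (.leaf 0x9fe40d3) (.leaf 0x11f700bf)) (.node (.leaf 0x1114c0b1) (.leaf 0xa4100d3))) (.node (.node (.leaf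 0xcf9c0bf) (.leaf 0xd2900b5)) (.node (.leaf 0x9c6c0bd) (.leaf 0x0)))) (.node (.node (.node (.leaf 0x80d80af) (.leaf 0x129b40b5)) (.node (.leaf 0x10f640bf) (.leaf 0x9f840d1))) (.node (.node (.leaf 0xd7580bd) (.leaf 0x104ec0bd)) (.node (.leaf 0xf7640b3) (.leaf 0x0))))))) (.node (.node (.node (.node (.node (.node (.leaf 0xf0ac0ad) (.leaf 0xf9380ad)) (.node (.leaf 0xcb140d1) (.leaf 0xdbdc0b9))) (.node (.node (.leaf 0xa2e40d3) (.leaf 0x125180bf)) (.node (.leaf 0xf9f80bd) (.leaf 0xe01c0bd)))) (.node (.node (.node (.leaf 0xe80c0bd) (.leaf 0xa4100d1)) (.node (.leaf 0xe43c0af) (.leaf 0xd2800bd))) (.node (.node (.leaf 0x125f00bd) (.leaf 0xc2040d1)) (.node (.leaf 0xee8c0d1) (.leaf 0x0))))) (.node (.node (.node (.node (.leaf 0xf3dc0af) (.leaf 0x80640b9)) (.node (.leaf 0xe3c80b3) (.leaf 0xd4a80d1))) (.node (.node (.leaf 0x12b840d3) (.leaf 0xb7480d3)) (.node (.leaf 0xb7880b1) (.leaf 0x115cc0d3))))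 (.node (.node (.node (.leaf 0x838c0bd) (.leaf 0xd1c80bd)) (.node (.leaf 0x118180bf) (.leaf 0x119a00bf))) (.node (.node (.leaf 0x1288c0bd) (.leaf 0xc8180b3)) (.node (.leaf 0x122080bf) (.leaf 0x0)))))) (.node (.node (.node (.node (.node (.leaf 0x1277c0b1) (.leaf 0xd50c0b3)) (.node (.leaf 0xf8f80bd) (.leaf 0x125d40bd))) (.node (.node (.leaf 0x87a80af) (.leaf 0xf8fc0bf)) (.node (.leaf 0xc4380d1) (.leaf 0x138e00d1)))) (.node (.node (.node (.leaf 0x43c40b9) (.leaf 0x11e680bd)) (.node (.leaf 0xd2900bf) (.leaf 0xd6ac0d1))) (.node (.node (.leaf 0xdcb80af) (.leaf 0xb5f00bd)) (.node (.leaf 0xc0580d3) (.leaf 0x0))))) (.node (.node (.node (.node (.leaf 0x437c0ad) (.leaf 0xe3c80bf)) (.node (.leaf 0x124dc0bf) (.leaf 0x10e3c0bf))) (.node (.node (.leaf 0x1136c0d1) (.leaf 0xef980d3)) (.node (.leaf 0xee940bd) (.leaf 0x0)))) (.node (.node (.node (.leaf 0xebe40bf) (.leaf 0xf3940bf)) (.node (.leaf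 0xdac80af) (.leaf 0x1028c0d1))) (.node (.node (.leaf 0xc4700b3) (.leaf 0xc4700bf)) (.node (.leaf 0x437c0b9) (.leaf 0x0))))))))))

/-- packed table -/
noncomputable def cov3_llr : BTree := (.node (.node (.node (.node (.node (.node (.node (.node (.node (.leaf 0x834c0bd) (.leaf 0xe86c0bd)) (.node (.leaf 0xcfd00b9) (.leaf 0x1389c0bd))) (.node (.node (.leaf 0xd4140b1) (.leaf 0x175940bd)) (.node (.leaf 0xe2400b5) (.leaf 0x10e240d3)))) (.node (.node (.node (.leaf 0x147d00bf) (.leaf 0x63680bf)) (.node (.leaf 0xd4080bd) (.leaf 0xce480d3))) (.node (.node (.leaf 0x13a000bf) (.leaf 0xc6e80bf)) (.node (.leaf 0xd6480af) (.leaf 0x0))))) (.node (.node (.node (.node (.leaf 0xf4840b9) (.leaf 0xb3340b9)) (.node (.leaf 0x62d40bf) (.leaf 0xcee40bd))) (.node (.node (.leaf 0x123340bd) (.leaf 0xb44c0d1)) (.node (.leaf 0x80000d3) (.leaf 0xe55c0d3)))) (.node (.node (.node (.leaf 0xc6bc0b5) (.leaf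 0xb7a80d1)) (.node (.leaf 0xd0140d1) (.leaf 0xeb5c0b1))) (.node (.node (.leaf 0xf08c0d1) (.leaf 0xc4cc0d3)) (.node (.leaf 0xd6f80bf) (.leaf 0x0)))))) (.node (.node (.node (.node (.node (.leaf 0xdc880ad) (.leaf 0x436c0af)) (.node (.leaf 0xd3480b1) (.leaf 0x10cc40bf))) (.node (.node (.leaf 0xa2c80d1) (.leaf 0x155680bf)) (.node (.leaf 0xf7240bd) (.leaf 0x11cbc0bd)))) (.node (.node (.node (.leaf 0xf3a80d3) (.leaf 0x10e680d3)) (.node (.leaf 0x12b440d1) (.leaf 0x136640d3))) (.node (.node (.leaf 0x8c980b5) (.leaf 0x90500b1)) (.node (.leaf 0xee940d1) (.leaf 0x0))))) (.node (.node (.node (.node (.leaf 0x43c40b5) (.leaf 0x80300d1)) (.node (.leaf 0x139b80bf) (.leaf 0x10bb80d3))) (.node (.node (.leaf 0xc9f40bd) (.leaf 0xb2500b5)) (.node (.leaf 0xcb640bf) (.leaf 0xec880b5)))) (.node (.node (.node (.leaf 0xc03c0bd) (.leaf 0x49b40bf)) (.node (.leaf 0xe7300b5) (.leaf 0xd6ac0ad))) (.node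 (.node (.leaf 0xae040b1) (.leaf 0xddc00bd)) (.node (.leaf 0xe8340b5) (.leaf 0x0))))))) (.node (.node (.node (.node (.node (.node (.leaf 0xc4380bd) (.leaf 0x11ec00d1)) (.node (.leaf 0xebb40bd) (.leaf 0xc1800d3))) (.node (.node (.leaf 0x9f840d3) (.leaf 0xced40bf)) (.node (.leaf 0xcd3c0af) (.leaf 0xdb800d3)))) (.node (.node (.node (.leaf 0x11c240b9) (.leaf 0xaf680b3)) (.node (.leaf 0xcd880d1) (.leaf 0xad880bf))) (.node (.node (.leaf 0xf69c0b1) (.leaf 0x132e00bf)) (.node (.leaf 0xc16c0b3) (.leaf 0x0))))) (.node (.node (.node (.node (.leaf 0xfa580d3) (.leaf 0xdd440bd)) (.node (.leaf 0x94800d1) (.leaf 0xc88c0b9))) (.node (.node (.leaf 0x12a6c0bf) (.leaf 0xf4700b1)) (.node (.leaf 0xd6f80b5) (.leaf 0xf5200b3)))) (.node (.node (.node (.leaf 0x61540b1) (.leaf 0xe86c0d1)) (.node (.leaf 0x1289c0b9) (.leaf 0xf4400d1))) (.node (.node (.leaf 0xc0b80b5) (.leaf 0x9c6c0d1)) (.node (.leaf 0xd1700b1)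 (.leaf 0x0)))))) (.node (.node (.node (.node (.node (.leaf 0x10e240d1) (.leaf 0xc6a80d1)) (.node (.leaf 0xe3840af) (.leaf 0xddd00bf))) (.node (.node (.leaf 0x9d680b5) (.leaf 0x109b00ad)) (.node (.leaf 0xe79c0d1) (.leaf 0x9f6c0b9)))) (.node (.node (.node (.leaf 0xd99c0bd) (.leaf 0xe8140d1)) (.node (.leaf 0xc7780d1) (.leaf 0x136380d1))) (.node (.node (.leaf 0xebe40d1) (.leaf 0x108840bf)) (.node (.leaf 0xa3a40bd) (.leaf 0x0))))) (.node (.node (.node (.node (.leaf 0xa1100bd) (.leaf 0xaa480bd)) (.node (.leaf 0xe6cc0d3) (.leaf 0x751c0b9))) (.node (.node (.leaf 0xef8c0b5) (.leaf 0xc78c0bf)) (.node (.leaf 0xe01c0b9) (.leaf 0x0)))) (.node (.node (.node (.leaf 0x126d00d1) (.leaf 0xe7d80b5)) (.node (.leaf 0x174cc0b5) (.leaf 0xf7ac0bf))) (.node (.node (.leaf 0xe55c0b9) (.leaf 0xebbc0d1)) (.node (.leaf 0x83500d3) (.leaf 0x0)))))))) (.node (.node (.node (.node (.node (.node (.node (.leaf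 0x805c0b5) (.leaf 0xd6880b3)) (.node (.leaf 0x437c0bd) (.leaf 0x12aa80d1))) (.node (.node (.leaf 0xfb1c0ad) (.leaf 0x85980bd)) (.node (.leaf 0xdd340d1) (.leaf 0xc54c0b3)))) (.node (.node (.node (.leaf 0xcfcc0b1) (.leaf 0x134f80bd)) (.node (.leaf 0xf0fc0bd) (.leaf 0xce000d3))) (.node (.node (.leaf 0x117e40d1) (.leaf 0x11f700bd)) (.node (.leaf 0xd0180b3) (.leaf 0x0))))) (.node (.node (.node (.node (.leaf 0x14ff80bd) (.leaf 0xb4bc0b5)) (.node (.leaf 0xe6500af) (.leaf 0x49b40ad))) (.node (.node (.leaf 0x113d80bf) (.leaf 0x135980bf)) (.node (.leaf 0xb5f00b3) (.leaf 0x105900af)))) (.node (.node (.node (.leaf 0x9f980ad) (.leaf 0x92f00bf)) (.node (.leaf 0xf4800d1) (.leaf 0xc7440af))) (.node (.node (.leaf 0x8e800bf) (.leaf 0x112680d1)) (.node (.leaf 0xda4c0d3) (.leaf 0x0)))))) (.node (.node (.node (.node (.node (.leaf 0xb0e40bd) (.leaf 0x9fbc0b1)) (.node (.leaf 0x9dc40bf) (.leaf 0xc5740ad)))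 (.node (.node (.leaf 0x49940b1) (.leaf 0xcba40af)) (.node (.leaf 0xc4240af) (.leaf 0x102740b9)))) (.node (.node (.node (.leaf 0xc15c0bf) (.leaf 0x92dc0d3)) (.node (.leaf 0x109c80d1) (.leaf 0xd29c0d1))) (.node (.node (.leaf 0xdd400d3) (.leaf 0xd6ac0af)) (.node (.leaf 0x63d40bf) (.leaf 0x0))))) (.node (.node (.node (.node (.leaf 0x61540b5) (.leaf 0xf9f80d3)) (.node (.leaf 0xc8fc0bd) (.leaf 0xeea00b3))) (.node (.node (.leaf 0xf31c0bd) (.leaf 0xc0600bf)) (.node (.leaf 0xad880d1) (.leaf 0x0)))) (.node (.node (.node (.leaf 0x87a80bd) (.leaf 0xda9c0d1)) (.node (.leaf 0x112a80d1) (.leaf 0x119540b5))) (.node (.node (.leaf 0xa6400bd) (.leaf 0xefe40bf)) (.node (.leaf 0xc90c0bd) (.leaf 0x0))))))) (.node (.node (.node (.node (.node (.node (.leaf 0xc6f00bd) (.leaf 0x11cac0bd)) (.node (.leaf 0xebbc0ad) (.leaf 0xf25c0bf))) (.node (.node (.leaf 0xa2c80d3) (.leaf 0x126740d3)) (.node (.leaf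 0xcd3c0ad) (.leaf 0x117980b1)))) (.node (.node (.node (.leaf 0x10de80d1) (.leaf 0x922c0b5)) (.node (.leaf 0x114fc0b9) (.leaf 0xe6e80bd))) (.node (.node (.leaf 0x129b40bd) (.leaf 0xee600bd)) (.node (.leaf 0xe8d40ad) (.leaf 0x0))))) (.node (.node (.node (.node (.leaf 0xcdd40bd) (.leaf 0x404c0b3)) (.node (.leaf 0xe3b40b3) (.leaf 0xfa580bf))) (.node (.node (.leaf 0xaf680b5) (.leaf 0x838c0bf)) (.node (.leaf 0xb2500b9) (.leaf 0xca300b9)))) (.node (.node (.node (.leaf 0xb5f00af) (.leaf 0xe6780bd)) (.node (.leaf 0xca9c0bd) (.leaf 0x12d7c0bd))) (.node (.node (.leaf 0xed180ad) (.leaf 0xc3d80bd)) (.node (.leaf 0x101300bd) (.leaf 0x0)))))) (.node (.node (.node (.node (.node (.leaf 0x157500bf) (.leaf 0x9c6c0b9)) (.node (.leaf 0xe73c0b9) (.leaf 0xf4700b5))) (.node (.node (.leaf 0xe4440b1) (.leaf 0x11a080bf)) (.node (.leaf 0xd4e40bd) (.leaf 0xeec80b3)))) (.node (.node (.node (.leaf 0xf4400ad)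 (.leaf 0xb1140b1)) (.node (.leaf 0xe6b80bd) (.leaf 0x10abc0d3))) (.node (.node (.leaf 0xdb6c0b1) (.leaf 0x82dc0b1)) (.node (.leaf 0x80640d1) (.leaf 0x0))))) (.node (.node (.node (.node (.leaf 0xa1bc0b5) (.leaf 0x1318c0bf)) (.node (.leaf 0x83500bf) (.leaf 0xd94c0b5))) (.node (.node (.leaf 0xdf8c0bf) (.leaf 0xb9880bf)) (.node (.leaf 0xca700b1) (.leaf 0x0)))) (.node (.node (.node (.leaf 0x12ecc0d3) (.leaf 0xcae40b3)) (.node (.leaf 0x14eb40af) (.leaf 0x12aec0b5))) (.node (.node (.leaf 0x9c140b1) (.leaf 0xdb600bd)) (.node (.leaf 0x43640b9) (.leaf 0x0))))))))) (.node (.node (.node (.node (.node (.node (.node (.node (.leaf 0x49280bf) (.leaf 0xa0180d1)) (.node (.leaf 0xcfec0b9) (.leaf 0x109b80bf))) (.node (.node (.leaf 0xde040bd) (.leaf 0x138900bd)) (.node (.leaf 0x10a600b3) (.leaf 0xdb500d1)))) (.node (.node (.node (.leaf 0xb44c0bd) (.leaf 0x110300bd)) (.node (.leaf 0xdde40d3) (.leaf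 0x12d7c0bf))) (.node (.node (.leaf 0x10cac0b5) (.leaf 0xc15c0b9)) (.node (.leaf 0x104ac0b9) (.leaf 0x0))))) (.node (.node (.node (.node (.leaf 0xfa7c0d3) (.leaf 0x9f840b5)) (.node (.leaf 0x11fb00bd) (.leaf 0xe3640b9))) (.node (.node (.leaf 0xb3800b1) (.leaf 0xf45c0b1)) (.node (.leaf 0x10dc40d3) (.leaf 0xb36c0b9)))) (.node (.node (.node (.leaf 0x85ec0d3) (.leaf 0xe57c0d3)) (.node (.leaf 0xccdc0d3) (.leaf 0xe18c0bd))) (.node (.node (.leaf 0x10dec0b9) (.leaf 0xec640bd)) (.node (.leaf 0xa4100b1) (.leaf 0x0)))))) (.node (.node (.node (.node (.node (.leaf 0xe8040d1) (.leaf 0xe1180d3)) (.node (.leaf 0x93580b1) (.leaf 0xee080b1))) (.node (.node (.leaf 0x893c0b9) (.leaf 0x1758c0bd)) (.node (.leaf 0xdeb80af) (.leaf 0x1208c0d3)))) (.node (.node (.node (.leaf 0xdbb00bd) (.leaf 0x12c3c0d3)) (.node (.leaf 0x115c00b5) (.leaf 0xe6780d3))) (.node (.node (.leaf 0xb5f00b9) (.leaf 0xca700b3))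 (.node (.leaf 0xe2d80bd) (.leaf 0x0))))) (.node (.node (.node (.node (.leaf 0x86900d3) (.leaf 0xdea80d1)) (.node (.leaf 0xee080bf) (.leaf 0xca300b5))) (.node (.node (.leaf 0xf9380bf) (.leaf 0x80440bf)) (.node (.leaf 0x11bc40bd) (.leaf 0x1115c0d3)))) (.node (.node (.node (.leaf 0x8e700bd) (.leaf 0x910c0d1)) (.node (.leaf 0x155000bd) (.leaf 0x11c240d3))) (.node (.node (.leaf 0x119980bf) (.leaf 0xe2440d3)) (.node (.leaf 0x117f40b1) (.leaf 0x0))))))) (.node (.node (.node (.node (.node (.node (.leaf 0xc9180d1) (.leaf 0xccdc0bf)) (.node (.leaf 0x128c00bf) (.leaf 0xc88c0b5))) (.node (.node (.leaf 0x40400d3) (.leaf 0x138700d3)) (.node (.leaf 0xdaac0b5) (.leaf 0xc5a00b5)))) (.node (.node (.node (.leaf 0x125640b9) (.leaf 0x131880d3)) (.node (.leaf 0x80d80d3) (.leaf 0x10ef00bf))) (.node (.node (.leaf 0x118c80bd) (.leaf 0xe58c0b1)) (.node (.leaf 0x10cc40b1) (.leaf 0x0))))) (.node (.node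 (.node (.node (.leaf 0xd3d00b5) (.leaf 0xddd00d1)) (.node (.leaf 0x49b40b1) (.leaf 0xc9f40d3))) (.node (.node (.leaf 0xf56c0d1) (.leaf 0xdaac0bf)) (.node (.leaf 0x10d5c0bf) (.leaf 0xd77c0d3)))) (.node (.node (.node (.leaf 0xe1780d3) (.leaf 0x132b40ad)) (.node (.leaf 0xd6f80b9) (.leaf 0x8e800b1))) (.node (.node (.leaf 0xef980af) (.leaf 0xec4c0b1)) (.node (.leaf 0x120a00d1) (.leaf 0x0)))))) (.node (.node (.node (.node (.node (.leaf 0xf5200b5) (.leaf 0xdfc80d1)) (.node (.leaf 0xd3700bd) (.leaf 0xc24c0b3))) (.node (.node (.leaf 0xde9c0bd) (.leaf 0xe7300af)) (.node (.leaf 0x130140bf) (.leaf 0xf3c00bf)))) (.node (.node (.node (.leaf 0xc1f40b9) (.leaf 0xc1f40d3)) (.node (.leaf 0x10d900bd) (.leaf 0xfb1c0d1))) (.node (.node (.leaf 0x95940bf) (.leaf 0x12d8c0bf)) (.node (.leaf 0xc0600d1) (.leaf 0x0))))) (.node (.node (.node (.node (.leaf 0xa14c0d1) (.leaf 0x10ea80b1)) (.node (.leaf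 0xee080b9) (.leaf 0xf7ac0bd))) (.node (.node (.leaf 0x8e800ad) (.leaf 0xd2540bf)) (.node (.leaf 0xb35c0b9) (.leaf 0x0)))) (.node (.node (.node (.leaf 0x104c80bd) (.leaf 0xc4c40bf)) (.node (.leaf 0xc3700bf) (.leaf 0xdc280d1))) (.node (.node (.leaf 0x11b3c0bd) (.leaf 0x101700d3)) (.node (.leaf 0xc3300b9) (.leaf 0x0)))))))) (.node (.node (.node (.node (.node (.node (.node (.leaf 0x62d40b3) (.leaf 0xdacc0b5)) (.node (.leaf 0x8c980af) (.leaf 0x151780bd))) (.node (.node (.leaf 0x13a140d3) (.leaf 0x12a600bd)) (.node (.leaf 0x92b00b9) (.leaf 0xca700bd)))) (.node (.node (.node (.leaf 0xb35c0af) (.leaf 0x1277c0bf)) (.node (.leaf 0xc43c0d1) (.leaf 0x963c0d3))) (.node (.node (.leaf 0x437c0bf) (.leaf 0xda4c0bd)) (.node (.leaf 0xdd200d1) (.leaf 0x0))))) (.node (.node (.node (.node (.leaf 0x114740b9) (.leaf 0xc4cc0d1)) (.node (.leaf 0xd3700d1) (.leaf 0x138f40ad))) (.node (.node (.leaf 0x9b340ad)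 (.leaf 0x904c0b9)) (.node (.leaf 0xe8140bd) (.leaf 0x879c0b5)))) (.node (.node (.node (.leaf 0xa1100b1) (.leaf 0xfacc0bd)) (.node (.leaf 0xa32c0d3) (.leaf 0x113ac0af))) (.node (.node (.leaf 0x5ae40ad) (.leaf 0x97a80b5)) (.node (.leaf 0xf1000af) (.leaf 0x0)))))) (.node (.node (.node (.node (.node (.leaf 0xe4440b3) (.leaf 0xc6600b9)) (.node (.leaf 0xb35c0d1) (.leaf 0xddd00bd))) (.node (.node (.leaf 0x8afc0bd) (.leaf 0xce040bd)) (.node (.leaf 0xc3600bd) (.leaf 0xda9c0b9)))) (.node (.node (.node (.leaf 0xf6580b3) (.leaf 0x126900bd)) (.node (.leaf 0x92dc0d1) (.leaf 0xeac80b5))) (.node (.node (.leaf 0x1653c0bf) (.leaf 0xdb240d3)) (.node (.leaf 0xdd840d1) (.leaf 0x0))))) (.node (.node (.node (.node (.leaf 0x9fe40b9) (.leaf 0xc2180d3)) (.node (.leaf 0x822c0bd) (.leaf 0x10ad80bd))) (.node (.node (.leaf 0xc8b80bf) (.leaf 0xdea80b3)) (.node (.leaf 0x93580bd) (.leaf 0x0)))) (.node (.node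 (.node (.leaf 0xe8a80b3) (.leaf 0x114500d1)) (.node (.leaf 0xcf980b9) (.leaf 0xd8700d1))) (.node (.node (.leaf 0xd7580b9) (.leaf 0xe1e40bd)) (.node (.leaf 0xc1880d1) (.leaf 0x0))))))) (.node (.node (.node (.node (.node (.node (.leaf 0xfb000af) (.leaf 0xe2440d1)) (.node (.leaf 0x135140bd) (.leaf 0xec040b9))) (.node (.node (.leaf 0xa2bc0d1) (.leaf 0x119cc0d3)) (.node (.leaf 0xd1500ad) (.leaf 0xc5880b5)))) (.node (.node (.node (.leaf 0xf25c0d1) (.leaf 0xd3bc0bf)) (.node (.leaf 0x1067c0bd) (.leaf 0xd8700bd))) (.node (.node (.leaf 0xe1a00bd) (.leaf 0xe3640bd)) (.node (.leaf 0x10a3c0bf) (.leaf 0x0))))) (.node (.node (.node (.node (.leaf 0x124180bd) (.leaf 0x80140d1)) (.node (.leaf 0x63980b1) (.leaf 0xc9f40b5))) (.node (.node (.leaf 0x9dc40bd) (.leaf 0xe73c0b1)) (.node (.leaf 0x1289c0b1) (.leaf 0xdc280b5)))) (.node (.node (.node (.leaf 0xabf80bd) (.leaf 0x134d80bf)) (.node (.leaf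 0xd6ac0b9) (.leaf 0xd6480b3))) (.node (.node (.leaf 0xc4400d3) (.leaf 0xddb80bf)) (.node (.leaf 0xc15c0bd) (.leaf 0x0)))))) (.node (.node (.node (.node (.node (.leaf 0xe4d40b9) (.leaf 0xda9c0b5)) (.node (.leaf 0xc5ac0d3) (.leaf 0xc16c0bf))) (.node (.node (.leaf 0xcce80bf) (.leaf 0x10fbc0d3)) (.node (.leaf 0xd9f80b9) (.leaf 0x87a80b9)))) (.node (.node (.node (.leaf 0xa1bc0b3) (.leaf 0xebb40d1)) (.node (.leaf 0xce480b9) (.leaf 0x69980bd))) (.node (.node (.leaf 0x910c0d3) (.leaf 0x12ed00b3)) (.node (.leaf 0x9dec0ad) (.leaf 0x0))))) (.node (.node (.node (.node (.leaf 0x83e00d1) (.leaf 0x136f00bd)) (.node (.leaf 0xc8f00bf) (.leaf 0x168b00bf))) (.node (.node (.leaf 0xf96c0d1) (.leaf 0xc6fc0bf)) (.node (.leaf 0x93200b5) (.leaf 0x0)))) (.node (.node (.node (.leaf 0x1383c0bd) (.leaf 0x8ac00b9)) (.node (.leaf 0xc1440d1) (.leaf 0xe1e40af))) (.node (.node (.leaf 0xdc280b1) (.leaf 0xc1880d3))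 (.node (.leaf 0xc5f00d1) (.leaf 0x0))))))))))

/-- packed table -/
noncomputable def cov3_lrl : BTree := (.node (.node (.node (.node (.node (.node (.node (.node (.node (.leaf 0x40400bf) (.leaf 0x9fe40b5)) (.node (.leaf 0xdc540b1) (.leaf 0xf06c0bd))) (.node (.node (.leaf 0xed680bd) (.leaf 0x90500d1)) (.node (.leaf 0xecfc0bd) (.leaf 0xe57c0bd)))) (.node (.node (.node (.leaf 0xea140d3) (.leaf 0xcae40d3)) (.node (.leaf 0x90500d3) (.leaf 0xca0c0b9))) (.node (.node (.leaf 0xc6d00bd) (.leaf 0xf0fc0b9)) (.node (.leaf 0x83940bf) (.leaf 0x0))))) (.node (.node (.node (.node (.leaf 0xa0180bd) (.leaf 0xc6f00d3)) (.node (.leaf 0x987c0bf) (.leaf 0xd3f80b1))) (.node (.node (.leaf 0x10ca00bd) (.leaf 0x104ac0bf)) (.node (.leaf 0xcacc0d3) (.leaf 0x14c140bd)))) (.node (.node (.node (.leaf 0xe0080d3) (.leaf 0x126740d1)) (.node (.leaf 0xe2340d1) (.leaf 0x10ddc0d3))) (.node (.node (.leaf 0xcad00bd)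 (.leaf 0xb3900d1)) (.node (.leaf 0xc03c0d3) (.leaf 0x0)))))) (.node (.node (.node (.node (.node (.leaf 0xc3280bd) (.leaf 0xfa540d3)) (.node (.leaf 0xf5200bd) (.leaf 0x10f600af))) (.node (.node (.leaf 0xa2c40d1) (.leaf 0x125080b3)) (.node (.leaf 0x138c00bd) (.leaf 0x117b40b1)))) (.node (.node (.node (.leaf 0xd41c0b5) (.leaf 0xc4300d3)) (.node (.leaf 0xdc680bf) (.leaf 0x987c0bd))) (.node (.node (.leaf 0x963c0d1) (.leaf 0x155000bf)) (.node (.leaf 0xcd300bd) (.leaf 0x0))))) (.node (.node (.node (.node (.leaf 0x138a00bf) (.leaf 0xc01c0d1)) (.node (.leaf 0xf06c0bf) (.leaf 0xc1f40d1))) (.node (.node (.leaf 0xd88c0b9) (.leaf 0x10a3c0bd)) (.node (.leaf 0xe6500b3) (.leaf 0xd6f80d1)))) (.node (.node (.node (.leaf 0xdb240b9) (.leaf 0xfb340d1)) (.node (.leaf 0x12b1c0d3) (.leaf 0xebe80d3))) (.node (.node (.leaf 0xebbc0af) (.leaf 0x1339c0d1)) (.node (.leaf 0xe6ec0af) (.leaf 0x0))))))) (.node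 (.node (.node (.node (.node (.node (.leaf 0xeb380bf) (.leaf 0xdcc40b1)) (.node (.leaf 0xeb5c0b9) (.leaf 0xb8540af))) (.node (.node (.leaf 0xc1740b9) (.leaf 0x891c0bf)) (.node (.leaf 0xcb140b9) (.leaf 0xf5200d1)))) (.node (.node (.node (.leaf 0xca700b5) (.leaf 0xefc40b1)) (.node (.leaf 0x104f00d1) (.leaf 0x9fe00bf))) (.node (.node (.leaf 0xe9480d1) (.leaf 0x9fe40bf)) (.node (.leaf 0xaf680bf) (.leaf 0x0))))) (.node (.node (.node (.node (.leaf 0xee440d1) (.leaf 0xf69c0b3)) (.node (.leaf 0xcdcc0af) (.leaf 0x11b200bd))) (.node (.node (.leaf 0xf4400d3) (.leaf 0xea780bd)) (.node (.leaf 0xb2500b3) (.leaf 0x90500af)))) (.node (.node (.node (.leaf 0xe1380b1) (.leaf 0xe8680d1)) (.node (.leaf 0xb5f00d3) (.leaf 0xfa2c0d1))) (.node (.node (.leaf 0x8e5c0bd) (.leaf 0xdb800d1)) (.node (.leaf 0xaa480b3) (.leaf 0x0)))))) (.node (.node (.node (.node (.node (.leaf 0x860c0bd) (.leaf 0xc6bc0d1))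 (.node (.leaf 0xe7d80ad) (.leaf 0xfb1c0b3))) (.node (.node (.leaf 0x895c0d1) (.leaf 0xe4b80d1)) (.node (.leaf 0x130d00b5) (.leaf 0x5ae40b1)))) (.node (.node (.node (.leaf 0xb3900d3) (.leaf 0x10fac0b9)) (.node (.leaf 0xd2040d1) (.leaf 0xd4c80d1))) (.node (.node (.leaf 0xb2680d1) (.leaf 0x69980ad)) (.node (.leaf 0x9d680b3) (.leaf 0x0))))) (.node (.node (.node (.node (.leaf 0x834c0b5) (.leaf 0xf8fc0d1)) (.node (.leaf 0xd1300b1) (.leaf 0xc5bc0b3))) (.node (.node (.leaf 0x80d80b3) (.leaf 0x136880bd)) (.node (.leaf 0xcdf00b3) (.leaf 0x0)))) (.node (.node (.node (.leaf 0xf8380d3) (.leaf 0xf6b00d3)) (.node (.leaf 0xcdd40d1) (.leaf 0x63980af))) (.node (.node (.leaf 0x8ac00d1) (.leaf 0xdaac0b3)) (.node (.leaf 0xf3c00d3) (.leaf 0x0)))))))) (.node (.node (.node (.node (.node (.node (.node (.leaf 0x80640b5) (.leaf 0xe18c0b1)) (.node (.leaf 0x125080bf) (.leaf 0xf3940d1))) (.node (.node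 (.leaf 0xec880b3) (.leaf 0xc1800d1)) (.node (.leaf 0x156ec0bd) (.leaf 0x119440d3)))) (.node (.node (.node (.leaf 0x114b80b5) (.leaf 0xdae00bd)) (.node (.leaf 0xd4e40d3) (.leaf 0xecfc0d3))) (.node (.node (.leaf 0x117e00d1) (.leaf 0xd2900b1)) (.node (.leaf 0x84340bd) (.leaf 0x0))))) (.node (.node (.node (.node (.leaf 0xf3c00b5) (.leaf 0x110300d1)) (.node (.leaf 0x85840bf) (.leaf 0xea0c0bd))) (.node (.node (.leaf 0xe5200d1) (.leaf 0x5ae40bd)) (.node (.leaf 0x121880ad) (.leaf 0xf3940af)))) (.node (.node (.node (.leaf 0xe18c0b3) (.leaf 0x95940b3)) (.node (.leaf 0x87180bd) (.leaf 0xd05c0ad))) (.node (.node (.leaf 0xb7480b5) (.leaf 0xc63c0bf)) (.node (.leaf 0xe1980bf) (.leaf 0x0)))))) (.node (.node (.node (.node (.node (.leaf 0xf5480af) (.leaf 0xc3300af)) (.node (.leaf 0x93580b3) (.leaf 0x138880d1))) (.node (.node (.leaf 0x92dc0bd) (.leaf 0x904c0ad)) (.node (.leaf 0x98e80bf) (.leaf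 0xf1340b9)))) (.node (.node (.node (.leaf 0xf0800b9) (.leaf 0x10e640d1)) (.node (.leaf 0xdd3c0d3) (.leaf 0x922c0d1))) (.node (.node (.leaf 0xe3800d1) (.leaf 0xeb140d1)) (.node (.leaf 0xa2d00bd) (.leaf 0x0))))) (.node (.node (.node (.node (.leaf 0xe0040b1) (.leaf 0xcae40b5)) (.node (.leaf 0x85980d1) (.leaf 0x107400bd))) (.node (.node (.leaf 0xce040bf) (.leaf 0xc0480bf)) (.node (.leaf 0x107280b9) (.leaf 0xdc640bd)))) (.node (.node (.node (.leaf 0xebbc0b9) (.leaf 0xb0e40bf)) (.node (.leaf 0xebe40d3) (.leaf 0x69980af))) (.node (.node (.leaf 0xae040b5) (.leaf 0x136880b5)) (.node (.leaf 0xf8380b1) (.leaf 0x0))))))) (.node (.node (.node (.node (.node (.node (.leaf 0xcb780b1) (.leaf 0xdb540af)) (.node (.leaf 0x11e100d1) (.leaf 0xcd080b3))) (.node (.node (.leaf 0xa2c40d3) (.leaf 0x121f80d3)) (.node (.leaf 0xe57c0ad) (.leaf 0xd0a80d1)))) (.node (.node (.node (.leaf 0xc4a00d1) (.leaf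 0x14c140bf)) (.node (.leaf 0x9c140b3) (.leaf 0x904c0bd))) (.node (.node (.leaf 0xec640b1) (.leaf 0x114fc0bf)) (.node (.leaf 0x110280d1) (.leaf 0x0))))) (.node (.node (.node (.node (.leaf 0xae040b3) (.leaf 0x404c0b9)) (.node (.leaf 0xc2f40bf) (.leaf 0xedd80d1))) (.node (.node (.leaf 0xaff80bd) (.leaf 0xa7100b1)) (.node (.leaf 0xabf80bf) (.leaf 0x16e500bd)))) (.node (.node (.node (.leaf 0xc3f00b3) (.leaf 0xb03c0b9)) (.node (.leaf 0x113040d1) (.leaf 0x130480b5))) (.node (.node (.leaf 0xe8a80bd) (.leaf 0x9c6c0bf)) (.node (.leaf 0xf7440bf) (.leaf 0x0)))))) (.node (.node (.node (.node (.node (.leaf 0x13a900b9) (.leaf 0xdfc00d1)) (.node (.leaf 0xb7a80b9) (.leaf 0xcd080bd))) (.node (.node (.leaf 0xf2dc0bf) (.leaf 0xcda80b9)) (.node (.leaf 0x127b00b5) (.leaf 0xf3c00bd)))) (.node (.node (.node (.leaf 0xecfc0ad) (.leaf 0xda4c0b9)) (.node (.leaf 0xe1a40bf) (.leaf 0x136300d3))) (.node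 (.node (.leaf 0xce000b9) (.leaf 0x11f2c0d3)) (.node (.leaf 0xc0540d1) (.leaf 0x0))))) (.node (.node (.node (.node (.leaf 0xc5e80b9) (.leaf 0xaf680ad)) (.node (.leaf 0xf7b80b5) (.leaf 0xee600b1))) (.node (.node (.leaf 0xf0fc0bf) (.leaf 0x120940bf)) (.node (.leaf 0x838c0ad) (.leaf 0x0)))) (.node (.node (.node (.leaf 0xf82c0bd) (.leaf 0xc8fc0bf)) (.node (.leaf 0xee080ad) (.leaf 0xe4e00b3))) (.node (.node (.leaf 0x80640bd) (.leaf 0xec2c0d3)) (.node (.leaf 0x83500b9) (.leaf 0x0))))))))) (.node (.node (.node (.node (.node (.node (.node (.node (.leaf 0x800c0ad) (.leaf 0xa1100b9)) (.node (.leaf 0xdc680b1) (.leaf 0xd3280bd))) (.node (.node (.leaf 0x1127c0bf) (.leaf 0xf75c0b9)) (.node (.leaf 0x116cc0bd) (.leaf 0x132ac0d3)))) (.node (.node (.node (.leaf 0xda8c0d3) (.leaf 0xee8c0b5)) (.node (.leaf 0xb3340d1) (.leaf 0x116080bd))) (.node (.node (.leaf 0x107340bf) (.leaf 0xeda40bf)) (.node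 (.leaf 0xb7480d1) (.leaf 0x0))))) (.node (.node (.node (.node (.leaf 0xa14c0bf) (.leaf 0xf33c0bf)) (.node (.leaf 0xd4040b5) (.leaf 0xccdc0bd))) (.node (.node (.leaf 0x138580d1) (.leaf 0xe0b40d1)) (.node (.leaf 0xcfc80d3) (.leaf 0x1312c0bf)))) (.node (.node (.node (.leaf 0x436c0bd) (.leaf 0x101640d1)) (.node (.leaf 0x108100bd) (.leaf 0xe4e00b9))) (.node (.node (.leaf 0xda9c0d3) (.leaf 0x12c980b5)) (.node (.leaf 0xdc880af) (.leaf 0x0)))))) (.node (.node (.node (.node (.node (.leaf 0xdbe40b5) (.leaf 0x437c0af)) (.node (.leaf 0x90ec0b1) (.leaf 0xf33c0bd))) (.node (.node (.leaf 0xd4) (.leaf 0x8c700d3)) (.node (.leaf 0xf2d40d1) (.leaf 0x1304c0bd)))) (.node (.node (.node (.leaf 0xe3200b9) (.leaf 0xdaac0d3)) (.node (.leaf 0x126c00bd) (.leaf 0xf3940b9))) (.node (.node (.leaf 0xf4900b3) (.leaf 0xe2100d1)) (.node (.leaf 0xcfc80af) (.leaf 0x0))))) (.node (.node (.node (.node (.leaf 0x83940af)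 (.leaf 0x109fc0bf)) (.node (.leaf 0x910c0b3) (.leaf 0xa2200b1))) (.node (.node (.leaf 0x118c80b3) (.leaf 0xe7040b3)) (.node (.leaf 0xe1ac0bf) (.leaf 0xc3440bf)))) (.node (.node (.node (.leaf 0xc2600bd) (.leaf 0x11e480b5)) (.node (.leaf 0x1357c0d3) (.leaf 0xb03c0b1))) (.node (.node (.leaf 0xd7580b3) (.leaf 0xd1480d3)) (.node (.leaf 0x155240bd) (.leaf 0x0))))))) (.node (.node (.node (.node (.node (.node (.leaf 0x89600bd) (.leaf 0x11b200bf)) (.node (.leaf 0xa81c0bd) (.leaf 0xc6400bd))) (.node (.node (.leaf 0xf4400af) (.leaf 0xad880ad)) (.node (.leaf 0x102740bd) (.leaf 0x11b780d3)))) (.node (.node (.node (.leaf 0x10b540d1) (.leaf 0xe8680d3)) (.node (.leaf 0x9c140bd) (.leaf 0x13a400bf))) (.node (.node (.leaf 0xcc580b5) (.leaf 0x102f80d3)) (.node (.leaf 0xc3ac0b1) (.leaf 0x0))))) (.node (.node (.node (.node (.leaf 0xee080b3) (.leaf 0xdd400bd)) (.node (.leaf 0xf5200bf) (.leaf 0xc1740bd)))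 (.node (.node (.leaf 0xc2c80d3) (.leaf 0xda880bf)) (.node (.leaf 0xaf680b1) (.leaf 0x106680bd)))) (.node (.node (.node (.leaf 0x83e00b3) (.leaf 0x16e500bf)) (.node (.leaf 0xdb800b3) (.leaf 0x122600b1))) (.node (.node (.leaf 0xe3c80b1) (.leaf 0x107280bd)) (.node (.leaf 0x84340d1) (.leaf 0x0)))))) (.node (.node (.node (.node (.node (.leaf 0x1624c0ad) (.leaf 0xe1680af)) (.node (.leaf 0xe8340d3) (.leaf 0xfb200b3))) (.node (.node (.leaf 0x134500af) (.leaf 0xc4300b1)) (.node (.leaf 0xef940d1) (.leaf 0xcc580d1)))) (.node (.node (.node (.leaf 0x116940bd) (.leaf 0xda4c0b3)) (.node (.leaf 0x8ac00d3) (.leaf 0x10a3c0b3))) (.node (.node (.leaf 0xa4600d3) (.leaf 0x82dc0d3)) (.node (.leaf 0x9d680d3) (.leaf 0x0))))) (.node (.node (.node (.node (.leaf 0xe18c0b5) (.leaf 0x108580bf)) (.node (.leaf 0xd2480d3) (.leaf 0x9f6c0b3))) (.node (.node (.leaf 0x100e80b3) (.leaf 0xca9c0bf)) (.node (.leaf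 0xf3600b9) (.leaf 0x0)))) (.node (.node (.node (.leaf 0x69980d3) (.leaf 0xea100bf)) (.node (.leaf 0x49b40b3) (.leaf 0x5ae40b3))) (.node (.node (.leaf 0x135b00bf) (.leaf 0x112680af)) (.node (.leaf 0xda7c0d1) (.leaf 0x0)))))))) (.node (.node (.node (.node (.node (.node (.node (.leaf 0x80440b5) (.leaf 0xcbfc0d1)) (.node (.leaf 0x1206c0bd) (.leaf 0xf73c0b9))) (.node (.node (.leaf 0xdca40bf) (.leaf 0xa1bc0bd)) (.node (.leaf 0x134f80bf) (.leaf 0xe1240bf)))) (.node (.node (.node (.leaf 0x118c80d1) (.leaf 0x109b80b3)) (.node (.leaf 0xdd340bd) (.leaf 0x9f980bd))) (.node (.node (.leaf 0x11b840bf) (.leaf 0x120fc0b1)) (.node (.leaf 0x94800ad) (.leaf 0x0))))) (.node (.node (.node (.node (.leaf 0xf7e40b3) (.leaf 0xe1e40d1)) (.node (.leaf 0xca700bf) (.leaf 0x5ae40b9))) (.node (.node (.leaf 0x132b00af) (.leaf 0xdabc0b5)) (.node (.leaf 0xcf980bf) (.leaf 0xc8900b3)))) (.node (.node (.node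 (.leaf 0xe18c0d1) (.leaf 0x126b40bf)) (.node (.leaf 0x93580bf) (.leaf 0x85980b1))) (.node (.node (.leaf 0xebe40b1) (.leaf 0xeed40ad)) (.node (.leaf 0xe7d80d1) (.leaf 0x0)))))) (.node (.node (.node (.node (.node (.leaf 0x10dec0bd) (.leaf 0x83940d1)) (.node (.leaf 0xf82c0b5) (.leaf 0xf1340b5))) (.node (.node (.leaf 0x892c0b1) (.leaf 0x123580b3)) (.node (.leaf 0xdbe40af) (.leaf 0xcd080d1)))) (.node (.node (.node (.leaf 0x138300ad) (.leaf 0xc4180b3)) (.node (.leaf 0x116840d3) (.leaf 0xd82c0b9))) (.node (.node (.leaf 0x115900b1) (.leaf 0x9c6c0d3)) (.node (.leaf 0x49940ad) (.leaf 0x0))))) (.node (.node (.node (.node (.leaf 0xdfac0d1) (.leaf 0x120)) (.node (.leaf 0xd6400bf) (.leaf 0x138f00bd))) (.node (.node (.leaf 0xd88c0b1) (.leaf 0xf6200b3)) (.node (.leaf 0x121200bf) (.leaf 0x0)))) (.node (.node (.node (.leaf 0xee8c0bf) (.leaf 0x10f2c0b5)) (.node (.leaf 0x114fc0bd) (.leaf 0x117840bd)))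 (.node (.node (.leaf 0xec400d1) (.leaf 0x63980ad)) (.node (.leaf 0x109d00d3) (.leaf 0x0))))))) (.node (.node (.node (.node (.node (.node (.leaf 0xe3840d1) (.leaf 0xed5c0bd)) (.node (.leaf 0xca9c0d1) (.leaf 0xcda80bf))) (.node (.node (.leaf 0xddf40b1) (.leaf 0x11a700d1)) (.node (.leaf 0x5ae40b5) (.leaf 0xcce80bd)))) (.node (.node (.node (.leaf 0xc1bc0ad) (.leaf 0xdb600af)) (.node (.leaf 0xdc680b3) (.leaf 0xe0bc0b9))) (.node (.node (.leaf 0x87180d3) (.leaf 0xf92c0d3)) (.node (.leaf 0x16db80bd) (.leaf 0x0))))) (.node (.node (.node (.node (.leaf 0xdc480bd) (.leaf 0x40740ad)) (.node (.leaf 0xcaf00af) (.leaf 0x107340bd))) (.node (.node (.leaf 0xb3800bf) (.leaf 0xebd00af)) (.node (.leaf 0x100e40bd) (.leaf 0xdb6c0bd)))) (.node (.node (.node (.leaf 0xa32c0af) (.leaf 0xa32c0d1)) (.node (.leaf 0xdf8c0bd) (.leaf 0x126800b1))) (.node (.node (.leaf 0xc6400b1) (.leaf 0xc3f00bd)) (.node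 (.leaf 0xde640b5) (.leaf 0x0)))))) (.node (.node (.node (.node (.node (.leaf 0x164f80d1) (.leaf 0xcad00bf)) (.node (.leaf 0xd3980d3) (.leaf 0x1386c0d1))) (.node (.node (.leaf 0xdcc00b1) (.leaf 0xc42c0d3)) (.node (.leaf 0xd2800ad) (.leaf 0x1749c0bf)))) (.node (.node (.node (.leaf 0x86900b5) (.leaf 0xe58c0b5)) (.node (.leaf 0xdde40bd) (.leaf 0xd74c0d1))) (.node (.node (.leaf 0xf96c0bd) (.leaf 0xe1e40bf)) (.node (.leaf 0xc0480d3) (.leaf 0x0))))) (.node (.node (.node (.node (.leaf 0x9fbc0b3) (.leaf 0xd1140bf)) (.node (.leaf 0xede00b9) (.leaf 0xc7300bd))) (.node (.node (.leaf 0x124080b9) (.leaf 0x8e5c0b3)) (.node (.leaf 0xd4bc0d3) (.leaf 0x0)))) (.node (.node (.node (.leaf 0x114ac0bd) (.leaf 0xf7e40bd)) (.node (.leaf 0xfa7c0d1) (.leaf 0x13a480bf))) (.node (.node (.leaf 0xe03c0bf) (.leaf 0xf8380b9)) (.node (.leaf 0xe0040b5) (.leaf 0x0))))))))))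

/-- packed table -/
noncomputable def cov3_lrr : BTree := (.node (.node (.node (.node (.node (.node (.node (.node (.node (.leaf 0x83100bd) (.leaf 0x437c0b3)) (.node (.leaf 0xb7a80bd) (.leaf 0xd1300b5))) (.node (.node (.leaf 0x9fe40bd) (.leaf 0xdb800bd)) (.node (.leaf 0xc6bc0ad) (.leaf 0xf95c0af)))) (.node (.node (.node (.leaf 0x80d80ad) (.leaf 0xf0800d1)) (.node (.leaf 0xd4040bf) (.leaf 0x10b300af))) (.node (.node (.leaf 0xc1800bf) (.leaf 0x115900bd)) (.node (.leaf 0xcfcc0b3) (.leaf 0x0))))) (.node (.node (.node (.node (.leaf 0x895c0bd) (.leaf 0xf82c0b1)) (.node (.leaf 0x63980bf) (.leaf 0x82dc0b5))) (.node (.node (.leaf 0xd94c0b1) (.leaf 0x8c700d1)) (.node (.leaf 0xc4380d3) (.leaf 0x10bc80d3)))) (.node (.node (.node (.leaf 0xc5f00d3) (.leaf 0xdaa80d3)) (.node (.leaf 0x1297c0bd) (.leaf 0x92b00d1))) (.node (.node (.leaf 0xdb500b1) (.leaf 0xd77c0bd)) (.node (.leaf 0x121940bf)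 (.leaf 0x0)))))) (.node (.node (.node (.node (.node (.leaf 0x10a580bf) (.leaf 0x83400b5)) (.node (.leaf 0xd8b80af) (.leaf 0x10ca00bf))) (.node (.node (.leaf 0xa2e40d1) (.leaf 0x11e380bd)) (.node (.leaf 0xf9380b1) (.leaf 0x135880bf)))) (.node (.node (.node (.leaf 0xf7cc0b1) (.leaf 0xe7040d1)) (.node (.leaf 0xe6940d1) (.leaf 0xc5880b3))) (.node (.node (.leaf 0xc3ac0b5) (.leaf 0x910c0bd)) (.node (.leaf 0xa2e80bd) (.leaf 0x0))))) (.node (.node (.node (.node (.leaf 0x9f980b9) (.leaf 0xda100bd)) (.node (.leaf 0xd0180bd) (.leaf 0xb4580ad))) (.node (.node (.leaf 0xc4540bd) (.leaf 0xdb6c0af)) (.node (.leaf 0x137100d1) (.leaf 0xc3440bd)))) (.node (.node (.node (.leaf 0x63680b5) (.leaf 0x122680b5)) (.node (.leaf 0xe57c0d1) (.leaf 0xce000b5))) (.node (.node (.leaf 0x95940b5) (.leaf 0xe8740b9)) (.node (.leaf 0xf16c0b9) (.leaf 0x0))))))) (.node (.node (.node (.node (.node (.node (.leaf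 0x90ec0bd) (.leaf 0xe8a80d3)) (.node (.leaf 0xed240b9) (.leaf 0x105940b9))) (.node (.node (.leaf 0x106d80b5) (.leaf 0xfacc0d3)) (.node (.leaf 0xe57c0af) (.leaf 0xdb540d3)))) (.node (.node (.node (.leaf 0xd4dc0b3) (.leaf 0x1749c0bd)) (.node (.leaf 0x129c80bd) (.leaf 0xf7640bf))) (.node (.node (.leaf 0x49940bf) (.leaf 0xfa300d1)) (.node (.leaf 0xe57c0b3) (.leaf 0x0))))) (.node (.node (.node (.node (.leaf 0xb9880d1) (.leaf 0xdd200bd)) (.node (.leaf 0xf6180bd) (.leaf 0xe8080bd))) (.node (.node (.leaf 0xe0b40bf) (.leaf 0xea700bd)) (.node (.leaf 0xf96c0b9) (.leaf 0xcfd00d3)))) (.node (.node (.node (.leaf 0xc5f00b5) (.leaf 0x116840bd)) (.node (.leaf 0xdb600b3) (.leaf 0xf81c0d3))) (.node (.node (.leaf 0x92f00b5) (.leaf 0xf6b00b1)) (.node (.leaf 0xcae80af) (.leaf 0x0)))))) (.node (.node (.node (.node (.node (.leaf 0xfa7c0b9) (.leaf 0x86900d1)) (.node (.leaf 0xd2540b9) (.leaf 0xf82c0bf)))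 (.node (.node (.leaf 0x9d640b5) (.leaf 0x40c)) (.node (.leaf 0xd3280d3) (.leaf 0xe8040b1)))) (.node (.node (.node (.leaf 0x63980d1) (.leaf 0x1127c0b5)) (.node (.leaf 0x10fc00d1) (.leaf 0xfb1c0d3))) (.node (.node (.leaf 0x127380bd) (.leaf 0x135c40b9)) (.node (.leaf 0x9d500b1) (.leaf 0x0))))) (.node (.node (.node (.node (.leaf 0xa10c0bf) (.leaf 0x1984)) (.node (.leaf 0x83500bd) (.leaf 0x1208c0d1))) (.node (.node (.leaf 0x85840d3) (.leaf 0x12f540bd)) (.node (.leaf 0xd02c0ad) (.leaf 0x0)))) (.node (.node (.node (.leaf 0xcef40b9) (.leaf 0xe3200b1)) (.node (.leaf 0xed780bf) (.leaf 0x132840af))) (.node (.node (.leaf 0xad880b5) (.leaf 0x92b00bf)) (.node (.leaf 0x437c0d3) (.leaf 0x0)))))))) (.node (.node (.node (.node (.node (.node (.node (.leaf 0xa2c40b1) (.leaf 0x107a40bf)) (.node (.leaf 0x1070c0d1) (.leaf 0xdc640d3))) (.node (.node (.leaf 0xc5bc0ad) (.leaf 0x891c0bd)) (.node (.leaf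 0xd2040bd) (.leaf 0xfb1c0b9)))) (.node (.node (.node (.leaf 0xe6cc0bd) (.leaf 0x11b940ad)) (.node (.leaf 0xc2980d1) (.leaf 0x774c0bf))) (.node (.node (.leaf 0x98000d1) (.leaf 0xee080b5)) (.node (.leaf 0xfb340bf) (.leaf 0x0))))) (.node (.node (.node (.node (.leaf 0x1139c0bd) (.leaf 0xf3280b9)) (.node (.leaf 0xdb700d3) (.leaf 0x126200ad))) (.node (.node (.leaf 0xdbe40ad) (.leaf 0x13a000bd)) (.node (.leaf 0x11e600d3) (.leaf 0x963c0b3)))) (.node (.node (.node (.leaf 0x43c40b1) (.leaf 0xe6cc0bf)) (.node (.leaf 0xf95c0bd) (.leaf 0x86900bf))) (.node (.node (.leaf 0x10e8c0bf) (.leaf 0x10fbc0bd)) (.node (.leaf 0x92180b3) (.leaf 0x0)))))) (.node (.node (.node (.node (.node (.leaf 0xe7040b1) (.leaf 0x138580bf)) (.node (.leaf 0xdd540bd) (.leaf 0xc7780bd))) (.node (.node (.leaf 0x9d7c0ad) (.leaf 0xce000bd)) (.node (.leaf 0x100e80b9) (.leaf 0xd4040b1)))) (.node (.node (.node (.leaf 0x11ba80bd)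 (.leaf 0xdbf00d3)) (.node (.leaf 0x85980b5) (.leaf 0x12a400bd))) (.node (.node (.leaf 0x11e980d1) (.leaf 0xed380b9)) (.node (.leaf 0x9d8c0b1) (.leaf 0x0))))) (.node (.node (.node (.node (.leaf 0xdfa40d1) (.leaf 0xcfec0af)) (.node (.leaf 0x5ae40af) (.leaf 0xf8e40bf))) (.node (.node (.leaf 0xc42c0ad) (.leaf 0x404c0bf)) (.node (.leaf 0xee740d3) (.leaf 0x0)))) (.node (.node (.node (.leaf 0xc78c0bd) (.leaf 0xea140b5)) (.node (.leaf 0xa4600d1) (.leaf 0xe2540d1))) (.node (.node (.leaf 0xf61c0ad) (.leaf 0x11c980bd)) (.node (.leaf 0xce880ad) (.leaf 0x0))))))) (.node (.node (.node (.node (.node (.node (.leaf 0x5ae40bf) (.leaf 0x10cac0bd)) (.node (.leaf 0xce480d1) (.leaf 0xd1480b5))) (.node (.node (.leaf 0xa2e80d3) (.leaf 0x10c180d1)) (.node (.leaf 0x10b2c0b1) (.leaf 0xd77c0b1)))) (.node (.node (.node (.leaf 0xa2200bf) (.leaf 0xe3200d1)) (.node (.leaf 0xf16c0d3) (.leaf 0xe86c0d3)))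 (.node (.node (.leaf 0xd6480d1) (.leaf 0x155680bd)) (.node (.leaf 0x93200d3) (.leaf 0x0))))) (.node (.node (.node (.node (.leaf 0xefc40d1) (.leaf 0x80640ad)) (.node (.leaf 0x11a700af) (.leaf 0x8c700af))) (.node (.node (.leaf 0xe7040b5) (.leaf 0xf7b80d1)) (.node (.leaf 0xf25c0b9) (.leaf 0x11a240bd)))) (.node (.node (.node (.leaf 0xce000b1) (.leaf 0x11a240bf)) (.node (.leaf 0xc7300d1) (.leaf 0xd99c0bf))) (.node (.node (.leaf 0xda2c0bf) (.leaf 0xc3b00bf)) (.node (.leaf 0x107700d1) (.leaf 0x0)))))) (.node (.node (.node (.node (.node (.leaf 0xc4dc0af) (.leaf 0x1377c0bd)) (.node (.leaf 0xcad00b9) (.leaf 0x107480bd))) (.node (.node (.leaf 0xeae00b1) (.leaf 0x11bbc0d1)) (.node (.leaf 0x80000d1) (.leaf 0x1208c0b9)))) (.node (.node (.node (.leaf 0xf26c0bf) (.leaf 0x119040d1)) (.node (.leaf 0xee080af) (.leaf 0xe8040bf))) (.node (.node (.leaf 0x106a40bd) (.leaf 0xaff80b5)) (.node (.leaf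 0x40740d1) (.leaf 0x0))))) (.node (.node (.node (.node (.leaf 0x86900b1) (.leaf 0xf9900bf)) (.node (.leaf 0xc88c0b1) (.leaf 0x14e380bf))) (.node (.node (.leaf 0xc6200bd) (.leaf 0xe5600d3)) (.node (.leaf 0xc2600bf) (.leaf 0x0)))) (.node (.node (.node (.leaf 0xebbc0bf) (.leaf 0xb3900bf)) (.node (.leaf 0xddf80bd) (.leaf 0xc4dc0d1))) (.node (.node (.leaf 0xd01c0b9) (.leaf 0xdc680d1)) (.node (.leaf 0xc3700d1) (.leaf 0x0))))))))) (.node (.node (.node (.node (.node (.node (.node (.node (.leaf 0x49280bd) (.leaf 0xe0040d1)) (.node (.leaf 0x118e00d3) (.leaf 0xd1000b5))) (.node (.node (.leaf 0xf0780b5) (.leaf 0xdabc0b9)) (.node (.leaf 0x119540af) (.leaf 0xb9740b1)))) (.node (.node (.node (.leaf 0x80700bd) (.leaf 0xcb980b9)) (.node (.leaf 0xc8800b9) (.leaf 0xd29c0bf))) (.node (.node (.leaf 0xc35c0bd) (.leaf 0xc1500b9)) (.node (.leaf 0xefe40d3) (.leaf 0x0))))) (.node (.node (.node (.node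 (.leaf 0xc1940d1) (.leaf 0xc7380d1)) (.node (.leaf 0x118e00d1) (.leaf 0xea100bd))) (.node (.node (.leaf 0x130540bf) (.leaf 0x904c0af)) (.node (.leaf 0xcacc0d1) (.leaf 0xc1800b5)))) (.node (.node (.node (.leaf 0xe03c0d1) (.leaf 0x164000bd)) (.node (.leaf 0x139600bd) (.leaf 0xc54c0af))) (.node (.node (.leaf 0x130d00d1) (.leaf 0xe99c0bd)) (.node (.leaf 0xd2f40d1) (.leaf 0x0)))))) (.node (.node (.node (.node (.node (.leaf 0xcdfc0bf) (.leaf 0xa1280d1)) (.node (.leaf 0xf8e40d1) (.leaf 0xebe40bd))) (.node (.node (.leaf 0xdda80b5) (.leaf 0x132b00b1)) (.node (.leaf 0xf8380d1) (.leaf 0x879c0d3)))) (.node (.node (.node (.leaf 0xde340bf) (.leaf 0x11e5c0bf)) (.node (.leaf 0xe99c0b9) (.leaf 0x8d200bd))) (.node (.node (.leaf 0x10bc80d1) (.leaf 0xb5f00b1)) (.node (.leaf 0xe2c00bd) (.leaf 0x0))))) (.node (.node (.node (.node (.leaf 0xfb1c0bd) (.leaf 0xdb700af)) (.node (.leaf 0x910c0b9) (.leaf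 0xc1740d1))) (.node (.node (.leaf 0xd8b40b9) (.leaf 0x92100af)) (.node (.leaf 0xdbf00bd) (.leaf 0xdc540bd)))) (.node (.node (.node (.leaf 0x9b340b9) (.leaf 0xcae80d3)) (.node (.leaf 0x10f680bf) (.leaf 0xdea80bd))) (.node (.node (.leaf 0x10fbc0d1) (.leaf 0xf7e40bf)) (.node (.leaf 0xd82c0b1) (.leaf 0x0))))))) (.node (.node (.node (.node (.node (.node (.leaf 0xa7100b3) (.leaf 0xcdfc0ad)) (.node (.leaf 0xf2180bd) (.leaf 0xea0c0b1))) (.node (.node (.leaf 0xa2d00d3) (.leaf 0xc7780b1)) (.node (.leaf 0x9dec0bd) (.leaf 0xc5bc0b5)))) (.node (.node (.node (.leaf 0x12d300d3) (.leaf 0x97a80d1)) (.node (.leaf 0xc6bc0bf) (.leaf 0xe4440bf))) (.node (.node (.leaf 0x9fbc0bd) (.leaf 0x111080bd)) (.node (.leaf 0x84340d3) (.leaf 0x0))))) (.node (.node (.node (.node (.leaf 0xea100b3) (.leaf 0xdd140bd)) (.node (.leaf 0xa2d00bf) (.leaf 0xf7640d1))) (.node (.node (.leaf 0xd31c0ad) (.leaf 0xda9c0bf))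 (.node (.leaf 0x805c0b1) (.leaf 0xeae00b5)))) (.node (.node (.node (.leaf 0xa1bc0b9) (.leaf 0xb03c0b3)) (.node (.leaf 0xd4640bf) (.leaf 0x104fc0bd))) (.node (.node (.leaf 0xda500b9) (.leaf 0x97a80bf)) (.node (.leaf 0xb7480bf) (.leaf 0x0)))))) (.node (.node (.node (.node (.node (.leaf 0x83e00bf) (.leaf 0x83cc0b5)) (.node (.leaf 0x142000bd) (.leaf 0x10b2c0ad))) (.node (.node (.leaf 0xdac80d1) (.leaf 0xd1c80d1)) (.node (.leaf 0xa32c0b9) (.leaf 0xc5bc0b9)))) (.node (.node (.node (.leaf 0x114500b1) (.leaf 0x8c980ad)) (.node (.leaf 0xae040af) (.leaf 0xeda80b9))) (.node (.node (.leaf 0x97240af) (.leaf 0x11f2c0d1)) (.node (.leaf 0x80700d1) (.leaf 0x0))))) (.node (.node (.node (.node (.leaf 0xeed40bd) (.leaf 0xf0780d1)) (.node (.leaf 0xc8f00bd) (.leaf 0xf7cc0bd))) (.node (.node (.leaf 0xea780bf) (.leaf 0x10fac0b3)) (.node (.leaf 0xe9c40ad) (.leaf 0x0)))) (.node (.node (.node (.leaf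 0x12de80b5) (.leaf 0xe2340bf)) (.node (.leaf 0xdacc0b1) (.leaf 0xb2500b1))) (.node (.node (.leaf 0xed780b5) (.leaf 0xdbe40b3)) (.node (.leaf 0xc3440b9) (.leaf 0x0)))))))) (.node (.node (.node (.node (.node (.node (.node (.leaf 0xe2ac0ad) (.leaf 0xe0bc0bd)) (.node (.leaf 0xf4c80ad) (.leaf 0x93580d1))) (.node (.node (.leaf 0xf0ac0b5) (.leaf 0x124180d1)) (.node (.leaf 0x8d200bf) (.leaf 0xc2080d3)))) (.node (.node (.node (.leaf 0xa8640d1) (.leaf 0xd3d00d3)) (.node (.leaf 0xd6480b1) (.leaf 0xa81c0bf))) (.node (.node (.leaf 0xcd080b5) (.leaf 0xcf1c0af)) (.node (.leaf 0xcca40b1) (.leaf 0x0))))) (.node (.node (.node (.node (.leaf 0xc2080d1) (.leaf 0xf96c0bf)) (.node (.leaf 0x127b00d3) (.leaf 0xf4c80b9))) (.node (.node (.leaf 0x102780bd) (.leaf 0xabf80b9)) (.node (.leaf 0xe9c40bd) (.leaf 0xb2ec0af)))) (.node (.node (.node (.leaf 0xa10c0b1) (.leaf 0x8e5c0b9)) (.node (.leaf 0x126900bf)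 (.leaf 0xe8340ad))) (.node (.node (.leaf 0x12b740bf) (.leaf 0xf7b80b9)) (.node (.leaf 0x130340bf) (.leaf 0x0)))))) (.node (.node (.node (.node (.node (.leaf 0x987c0b5) (.leaf 0x83940b5)) (.node (.leaf 0x10c1c0b9) (.leaf 0x137f00bd))) (.node (.node (.leaf 0x8ac00bd) (.leaf 0xd7580bf)) (.node (.leaf 0x121300bf) (.leaf 0xdac80b1)))) (.node (.node (.node (.leaf 0x1347c0bf) (.leaf 0x135b00bd)) (.node (.leaf 0x11ccc0d1) (.leaf 0xcfec0d3))) (.node (.node (.leaf 0x129c00b3) (.leaf 0x9b340d3)) (.node (.leaf 0x9d7c0d1) (.leaf 0x0))))) (.node (.node (.node (.node (.leaf 0xdfd40b9) (.leaf 0xd0640af)) (.node (.leaf 0x117840bf) (.leaf 0xc88c0b3))) (.node (.node (.leaf 0x87180bf) (.leaf 0xd1700bd)) (.node (.leaf 0xf0fc0b5) (.leaf 0x0)))) (.node (.node (.node (.leaf 0x879c0bd) (.leaf 0xaa480b9)) (.node (.leaf 0xebfc0b1) (.leaf 0x122380bf))) (.node (.node (.leaf 0x117480bd) (.leaf 0x131300d3))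 (.node (.leaf 0xdac80b3) (.leaf 0x0))))))) (.node (.node (.node (.node (.node (.node (.leaf 0xda800bf) (.leaf 0x12adc0af)) (.node (.leaf 0xd3280b9) (.leaf 0xd1140b5))) (.node (.node (.leaf 0xe2e00d1) (.leaf 0x11e980d3)) (.node (.leaf 0xf7240bf) (.leaf 0xb7480b3)))) (.node (.node (.node (.leaf 0xa1280bd) (.leaf 0x127e00b5)) (.node (.leaf 0xd4c80b9) (.leaf 0xf9000d1))) (.node (.node (.leaf 0xcb780d1) (.leaf 0xe0300bd)) (.node (.leaf 0xe3c80bd) (.leaf 0x0))))) (.node (.node (.node (.node (.leaf 0xee740bf) (.leaf 0xc0100d3)) (.node (.leaf 0x132900bf) (.leaf 0x106a00bf))) (.node (.node (.leaf 0x138880bd) (.leaf 0x126300b5)) (.node (.leaf 0xeda80bf) (.leaf 0x11b940b1)))) (.node (.node (.node (.leaf 0xc1780d3) (.leaf 0x124a80bf)) (.node (.leaf 0x9b340b3) (.leaf 0x63680b3))) (.node (.node (.leaf 0xb35c0b3) (.leaf 0xe3c80d3)) (.node (.leaf 0xc1440bd) (.leaf 0x0)))))) (.node (.node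 (.node (.node (.node (.leaf 0x1208c0b1) (.leaf 0xfa700bd)) (.node (.leaf 0xdcb80b3) (.leaf 0x104f00bf))) (.node (.node (.leaf 0xda4c0bf) (.leaf 0xe8800b5)) (.node (.leaf 0x92100d3) (.leaf 0x879c0b9)))) (.node (.node (.node (.leaf 0xa0180d3) (.leaf 0x127380b5)) (.node (.leaf 0xe73c0bd) (.leaf 0xee8c0b3))) (.node (.node (.leaf 0xc0480bd) (.leaf 0x12d740bf)) (.node (.leaf 0x80640d3) (.leaf 0x0))))) (.node (.node (.node (.node (.leaf 0x860c0b9) (.leaf 0xeec40b5)) (.node (.leaf 0x8e700d3) (.leaf 0x1289c0bf))) (.node (.node (.leaf 0xe4b80bd) (.leaf 0x63680b1)) (.node (.leaf 0x10f280bd) (.leaf 0x0)))) (.node (.node (.node (.leaf 0xd5a00b1) (.leaf 0xc9080bd)) (.node (.leaf 0x138700b9) (.leaf 0xf2940af))) (.node (.node (.leaf 0x127b00d1) (.leaf 0x751c0d1)) (.node (.leaf 0x43640b3) (.leaf 0x0))))))))))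

/-- packed table -/
noncomputable def cov3_rll : BTree := (.node (.node (.node (.node (.node (.node (.node (.node (.node (.leaf 0xd8) (.leaf 0xa1bc0b1)) (.node (.leaf 0x805c0bd) (.leaf 0x963c0b9))) (.node (.node (.leaf 0x10c640bf) (.leaf 0xa4100af)) (.node (.leaf 0xfa780d1) (.leaf 0x14da40bf)))) (.node (.node (.node (.leaf 0xeb340d3) (.leaf 0x8e800af)) (.node (.leaf 0xa4100ad) (.leaf 0x1288c0bf))) (.node (.node (.leaf 0x131ac0d1) (.leaf 0x922c0d3)) (.node (.leaf 0x103580bf) (.leaf 0x0))))) (.node (.node (.node (.node (.leaf 0xa2200d1) (.leaf 0xca300b1)) (.node (.leaf 0xb9880b1) (.leaf 0x101300bf))) (.node (.node (.leaf 0x119a00bd) (.leaf 0xa6400b5)) (.node (.leaf 0xd2ec0d3) (.leaf 0x125a80bf)))) (.node (.node (.node (.leaf 0xc6400d1) (.leaf 0x129bc0bf)) (.node (.leaf 0x82dc0af) (.leaf 0x117f40bd))) (.node (.node (.leaf 0xaa480af) (.leaf 0x63980d3)) (.node (.leaf 0x80440d3)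 (.leaf 0x0)))))) (.node (.node (.node (.node (.node (.leaf 0xe75c0b3) (.leaf 0xc1f40b5)) (.node (.leaf 0xcbfc0bd) (.leaf 0xe3c80b5))) (.node (.node (.leaf 0x891c0af) (.leaf 0xcf800b1)) (.node (.leaf 0xf2dc0d1) (.leaf 0x11f040d3)))) (.node (.node (.node (.leaf 0xc9f40b1) (.leaf 0x128c00bd)) (.node (.leaf 0xdc540b3) (.leaf 0x10cd80bd))) (.node (.node (.leaf 0x130e80b1) (.leaf 0xd3380bd)) (.node (.leaf 0xca300bf) (.leaf 0x0))))) (.node (.node (.node (.node (.leaf 0xcb640d1) (.leaf 0xc01c0d3)) (.node (.leaf 0xe3840b3) (.leaf 0xf7cc0b5))) (.node (.node (.leaf 0xc88c0bd) (.leaf 0xeec80d1)) (.node (.leaf 0x11a5c0ad) (.leaf 0xdf0c0bd)))) (.node (.node (.node (.leaf 0x118980d1) (.leaf 0x822c0bf)) (.node (.leaf 0xb0e40d3) (.leaf 0xda9c0bd))) (.node (.node (.leaf 0xeb100bf) (.leaf 0x117b40ad)) (.node (.leaf 0xf3dc0ad) (.leaf 0x0))))))) (.node (.node (.node (.node (.node (.node (.leaf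 0xc9080d1) (.leaf 0xe79c0bd)) (.node (.leaf 0xc35c0bf) (.leaf 0x12e880bf))) (.node (.node (.leaf 0xf8600d1) (.leaf 0x151a00ad)) (.node (.leaf 0xc1500bd) (.leaf 0x1180c0b9)))) (.node (.node (.node (.leaf 0xe1980bd) (.leaf 0x138080af)) (.node (.leaf 0xcdfc0d1) (.leaf 0x963c0b5))) (.node (.node (.leaf 0x106a00bd) (.leaf 0xe8880af)) (.node (.leaf 0xeea00d3) (.leaf 0x0))))) (.node (.node (.node (.node (.leaf 0x135280bf) (.leaf 0xc1740b5)) (.node (.leaf 0xdc280bd) (.leaf 0xf7440bd))) (.node (.node (.leaf 0xb4580b1) (.leaf 0xc5740b3)) (.node (.leaf 0xde640d1) (.leaf 0xf98c0d1)))) (.node (.node (.node (.leaf 0xc6400b5) (.leaf 0xe3200d3)) (.node (.leaf 0xc4c40bd) (.leaf 0x8f8c0b5))) (.node (.node (.leaf 0xd3d00d1) (.leaf 0x119680d3)) (.node (.leaf 0x10a600d3) (.leaf 0x0)))))) (.node (.node (.node (.node (.node (.leaf 0xfa700b9) (.leaf 0x1068c0b9)) (.node (.leaf 0x124800bf) (.leaf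 0x124a00d1))) (.node (.node (.leaf 0xc97c0b9) (.leaf 0xdc880b3)) (.node (.leaf 0x92180b1) (.leaf 0xdaa80b9)))) (.node (.node (.node (.leaf 0x49b40b5) (.leaf 0xc4300b3)) (.node (.leaf 0xe7300ad) (.leaf 0x139b80bd))) (.node (.node (.leaf 0xae040ad) (.leaf 0xc2600d3)) (.node (.leaf 0x9d640b3) (.leaf 0x0))))) (.node (.node (.node (.node (.leaf 0xda7c0af) (.leaf 0x879c0bf)) (.node (.leaf 0xd4dc0bd) (.leaf 0xc9f40d1))) (.node (.node (.leaf 0xea140af) (.leaf 0xf8fc0b1)) (.node (.leaf 0xd3280d1) (.leaf 0x0)))) (.node (.node (.node (.leaf 0xca0c0ad) (.leaf 0x124800bd)) (.node (.leaf 0xc4c40d1) (.leaf 0xc42c0bd))) (.node (.node (.leaf 0xd7340bd) (.leaf 0x119dc0bf)) (.node (.leaf 0x774c0b3) (.leaf 0x0)))))))) (.node (.node (.node (.node (.node (.node (.node (.leaf 0x62d40b1) (.leaf 0x9fbc0af)) (.node (.leaf 0xd4040d1) (.leaf 0x109a40bf))) (.node (.node (.leaf 0xc4700d3) (.leaf 0x137100bd))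 (.node (.leaf 0x169fc0ad) (.leaf 0xd1700b5)))) (.node (.node (.node (.leaf 0x121440bf) (.leaf 0xb23c0d1)) (.node (.leaf 0xcfcc0d1) (.leaf 0xcccc0af))) (.node (.node (.leaf 0xfa580bd) (.leaf 0xefbc0d1)) (.node (.leaf 0xc4400b9) (.leaf 0x0))))) (.node (.node (.node (.node (.leaf 0xdffc0bf) (.leaf 0xa0180bf)) (.node (.leaf 0xe2d80bf) (.leaf 0xe8240b3))) (.node (.node (.leaf 0x11a180bf) (.leaf 0xf9f00d3)) (.node (.leaf 0xe01c0b5) (.leaf 0xc2f40b3)))) (.node (.node (.node (.leaf 0x131880bd) (.leaf 0xda000bd)) (.node (.leaf 0xf4880d1) (.leaf 0xe18c0bf))) (.node (.node (.leaf 0xd6480d3) (.leaf 0x9d600bf)) (.node (.leaf 0xf8f80bf) (.leaf 0x0)))))) (.node (.node (.node (.node (.node (.leaf 0x987c0b3) (.leaf 0xc3ac0d1)) (.node (.leaf 0xd3700b9) (.leaf 0xd2c00bf))) (.node (.node (.leaf 0x8afc0bf) (.leaf 0x8c980d3)) (.node (.leaf 0xd4c80bf) (.leaf 0xee080d1)))) (.node (.node (.node (.leaf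 0xf06c0b9) (.leaf 0x10ff40bf)) (.node (.leaf 0x114600b5) (.leaf 0x10f640bd))) (.node (.node (.leaf 0xd1300d1) (.leaf 0xf0800bd)) (.node (.leaf 0xa2cc0bd) (.leaf 0x0))))) (.node (.node (.node (.node (.leaf 0xa1280b5) (.leaf 0x11a900d3)) (.node (.leaf 0xc9780bd) (.leaf 0x9fbc0bf))) (.node (.node (.leaf 0xc5740bf) (.leaf 0xc0500bf)) (.node (.leaf 0xcda80b5) (.leaf 0xdc680bd)))) (.node (.node (.node (.leaf 0x8d200d1) (.leaf 0xc4400bd)) (.node (.leaf 0xb2680d3) (.leaf 0x9c140d3))) (.node (.node (.leaf 0x115480bd) (.leaf 0xf75c0d3)) (.node (.leaf 0x11ce40bf) (.leaf 0x0))))))) (.node (.node (.node (.node (.node (.node (.leaf 0xa8640d3) (.leaf 0xde9c0af)) (.node (.leaf 0x123e40af) (.leaf 0x132b00bd))) (.node (.node (.leaf 0xddd00b3) (.leaf 0xe4900d1)) (.node (.leaf 0xe99c0ad) (.leaf 0xcc580b3)))) (.node (.node (.node (.leaf 0xb36c0b5) (.leaf 0xd9f80bd)) (.node (.leaf 0xd9b40bd) (.leaf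 0xd2080af))) (.node (.node (.leaf 0xce000d1) (.leaf 0xf8640af)) (.node (.leaf 0x95400d3) (.leaf 0x0))))) (.node (.node (.node (.node (.leaf 0x122380bd) (.leaf 0x404c0ad)) (.node (.leaf 0x112a80ad) (.leaf 0x12b1c0bf))) (.node (.node (.leaf 0x133840bf) (.leaf 0x110280bd)) (.node (.leaf 0xc4940d3) (.leaf 0xdb700bd)))) (.node (.node (.node (.leaf 0x1142c0af) (.leaf 0xed180af)) (.node (.leaf 0x107400b1) (.leaf 0xe3800b5))) (.node (.node (.leaf 0x168b00bd) (.leaf 0x88000bf)) (.node (.leaf 0x109a40bd) (.leaf 0x0)))))) (.node (.node (.node (.node (.node (.leaf 0xd99c0ad) (.leaf 0x83e00b5)) (.node (.leaf 0xd2800bf) (.leaf 0xb1140b3))) (.node (.node (.leaf 0xe45c0b1) (.leaf 0xaf680d3)) (.node (.leaf 0x135780b5) (.leaf 0x175c80bd)))) (.node (.node (.node (.leaf 0x120f00bd) (.leaf 0xe1a00bf)) (.node (.leaf 0xce880b1) (.leaf 0xfb200d1))) (.node (.node (.leaf 0xc0500bd) (.leaf 0x11efc0d1))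 (.node (.leaf 0x404c0d1) (.leaf 0x0))))) (.node (.node (.node (.node (.leaf 0xcc) (.leaf 0xd2c00b3)) (.node (.leaf 0xce980d3) (.leaf 0x115e00b5))) (.node (.node (.leaf 0xce400b5) (.leaf 0xc7cc0bd)) (.node (.leaf 0xc3ac0d3) (.leaf 0x0)))) (.node (.node (.node (.leaf 0xdeb80ad) (.leaf 0xdae00b5)) (.node (.leaf 0xe0040bf) (.leaf 0xd2540bd))) (.node (.node (.leaf 0xd43c0af) (.leaf 0xa7100ad)) (.node (.leaf 0xe1ac0d3) (.leaf 0x0))))))))) (.node (.node (.node (.node (.node (.node (.node (.node (.leaf 0x86580bf) (.leaf 0xa10c0b9)) (.node (.leaf 0xdc080af) (.leaf 0x11a200bd))) (.node (.node (.leaf 0x137bc0bd) (.leaf 0xb2ec0d1)) (.node (.leaf 0xcba40ad) (.leaf 0x112700bd)))) (.node (.node (.node (.leaf 0xb7880bf) (.leaf 0xe03c0bd)) (.node (.leaf 0xd0700d3) (.leaf 0xcb140d3))) (.node (.node (.leaf 0xf9f80bf) (.leaf 0x130140bd)) (.node (.leaf 0xcfec0b3) (.leaf 0x0))))) (.node (.node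 (.node (.node (.leaf 0xf3600b5) (.leaf 0xdda40bf)) (.node (.leaf 0xde0c0ad) (.leaf 0xc16c0bd))) (.node (.node (.leaf 0xe8140d3) (.leaf 0xe4440d1)) (.node (.leaf 0xcb800d1) (.leaf 0x8f8c0af)))) (.node (.node (.node (.leaf 0x838c0b9) (.leaf 0x10f2c0bf)) (.node (.leaf 0xe4d40d1) (.leaf 0x13a440bf))) (.node (.node (.leaf 0xc6f00b3) (.leaf 0xc2040bf)) (.node (.leaf 0xda880d1) (.leaf 0x0)))))) (.node (.node (.node (.node (.node (.leaf 0x118c80d3) (.leaf 0x9f980b1)) (.node (.leaf 0x12f380b5) (.leaf 0x10cac0bf))) (.node (.node (.leaf 0x89600b1) (.leaf 0x112680b5)) (.node (.leaf 0xfa740b1) (.leaf 0x138dc0b1)))) (.node (.node (.node (.leaf 0xc2040af) (.leaf 0x11a380bf)) (.node (.leaf 0x135dc0d3) (.leaf 0xf3a80b9))) (.node (.node (.leaf 0xc1780b9) (.leaf 0x904c0b1)) (.node (.leaf 0xda800bd) (.leaf 0x0))))) (.node (.node (.node (.node (.leaf 0x11ca80b9) (.leaf 0xea780d3)) (.node (.leaf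 0x13a400bd) (.leaf 0x8c700ad))) (.node (.node (.leaf 0xc42c0af) (.leaf 0xd02c0bd)) (.node (.leaf 0xb03c0b5) (.leaf 0xc3180bd)))) (.node (.node (.node (.leaf 0x92180d1) (.leaf 0xe8040b5)) (.node (.leaf 0x63d40d3) (.leaf 0xb6f80b9))) (.node (.node (.leaf 0x126340bd) (.leaf 0x1081c0d3)) (.node (.leaf 0x109b80bd) (.leaf 0x0))))))) (.node (.node (.node (.node (.node (.node (.leaf 0x891c0d1) (.leaf 0x119dc0bd)) (.node (.leaf 0xdd840bf) (.leaf 0x166a00af))) (.node (.node (.leaf 0x1318c0bd) (.leaf 0x10ecc0bf)) (.node (.leaf 0x10b2c0b9) (.leaf 0xe55c0b5)))) (.node (.node (.node (.leaf 0xdbd40d3) (.leaf 0x10bec0bf)) (.node (.leaf 0xdc280b3) (.leaf 0xcad00d3))) (.node (.node (.leaf 0xb23c0d3) (.leaf 0x1389c0bf)) (.node (.leaf 0x80700d3) (.leaf 0x0))))) (.node (.node (.node (.node (.leaf 0xce500ad) (.leaf 0xdd3c0bd)) (.node (.leaf 0x104c80b5) (.leaf 0x132900bd))) (.node (.node (.leaf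 0xc9d40b5) (.leaf 0xc45c0bd)) (.node (.leaf 0x117480bf) (.leaf 0xf3280bf)))) (.node (.node (.node (.leaf 0xda7c0b9) (.leaf 0xd65c0bd)) (.node (.leaf 0xed680ad) (.leaf 0x102740bf))) (.node (.node (.leaf 0x14e380bd) (.leaf 0x11bd00bf)) (.node (.leaf 0xe2340b9) (.leaf 0x0)))))) (.node (.node (.node (.node (.node (.leaf 0xf0fc0d1) (.leaf 0x86900b9)) (.node (.leaf 0x117840d1) (.leaf 0xcf800bd))) (.node (.node (.leaf 0xeb300d1) (.leaf 0xd94c0bd)) (.node (.leaf 0x149ec0bd) (.leaf 0xee080bd)))) (.node (.node (.node (.leaf 0x1320c0bf) (.leaf 0x102a80d3)) (.node (.leaf 0x14da40bd) (.leaf 0x117fc0bd))) (.node (.node (.leaf 0x112a80d3) (.leaf 0x82dc0d1)) (.node (.leaf 0x9d640d3) (.leaf 0x0))))) (.node (.node (.node (.node (.leaf 0x10ee80b5) (.leaf 0x63d40b5)) (.node (.leaf 0xd3980b3) (.leaf 0x102740b3))) (.node (.node (.leaf 0x94800bd) (.leaf 0x84340b9)) (.node (.leaf 0xd6c00d3) (.leaf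 0x0)))) (.node (.node (.node (.leaf 0xf6580d1) (.leaf 0x112a80b5)) (.node (.leaf 0xce500b1) (.leaf 0x111b00b9))) (.node (.node (.leaf 0xc16c0b9) (.leaf 0xe73c0ad)) (.node (.leaf 0x83400b9) (.leaf 0x0)))))))) (.node (.node (.node (.node (.node (.node (.node (.leaf 0x62d40ad) (.leaf 0x11bd00d1)) (.node (.leaf 0xb4bc0bf) (.leaf 0x10a580d1))) (.node (.node (.leaf 0x133b00ad) (.leaf 0x69980b5)) (.node (.leaf 0xc15c0b1) (.leaf 0xa1280bf)))) (.node (.node (.node (.leaf 0xd2c00d3) (.leaf 0xc2400bf)) (.node (.leaf 0x83500d1) (.leaf 0xc1740b1))) (.node (.node (.leaf 0xed780ad) (.leaf 0x9f840bd)) (.node (.leaf 0x95400bd) (.leaf 0x0))))) (.node (.node (.node (.node (.leaf 0x12dbc0bf) (.leaf 0xf4700ad)) (.node (.leaf 0xdfac0bd) (.leaf 0xdaa80b1))) (.node (.node (.leaf 0xf8640d1) (.leaf 0x10a980b5)) (.node (.leaf 0xd4c80d3) (.leaf 0x125640bd)))) (.node (.node (.node (.leaf 0xe1980d1) (.leaf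 0x10e6c0b9)) (.node (.leaf 0xccdc0b1) (.leaf 0xf7e40b5))) (.node (.node (.leaf 0xe2340bd) (.leaf 0xf7fc0b5)) (.node (.leaf 0x922c0b3) (.leaf 0x0)))))) (.node (.node (.node (.node (.node (.leaf 0xcae80ad) (.leaf 0xe0040b9)) (.node (.leaf 0xf8380b5) (.leaf 0xc2f40d3))) (.node (.node (.leaf 0x49280b1) (.leaf 0xe4b80bf)) (.node (.leaf 0x92100b1) (.leaf 0xd6400bd)))) (.node (.node (.node (.leaf 0xf8fc0b5) (.leaf 0xf0ac0d1)) (.node (.leaf 0xdbf00d1) (.leaf 0xd94c0bf))) (.node (.node (.leaf 0x107000bd) (.leaf 0xcfcc0b5)) (.node (.leaf 0x49940af) (.leaf 0x0))))) (.node (.node (.node (.node (.leaf 0x1a84) (.leaf 0x904c0b3)) (.node (.leaf 0x116080bf) (.leaf 0x102680bd))) (.node (.node (.leaf 0x98e80b9) (.leaf 0xe73c0b5)) (.node (.leaf 0xda7c0bd) (.leaf 0x0)))) (.node (.node (.node (.leaf 0xebe80b9) (.leaf 0xda8c0b5)) (.node (.leaf 0x11a380bd) (.leaf 0xb3800d1))) (.node (.node (.leaf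 0xc7780d3) (.leaf 0x119e00bf)) (.node (.leaf 0xf7600b3) (.leaf 0x0))))))) (.node (.node (.node (.node (.node (.node (.leaf 0xe7300b3) (.leaf 0xa81c0d3)) (.node (.leaf 0x1320c0bd) (.leaf 0x63980b5))) (.node (.node (.leaf 0xddf80b9) (.leaf 0xa6400af)) (.node (.leaf 0xd9b80bd) (.leaf 0x92f00d1)))) (.node (.node (.node (.leaf 0x129bc0bd) (.leaf 0xf6180b9)) (.node (.leaf 0xad880bd) (.leaf 0xe6dc0bd))) (.node (.node (.leaf 0xd6400d1) (.leaf 0xc63c0bd)) (.node (.leaf 0xed5c0d3) (.leaf 0x0))))) (.node (.node (.node (.node (.leaf 0xf31c0d3) (.leaf 0x40740b1)) (.node (.leaf 0xe1dc0bf) (.leaf 0xfa600bf))) (.node (.node (.leaf 0xb36c0bf) (.leaf 0xc4240ad)) (.node (.leaf 0x1a3c) (.leaf 0x10cf80bd)))) (.node (.node (.node (.leaf 0xc3280bf) (.leaf 0xf7ac0b5)) (.node (.leaf 0xd6c00b9) (.leaf 0xd9b80bf))) (.node (.node (.leaf 0x88d40b1) (.leaf 0xc3f80bd)) (.node (.leaf 0xeda40b5) (.leaf 0x0))))))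 (.node (.node (.node (.node (.node (.leaf 0x114500d3) (.leaf 0xabf80d1)) (.node (.leaf 0x10cd80bf) (.leaf 0xc1440bf))) (.node (.node (.leaf 0xd4140d3) (.leaf 0xae040bf)) (.node (.leaf 0xd2800af) (.leaf 0x1277c0bd)))) (.node (.node (.node (.leaf 0xc3d00b9) (.leaf 0x9d7c0bf)) (.node (.leaf 0x121d40bf) (.leaf 0x95940d1))) (.node (.node (.leaf 0xdc080ad) (.leaf 0x122080bd)) (.node (.leaf 0x891c0b3) (.leaf 0x0))))) (.node (.node (.node (.node (.leaf 0xc3d00d1) (.leaf 0xe8a80bf)) (.node (.leaf 0xedd80b9) (.leaf 0xf5080af))) (.node (.node (.leaf 0x122180d3) (.leaf 0x910c0af)) (.node (.leaf 0x9b340bf) (.leaf 0x0)))) (.node (.node (.node (.leaf 0xde9c0ad) (.leaf 0x11d040af)) (.node (.leaf 0xfa700d1) (.leaf 0xb36c0d1))) (.node (.node (.leaf 0xdfac0bf) (.leaf 0x987c0ad)) (.node (.leaf 0x61540b3) (.leaf 0x0))))))))))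

/-- packed table -/
noncomputable def cov3_rlr : BTree := (.node (.node (.node (.node (.node (.node (.node (.node (.node (.leaf 0x43c40bf) (.leaf 0x9fbc0b5)) (.node (.leaf 0x8d200af) (.leaf 0xec880d3))) (.node (.node (.leaf 0x133840b1) (.leaf 0xaff80af)) (.node (.leaf 0xe03c0ad) (.leaf 0xb1140ad)))) (.node (.node (.node (.leaf 0xe6b80d1) (.leaf 0x80d80d1)) (.node (.leaf 0xaff80ad) (.leaf 0x85980b3))) (.node (.node (.leaf 0x138700d1) (.leaf 0x107000bf)) (.node (.leaf 0x63680af) (.leaf 0x0))))) (.node (.node (.node (.node (.leaf 0xf4700b9) (.leaf 0xdffc0bd)) (.node (.leaf 0xec2c0bf) (.leaf 0xd3bc0b1))) (.node (.node (.leaf 0x922c0b1) (.leaf 0xb23c0bf)) (.node (.leaf 0xd92c0d1) (.leaf 0xf82c0b3)))) (.node (.node (.node (.leaf 0x9fbc0ad) (.leaf 0xcd8c0bf)) (.node (.leaf 0xf3dc0b1) (.leaf 0x10b040af))) (.node (.node (.leaf 0x106d80bd) (.leaf 0xf7600bd)) (.node (.leaf 0xf5480bd)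 (.leaf 0x0)))))) (.node (.node (.node (.node (.node (.leaf 0xd6a00d1) (.leaf 0x11ca80b1)) (.node (.leaf 0x8e700b3) (.leaf 0x774c0d1))) (.node (.node (.leaf 0xe2d80d1) (.leaf 0xa3a40d3)) (.node (.leaf 0xf2d80d1) (.leaf 0xf3c00b9)))) (.node (.node (.node (.leaf 0xf7ac0b1) (.leaf 0x14ff80bf)) (.node (.leaf 0xebd00d1) (.leaf 0xc2400d1))) (.node (.node (.leaf 0xe1180b9) (.leaf 0x125180bd)) (.node (.leaf 0xa2e40bd) (.leaf 0x0))))) (.node (.node (.node (.node (.leaf 0x838c0af) (.leaf 0xd9d80bd)) (.node (.leaf 0x92dc0b5) (.leaf 0x125f00bf))) (.node (.node (.leaf 0xb7a80b5) (.leaf 0x987c0b1)) (.node (.leaf 0x1206c0b9) (.leaf 0xccb80af)))) (.node (.node (.node (.leaf 0x103e40bf) (.leaf 0xe3800bf)) (.node (.leaf 0xe5200b1) (.leaf 0x114500b3))) (.node (.node (.leaf 0x1314c0bf) (.leaf 0x117980ad)) (.node (.leaf 0x131980b5) (.leaf 0x0))))))) (.node (.node (.node (.node (.node (.node (.leaf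 0xc6cc0bd) (.leaf 0xec880d1)) (.node (.leaf 0x9fe00bd) (.leaf 0x85980b9))) (.node (.node (.leaf 0x122700bf) (.leaf 0x92180b5)) (.node (.leaf 0xe99c0af) (.leaf 0xad880b9)))) (.node (.node (.node (.leaf 0xb03c0af) (.leaf 0x119f40bd)) (.node (.leaf 0xd3480ad) (.leaf 0xda740b9))) (.node (.node (.leaf 0xf1c40d3) (.leaf 0xcb640d3)) (.node (.leaf 0xe1e40b9) (.leaf 0x0))))) (.node (.node (.node (.node (.leaf 0xe8a80b1) (.leaf 0xddc00d1)) (.node (.leaf 0x134d80bd) (.leaf 0x904c0d1))) (.node (.node (.leaf 0xf5e40b5) (.leaf 0x110a40d3)) (.node (.leaf 0xb9740b9) (.leaf 0xdd800bd)))) (.node (.node (.node (.leaf 0x43c40b3) (.leaf 0xb9740bf)) (.node (.leaf 0xf25c0bd) (.leaf 0x102780bf))) (.node (.node (.leaf 0x102680d3) (.leaf 0xa4100b5)) (.node (.leaf 0x11bd00d3) (.leaf 0x0)))))) (.node (.node (.node (.node (.node (.leaf 0xb4580b3) (.leaf 0xc6740b9)) (.node (.leaf 0x135dc0d1) (.leaf 0x164bc0ad)))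 (.node (.node (.leaf 0x1a5c) (.leaf 0x10e8c0bd)) (.node (.leaf 0xec4c0b5) (.leaf 0xfa780d3)))) (.node (.node (.node (.leaf 0xcca40bd) (.leaf 0xe1c40bd)) (.node (.leaf 0x5ae40d1) (.leaf 0x136300d1))) (.node (.node (.leaf 0x115840bf) (.leaf 0x105700d1)) (.node (.leaf 0x9d500b3) (.leaf 0x0))))) (.node (.node (.node (.node (.leaf 0x61540d1) (.leaf 0xd2f40b3)) (.node (.leaf 0x1099c0bf) (.leaf 0x879c0d1))) (.node (.node (.leaf 0xd4640bd) (.leaf 0xeec40d3)) (.node (.leaf 0xc6f00d1) (.leaf 0x0)))) (.node (.node (.node (.leaf 0xc1800b9) (.leaf 0xe3b40b5)) (.node (.leaf 0xe9c40b5) (.leaf 0x137bc0bf))) (.node (.node (.leaf 0xeb400d1) (.leaf 0x84340bf)) (.node (.leaf 0xa1280b3) (.leaf 0x0)))))))) (.node (.node (.node (.node (.node (.node (.node (.leaf 0xa2c40b9) (.leaf 0xd4040d3)) (.node (.leaf 0xc4300bd) (.leaf 0xf7440b9))) (.node (.node (.leaf 0xe3200b5) (.leaf 0x12a600bf)) (.node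 (.leaf 0x130d00d3) (.leaf 0x61540bd)))) (.node (.node (.node (.leaf 0xa32c0ad) (.leaf 0x135b80bd)) (.node (.leaf 0x127380bf) (.leaf 0x125080bd))) (.node (.node (.leaf 0x12fec0bf) (.leaf 0xe0e40b1)) (.node (.leaf 0x92b00bd) (.leaf 0x0))))) (.node (.node (.node (.node (.leaf 0xc4dc0ad) (.leaf 0x9d600bd)) (.node (.leaf 0xb9740d3) (.leaf 0x1555c0bd))) (.node (.node (.leaf 0x12e9c0ad) (.leaf 0xe4040bd)) (.node (.leaf 0xd2540b5) (.leaf 0xa2200b5)))) (.node (.node (.node (.leaf 0xe1780b9) (.leaf 0x12a880d3)) (.node (.leaf 0x130080b9) (.leaf 0xe8880ad))) (.node (.node (.leaf 0x126b40bd) (.leaf 0x117180bf)) (.node (.leaf 0xf8380bf) (.leaf 0x0)))))) (.node (.node (.node (.node (.node (.leaf 0xe4e00b5) (.leaf 0x11b0)) (.node (.leaf 0xe8740bf) (.leaf 0x10fc00bd))) (.node (.node (.leaf 0x9d680d1) (.leaf 0xcdfc0bd)) (.node (.leaf 0xf82c0d1) (.leaf 0xf4800d3)))) (.node (.node (.node (.leaf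 0x95940af) (.leaf 0xda340bf)) (.node (.leaf 0xcda80b1) (.leaf 0x10b6c0d3))) (.node (.node (.leaf 0x1157c0b1) (.leaf 0x12d300b9)) (.node (.leaf 0x9d8c0b3) (.leaf 0x0))))) (.node (.node (.node (.node (.leaf 0x90500bd) (.leaf 0xc4c00b9)) (.node (.leaf 0xca0c0af) (.leaf 0x8f8c0ad))) (.node (.node (.leaf 0xf2dc0bd) (.leaf 0xab580b1)) (.node (.leaf 0x88000bd) (.leaf 0x0)))) (.node (.node (.node (.leaf 0x107a40bd) (.leaf 0xc65c0bd)) (.node (.leaf 0x8f8c0b9) (.leaf 0x122700bd))) (.node (.node (.leaf 0xd2040d3) (.leaf 0xc8180d1)) (.node (.leaf 0xefe40bd) (.leaf 0x0))))))) (.node (.node (.node (.node (.node (.node (.leaf 0xdae00bf) (.leaf 0x119e00bd)) (.node (.leaf 0x8e800b3) (.leaf 0x117200bf))) (.node (.node (.leaf 0x62d40d3) (.leaf 0xb7a80d3)) (.node (.leaf 0x11f000bf) (.leaf 0xd2480d1)))) (.node (.node (.node (.leaf 0xf2dc0b9) (.leaf 0x87180d1)) (.node (.leaf 0xd4a80b9) (.leaf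 0x10d2c0bf))) (.node (.node (.leaf 0xc9900bf) (.leaf 0x895c0bf)) (.node (.leaf 0x108580bd) (.leaf 0x0))))) (.node (.node (.node (.node (.leaf 0xf61c0af) (.leaf 0xc6)) (.node (.leaf 0xe3b40b1) (.leaf 0xb4580af))) (.node (.node (.leaf 0x10c240ad) (.leaf 0xf73c0d3)) (.node (.leaf 0xd4040b3) (.leaf 0x14efc0bd)))) (.node (.node (.node (.leaf 0x12c080bd) (.leaf 0x1023c0bf)) (.node (.leaf 0x116940b9) (.leaf 0x12d740bd))) (.node (.node (.leaf 0x93580b5) (.leaf 0x83e00bd)) (.node (.leaf 0xc4c40b9) (.leaf 0x0)))))) (.node (.node (.node (.node (.node (.leaf 0xfa580b5) (.leaf 0xe8040d3)) (.node (.leaf 0xfb000ad) (.leaf 0xfa740bf))) (.node (.node (.leaf 0xa4600b1) (.leaf 0x8afc0d3)) (.node (.leaf 0xa2e40bf) (.leaf 0x119f40bf)))) (.node (.node (.node (.leaf 0x131500bf) (.leaf 0xd4a80d3)) (.node (.leaf 0x1297c0bf) (.leaf 0xc4780bd))) (.node (.node (.leaf 0xb9740bd) (.leaf 0xd1140d3)) (.node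 (.leaf 0x9dd80ad) (.leaf 0x0))))) (.node (.node (.node (.node (.leaf 0x436c0ad) (.leaf 0xe0)) (.node (.leaf 0xe4d40bf) (.leaf 0xd6040d3))) (.node (.node (.leaf 0xefc40b5) (.leaf 0xef8c0d3)) (.node (.leaf 0x92b00b5) (.leaf 0x0)))) (.node (.node (.node (.leaf 0xf1bc0d1) (.leaf 0x10f0c0af)) (.node (.leaf 0xf8fc0b3) (.leaf 0x120f00bf))) (.node (.node (.leaf 0xaa480ad) (.leaf 0x10a580d3)) (.node (.leaf 0xa1bc0d3) (.leaf 0x0))))))))) (.node (.node (.node (.node (.node (.node (.node (.node (.leaf 0x88b00bd) (.leaf 0xc6740ad)) (.node (.leaf 0xdc480b1) (.leaf 0xf6580d3))) (.node (.node (.leaf 0xdcc40bf) (.leaf 0xa1bc0bf)) (.node (.leaf 0x116cc0d3) (.leaf 0xdb240d1)))) (.node (.node (.node (.leaf 0x69980b3) (.leaf 0xd3380d1)) (.node (.leaf 0xc6d00d1) (.leaf 0xd2080ad))) (.node (.node (.leaf 0xf9900d3) (.leaf 0xc7300ad)) (.node (.leaf 0xd0140b3) (.leaf 0x0))))) (.node (.node (.node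 (.node (.leaf 0x100e00d1) (.leaf 0xb3800b5)) (.node (.leaf 0xee900af) (.leaf 0xea380bd))) (.node (.node (.leaf 0xfacc0b9) (.leaf 0x134600d1)) (.node (.leaf 0x90ec0d3) (.leaf 0xd3380bf)))) (.node (.node (.node (.leaf 0xc6140d3) (.leaf 0xe99c0d3)) (.node (.leaf 0xf4840d1) (.leaf 0x10d180bf))) (.node (.node (.leaf 0xe4d00bd) (.leaf 0x152780bd)) (.node (.leaf 0x87a80b5) (.leaf 0x0)))))) (.node (.node (.node (.node (.node (.leaf 0xd2800b1) (.leaf 0xf8600bd)) (.node (.leaf 0xd3700b3) (.leaf 0xaff80d1))) (.node (.node (.leaf 0xb2ec0bd) (.leaf 0xec4c0b9)) (.node (.leaf 0x103580bd) (.leaf 0x138880b1)))) (.node (.node (.node (.leaf 0xc8180b1) (.leaf 0xd7580b1)) (.node (.leaf 0x122780d1) (.leaf 0xcf480d3))) (.node (.node (.leaf 0xef980b1) (.leaf 0x88000d1)) (.node (.leaf 0xa2bc0bd) (.leaf 0x0))))) (.node (.node (.node (.node (.leaf 0xa10c0b5) (.leaf 0xda8c0d1)) (.node (.leaf 0xcd3c0b5)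 (.leaf 0x774c0b5))) (.node (.node (.leaf 0xc8c80bd) (.leaf 0x80700bf)) (.node (.leaf 0x63680ad) (.leaf 0x94800b9)))) (.node (.node (.node (.leaf 0xe7d80d3) (.leaf 0x104880bf)) (.node (.leaf 0xab580d1) (.leaf 0xdb540bd))) (.node (.node (.leaf 0x126300bd) (.leaf 0xea0c0af)) (.node (.leaf 0x10e440bf) (.leaf 0x0))))))) (.node (.node (.node (.node (.node (.node (.leaf 0x10c400d3) (.leaf 0x822c0b9)) (.node (.leaf 0xc0500d1) (.leaf 0xf2d80d3))) (.node (.node (.leaf 0x88d40af) (.leaf 0xc7500b1)) (.node (.leaf 0x9d8c0bd) (.leaf 0xe9440b1)))) (.node (.node (.node (.leaf 0x117200bd) (.leaf 0x138080ad)) (.node (.leaf 0xc5fc0bd) (.leaf 0xc24c0d1))) (.node (.node (.leaf 0xe1c40bf) (.leaf 0xc9540bf)) (.node (.leaf 0xa7100b5) (.leaf 0x0))))) (.node (.node (.node (.node (.leaf 0x123340bf) (.leaf 0x9dd80d1)) (.node (.leaf 0xd6a00bd) (.leaf 0xf7e40d1))) (.node (.node (.leaf 0x128600bf) (.leaf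 0xcb780b3)) (.node (.leaf 0xda7c0ad) (.leaf 0xd65c0bf)))) (.node (.node (.node (.leaf 0x83d40b3) (.leaf 0xd3980d1)) (.node (.leaf 0xc6e00af) (.leaf 0xce880b9))) (.node (.node (.leaf 0x1289c0bd) (.leaf 0x112680ad)) (.node (.leaf 0xef000d1) (.leaf 0x0)))))) (.node (.node (.node (.node (.node (.leaf 0x11e600d1) (.leaf 0x83d40b5)) (.node (.leaf 0xed680b1) (.leaf 0x175b40bd))) (.node (.node (.leaf 0xee) (.leaf 0xc4300d1)) (.node (.leaf 0xb9740b5) (.leaf 0x126e40d3)))) (.node (.node (.node (.leaf 0xeed40d1) (.leaf 0xf4c80af)) (.node (.leaf 0xe73c0bf) (.leaf 0x136440d3))) (.node (.node (.leaf 0x11a080bd) (.leaf 0x135980b9)) (.node (.leaf 0x891c0b5) (.leaf 0x0))))) (.node (.node (.node (.node (.leaf 0x121440d1) (.leaf 0xb44c0bf)) (.node (.leaf 0xe4d40bd) (.leaf 0x147b80d1))) (.node (.node (.leaf 0xe2c00bf) (.leaf 0x910c0ad)) (.node (.leaf 0xf9380bd) (.leaf 0x0)))) (.node (.node (.node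 (.leaf 0x1074c0bf) (.leaf 0xd77c0bf)) (.node (.leaf 0xed780bd) (.leaf 0xdcb80bd))) (.node (.node (.leaf 0x10ecc0bd) (.leaf 0x102940d1)) (.node (.leaf 0xe1380b3) (.leaf 0x0)))))))) (.node (.node (.node (.node (.node (.node (.node (.leaf 0xc8) (.leaf 0x10a600d1)) (.node (.leaf 0x11e5c0bd) (.leaf 0x10fac0bd))) (.node (.node (.leaf 0x1314c0bd) (.leaf 0x822c0d1)) (.node (.leaf 0xd2f40b5) (.leaf 0xee440d3)))) (.node (.node (.node (.leaf 0xcfc80b3) (.leaf 0x127980bf)) (.node (.leaf 0xd6480bd) (.leaf 0x115540bd))) (.node (.node (.leaf 0xf1bc0d3) (.leaf 0xf7640b5)) (.node (.leaf 0x16dc80bd) (.leaf 0x0))))) (.node (.node (.node (.node (.leaf 0xf5200d3) (.leaf 0xc8900bd)) (.node (.leaf 0xd94c0b3) (.leaf 0xf1c40bd))) (.node (.node (.leaf 0xf1bc0b9) (.leaf 0x12a7c0bd)) (.node (.leaf 0x98e80d3) (.leaf 0x98000d3)))) (.node (.node (.node (.leaf 0x83400d3) (.leaf 0xc7780b3)) (.node (.leaf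 0xdeb80d1) (.leaf 0xe8580ad))) (.node (.node (.leaf 0xf8f80d3) (.leaf 0x987c0af)) (.node (.leaf 0x12a600b3) (.leaf 0x0)))))) (.node (.node (.node (.node (.node (.leaf 0x98000b1) (.leaf 0xc6b80d1)) (.node (.leaf 0xdaac0bd) (.leaf 0xe8800b1))) (.node (.node (.leaf 0x9d500ad) (.leaf 0x126340bf)) (.node (.leaf 0xf7b80bf) (.leaf 0x49b40af)))) (.node (.node (.node (.leaf 0xb44c0d3) (.leaf 0x10fb80b9)) (.node (.leaf 0xda000bf) (.leaf 0xe5200b5))) (.node (.node (.leaf 0x116fc0bf) (.leaf 0xc5a00d1)) (.node (.leaf 0xdd800d1) (.leaf 0x0))))) (.node (.node (.node (.node (.leaf 0xdfc00d3) (.leaf 0xb4bc0af)) (.node (.leaf 0x117f40bf) (.leaf 0xca300d1))) (.node (.node (.leaf 0xc9480bd) (.leaf 0xd6f80d3)) (.node (.leaf 0x97a80bd) (.leaf 0x0)))) (.node (.node (.node (.leaf 0x107940bd) (.leaf 0xc43c0bd)) (.node (.leaf 0xc3700bd) (.leaf 0x104280bd))) (.node (.node (.leaf 0x157500bd) (.leaf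 0xeda40af)) (.node (.leaf 0xf69c0d1) (.leaf 0x0))))))) (.node (.node (.node (.node (.node (.node (.leaf 0xec4c0af) (.leaf 0xf75c0d1)) (.node (.leaf 0x12c980bf) (.leaf 0x14be80bd))) (.node (.node (.leaf 0xa2cc0d1) (.leaf 0xced40d1)) (.node (.leaf 0xec4c0ad) (.leaf 0xf3600bf)))) (.node (.node (.node (.leaf 0x1420c0af) (.leaf 0xd1000d1)) (.node (.leaf 0xda940d1) (.leaf 0xd5580d1))) (.node (.node (.leaf 0x8c700b5) (.leaf 0x89500bf)) (.node (.leaf 0x12b740af) (.leaf 0x0))))) (.node (.node (.node (.node (.leaf 0x9f6c0ad) (.leaf 0xc0100d1)) (.node (.leaf 0xa4600af) (.leaf 0x11b840bd))) (.node (.node (.leaf 0xfa1c0af) (.leaf 0x118940d3)) (.node (.leaf 0xefc40bf) (.leaf 0xcf800b5)))) (.node (.node (.node (.leaf 0x10e280b1) (.leaf 0x12f2c0d1)) (.node (.leaf 0x127b80d1) (.leaf 0xd4a80af))) (.node (.node (.leaf 0x87a80b1) (.leaf 0x104fc0bf)) (.node (.leaf 0x11a200bf) (.leaf 0x0))))))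 (.node (.node (.node (.node (.node (.leaf 0x963c0b1) (.leaf 0x123580d1)) (.node (.leaf 0xc78c0b3) (.leaf 0xd3d00b1))) (.node (.node (.leaf 0xb36c0b1) (.leaf 0x126300b9)) (.node (.leaf 0xcb800d3) (.leaf 0xd9f80bf)))) (.node (.node (.node (.leaf 0x436c0b1) (.leaf 0x129b40bf)) (.node (.leaf 0x121d40bd) (.leaf 0xf3940bd))) (.node (.node (.leaf 0xdb600b1) (.leaf 0xebbc0bd)) (.node (.leaf 0x805c0d3) (.leaf 0x0))))) (.node (.node (.node (.node (.leaf 0xc3d00d3) (.leaf 0xead00af)) (.node (.leaf 0x1099c0bd) (.leaf 0xeda40b3))) (.node (.node (.leaf 0xeb400d3) (.leaf 0xd6880b5)) (.node (.leaf 0x129b00bd) (.leaf 0x0)))) (.node (.node (.node (.leaf 0x138f40b1) (.leaf 0xdaa80b5)) (.node (.leaf 0xf7e40ad) (.leaf 0xc4d80d1))) (.node (.node (.leaf 0xd3700d3) (.leaf 0xf7600d1)) (.node (.leaf 0x436c0b3) (.leaf 0x0))))))))))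

/-- packed table -/
noncomputable def cov3_rrl : BTree := (.node (.node (.node (.node (.node (.node (.node (.node (.node (.leaf 0x43c40bd) (.leaf 0x61540b9)) (.node (.leaf 0xdb800bf) (.leaf 0xe8a80d1))) (.node (.node (.leaf 0xc54c0b1) (.leaf 0xb4580b5)) (.node (.leaf 0xc5880bd) (.leaf 0xe9480bd)))) (.node (.node (.node (.leaf 0x1377c0bf) (.leaf 0xcf9c0b5)) (.node (.leaf 0xc1bc0b3) (.leaf 0x114d40d1))) (.node (.node (.leaf 0x124a80bd) (.leaf 0xe6480d1)) (.node (.leaf 0xc4780b9) (.leaf 0x0))))) (.node (.node (.node (.node (.leaf 0x126300bf) (.leaf 0xf92c0d1)) (.node (.leaf 0x12e9c0af) (.leaf 0xe2340d3))) (.node (.node (.leaf 0xa32c0bd) (.leaf 0xb4580d1)) (.node (.leaf 0xa2e80bf) (.leaf 0xec2c0bd)))) (.node (.node (.node (.leaf 0x437c0b1) (.leaf 0x97240ad)) (.node (.leaf 0xd2900bd) (.leaf 0xc2980af))) (.node (.node (.leaf 0xcdc00b9) (.leaf 0xf4780b5)) (.node (.leaf 0x83940bd)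 (.leaf 0x0)))))) (.node (.node (.node (.node (.node (.leaf 0xdabc0d1) (.leaf 0x43640af)) (.node (.leaf 0x751c0bd) (.leaf 0xfa540b9))) (.node (.node (.leaf 0x891c0ad) (.leaf 0x115480bf)) (.node (.leaf 0xf3280b5) (.leaf 0x1386c0bd)))) (.node (.node (.node (.leaf 0xc5f80bd) (.leaf 0x100e40bf)) (.node (.leaf 0xb35c0d3) (.leaf 0x12c740d3))) (.node (.node (.leaf 0xc1bc0d3) (.leaf 0xf81c0ad)) (.node (.leaf 0xcae80b5) (.leaf 0x0))))) (.node (.node (.node (.node (.leaf 0xdf900b9) (.leaf 0x80380d1)) (.node (.leaf 0xe3840b1) (.leaf 0xc9980bd))) (.node (.node (.leaf 0xca300bd) (.leaf 0xd1480bd)) (.node (.leaf 0xefbc0d3) (.leaf 0xd78c0b3)))) (.node (.node (.node (.leaf 0xcdc00bd) (.leaf 0x80d80b1)) (.node (.leaf 0x8f8c0b3) (.leaf 0xcfd00bd))) (.node (.node (.leaf 0xc88c0bf) (.leaf 0x125640bf)) (.node (.leaf 0x9f6c0af) (.leaf 0x0))))))) (.node (.node (.node (.node (.node (.node (.leaf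 0xc9100d1) (.leaf 0xf5200b1)) (.node (.leaf 0xea0c0b9) (.leaf 0x85840b9))) (.node (.node (.leaf 0xb3800d3) (.leaf 0xf96c0d3)) (.node (.leaf 0x9f6c0bd) (.leaf 0xdb740d3)))) (.node (.node (.node (.leaf 0xf3fc0af) (.leaf 0x1347c0bd)) (.node (.leaf 0x157680af) (.leaf 0x8d200b1))) (.node (.node (.leaf 0x115840bd) (.leaf 0xc9a00af)) (.node (.leaf 0xe43c0d1) (.leaf 0x0))))) (.node (.node (.node (.node (.leaf 0xf7cc0b3) (.leaf 0x9dc40d1)) (.node (.leaf 0xdaa80bd) (.leaf 0xb3340d3))) (.node (.node (.leaf 0xa2c80bf) (.leaf 0xd88c0af)) (.node (.leaf 0xb6f80bf) (.leaf 0xf1c40d1)))) (.node (.node (.node (.leaf 0xc3ac0b3) (.leaf 0x13a140bf)) (.node (.leaf 0xebe40b3) (.leaf 0x12a600d1))) (.node (.node (.leaf 0xf9000d3) (.leaf 0xa7100af)) (.node (.leaf 0x127b80b5) (.leaf 0x0)))))) (.node (.node (.node (.node (.node (.leaf 0x105180d1) (.leaf 0x83e00ad)) (.node (.leaf 0xe94c0af) (.leaf 0xc4c40d3)))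 (.node (.node (.leaf 0x9d680ad) (.leaf 0x104280b1)) (.node (.leaf 0xfb000b5) (.leaf 0x9f840b9)))) (.node (.node (.node (.leaf 0xfb1c0af) (.leaf 0xa81c0d1)) (.node (.leaf 0xd3bc0af) (.leaf 0x136440d1))) (.node (.node (.leaf 0xab580d3) (.leaf 0xc2280d1)) (.node (.leaf 0x63d40bd) (.leaf 0x0))))) (.node (.node (.node (.node (.leaf 0x61540d3) (.leaf 0xd2f40b1)) (.node (.leaf 0xe6b80d3) (.leaf 0x105040b5))) (.node (.node (.leaf 0xdb6c0d3) (.leaf 0x12d300d1)) (.node (.leaf 0xddf80ad) (.leaf 0x0)))) (.node (.node (.node (.leaf 0xb8540d3) (.leaf 0x122380b5)) (.node (.leaf 0x82dc0ad) (.leaf 0xeba40bd))) (.node (.node (.leaf 0x5ae40d3) (.leaf 0x95400bf)) (.node (.leaf 0x838c0b1) (.leaf 0x0)))))))) (.node (.node (.node (.node (.node (.node (.node (.leaf 0xc2) (.leaf 0x16dc80bf)) (.node (.leaf 0x774c0bd) (.leaf 0xdc680d3))) (.node (.node (.leaf 0x10c1c0bd) (.leaf 0x11c940bf)) (.node (.leaf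 0x10bc00bf) (.leaf 0xec880b1)))) (.node (.node (.node (.leaf 0xcfd00b1) (.leaf 0xdb500bd)) (.node (.leaf 0x10bf00d1) (.leaf 0x751c0b3))) (.node (.node (.leaf 0xc6a80bd) (.leaf 0x987c0d1)) (.node (.leaf 0x93200bd) (.leaf 0x0))))) (.node (.node (.node (.node (.leaf 0xb3340bf) (.leaf 0x124080bf)) (.node (.leaf 0x11c240bd) (.leaf 0xda8c0b1))) (.node (.node (.leaf 0x1304c0bf) (.leaf 0xd99c0b3)) (.node (.leaf 0x8e5c0ad) (.leaf 0x10c400bf)))) (.node (.node (.node (.leaf 0xc3ac0b9) (.leaf 0xe6c80bf)) (.node (.leaf 0xc4d80b5) (.leaf 0x134500bd))) (.node (.node (.leaf 0x8e700bf) (.leaf 0xcc580bd)) (.node (.leaf 0xd2040bf) (.leaf 0x0)))))) (.node (.node (.node (.node (.node (.leaf 0xaa480d3) (.leaf 0x437c0b5)) (.node (.leaf 0xc1800bd) (.leaf 0xc5740af))) (.node (.node (.leaf 0x8ac00bf) (.leaf 0x87a80bf)) (.node (.leaf 0xad880d3) (.leaf 0xf4780d3)))) (.node (.node (.node (.leaf 0x86900bd)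 (.leaf 0xe8800bf)) (.node (.leaf 0xe6100b3) (.leaf 0x118200b1))) (.node (.node (.leaf 0x95940b1) (.leaf 0xd4c80bd)) (.node (.leaf 0xa3a40bf) (.leaf 0x0))))) (.node (.node (.node (.node (.leaf 0x43c40ad) (.leaf 0xe9280b9)) (.node (.leaf 0xd1000b1) (.leaf 0xf7ac0b3))) (.node (.node (.leaf 0xce400bf) (.leaf 0xc0580bf)) (.node (.leaf 0x117200b5) (.leaf 0x0)))) (.node (.node (.node (.leaf 0xeb300d3) (.leaf 0x118180bd)) (.node (.leaf 0x85980af) (.leaf 0x110))) (.node (.node (.leaf 0xe8bc0b1) (.leaf 0xef980b3)) (.node (.leaf 0x12ef80b3) (.leaf 0x0))))))) (.node (.node (.node (.node (.node (.node (.leaf 0xc3300bd) (.leaf 0xd3480b5)) (.node (.leaf 0x135780b9) (.leaf 0x11bd00b1))) (.node (.node (.leaf 0xe2d80d3) (.leaf 0x85980ad)) (.node (.leaf 0x102680bf) (.leaf 0xc8bc0bd)))) (.node (.node (.node (.leaf 0x860c0bf) (.leaf 0x1047c0d3)) (.node (.leaf 0xd3380d3) (.leaf 0x11a5c0bf))) (.node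 (.node (.leaf 0xb1140bd) (.leaf 0xf7440b3)) (.node (.leaf 0xf1bc0bf) (.leaf 0x0))))) (.node (.node (.node (.node (.leaf 0xce880af) (.leaf 0x404c0b1)) (.node (.leaf 0xdf0c0bf) (.leaf 0x893c0bf))) (.node (.node (.leaf 0xa2c40bf) (.leaf 0xe1ac0bd)) (.node (.leaf 0xb7480b1) (.leaf 0x85840bd)))) (.node (.node (.node (.leaf 0x80440bd) (.leaf 0x8e700b5)) (.node (.leaf 0xdb500b3) (.leaf 0xd9b40bf))) (.node (.node (.leaf 0xe8400d1) (.leaf 0xc3ac0bf)) (.node (.leaf 0x10ec00b9) (.leaf 0x0)))))) (.node (.node (.node (.node (.node (.leaf 0xee5c0d3) (.leaf 0xeda80bd)) (.node (.leaf 0x10c7c0bd) (.leaf 0xc4d80b3))) (.node (.node (.leaf 0xeb100b9) (.leaf 0x152780bf)) (.node (.leaf 0xcae40af) (.leaf 0x12e400bf)))) (.node (.node (.node (.leaf 0xc4dc0d3) (.leaf 0xc6600bf)) (.node (.leaf 0xc5f00bf) (.leaf 0x104ac0bd))) (.node (.node (.leaf 0xb9880bd) (.leaf 0xddc00bf)) (.node (.leaf 0x805c0d1)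 (.leaf 0x0))))) (.node (.node (.node (.node (.leaf 0x43640ad) (.leaf 0xc8c80bf)) (.node (.leaf 0xe8a80b5) (.leaf 0xc5ac0d1))) (.node (.node (.leaf 0x13b080d1) (.leaf 0x1077c0b9)) (.node (.leaf 0xa8640b9) (.leaf 0x0)))) (.node (.node (.node (.leaf 0x8d200b9) (.leaf 0xf7640bd)) (.node (.leaf 0x137c80bd) (.leaf 0x963c0ad))) (.node (.node (.leaf 0xb9740d1) (.leaf 0xdc640d1)) (.node (.leaf 0x436c0b9) (.leaf 0x0))))))))) (.node (.node (.node (.node (.node (.node (.node (.node (.leaf 0x88ec0bd) (.leaf 0xa1280b9)) (.node (.leaf 0xb7480bd) (.leaf 0x10c400bd))) (.node (.node (.leaf 0x95940ad) (.leaf 0xf9f80d1)) (.node (.leaf 0xa7100d3) (.leaf 0x9b340d1)))) (.node (.node (.node (.leaf 0xb3900bd) (.leaf 0x10b240d1)) (.node (.leaf 0xe01c0d3) (.leaf 0xf7cc0d3))) (.node (.node (.leaf 0x10fac0b1) (.leaf 0x92b00b1)) (.node (.leaf 0x118940d1) (.leaf 0x0))))) (.node (.node (.node (.node (.leaf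 0x751c0b5) (.leaf 0xc3f00bf)) (.node (.leaf 0x69980bf) (.leaf 0xea180bd))) (.node (.node (.leaf 0xf3fc0b3) (.leaf 0xc5740bd)) (.node (.leaf 0x92100d1) (.leaf 0xb3800b9)))) (.node (.node (.node (.leaf 0xe01c0d1) (.leaf 0x10f280bf)) (.node (.leaf 0xdf0c0b1) (.leaf 0xccb80ad))) (.node (.node (.leaf 0xcdf00b9) (.leaf 0xe2400d1)) (.node (.leaf 0xd7580b5) (.leaf 0x0)))))) (.node (.node (.node (.node (.node (.leaf 0xede00ad) (.leaf 0xc6740b3)) (.node (.leaf 0xd4140bf) (.leaf 0xf9380b9))) (.node (.node (.leaf 0x40740bf) (.leaf 0x12f3c0af)) (.node (.leaf 0x92100b3) (.leaf 0xaff80b1)))) (.node (.node (.node (.leaf 0xb0e40d1) (.leaf 0x130e80ad)) (.node (.leaf 0x101400af) (.leaf 0x11e380bf))) (.node (.node (.leaf 0xf7440b1) (.leaf 0xd4a80ad)) (.node (.leaf 0x62d40bd) (.leaf 0x0))))) (.node (.node (.node (.node (.leaf 0xa1100b5) (.leaf 0x63980bd)) (.node (.leaf 0x910c0b1) (.leaf 0xc9900bd)))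 (.node (.node (.leaf 0xc5bc0bd) (.leaf 0x92100ad)) (.node (.leaf 0xd6480ad) (.leaf 0x10d900bf)))) (.node (.node (.node (.leaf 0xb03c0ad) (.leaf 0xe1d00bf)) (.node (.leaf 0xda340bd) (.leaf 0xcfcc0bd))) (.node (.node (.leaf 0xc42c0d1) (.leaf 0xc4400af)) (.node (.leaf 0xc3ac0bd) (.leaf 0x0))))))) (.node (.node (.node (.node (.node (.node (.leaf 0xcfc80bd) (.leaf 0x138580d3)) (.node (.leaf 0xe0e40bf) (.leaf 0x9c140bf))) (.node (.node (.leaf 0x88d40ad) (.leaf 0x116840b9)) (.node (.leaf 0xf6680d3) (.leaf 0xf3180d3)))) (.node (.node (.node (.leaf 0xe3840d3) (.leaf 0x10bf00bf)) (.node (.leaf 0xd4dc0b9) (.leaf 0x104080bf))) (.node (.node (.leaf 0xc4400d1) (.leaf 0xf26c0d3)) (.node (.leaf 0xc45c0d1) (.leaf 0x0))))) (.node (.node (.node (.node (.leaf 0x135780bd) (.leaf 0x9d2c0bd)) (.node (.leaf 0xe3840b5) (.leaf 0xf7e40b1))) (.node (.node (.leaf 0xec400b5) (.leaf 0xdaa80bf)) (.node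 (.leaf 0x8e700ad) (.leaf 0x13a140bd)))) (.node (.node (.node (.leaf 0x83cc0b3) (.leaf 0x10cf80bf)) (.node (.leaf 0xb2500bd) (.leaf 0x10ef00bd))) (.node (.node (.leaf 0xe6940b5) (.leaf 0x130d00b1)) (.node (.leaf 0xf2dc0b5) (.leaf 0x0)))))) (.node (.node (.node (.node (.node (.leaf 0x136f40d1) (.leaf 0x83940ad)) (.node (.leaf 0xdacc0bd) (.leaf 0xca700b9))) (.node (.node (.leaf 0x130340bd) (.leaf 0xd3bc0ad)) (.node (.leaf 0x136f40d3) (.leaf 0xb2ec0d3)))) (.node (.node (.node (.leaf 0xaff80b3) (.leaf 0x119980bd)) (.node (.leaf 0xcd8c0bd) (.leaf 0x130b40bd))) (.node (.node (.leaf 0x124080bd) (.leaf 0x105b40bd)) (.node (.leaf 0xc0580d1) (.leaf 0x0))))) (.node (.node (.node (.node (.leaf 0x83400ad) (.leaf 0x13a900bf)) (.node (.leaf 0xe4e00bd) (.leaf 0xe9480bf))) (.node (.node (.leaf 0x115900ad) (.leaf 0xc42c0b9)) (.node (.leaf 0xd94c0ad) (.leaf 0x0)))) (.node (.node (.node (.leaf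 0xc7600bf) (.leaf 0x120fc0ad)) (.node (.leaf 0xea100ad) (.leaf 0x9c140d1))) (.node (.node (.leaf 0xca700d3) (.leaf 0xd4a80bd)) (.node (.leaf 0xa1bc0d1) (.leaf 0x0)))))))) (.node (.node (.node (.node (.node (.node (.node (.leaf 0xa2e80b1) (.leaf 0xe0b40bd)) (.node (.leaf 0xc1740d3) (.leaf 0x822c0d3))) (.node (.node (.leaf 0x138e80b9) (.leaf 0xa00c0bd)) (.node (.leaf 0x111e80bd) (.leaf 0xfa580d1)))) (.node (.node (.node (.leaf 0x12fa00bd) (.leaf 0xf1340ad)) (.node (.leaf 0xcb980bf) (.leaf 0xebb40bf))) (.node (.node (.leaf 0xe4e00b1) (.leaf 0x104280bf)) (.node (.leaf 0x69980b1) (.leaf 0x0))))) (.node (.node (.node (.node (.leaf 0xf4840bf) (.leaf 0x130b00b9)) (.node (.leaf 0xdac80b5) (.leaf 0xb4bc0b9))) (.node (.node (.leaf 0xe58c0b3) (.leaf 0xf31c0d1)) (.node (.leaf 0x133740bd) (.leaf 0x117e00d3)))) (.node (.node (.node (.leaf 0xc3280d3) (.leaf 0x105040bd)) (.node (.leaf 0x126840bf)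 (.leaf 0xe75c0d1))) (.node (.node (.leaf 0xf7440b5) (.leaf 0xe4440b5)) (.node (.leaf 0x16db80bf) (.leaf 0x0)))))) (.node (.node (.node (.node (.node (.leaf 0x94800d3) (.leaf 0xc3f00ad)) (.node (.leaf 0xd01c0ad) (.leaf 0x9c6c0b5))) (.node (.node (.leaf 0x92dc0bf) (.leaf 0xc52c0d1)) (.node (.leaf 0xee740d1) (.leaf 0x9c140b5)))) (.node (.node (.node (.leaf 0xf8f80b5) (.leaf 0xf6180d1)) (.node (.leaf 0x112700bf) (.leaf 0x98e80d1))) (.node (.node (.leaf 0x10c240d1) (.leaf 0x11b3c0d3)) (.node (.leaf 0xdd880d1) (.leaf 0x0))))) (.node (.node (.node (.node (.leaf 0x1a70) (.leaf 0x128600bd)) (.node (.leaf 0xc7780af) (.leaf 0x751c0ad))) (.node (.node (.leaf 0xf1bc0bd) (.leaf 0x104fc0b3)) (.node (.leaf 0x92f00bd) (.leaf 0x0)))) (.node (.node (.node (.leaf 0xe6500b1) (.leaf 0xa32c0b1)) (.node (.leaf 0xe8bc0b9) (.leaf 0x104080bd))) (.node (.node (.leaf 0x11e680bf) (.leaf 0x105500af)) (.node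 (.leaf 0x751c0d3) (.leaf 0x0))))))) (.node (.node (.node (.node (.node (.node (.leaf 0xd94c0b9) (.leaf 0x138b80b9)) (.node (.leaf 0x404c0bd) (.leaf 0x101000af))) (.node (.node (.leaf 0x40400d1) (.leaf 0xe5200b3)) (.node (.leaf 0xcf880d1) (.leaf 0xc8bc0bf)))) (.node (.node (.node (.leaf 0xed5c0d1) (.leaf 0x113d80bd)) (.node (.leaf 0xc6e00ad) (.leaf 0x158540bd))) (.node (.node (.leaf 0xf95c0d3) (.leaf 0xe2500bf)) (.node (.leaf 0xee900d1) (.leaf 0x0))))) (.node (.node (.node (.node (.leaf 0x82dc0b3) (.leaf 0x800c0d1)) (.node (.leaf 0xa2cc0bf) (.leaf 0x49940bd))) (.node (.node (.leaf 0xf6680d1) (.leaf 0xf7ac0d1)) (.node (.leaf 0xeb380d3) (.leaf 0xcac80af)))) (.node (.node (.node (.leaf 0xdb700b9) (.leaf 0xb5f00d1)) (.node (.leaf 0x1136c0d3) (.leaf 0xb35c0b1))) (.node (.node (.leaf 0xe4440af) (.leaf 0xf6180bf)) (.node (.leaf 0xc14c0bd) (.leaf 0x0)))))) (.node (.node (.node (.node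 (.node (.leaf 0xe1380bd) (.leaf 0x11c980b9)) (.node (.leaf 0x158540bf) (.leaf 0xcee40bf))) (.node (.node (.leaf 0x12ecc0d1) (.leaf 0xd7040bd)) (.node (.leaf 0xcfc80d1) (.leaf 0x10bf00bd)))) (.node (.node (.node (.leaf 0x43640b1) (.leaf 0x139800af)) (.node (.leaf 0xede00af) (.leaf 0xd7040bf))) (.node (.node (.leaf 0xcae80d1) (.leaf 0xddb80bd)) (.node (.leaf 0x404c0d3) (.leaf 0x0))))) (.node (.node (.node (.node (.leaf 0xdfd40b3) (.leaf 0x1067c0bf)) (.node (.leaf 0xe4e00bf) (.leaf 0xc9f40b9))) (.node (.node (.leaf 0xe3200b3) (.leaf 0x10bb80ad)) (.node (.leaf 0xe8fc0d3) (.leaf 0x0)))) (.node (.node (.node (.leaf 0x104040bf) (.leaf 0xe4140bf)) (.node (.leaf 0x116440bd) (.leaf 0xcc580b1))) (.node (.node (.leaf 0x9b340bd) (.leaf 0xf3c00d1)) (.node (.leaf 0xc5e80d1) (.leaf 0x0))))))))))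

/-- packed table -/
noncomputable def cov3_rrr : BTree := (.node (.node (.node (.node (.node (.node (.node (.node (.node (.leaf 0x86580bd) (.leaf 0x83400b3)) (.node (.leaf 0xb7880bd) (.leaf 0x12c300bf))) (.node (.node (.leaf 0xf73c0bd) (.leaf 0x774c0b9)) (.node (.leaf 0xd50c0b5) (.leaf 0x9d640bf)))) (.node (.node (.node (.leaf 0xc6fc0bd) (.leaf 0xc6bc0bd)) (.node (.leaf 0x904c0d3) (.leaf 0x124d80b1))) (.node (.node (.leaf 0xdbe40d3) (.leaf 0xda500bd)) (.node (.leaf 0xce980bd) (.leaf 0x0))))) (.node (.node (.node (.node (.leaf 0xcdf00bd) (.leaf 0x1653c0bd)) (.node (.leaf 0xce4c0b5) (.leaf 0x104f00bd))) (.node (.node (.leaf 0xcf180d1) (.leaf 0xb4bc0b1)) (.node (.leaf 0x104740d3) (.leaf 0x9f6c0bf)))) (.node (.node (.node (.leaf 0x834c0b3) (.leaf 0x12b1c0d1)) (.node (.leaf 0xd5a00b5) (.leaf 0x93200d1))) (.node (.node (.leaf 0xc65c0bf) (.leaf 0xc4400ad)) (.node (.leaf 0xe05c0ad)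 (.leaf 0x0)))))) (.node (.node (.node (.node (.node (.leaf 0xf4900ad) (.leaf 0xdfac0b1)) (.node (.leaf 0xd5700d1) (.leaf 0xfa580b9))) (.node (.node (.leaf 0x62d40d1) (.leaf 0xf4700bf)) (.node (.leaf 0xd88c0ad) (.leaf 0xf7cc0d1)))) (.node (.node (.node (.leaf 0x9d640bd) (.leaf 0x8afc0d1)) (.node (.leaf 0xf0fc0d3) (.leaf 0x94c))) (.node (.node (.leaf 0x1289c0b5) (.leaf 0x10de80d3)) (.node (.leaf 0x9d2c0b1) (.leaf 0x0))))) (.node (.node (.node (.node (.leaf 0xc65c0d1) (.leaf 0x149ec0bf)) (.node (.leaf 0x9dec0bf) (.leaf 0xb3800b3))) (.node (.node (.leaf 0xc6e80bd) (.leaf 0xcae40ad)) (.node (.leaf 0xd3700ad) (.leaf 0x83400bd)))) (.node (.node (.node (.leaf 0xf3fc0ad) (.leaf 0xe55c0bf)) (.node (.leaf 0xdf1c0af) (.leaf 0xcdfc0b5))) (.node (.node (.leaf 0x85980bf) (.leaf 0xd02c0d3)) (.node (.leaf 0x95940bd) (.leaf 0x0))))))) (.node (.node (.node (.node (.node (.node (.leaf 0xe2ac0b9)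 (.leaf 0xcfd40bd)) (.node (.leaf 0x10bb80d1) (.leaf 0x88d40bd))) (.node (.node (.leaf 0xe2540d3) (.leaf 0xdbe40d1)) (.node (.leaf 0x10b540b1) (.leaf 0xed780b9)))) (.node (.node (.node (.leaf 0xd0180b1) (.leaf 0xf1340af)) (.node (.leaf 0xc45c0b1) (.leaf 0x116940d1))) (.node (.node (.leaf 0x107400bf) (.leaf 0xe8580af)) (.node (.leaf 0xd3700af) (.leaf 0x0))))) (.node (.node (.node (.node (.leaf 0xf4900d3) (.leaf 0xddb40d1)) (.node (.leaf 0x987c0b9) (.leaf 0xd0700d1))) (.node (.node (.leaf 0xb7880b5) (.leaf 0xda7c0bf)) (.node (.leaf 0xad880b1) (.leaf 0x10f680bd)))) (.node (.node (.node (.leaf 0xdbc80b9) (.leaf 0xc4540bf)) (.node (.leaf 0xdb6c0b3) (.leaf 0xa2200bd))) (.node (.node (.leaf 0x10e440bd) (.leaf 0xcfec0bd)) (.node (.leaf 0xb8540d1) (.leaf 0x0)))))) (.node (.node (.node (.node (.node (.leaf 0x10ff40bd) (.leaf 0xc6a80b9)) (.node (.leaf 0xe4900b5) (.leaf 0x137f00bf)))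 (.node (.node (.leaf 0xd2900b3) (.leaf 0xb3800bd)) (.node (.leaf 0xb6f80d3) (.leaf 0xee600ad)))) (.node (.node (.node (.leaf 0xdca40bd) (.leaf 0x130c80bd)) (.node (.leaf 0x111900d3) (.leaf 0x119140bd))) (.node (.node (.leaf 0x120780d1) (.leaf 0xc4f80d1)) (.node (.leaf 0x893c0b5) (.leaf 0x0))))) (.node (.node (.node (.node (.leaf 0xc3300ad) (.leaf 0xc8b80bd)) (.node (.leaf 0xea100b9) (.leaf 0xf5200b9))) (.node (.node (.leaf 0x136000d1) (.leaf 0x132e00b5)) (.node (.leaf 0xfb000b3) (.leaf 0x0)))) (.node (.node (.node (.leaf 0x751c0b1) (.leaf 0xa4600b5)) (.node (.leaf 0xddf80bf) (.leaf 0xef000d3))) (.node (.node (.leaf 0x92180ad) (.leaf 0xfb340bd)) (.node (.leaf 0x43640d3) (.leaf 0x0)))))))) (.node (.node (.node (.node (.node (.node (.node (.leaf 0x62d40af) (.leaf 0xb2680bf)) (.node (.leaf 0x9f980bf) (.leaf 0xdc540d3))) (.node (.node (.leaf 0x11cac0bf) (.leaf 0x11c940bd)) (.node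 (.leaf 0xd4dc0af) (.leaf 0xe1380bf)))) (.node (.node (.node (.leaf 0xb6f80bd) (.leaf 0xb03c0d1)) (.node (.leaf 0xd3480af) (.leaf 0xb4bc0bd))) (.node (.node (.leaf 0x10f2c0bd) (.leaf 0x13aa00b5)) (.node (.leaf 0x114fc0b1) (.leaf 0x0))))) (.node (.node (.node (.node (.leaf 0xc6f00b1) (.leaf 0x108840bd)) (.node (.leaf 0xc5fc0bf) (.leaf 0x9b340b5))) (.node (.node (.leaf 0xe2300b9) (.leaf 0xd2c00b5)) (.node (.leaf 0xcfec0d1) (.leaf 0x132e00bd)))) (.node (.node (.node (.leaf 0x83940b3) (.leaf 0xcef80bd)) (.node (.leaf 0x9d2c0d3) (.leaf 0x104ec0bf))) (.node (.node (.leaf 0x63680d3) (.leaf 0xb1140af)) (.node (.leaf 0xe3b40d1) (.leaf 0x0)))))) (.node (.node (.node (.node (.node (.leaf 0xabf80d3) (.leaf 0xa0180b9)) (.node (.leaf 0xe8140bf) (.leaf 0xe8140b3))) (.node (.node (.leaf 0x49940b3) (.leaf 0x119540ad)) (.node (.leaf 0xe6940ad) (.leaf 0x963c0bd)))) (.node (.node (.node (.leaf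 0xde040bf) (.leaf 0x9c6c0b1)) (.node (.leaf 0x10e640d3) (.leaf 0xe43c0bd))) (.node (.node (.leaf 0xcdf00b5) (.leaf 0x94800b3)) (.node (.leaf 0x9d7c0b1) (.leaf 0x0))))) (.node (.node (.node (.node (.leaf 0x9fe00d3) (.leaf 0x13a380d3)) (.node (.leaf 0x1114c0b3) (.leaf 0x49b40bd))) (.node (.node (.leaf 0x118980b3) (.leaf 0x8e5c0af)) (.node (.leaf 0x116940b1) (.leaf 0x0)))) (.node (.node (.node (.leaf 0x118200d1) (.leaf 0xa8640bf)) (.node (.leaf 0xa6400ad) (.leaf 0xb1140b5))) (.node (.node (.leaf 0xdd440d3) (.leaf 0x12fd80bf)) (.node (.leaf 0x12d8c0bd) (.leaf 0x0))))))) (.node (.node (.node (.node (.node (.node (.leaf 0xdabc0bf) (.leaf 0x105b40bf)) (.node (.leaf 0xc5ac0bd) (.leaf 0xec2c0b5))) (.node (.node (.leaf 0xda800d3) (.leaf 0xd7340bf)) (.node (.leaf 0x10b100b1) (.leaf 0xf3600bd)))) (.node (.node (.node (.leaf 0x9d680bd) (.leaf 0xed780b1)) (.node (.leaf 0xaf680bd) (.leaf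 0x142000bf))) (.node (.node (.leaf 0x8e5c0b1) (.leaf 0xc8900af)) (.node (.leaf 0xdd200d3) (.leaf 0x0))))) (.node (.node (.node (.node (.leaf 0x61540bf) (.leaf 0x80640b3)) (.node (.leaf 0x63d40b1) (.leaf 0xb36c0b3))) (.node (.node (.leaf 0x104580bd) (.leaf 0xcfd00bf)) (.node (.leaf 0x100e80bd) (.leaf 0x1023c0bd)))) (.node (.node (.node (.leaf 0xcdfc0b1) (.leaf 0x97a80b9)) (.node (.leaf 0xd6bc0b9) (.leaf 0xc2ec0d1))) (.node (.node (.leaf 0x10c640bd) (.leaf 0xf6580b1)) (.node (.leaf 0xf31c0b5) (.leaf 0x0)))))) (.node (.node (.node (.node (.node (.leaf 0xf4700b3) (.leaf 0xaa480d1)) (.node (.leaf 0x116080d1) (.leaf 0x1127c0bd))) (.node (.node (.leaf 0x10bbc0bf) (.leaf 0x11c980d3)) (.node (.leaf 0xc6cc0d1) (.leaf 0xe7780bd)))) (.node (.node (.node (.leaf 0xc3d80b9) (.leaf 0x139680ad)) (.node (.leaf 0xf0780b3) (.leaf 0xc6f00af))) (.node (.node (.leaf 0xdb800b1) (.leaf 0x1160c0ad))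 (.node (.leaf 0xc0600d3) (.leaf 0x0))))) (.node (.node (.node (.node (.leaf 0xc6bc0b1) (.leaf 0xea140ad)) (.node (.leaf 0xd3d00b3) (.leaf 0x8e5c0bf))) (.node (.node (.leaf 0xf1000bf) (.leaf 0x116840b1)) (.node (.leaf 0x84340b5) (.leaf 0x0)))) (.node (.node (.node (.leaf 0x8d200b3) (.leaf 0x1233c0af)) (.node (.leaf 0xc5880bf) (.leaf 0xd4280b9))) (.node (.node (.leaf 0x13a140d1) (.leaf 0x134200b1)) (.node (.leaf 0xc3f00b1) (.leaf 0x0))))))))) (.node (.node (.node (.node (.node (.node (.node (.node (.leaf 0x80700b5) (.leaf 0xa00c0d1)) (.node (.leaf 0x1114c0d3) (.leaf 0x69980d1))) (.node (.node (.leaf 0xf0800b5) (.leaf 0x155340bf)) (.node (.leaf 0x128ec0d3) (.leaf 0xd2900ad)))) (.node (.node (.node (.leaf 0xb5f00ad) (.leaf 0x98e80bd)) (.node (.leaf 0xb35c0bd) (.leaf 0x12fd80bd))) (.node (.node (.leaf 0xfa600bd) (.leaf 0xf31c0bf)) (.node (.leaf 0xc3600bf) (.leaf 0x0))))) (.node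 (.node (.node (.node (.leaf 0xd99c0af) (.leaf 0xf31c0b9)) (.node (.leaf 0x1114c0d1) (.leaf 0x63680b9))) (.node (.node (.leaf 0xc8180d3) (.leaf 0x11cac0b5)) (.node (.leaf 0xca8c0d1) (.leaf 0xe0bc0d1)))) (.node (.node (.node (.leaf 0x860c0d3) (.leaf 0xd5a00b3)) (.node (.leaf 0x774c0ad) (.leaf 0xf6580b5))) (.node (.node (.leaf 0xdd340d3) (.leaf 0xcd080b1)) (.node (.leaf 0x103f40bf) (.leaf 0x0)))))) (.node (.node (.node (.node (.node (.leaf 0x109fc0bd) (.leaf 0x436c0b5)) (.node (.leaf 0xd3700b1) (.leaf 0x11f000af))) (.node (.node (.leaf 0x49940d3) (.leaf 0x127cc0ad)) (.node (.leaf 0x121440bd) (.leaf 0x132b40b5)))) (.node (.node (.node (.leaf 0xfa700d3) (.leaf 0x116840d1)) (.node (.leaf 0xebb40b3) (.leaf 0xe6480d3))) (.node (.node (.leaf 0xaff80bf) (.leaf 0xeb100d1)) (.node (.leaf 0xa2c40bd) (.leaf 0x0))))) (.node (.node (.node (.node (.leaf 0xc6a80d3) (.leaf 0xc9f40bf)) (.node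 (.leaf 0x111080b9) (.leaf 0xa2200b9))) (.node (.node (.leaf 0xc0600bd) (.leaf 0x805c0bf)) (.node (.leaf 0xcdfc0b3) (.leaf 0xe3900ad)))) (.node (.node (.node (.leaf 0xd6ac0b3) (.leaf 0xb2500d3)) (.node (.leaf 0xe4c00d1) (.leaf 0x8e5c0b5))) (.node (.node (.leaf 0x115380d1) (.leaf 0xf7cc0bf)) (.node (.leaf 0xf3940b1) (.leaf 0x0))))))) (.node (.node (.node (.node (.node (.node (.leaf 0xdab80bf) (.leaf 0xb44c0b5)) (.node (.leaf 0xe4440ad) (.leaf 0xf2d40d3))) (.node (.node (.leaf 0xa2bc0d3) (.leaf 0xb9880d3)) (.node (.leaf 0xf4140d3) (.leaf 0x138b80bf)))) (.node (.node (.node (.leaf 0xe1240bd) (.leaf 0x10c1c0bf)) (.node (.leaf 0x8d200b5) (.leaf 0x774c0d3))) (.node (.node (.leaf 0xea100d1) (.leaf 0x110300d3)) (.node (.leaf 0xefe40b1) (.leaf 0x0))))) (.node (.node (.node (.node (.leaf 0xf7b80b1) (.leaf 0x62d40b5)) (.node (.leaf 0x1312c0bd) (.leaf 0xca300d3))) (.node (.node (.leaf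 0xfa1c0ad) (.leaf 0xd7580af)) (.node (.leaf 0xb9740b3) (.leaf 0xf5080ad)))) (.node (.node (.node (.leaf 0x83400d1) (.leaf 0x14efc0bf)) (.node (.leaf 0x85840d1) (.leaf 0xde9c0b5))) (.node (.node (.leaf 0x132b40af) (.leaf 0xeb140d3)) (.node (.leaf 0xe6100d1) (.leaf 0x0)))))) (.node (.node (.node (.node (.node (.leaf 0x963c0bf) (.leaf 0x61540af)) (.node (.leaf 0xd78c0d1) (.leaf 0x9f6c0b5))) (.node (.node (.leaf 0xdb700ad) (.leaf 0xe7040d3)) (.node (.leaf 0xaa480b1) (.leaf 0xe58c0d1)))) (.node (.node (.node (.leaf 0xb36c0d3) (.leaf 0x130c80d3)) (.node (.leaf 0xea100af) (.leaf 0x136380d3))) (.node (.node (.leaf 0xe9c40b9) (.leaf 0xc1b80d1)) (.node (.leaf 0x891c0b9) (.leaf 0x0))))) (.node (.node (.node (.node (.leaf 0xc6400b9) (.leaf 0xd2c00b1)) (.node (.leaf 0x92f00d3) (.leaf 0x12c300bd))) (.node (.node (.leaf 0xc7300d3) (.leaf 0xb6f80d1)) (.node (.leaf 0xf9900bd) (.leaf 0x0))))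 (.node (.node (.node (.leaf 0xcdcc0bd) (.leaf 0x12c340bd)) (.node (.leaf 0x101c40bd) (.leaf 0xd2900af))) (.node (.node (.leaf 0xe57c0b9) (.leaf 0x922c0af)) (.node (.leaf 0x437c0d1) (.leaf 0x0)))))))) (.node (.node (.node (.node (.node (.node (.node (.leaf 0x80000bd) (.leaf 0x12ed00d3)) (.node (.leaf 0x12a880d1) (.leaf 0x88d40bf))) (.node (.node (.leaf 0x138880b3) (.leaf 0x138900bf)) (.node (.leaf 0x63680d1) (.leaf 0xc8a00b1)))) (.node (.node (.node (.leaf 0xd6c00bd) (.leaf 0x12e400bd)) (.node (.leaf 0xe6c80bd) (.leaf 0xcb780d3))) (.node (.node (.leaf 0xcfd00d1) (.leaf 0x10fb80bf)) (.node (.leaf 0xc4700bd) (.leaf 0x0))))) (.node (.node (.node (.node (.leaf 0xf69c0bd) (.leaf 0xfa1c0b1)) (.node (.leaf 0xf0ac0d3) (.leaf 0x131f00af))) (.node (.node (.leaf 0x138880bf) (.leaf 0xd0940d3)) (.node (.leaf 0x9fe40d1) (.leaf 0x98000b5)))) (.node (.node (.node (.leaf 0xe1980b9) (.leaf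 0x117b40b9)) (.node (.leaf 0xfb340d3) (.leaf 0xeb5c0bf))) (.node (.node (.leaf 0x138f00d3) (.leaf 0xf5480b1)) (.node (.leaf 0xcbfc0d3) (.leaf 0x0)))))) (.node (.node (.node (.node (.node (.leaf 0xc3b00bd) (.leaf 0x83cc0ad)) (.node (.leaf 0x12b900af) (.leaf 0xdf0c0b9))) (.node (.node (.leaf 0x89500d1) (.leaf 0xf25c0d3)) (.node (.leaf 0xd1c80bf) (.leaf 0x10dec0bf)))) (.node (.node (.node (.leaf 0xc6fc0d3) (.leaf 0xb36c0bd)) (.node (.leaf 0xcda80bd) (.leaf 0xcac80ad))) (.node (.node (.leaf 0xe9c40b3) (.leaf 0xf3600b1)) (.node (.leaf 0x49940d1) (.leaf 0x0))))) (.node (.node (.node (.node (.leaf 0xde) (.leaf 0x1208c0bf)) (.node (.leaf 0xa6400d1) (.leaf 0xedd80d3))) (.node (.node (.leaf 0xef940b5) (.leaf 0x119040bd)) (.node (.leaf 0xf6200b5) (.leaf 0x0)))) (.node (.node (.node (.leaf 0xdac80d3) (.leaf 0xf82c0ad)) (.node (.leaf 0x9f6c0b1) (.leaf 0xc54c0d1))) (.node (.node (.leaf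 0x111900d1) (.leaf 0xe1d00bd)) (.node (.leaf 0xe8740bd) (.leaf 0x0))))))) (.node (.node (.node (.node (.node (.node (.leaf 0x11bc40bf) (.leaf 0xc5bc0bf)) (.node (.leaf 0xd32c0b9) (.leaf 0xabf80b1))) (.node (.node (.leaf 0xa2d00d1) (.leaf 0x8f8c0b1)) (.node (.leaf 0xf69c0af) (.leaf 0x8e700d1)))) (.node (.node (.node (.leaf 0xc45c0d3) (.leaf 0x156f40bf)) (.node (.leaf 0xcae40d1) (.leaf 0x118500bd))) (.node (.node (.leaf 0xc1f40bd) (.leaf 0x98000bd)) (.node (.leaf 0xf1000b5) (.leaf 0x0))))) (.node (.node (.node (.node (.leaf 0xc9040bf) (.leaf 0xc0280d1)) (.node (.leaf 0x112a80af) (.leaf 0xee740b3))) (.node (.node (.leaf 0x63d40af) (.leaf 0xde9c0bf)) (.node (.leaf 0xccdc0b9) (.leaf 0xe8800b3)))) (.node (.node (.node (.leaf 0xb35c0ad) (.leaf 0xe7d80af)) (.node (.leaf 0xdd3c0d1) (.leaf 0xda880bd))) (.node (.node (.leaf 0x116940d3) (.leaf 0xd29c0bd)) (.node (.leaf 0xe8680b9) (.leaf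 0x0)))))) (.node (.node (.node (.node (.node (.leaf 0x133880d3) (.leaf 0xc3f80bf)) (.node (.leaf 0x13b080bd) (.leaf 0xc43c0bf))) (.node (.node (.leaf 0xc54c0d3) (.leaf 0x117180bd)) (.node (.leaf 0xca8c0d3) (.leaf 0xcd4c0d3)))) (.node (.node (.node (.leaf 0xa00c0d3) (.leaf 0x129b00bf)) (.node (.leaf 0x102740b1) (.leaf 0xc2980ad))) (.node (.node (.leaf 0xb2500d1) (.leaf 0xe4440bd)) (.node (.leaf 0x40740d3) (.leaf 0x0))))) (.node (.node (.node (.node (.leaf 0xea780d1) (.leaf 0x138700bd)) (.node (.leaf 0xc5880b1) (.leaf 0x97a80d3))) (.node (.node (.leaf 0xa32c0b3) (.leaf 0x8e800bd)) (.node (.leaf 0xf73c0d1) (.leaf 0x0)))) (.node (.node (.node (.leaf 0xf3fc0bd) (.leaf 0xd77c0b9)) (.node (.leaf 0xfa880d1) (.leaf 0x9d680bf))) (.node (.node (.leaf 0xc45c0b3) (.leaf 0xd6480b9)) (.node (.leaf 0x860c0d1) (.leaf 0x0))))))))))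

/-- packed table -/
noncomputable def cov3 : BTree := (.node (.node (.node cov3_lll cov3_llr) (.node cov3_lrl cov3_lrr)) (.node (.node cov3_rll cov3_rlr) (.node cov3_rrl cov3_rrr)))

theorem cov3_ok : okCover 3 cov3 = true := by decide +kernel

/-- straight-line program -/
def slp3 : List (Nat × Nat × Nat) :=
  [(0xbdaa99ca117b96069e85519020906c, 5, 5),
   (0x20c3401d05131756dd307aa3271a76, 2, 6),
   (0xadde399947b384d2502c4c8088162b, 2, 7),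
   (0x7d6c5719abbce218090924a8702983, 8, 6),
   (0x10470629ab200ae44a3431d37abed3, 5, 7),
   (0xb3eec74882accf052003298346a571, 5, 8),
   (0x61d4810d3401237858aba85ae34e4f, 7, 8),
   (0x71a4ab5c239d41462ce26bc902c509, 7, 9),
   (0x90495010519daf5d690b3233938d7, 13, 9),
   (0x19051531ab09cb344a0930297b3eae, 13, 10),
   (0x71a547d6309dda2585281d8a03b144, 11, 11),
   (0x815034b40c8d09613c2abacf333a55, 11, 12),
   (0x7daac34c44bc9513a0032b8345a5b0, 17, 12),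
   (0x9c8caabc2375809634e25dc91440b4, 15, 13),
   (0x34dd1b3e899550a2b20d05d6110c87, 17, 13),
   (0x3b00d0921150e924b965989167d6e6, 16, 14),
   (0x33a647d58095c680c0478d94b4b685, 16, 15),
   (0x7d6c433980bc86b0a447a4d488162d, 21, 11),
   (0x71a51bd9349bd0c29e0b555a219020, 22, 23),
   (0x7d6c971a11bcd6c6aa853c90418820, 23, 23),
   (0x9c8cb7d4a875e83489b125a0762801, 23, 24),
   (0x33a70abd349590c2aa2d3dd6418820, 23, 0),
   (0x748c5bd5ab9be0c8a9143d92209060, 22, 16),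
   (0xb3eeb34d05aca8c4a9b03ba2209060, 28, 12),
   (0x815176a6468aeacb29f33d1c110c80, 25, 12),
   (0xb5deb94d05a9927a01b163a0110c8a, 25, 25),
   (0x99a487d96d75e2c828a93d68209060, 29, 0),
   (0x628e6192b6005d09a257289eb4b691, 28, 21),
   (0x2c616a366e426ec7aaa63ae4320440, 28, 0),
   (0x7daa999a11bb9a758288648a32044a, 33, 31),
   (0x93a647d98035c301a04a2d4f46a571, 30, 0),
   (0xadded938a8b192ca29713ce0209060, 31, 0),
   (0x10c365024621de5bc6b3831c95d1a8, 33, 32),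
   (0x5d12e8a2b66c2473026f616e41882a, 33, 0),
   (0x442354add32d1ecbaad23b4c320440, 37, 0),
   (0x188913b1ab0a9062ba1498136bd5f2, 36, 16),
   (0xa2da0814234c5563dd827a08e34e55, 36, 0),
   (0x5d132815f76c66c71cd6522a310480, 38, 0),
   (0x6d12244147594730988c94415bd9ee, 38, 36),
   (0x2c2215d00c4349615c677a54e34e55, 42, 0),
   (0x2c22fa2e46426acb1eee5366310480, 41, 0),
   (0x1d5708a6e60ec9aade66924881634, 42, 38),
   (0x442264adf72d1c498e560b6aa61c02, 42, 0),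
   (0x4adb32c6b6a20cc91dcf542e120c40, 47, 0),
   (0xbd6d474a307cd6768125619032044a, 46, 48),
   (0x34dc2bd40c93c700a0872d9546a571, 45, 0),
   (0x104763824622af07a2ae2b26b4b691, 47, 0),
   (0x5a68e822b66c4cc92a77395e320440, 47, 0),
   (0x1889702a6e0b2b0b21f229ccda2d31, 48, 14),
   (0xa2da6445f74966c72a553c2c110c80, 49, 0),
   (0x7d6c87196dbce03890b41492a61c01, 53, 55),
   (0xabef494e11b196c69d28538a219020, 53, 0)]

/-- levels -/
def levels3 : List (Nat × List Nat) :=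
  [(0, [58, 0, 2, 3, 4, 5, 6, 7, 8, 9, 10, 11, 12, 13, 14, 15, 16, 17, 18, 19, 20, 21, 22, 23]),
   (5, [58, 24, 25, 27, 28, 29, 30, 32, 34, 37, 40, 43, 46, 49, 53, 55]),
   (2, [58, 57])]

/-- stabilising facts -/
def gens3 : List Nat := [43, 44, 45, 46, 47, 52]

theorem chain3_ok : okChain 3 gens3 slp3 levels3 = true := by decide +kernel

theorem chain3_size : chainSize levels3 = 768 := by decide +kernel

end CfsgLib.Spor.J4.Index
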