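import Cfsg.Agent.Lib.Spor.J4.Index.Check

/-!
Coverage and stabiliser of node 4 (generated).
-/

set_option autoImplicit false
set_option linter.all false

namespace CfsgLib.Spor.J4.Index

open CfsgLib.PresCert

/-- packed table -/
noncomputable def cov4_lll : BTree := (.node (.node (.node (.node (.node (.node (.node (.node (.node (.leaf 0x6b2) (.leaf 0x494c0f7)) (.node (.leaf 0x1338) (.leaf 0xce4))) (.node (.node (.leaf 0x40e40f5) (.leaf 0xaf2)) (.node (.leaf 0x6d0) (.leaf 0x6b400f5)))) (.node (.node (.node (.leaf 0x65740f5) (.leaf 0x654)) (.node (.leaf 0x68440f5) (.leaf 0x146))) (.node (.node (.leaf 0x78140f5) (.leaf 0x44180f5)) (.node (.leaf 0x63fc0f7) (.leaf 0x0))))) (.node (.node (.node (.node (.leaf 0x11ce) (.leaf 0x4ecc0f5)) (.node (.leaf 0x5f440f7) (.leaf 0x5be00f5))) (.node (.node (.leaf 0x414) (.leaf 0x5e240f5)) (.node (.leaf 0x3f4) (.leaf 0x296)))) (.node (.node (.node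 (.leaf 0x617c0f7) (.leaf 0x1b74)) (.node (.leaf 0x72e40f5) (.leaf 0x57400f5))) (.node (.node (.leaf 0x671c0f7) (.leaf 0x5da80f7)) (.node (.leaf 0x8ec) (.leaf 0x0)))))) (.node (.node (.node (.node (.node (.leaf 0x314) (.leaf 0x58a)) (.node (.leaf 0xbce) (.leaf 0x42540f7))) (.node (.node (.leaf 0x42840f7) (.leaf 0x5dac0f5)) (.node (.leaf 0x6cf40f5) (.leaf 0x64200f7)))) (.node (.node (.node (.leaf 0x41040f5) (.leaf 0x1d4)) (.node (.leaf 0x634) (.leaf 0x79380f5))) (.node (.node (.leaf 0x40000f7) (.leaf 0x586)) (.node (.leaf 0x888) (.leaf 0x0))))) (.node (.node (.node (.node (.leaf 0x21c) (.leaf 0x3e6)) (.node (.leaf 0x5ea80f5) (.leaf 0x5e180f7))) (.node (.node (.leaf 0x5f940f7) (.leaf 0x5e880f7)) (.node (.leaf 0x79080f7) (.leaf 0x782c0f5)))) (.node (.node (.node (.leaf 0x77400f7) (.leaf 0x5de40f5)) (.node (.leaf 0x50b00f5) (.leaf 0x6ab40f5))) (.node (.node (.leaf 0x525c0f7) (.leaf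 0x5df80f5)) (.node (.leaf 0x1792) (.leaf 0x0))))))) (.node (.node (.node (.node (.node (.node (.leaf 0x655c0f5) (.leaf 0x47c00f7)) (.node (.leaf 0x736c0f5) (.leaf 0x16ae))) (.node (.node (.leaf 0x150) (.leaf 0x1af8)) (.node (.leaf 0x59ec0f7) (.leaf 0x41f00f5)))) (.node (.node (.node (.leaf 0x766c0f7) (.leaf 0x45c00f7)) (.node (.leaf 0x524) (.leaf 0x532))) (.node (.node (.leaf 0x63900f7) (.leaf 0x55840f7)) (.node (.leaf 0x45300f5) (.leaf 0x0))))) (.node (.node (.node (.node (.leaf 0x61b80f7) (.leaf 0x54800f5)) (.node (.leaf 0x74240f5) (.leaf 0x51900f5))) (.node (.node (.leaf 0x5dcc0f7) (.leaf 0x604)) (.node (.leaf 0x7ab40f7) (.leaf 0x4a080f5)))) (.node (.node (.node (.leaf 0x1436) (.leaf 0x76a80f7)) (.node (.leaf 0x592c0f7) (.leaf 0x42a00f5))) (.node (.node (.leaf 0x41dc0f7) (.leaf 0x8b2)) (.node (.leaf 0x5b040f7) (.leaf 0x0)))))) (.node (.node (.node (.node (.node (.leaf 0x5f740f7)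 (.leaf 0x52100f7)) (.node (.leaf 0x5fc00f7) (.leaf 0x7b140f7))) (.node (.node (.leaf 0x41e00f5) (.leaf 0x4e840f7)) (.node (.leaf 0x1ea) (.leaf 0x113a)))) (.node (.node (.node (.leaf 0x52540f7) (.leaf 0x67cc0f5)) (.node (.leaf 0x6bc00f7) (.leaf 0x1cc))) (.node (.node (.leaf 0x4b800f5) (.leaf 0x67c)) (.node (.leaf 0x5c400f7) (.leaf 0x0))))) (.node (.node (.node (.node (.leaf 0x62480f5) (.leaf 0x13a2)) (.node (.leaf 0x710) (.leaf 0x50740f5))) (.node (.node (.leaf 0x2ea) (.leaf 0x6d280f7)) (.node (.leaf 0x61580f7) (.leaf 0x0)))) (.node (.node (.node (.leaf 0x433c0f7) (.leaf 0x4a8c0f7)) (.node (.leaf 0x41e00f7) (.leaf 0x52680f7))) (.node (.node (.leaf 0x56a) (.leaf 0x7a580f7)) (.node (.leaf 0x41700f5) (.leaf 0x0)))))))) (.node (.node (.node (.node (.node (.node (.node (.leaf 0x70240f7) (.leaf 0x4fe00f5)) (.node (.leaf 0x49700f7) (.leaf 0x732c0f7))) (.node (.node (.leaf 0x1b1a) (.leaf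 0x2f4)) (.node (.leaf 0x61cc0f5) (.leaf 0x50000f7)))) (.node (.node (.node (.leaf 0x77cc0f5) (.leaf 0x78480f7)) (.node (.leaf 0x4e680f5) (.leaf 0x51d40f7))) (.node (.node (.leaf 0x6b7c0f7) (.leaf 0x4f800f5)) (.node (.leaf 0x14cc) (.leaf 0x0))))) (.node (.node (.node (.node (.leaf 0xcc6) (.leaf 0x624)) (.node (.leaf 0x61880f5) (.leaf 0x6d4c0f5))) (.node (.node (.leaf 0x6b540f7) (.leaf 0x292)) (.node (.leaf 0x4c640f7) (.leaf 0x45440f7)))) (.node (.node (.node (.leaf 0x72100f5) (.leaf 0x67500f5)) (.node (.leaf 0x59800f7) (.leaf 0x61340f5))) (.node (.node (.leaf 0x53300f7) (.leaf 0xbf2)) (.node (.leaf 0xaca) (.leaf 0x0)))))) (.node (.node (.node (.node (.node (.leaf 0x71340f5) (.leaf 0xa22)) (.node (.leaf 0x546) (.leaf 0x5b8c0f5))) (.node (.node (.leaf 0x2de) (.leaf 0x6d800f5)) (.node (.leaf 0x76280f5) (.leaf 0x4da80f5)))) (.node (.node (.node (.leaf 0x26a) (.leaf 0x5fc40f7)) (.node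 (.leaf 0x6f980f5) (.leaf 0x216))) (.node (.node (.leaf 0xd70) (.leaf 0x54d80f5)) (.node (.leaf 0x4c500f5) (.leaf 0x0))))) (.node (.node (.node (.node (.leaf 0x33a) (.leaf 0x53bc0f7)) (.node (.leaf 0x46b40f7) (.leaf 0x75240f5))) (.node (.node (.leaf 0x76940f5) (.leaf 0x67a)) (.node (.leaf 0x424c0f7) (.leaf 0x50880f7)))) (.node (.node (.node (.leaf 0x7a7c0f7) (.leaf 0x65500f7)) (.node (.leaf 0x554) (.leaf 0x17fe))) (.node (.node (.leaf 0x4c940f5) (.leaf 0x2da)) (.node (.leaf 0x7e0) (.leaf 0x0))))))) (.node (.node (.node (.node (.node (.node (.leaf 0x2cc) (.leaf 0x5a640f5)) (.node (.leaf 0x749c0f7) (.leaf 0x928))) (.node (.node (.leaf 0x4d9c0f5) (.leaf 0x734c0f7)) (.node (.leaf 0x734c0f5) (.leaf 0x45f00f5)))) (.node (.node (.node (.leaf 0x5ac80f7) (.leaf 0xb16)) (.node (.leaf 0x63000f7) (.leaf 0x11e6))) (.node (.node (.leaf 0x7a000f7) (.leaf 0x45b00f5)) (.node (.leaf 0x51a) (.leaf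 0x0))))) (.node (.node (.node (.node (.leaf 0x79840f7) (.leaf 0x40b00f7)) (.node (.leaf 0x517c0f5) (.leaf 0x79840f5))) (.node (.node (.leaf 0xb0c) (.leaf 0x238)) (.node (.leaf 0x1752) (.leaf 0x5a4)))) (.node (.node (.node (.leaf 0x487c0f7) (.leaf 0x2b8)) (.node (.leaf 0x71b00f5) (.leaf 0x270))) (.node (.node (.leaf 0x70b80f7) (.leaf 0xf1a)) (.node (.leaf 0x52f80f7) (.leaf 0x0)))))) (.node (.node (.node (.node (.node (.leaf 0x4ef40f5) (.leaf 0x42880f5)) (.node (.leaf 0x52480f5) (.leaf 0x5e300f7))) (.node (.node (.leaf 0x74080f7) (.leaf 0x56ec0f7)) (.node (.leaf 0x6bec0f5) (.leaf 0x56b40f5)))) (.node (.node (.node (.leaf 0x1be0) (.leaf 0x57d40f5)) (.node (.leaf 0x53e40f7) (.leaf 0x69940f7))) (.node (.node (.leaf 0x5d780f7) (.leaf 0xf58)) (.node (.leaf 0x71ac0f7) (.leaf 0x0))))) (.node (.node (.node (.node (.leaf 0x58940f5) (.leaf 0x62ec0f5)) (.node (.leaf 0x4d2c0f7) (.leaf 0x4b080f5)))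 (.node (.node (.leaf 0x198) (.leaf 0x17c2)) (.node (.leaf 0x4b8c0f5) (.leaf 0x0)))) (.node (.node (.node (.leaf 0x25c) (.leaf 0x244)) (.node (.leaf 0x5f000f5) (.leaf 0xf6a))) (.node (.node (.leaf 0x74840f5) (.leaf 0x570c0f7)) (.node (.leaf 0xde0) (.leaf 0x0))))))))) (.node (.node (.node (.node (.node (.node (.node (.node (.leaf 0x64100f7) (.leaf 0x50c40f5)) (.node (.leaf 0x4e1c0f7) (.leaf 0x48b00f5))) (.node (.node (.leaf 0x76c) (.leaf 0xca8)) (.node (.leaf 0x61e40f5) (.leaf 0x69340f5)))) (.node (.node (.node (.leaf 0x9aa) (.leaf 0x1398)) (.node (.leaf 0x68540f5) (.leaf 0xbf6))) (.node (.node (.leaf 0x4e440f7) (.leaf 0x42880f7)) (.node (.leaf 0x59540f7) (.leaf 0x0))))) (.node (.node (.node (.node (.leaf 0x74200f5) (.leaf 0x75e40f5)) (.node (.leaf 0x617c0f5) (.leaf 0x1c0a))) (.node (.node (.leaf 0x17e0) (.leaf 0x4bb40f7)) (.node (.leaf 0x5b8c0f7) (.leaf 0x759c0f7)))) (.node (.node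 (.node (.leaf 0x6ef00f5) (.leaf 0x75580f5)) (.node (.leaf 0x6e4c0f7) (.leaf 0x145e))) (.node (.node (.leaf 0x40dc0f7) (.leaf 0x45a80f5)) (.node (.leaf 0x6a040f7) (.leaf 0x0)))))) (.node (.node (.node (.node (.node (.leaf 0x250) (.leaf 0x761c0f7)) (.node (.leaf 0x4ac00f5) (.leaf 0x6d600f5))) (.node (.node (.leaf 0x6e500f7) (.leaf 0x6d780f5)) (.node (.leaf 0x614c0f7) (.leaf 0x4ca40f7)))) (.node (.node (.node (.leaf 0x4b900f5) (.leaf 0x4d2c0f5)) (.node (.leaf 0x4d900f5) (.leaf 0x5ef00f5))) (.node (.node (.leaf 0x4db00f7) (.leaf 0x43c80f5)) (.node (.leaf 0x12e6) (.leaf 0x0))))) (.node (.node (.node (.node (.leaf 0x40f00f5) (.leaf 0x6ec40f7)) (.node (.leaf 0x5eb80f5) (.leaf 0x59300f5))) (.node (.node (.leaf 0x73bc0f7) (.leaf 0x575c0f5)) (.node (.leaf 0x78f80f7) (.leaf 0x57ec0f7)))) (.node (.node (.node (.leaf 0xb98) (.leaf 0x1380)) (.node (.leaf 0x62440f7) (.leaf 0x177c))) (.node (.node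 (.leaf 0x73840f5) (.leaf 0xd86)) (.node (.leaf 0x5de00f5) (.leaf 0x0))))))) (.node (.node (.node (.node (.node (.node (.leaf 0x5ff00f5) (.leaf 0xbb6)) (.node (.leaf 0x4a580f7) (.leaf 0x4bf00f7))) (.node (.node (.leaf 0xa8e) (.leaf 0x4b800f7)) (.node (.leaf 0x4b2) (.leaf 0x5ba80f7)))) (.node (.node (.node (.leaf 0x556) (.leaf 0x68e)) (.node (.leaf 0x76940f7) (.leaf 0x17de))) (.node (.node (.leaf 0x79f00f7) (.leaf 0x67740f7)) (.node (.leaf 0x453c0f5) (.leaf 0x0))))) (.node (.node (.node (.node (.leaf 0x998) (.leaf 0x1028)) (.node (.leaf 0x6cc80f5) (.leaf 0x5e6))) (.node (.node (.leaf 0x5c640f7) (.leaf 0x29c)) (.node (.leaf 0x7ac00f7) (.leaf 0x697c0f7)))) (.node (.node (.node (.leaf 0x53380f5) (.leaf 0x539c0f7)) (.node (.leaf 0x5ba80f5) (.leaf 0x66880f5))) (.node (.node (.leaf 0xe8) (.leaf 0x4e940f7)) (.node (.leaf 0x41200f5) (.leaf 0x0)))))) (.node (.node (.node (.node (.node (.leaf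 0x50f00f7) (.leaf 0xda8)) (.node (.leaf 0xc64) (.leaf 0x62580f5))) (.node (.node (.leaf 0x54180f7) (.leaf 0x1742)) (.node (.leaf 0x59780f5) (.leaf 0x5e4)))) (.node (.node (.node (.leaf 0x73280f7) (.leaf 0xc2e)) (.node (.leaf 0x6bf00f5) (.leaf 0x46840f7))) (.node (.node (.leaf 0x4bc00f5) (.leaf 0x71100f7)) (.node (.leaf 0xd1c) (.leaf 0x0))))) (.node (.node (.node (.node (.leaf 0x69c) (.leaf 0x1372)) (.node (.leaf 0x1360) (.leaf 0x73ec0f5))) (.node (.node (.leaf 0x40e80f7) (.leaf 0x75c40f7)) (.node (.leaf 0x5ddc0f7) (.leaf 0x0)))) (.node (.node (.node (.leaf 0x489c0f5) (.leaf 0x264)) (.node (.leaf 0x42000f7) (.leaf 0x42b40f5))) (.node (.node (.leaf 0x45280f7) (.leaf 0x55bc0f5)) (.node (.leaf 0x44380f5) (.leaf 0x0)))))))) (.node (.node (.node (.node (.node (.node (.node (.leaf 0x75f40f5) (.leaf 0x503c0f7)) (.node (.leaf 0x4fd80f7) (.leaf 0x62380f5))) (.node (.node (.leaf 0x13a) (.leaf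 0x4ef80f7)) (.node (.leaf 0x74c80f5) (.leaf 0x53bc0f5)))) (.node (.node (.node (.leaf 0x401c0f7) (.leaf 0x782c0f7)) (.node (.leaf 0x4bac0f5) (.leaf 0x76ac0f7))) (.node (.node (.leaf 0x46240f5) (.leaf 0x68c)) (.node (.leaf 0x48940f7) (.leaf 0x0))))) (.node (.node (.node (.node (.leaf 0x61c40f7) (.leaf 0x7b1c0f7)) (.node (.leaf 0x6e780f7) (.leaf 0x5d200f5))) (.node (.node (.leaf 0x6e400f7) (.leaf 0x6f4c0f5)) (.node (.leaf 0x8d0) (.leaf 0x48c80f7)))) (.node (.node (.node (.leaf 0x43a) (.leaf 0x64a00f7)) (.node (.leaf 0x5e600f7) (.leaf 0x63940f7))) (.node (.node (.leaf 0x4ffc0f5) (.leaf 0x1612)) (.node (.leaf 0x161a) (.leaf 0x0)))))) (.node (.node (.node (.node (.node (.leaf 0x6d580f5) (.leaf 0x75d80f5)) (.node (.leaf 0x67d80f7) (.leaf 0x69dc0f5))) (.node (.node (.leaf 0x1222) (.leaf 0x60c80f7)) (.node (.leaf 0x65c40f7) (.leaf 0x6ac)))) (.node (.node (.node (.leaf 0x13e6) (.leaf 0x1046))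 (.node (.leaf 0x1aae) (.leaf 0x6e3c0f7))) (.node (.node (.leaf 0x4a3c0f7) (.leaf 0x1a8)) (.node (.leaf 0x68480f7) (.leaf 0x0))))) (.node (.node (.node (.node (.leaf 0x45e80f7) (.leaf 0x5c5c0f5)) (.node (.leaf 0x4b140f7) (.leaf 0x691c0f5))) (.node (.node (.leaf 0x31c) (.leaf 0x138c)) (.node (.leaf 0x6a4c0f7) (.leaf 0x0)))) (.node (.node (.node (.leaf 0x158) (.leaf 0x6f400f7)) (.node (.leaf 0x7ab00f5) (.leaf 0x83a))) (.node (.node (.leaf 0x636c0f5) (.leaf 0x64d40f5)) (.node (.leaf 0xbd6) (.leaf 0x0))))))) (.node (.node (.node (.node (.node (.node (.leaf 0x1100) (.leaf 0x5bd80f5)) (.node (.leaf 0x74a80f7) (.leaf 0x53940f7))) (.node (.node (.leaf 0x6e600f7) (.leaf 0x4fd00f5)) (.node (.leaf 0x17fa) (.leaf 0x544c0f5)))) (.node (.node (.node (.leaf 0x5ab40f7) (.leaf 0x60ac0f7)) (.node (.leaf 0x5cc) (.leaf 0x467c0f7))) (.node (.node (.leaf 0x4dc40f7) (.leaf 0x77700f5)) (.node (.leaf 0x50900f5)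 (.leaf 0x0))))) (.node (.node (.node (.node (.leaf 0x6cc80f7) (.leaf 0x73e00f7)) (.node (.leaf 0x24a) (.leaf 0x55f40f7))) (.node (.node (.leaf 0x4bb80f5) (.leaf 0x43140f5)) (.node (.leaf 0x44c80f5) (.leaf 0x1ad8)))) (.node (.node (.node (.leaf 0x1b88) (.leaf 0x64a40f5)) (.node (.leaf 0x1b4) (.leaf 0x312))) (.node (.node (.leaf 0x54480f5) (.leaf 0x67d80f5)) (.node (.leaf 0x46840f5) (.leaf 0x0)))))) (.node (.node (.node (.node (.node (.leaf 0x382) (.leaf 0x8dc)) (.node (.leaf 0x58dc0f7) (.leaf 0xab0))) (.node (.node (.leaf 0xf92) (.leaf 0x5e180f5)) (.node (.leaf 0x74c00f7) (.leaf 0x54c40f5)))) (.node (.node (.node (.leaf 0x70140f7) (.leaf 0x44d40f7)) (.node (.leaf 0x580c0f5) (.leaf 0x54380f5))) (.node (.node (.leaf 0x442c0f7) (.leaf 0x423c0f7)) (.node (.leaf 0x4b0) (.leaf 0x0))))) (.node (.node (.node (.node (.leaf 0x5cf00f5) (.leaf 0x60880f5)) (.node (.leaf 0x5ce80f5) (.leaf 0x1a7e)))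 (.node (.node (.leaf 0x770c0f5) (.leaf 0x45700f7)) (.node (.leaf 0x9e0) (.leaf 0x0)))) (.node (.node (.node (.leaf 0x41240f7) (.leaf 0x17a2)) (.node (.leaf 0x4df40f7) (.leaf 0x44700f7))) (.node (.node (.leaf 0x2e0) (.leaf 0x6f300f5)) (.node (.leaf 0x43e40f5) (.leaf 0x0))))))))))

/-- packed table -/
noncomputable def cov4_llr : BTree := (.node (.node (.node (.node (.node (.node (.node (.node (.node (.leaf 0x6f240f5) (.leaf 0xd3e)) (.node (.leaf 0x606c0f5) (.leaf 0x16e0))) (.node (.node (.leaf 0x40cc0f5) (.leaf 0x6f880f5)) (.node (.leaf 0x5cd80f5) (.leaf 0x649c0f7)))) (.node (.node (.node (.leaf 0x1f2) (.leaf 0xc4c)) (.node (.leaf 0x5a0c0f7) (.leaf 0x49a))) (.node (.node (.leaf 0x45b00f7) (.leaf 0x44100f5)) (.node (.leaf 0x28c) (.leaf 0x0))))) (.node (.node (.node (.node (.leaf 0x71940f7) (.leaf 0x49400f7)) (.node (.leaf 0xa0c) (.leaf 0x13f4))) (.node (.node (.leaf 0x444) (.leaf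 0x42a)) (.node (.leaf 0x56280f7) (.leaf 0x35c)))) (.node (.node (.node (.leaf 0x4e540f7) (.leaf 0x6c280f7)) (.node (.leaf 0xe00) (.leaf 0x460))) (.node (.node (.leaf 0x16fa) (.leaf 0x549c0f5)) (.node (.leaf 0x1858) (.leaf 0x0)))))) (.node (.node (.node (.node (.node (.leaf 0x65000f7) (.leaf 0x5fc00f5)) (.node (.leaf 0x14e0) (.leaf 0x1aaa))) (.node (.node (.leaf 0x4a7c0f7) (.leaf 0x4fd80f5)) (.node (.leaf 0x78180f7) (.leaf 0x519c0f5)))) (.node (.node (.node (.leaf 0x122a) (.leaf 0x49580f7)) (.node (.leaf 0x1532) (.leaf 0x680))) (.node (.node (.leaf 0x50ec0f7) (.leaf 0x6b700f5)) (.node (.leaf 0xff4) (.leaf 0x0))))) (.node (.node (.node (.node (.leaf 0x6ad80f7) (.leaf 0x128a)) (.node (.leaf 0x5b540f5) (.leaf 0x595c0f5))) (.node (.node (.leaf 0x118) (.leaf 0x4a000f7)) (.node (.leaf 0x64200f5) (.leaf 0x79540f7)))) (.node (.node (.node (.leaf 0x6d6) (.leaf 0x148c)) (.node (.leaf 0xc7e)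 (.leaf 0x4e4))) (.node (.node (.leaf 0x5ac00f5) (.leaf 0x12aa)) (.node (.leaf 0x468) (.leaf 0x0))))))) (.node (.node (.node (.node (.node (.node (.leaf 0x66dc0f5) (.leaf 0x64040f7)) (.node (.leaf 0x744) (.leaf 0x50b40f7))) (.node (.node (.leaf 0x478c0f7) (.leaf 0x4b900f7)) (.node (.leaf 0x4edc0f5) (.leaf 0x712c0f5)))) (.node (.node (.node (.leaf 0x770c0f7) (.leaf 0x16be)) (.node (.leaf 0x7afc0f5) (.leaf 0x79d80f7))) (.node (.node (.leaf 0x49c40f7) (.leaf 0x154)) (.node (.leaf 0x45600f5) (.leaf 0x0))))) (.node (.node (.node (.node (.leaf 0x4dd40f5) (.leaf 0x57b40f5)) (.node (.leaf 0x7a9c0f5) (.leaf 0x75e40f7))) (.node (.node (.leaf 0x4af80f7) (.leaf 0x6e4)) (.node (.leaf 0x76100f5) (.leaf 0x57440f7)))) (.node (.node (.node (.leaf 0xbec) (.leaf 0x5c380f5)) (.node (.leaf 0x5e4c0f7) (.leaf 0x2f6))) (.node (.node (.leaf 0x135e) (.leaf 0x4e980f7)) (.node (.leaf 0x67d40f5) (.leaf 0x0))))))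 (.node (.node (.node (.node (.node (.leaf 0x650) (.leaf 0x43e80f5)) (.node (.leaf 0xde8) (.leaf 0x8c0))) (.node (.node (.leaf 0x48880f7) (.leaf 0x6d480f5)) (.node (.leaf 0x58e) (.leaf 0x19ce)))) (.node (.node (.node (.leaf 0x448c0f7) (.leaf 0x64d00f5)) (.node (.leaf 0x51a00f5) (.leaf 0x10c))) (.node (.node (.leaf 0x688) (.leaf 0x41840f7)) (.node (.leaf 0x749c0f5) (.leaf 0x0))))) (.node (.node (.node (.node (.leaf 0xa5e) (.leaf 0x87a)) (.node (.leaf 0x79180f5) (.leaf 0x6e740f5))) (.node (.node (.leaf 0x2c6) (.leaf 0x5f480f5)) (.node (.leaf 0x713c0f7) (.leaf 0x0)))) (.node (.node (.node (.leaf 0x48940f5) (.leaf 0x60d00f5)) (.node (.leaf 0x42080f7) (.leaf 0x5cf00f7))) (.node (.node (.leaf 0x5d780f5) (.leaf 0x6e0)) (.node (.leaf 0x40000f5) (.leaf 0x0)))))))) (.node (.node (.node (.node (.node (.node (.node (.leaf 0x53800f5) (.leaf 0x40240f5)) (.node (.leaf 0x66580f7) (.leaf 0x49e80f5)))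 (.node (.node (.leaf 0x17cc) (.leaf 0x70a)) (.node (.leaf 0x59e80f7) (.leaf 0x6d680f5)))) (.node (.node (.node (.leaf 0x6d2) (.leaf 0x5c640f5)) (.node (.leaf 0xbfa) (.leaf 0x6d440f5))) (.node (.node (.leaf 0xc6c) (.leaf 0x6fdc0f7)) (.node (.leaf 0x64b00f7) (.leaf 0x0))))) (.node (.node (.node (.node (.leaf 0x576) (.leaf 0x64900f7)) (.node (.leaf 0x53f00f7) (.leaf 0x5d1c0f5))) (.node (.node (.leaf 0x43400f7) (.leaf 0x6f680f5)) (.node (.leaf 0x51440f7) (.leaf 0x5ac)))) (.node (.node (.node (.leaf 0x76440f7) (.leaf 0x5b4)) (.node (.leaf 0x598c0f7) (.leaf 0x534))) (.node (.node (.leaf 0x1348) (.leaf 0x1e2)) (.node (.leaf 0x566c0f5) (.leaf 0x0)))))) (.node (.node (.node (.node (.node (.leaf 0x75f00f5) (.leaf 0x6c0)) (.node (.leaf 0x461c0f7) (.leaf 0x59e))) (.node (.node (.leaf 0x61500f5) (.leaf 0x41c40f7)) (.node (.leaf 0x4a5c0f7) (.leaf 0x573c0f7)))) (.node (.node (.node (.leaf 0xa94)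 (.leaf 0x790)) (.node (.leaf 0x51780f5) (.leaf 0x6e380f7))) (.node (.node (.leaf 0x59640f5) (.leaf 0x122)) (.node (.leaf 0x54040f5) (.leaf 0x0))))) (.node (.node (.node (.node (.leaf 0x6a580f5) (.leaf 0x4f580f7)) (.node (.leaf 0x46a40f7) (.leaf 0x679c0f5))) (.node (.node (.leaf 0x713c0f5) (.leaf 0x4a440f5)) (.node (.leaf 0x628) (.leaf 0x0)))) (.node (.node (.node (.leaf 0x4c2c0f7) (.leaf 0x14a)) (.node (.leaf 0x1b6c) (.leaf 0x67a80f5))) (.node (.node (.leaf 0x7a140f7) (.leaf 0x170c)) (.node (.leaf 0x53a00f7) (.leaf 0x0))))))) (.node (.node (.node (.node (.node (.node (.leaf 0x4bd80f5) (.leaf 0xb74)) (.node (.leaf 0x79f80f5) (.leaf 0x732c0f5))) (.node (.node (.leaf 0x74040f7) (.leaf 0x51d80f5)) (.node (.leaf 0x61a40f5) (.leaf 0x73a40f5)))) (.node (.node (.node (.leaf 0x69780f5) (.leaf 0x502)) (.node (.leaf 0x954) (.leaf 0x40640f7))) (.node (.node (.leaf 0x6f340f5) (.leaf 0x41940f7))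 (.node (.leaf 0x58a40f5) (.leaf 0x0))))) (.node (.node (.node (.node (.leaf 0x5e680f7) (.leaf 0x57640f7)) (.node (.leaf 0x4ed00f7) (.leaf 0x6f6c0f5))) (.node (.node (.leaf 0x6a8c0f5) (.leaf 0x43180f5)) (.node (.leaf 0x54fc0f7) (.leaf 0x45100f7)))) (.node (.node (.node (.leaf 0xf6c) (.leaf 0x198a)) (.node (.leaf 0x7ca) (.leaf 0x420))) (.node (.node (.leaf 0x1c18) (.leaf 0x51780f7)) (.node (.leaf 0x1a9e) (.leaf 0x0)))))) (.node (.node (.node (.node (.node (.leaf 0x5ac80f5) (.leaf 0x36e)) (.node (.leaf 0x61700f5) (.leaf 0x5e7c0f5))) (.node (.node (.leaf 0x6d800f7) (.leaf 0x56e40f7)) (.node (.leaf 0x4e680f7) (.leaf 0x560)))) (.node (.node (.node (.leaf 0x66c00f5) (.leaf 0x3b2)) (.node (.leaf 0x4a0c0f5) (.leaf 0x6a380f7))) (.node (.node (.leaf 0xa3c) (.leaf 0x77e80f7)) (.node (.leaf 0x4d400f5) (.leaf 0x0))))) (.node (.node (.node (.node (.leaf 0xca2) (.leaf 0x630c0f5)) (.node (.leaf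 0x92e) (.leaf 0x67c40f5))) (.node (.node (.leaf 0x67ac0f5) (.leaf 0x6c7c0f7)) (.node (.leaf 0x27c) (.leaf 0x0)))) (.node (.node (.node (.leaf 0x41180f7) (.leaf 0x67840f5)) (.node (.leaf 0x5f080f5) (.leaf 0xffa))) (.node (.node (.leaf 0x86e) (.leaf 0x78780f5)) (.node (.leaf 0x4bc) (.leaf 0x0))))))))) (.node (.node (.node (.node (.node (.node (.node (.node (.leaf 0x70440f5) (.leaf 0x6fc)) (.node (.leaf 0x60540f5) (.leaf 0x6cf40f7))) (.node (.node (.leaf 0x40ec0f5) (.leaf 0x49640f5)) (.node (.leaf 0x47600f7) (.leaf 0x64440f5)))) (.node (.node (.node (.leaf 0x6bec0f7) (.leaf 0x4fe80f5)) (.node (.leaf 0x77c40f7) (.leaf 0x60300f5))) (.node (.node (.leaf 0x4b480f5) (.leaf 0x4b4)) (.node (.leaf 0x56f80f5) (.leaf 0x0))))) (.node (.node (.node (.node (.leaf 0x4e580f5) (.leaf 0x571c0f5)) (.node (.leaf 0x61840f5) (.leaf 0x420c0f5))) (.node (.node (.leaf 0xf72) (.leaf 0xd54)) (.node (.leaf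 0x42240f7) (.leaf 0x2f0)))) (.node (.node (.node (.leaf 0x79680f7) (.leaf 0x5a600f5)) (.node (.leaf 0x1b70) (.leaf 0x7aac0f5))) (.node (.node (.leaf 0x280) (.leaf 0xd14)) (.node (.leaf 0x47c) (.leaf 0x0)))))) (.node (.node (.node (.node (.node (.leaf 0x73d40f5) (.leaf 0x571c0f7)) (.node (.leaf 0x1336) (.leaf 0xb2a))) (.node (.node (.leaf 0x4c6) (.leaf 0x6d880f5)) (.node (.leaf 0xae8) (.leaf 0x4bc00f7)))) (.node (.node (.node (.leaf 0x2b6) (.leaf 0x61140f7)) (.node (.leaf 0x6f900f5) (.leaf 0x67bc0f5))) (.node (.node (.leaf 0x63a00f7) (.leaf 0x550)) (.node (.leaf 0x5dc40f5) (.leaf 0x0))))) (.node (.node (.node (.node (.leaf 0x6af80f7) (.leaf 0x5fe40f7)) (.node (.leaf 0x960) (.leaf 0x50dc0f7))) (.node (.node (.leaf 0x73b40f7) (.leaf 0x4a200f5)) (.node (.leaf 0x7a6c0f5) (.leaf 0x66ec0f5)))) (.node (.node (.node (.leaf 0x5ff40f5) (.leaf 0x6a100f5)) (.node (.leaf 0x79980f5) (.leaf 0x5e8c0f5)))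 (.node (.node (.leaf 0x45f00f7) (.leaf 0xfb6)) (.node (.leaf 0x5f080f7) (.leaf 0x0))))))) (.node (.node (.node (.node (.node (.node (.leaf 0x27a) (.leaf 0x548)) (.node (.leaf 0x1b86) (.leaf 0x568))) (.node (.node (.leaf 0x172e) (.leaf 0x4bb00f7)) (.node (.leaf 0x5cd80f7) (.leaf 0x67a00f5)))) (.node (.node (.node (.leaf 0x430c0f7) (.leaf 0x310)) (.node (.leaf 0x74f80f7) (.leaf 0x5a080f5))) (.node (.node (.leaf 0x51e) (.leaf 0x6d000f7)) (.node (.leaf 0x1fc) (.leaf 0x0))))) (.node (.node (.node (.node (.leaf 0xbc0) (.leaf 0x5c0c0f5)) (.node (.leaf 0x76840f5) (.leaf 0x67c80f7))) (.node (.node (.leaf 0x78f80f5) (.leaf 0x1642)) (.node (.leaf 0x7ab00f7) (.leaf 0x5f0)))) (.node (.node (.node (.leaf 0x4fd40f7) (.leaf 0x4a6)) (.node (.leaf 0x752c0f5) (.leaf 0x67c00f5))) (.node (.node (.leaf 0x70c00f7) (.leaf 0x5f600f5)) (.node (.leaf 0x53080f7) (.leaf 0x0)))))) (.node (.node (.node (.node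 (.node (.leaf 0x4d900f7) (.leaf 0x5fc80f7)) (.node (.leaf 0x79180f7) (.leaf 0x12bc))) (.node (.node (.leaf 0x43e40f7) (.leaf 0x4e740f7)) (.node (.leaf 0x69840f5) (.leaf 0x67200f5)))) (.node (.node (.node (.leaf 0xbaa) (.leaf 0x73e80f5)) (.node (.leaf 0x6c780f5) (.leaf 0x509c0f7))) (.node (.node (.leaf 0x704) (.leaf 0x66000f5)) (.node (.leaf 0x7acc0f7) (.leaf 0x0))))) (.node (.node (.node (.node (.leaf 0x61640f5) (.leaf 0x40040f5)) (.node (.leaf 0x57a) (.leaf 0x4b040f5))) (.node (.node (.leaf 0x1246) (.leaf 0x5c1c0f5)) (.node (.leaf 0x71440f7) (.leaf 0x0)))) (.node (.node (.node (.leaf 0x48800f5) (.leaf 0x674c0f7)) (.node (.leaf 0x66500f7) (.leaf 0x54d40f5))) (.node (.node (.leaf 0x500) (.leaf 0x5db80f7)) (.node (.leaf 0x4fc80f5) (.leaf 0x0)))))))) (.node (.node (.node (.node (.node (.node (.node (.leaf 0x6f380f5) (.leaf 0x65a00f5)) (.node (.leaf 0x690c0f5) (.leaf 0x6eb40f7))) (.node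 (.node (.leaf 0x47b80f7) (.leaf 0x1ca)) (.node (.leaf 0x59d80f7) (.leaf 0x5db80f5)))) (.node (.node (.node (.leaf 0x754) (.leaf 0x41280f5)) (.node (.leaf 0x5bdc0f5) (.leaf 0x4be80f7))) (.node (.node (.leaf 0x6f280f5) (.leaf 0x55ac0f7)) (.node (.leaf 0x454c0f5) (.leaf 0x0))))) (.node (.node (.node (.node (.leaf 0xdfc) (.leaf 0x45bc0f7)) (.node (.leaf 0x77200f5) (.leaf 0x648))) (.node (.node (.leaf 0x76cc0f7) (.leaf 0xdae)) (.node (.leaf 0x61500f7) (.leaf 0x5b3c0f7)))) (.node (.node (.node (.leaf 0x54bc0f5) (.leaf 0x3f0)) (.node (.leaf 0x5e440f7) (.leaf 0x43cc0f5))) (.node (.node (.leaf 0x19c) (.leaf 0x18e)) (.node (.leaf 0x7b280f7) (.leaf 0x0)))))) (.node (.node (.node (.node (.node (.leaf 0xc74) (.leaf 0x462)) (.node (.leaf 0x400c0f5) (.leaf 0x79680f5))) (.node (.node (.leaf 0x724) (.leaf 0x76680f7)) (.node (.leaf 0x55100f7) (.leaf 0x67780f7)))) (.node (.node (.node (.leaf 0x284)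 (.leaf 0x45a80f7)) (.node (.leaf 0x53080f5) (.leaf 0x48380f5))) (.node (.node (.leaf 0x63040f7) (.leaf 0x77c00f5)) (.node (.leaf 0x54180f5) (.leaf 0x0))))) (.node (.node (.node (.node (.leaf 0x1062) (.leaf 0x4f800f7)) (.node (.leaf 0x1144) (.leaf 0x50440f5))) (.node (.node (.leaf 0x6dbc0f5) (.leaf 0x450)) (.node (.leaf 0x67500f7) (.leaf 0x0)))) (.node (.node (.node (.leaf 0x61e40f7) (.leaf 0x276)) (.node (.leaf 0x41e80f7) (.leaf 0x169c))) (.node (.node (.leaf 0x6a900f7) (.leaf 0x196)) (.node (.leaf 0x45cc0f7) (.leaf 0x0))))))) (.node (.node (.node (.node (.node (.node (.leaf 0x2fc) (.leaf 0x667c0f7)) (.node (.leaf 0xd28) (.leaf 0x4ac00f7))) (.node (.node (.leaf 0x6f4c0f7) (.leaf 0x49700f5)) (.node (.leaf 0x68000f7) (.leaf 0x4b600f7)))) (.node (.node (.node (.leaf 0x7ae00f5) (.leaf 0x6a4c0f5)) (.node (.leaf 0x77d00f7) (.leaf 0x4da80f7))) (.node (.node (.leaf 0x47100f7) (.leaf 0x614c0f5))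 (.node (.leaf 0x6da) (.leaf 0x0))))) (.node (.node (.node (.node (.leaf 0x65240f7) (.leaf 0xf52)) (.node (.leaf 0x30c) (.leaf 0x50c40f7))) (.node (.node (.leaf 0x6a980f5) (.leaf 0x43380f5)) (.node (.leaf 0x4b600f5) (.leaf 0x4d400f7)))) (.node (.node (.node (.leaf 0x87e) (.leaf 0x144e)) (.node (.leaf 0x9a2) (.leaf 0x6aa80f5))) (.node (.node (.leaf 0x53dc0f7) (.leaf 0x55a)) (.node (.leaf 0x67e) (.leaf 0x0)))))) (.node (.node (.node (.node (.node (.leaf 0x920) (.leaf 0x3b4)) (.node (.leaf 0x68700f7) (.leaf 0x5bc40f5))) (.node (.node (.leaf 0xfd4) (.leaf 0x51d40f5)) (.node (.leaf 0x587c0f5) (.leaf 0xa24)))) (.node (.node (.node (.leaf 0x18ca) (.leaf 0x610c0f7)) (.node (.leaf 0x6f0c0f7) (.leaf 0x348))) (.node (.node (.leaf 0x52f00f5) (.leaf 0x594)) (.node (.leaf 0x65c80f5) (.leaf 0x0))))) (.node (.node (.node (.node (.leaf 0xd40) (.leaf 0x5fe80f7)) (.node (.leaf 0x370) (.leaf 0x18c)))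 (.node (.node (.leaf 0x2ee) (.leaf 0x41c)) (.node (.leaf 0x478) (.leaf 0x0)))) (.node (.node (.node (.leaf 0x65000f5) (.leaf 0x1408)) (.node (.leaf 0x584) (.leaf 0x6b580f5))) (.node (.node (.leaf 0x360) (.leaf 0x54b40f5)) (.node (.leaf 0xa42) (.leaf 0x0))))))))))

/-- packed table -/
noncomputable def cov4_lrl : BTree := (.node (.node (.node (.node (.node (.node (.node (.node (.node (.leaf 0x4a3c0f5) (.leaf 0x696c0f5)) (.node (.leaf 0x60740f5) (.leaf 0x53dc0f5))) (.node (.node (.leaf 0x40d40f5) (.leaf 0x75dc0f7)) (.node (.leaf 0x5aa80f7) (.leaf 0x4a340f7)))) (.node (.node (.node (.leaf 0x43700f5) (.leaf 0x609c0f5)) (.node (.leaf 0x68400f5) (.leaf 0x11f4))) (.node (.node (.leaf 0x4be80f5) (.leaf 0x1ae2)) (.node (.leaf 0x518c0f7) (.leaf 0x0))))) (.node (.node (.node (.node (.leaf 0x7b2) (.leaf 0x71e00f5)) (.node (.leaf 0x58000f7) (.leaf 0x5bf00f5))) (.node (.node (.leaf 0x1116) (.leaf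 0x5e100f5)) (.node (.leaf 0x8a4) (.leaf 0x66c40f7)))) (.node (.node (.node (.leaf 0x5c100f5) (.leaf 0x76540f5)) (.node (.leaf 0x6c900f7) (.leaf 0x42400f7))) (.node (.node (.leaf 0x6a8) (.leaf 0x5ff80f5)) (.node (.leaf 0x60a00f7) (.leaf 0x0)))))) (.node (.node (.node (.node (.node (.leaf 0x8c6) (.leaf 0x4dc80f5)) (.node (.leaf 0x6a780f7) (.leaf 0x51100f5))) (.node (.node (.leaf 0x6d500f7) (.leaf 0x50680f7)) (.node (.leaf 0x697c0f5) (.leaf 0x5ea)))) (.node (.node (.node (.leaf 0x6a6c0f7) (.leaf 0x59ec0f5)) (.node (.leaf 0x423c0f5) (.leaf 0x4d9c0f7))) (.node (.node (.leaf 0x5fac0f5) (.leaf 0x620)) (.node (.leaf 0x52540f5) (.leaf 0x0))))) (.node (.node (.node (.node (.leaf 0x890) (.leaf 0x20c)) (.node (.leaf 0x514) (.leaf 0x56cc0f5))) (.node (.node (.leaf 0x226) (.leaf 0x75740f5)) (.node (.leaf 0x78f40f7) (.leaf 0x4ab80f7)))) (.node (.node (.node (.leaf 0x6acc0f5) (.leaf 0x439c0f7))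 (.node (.leaf 0x70800f5) (.leaf 0x6ab80f5))) (.node (.node (.leaf 0x52bc0f5) (.leaf 0x696c0f7)) (.node (.leaf 0x410) (.leaf 0x0))))))) (.node (.node (.node (.node (.node (.node (.leaf 0x5e400f5) (.leaf 0x32c)) (.node (.leaf 0x2b0) (.leaf 0x40c00f7))) (.node (.node (.leaf 0x11f0) (.leaf 0x57f00f7)) (.node (.leaf 0x5cc00f7) (.leaf 0x57f80f7)))) (.node (.node (.node (.leaf 0x4e640f5) (.leaf 0x4fe80f7)) (.node (.leaf 0x45bc0f5) (.leaf 0x4c140f5))) (.node (.node (.leaf 0x6a040f5) (.leaf 0xc80)) (.node (.leaf 0x7a340f7) (.leaf 0x0))))) (.node (.node (.node (.node (.leaf 0x16d8) (.leaf 0x71900f7)) (.node (.leaf 0x797c0f5) (.leaf 0x6aa00f7))) (.node (.node (.leaf 0x4e940f5) (.leaf 0x49f80f5)) (.node (.leaf 0x7aac0f7) (.leaf 0x5b2c0f7)))) (.node (.node (.node (.leaf 0x58840f7) (.leaf 0x948)) (.node (.leaf 0x5e540f7) (.leaf 0x854))) (.node (.node (.leaf 0x42cc0f7) (.leaf 0x618)) (.node (.leaf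 0x6d4) (.leaf 0x0)))))) (.node (.node (.node (.node (.node (.leaf 0x5f5c0f7) (.leaf 0xac0)) (.node (.leaf 0x61400f5) (.leaf 0x40cc0f7))) (.node (.node (.leaf 0x61700f7) (.leaf 0x79600f5)) (.node (.leaf 0x56280f5) (.leaf 0x53f00f5)))) (.node (.node (.node (.leaf 0x5e140f7) (.leaf 0x53540f7)) (.node (.leaf 0x6c880f5) (.leaf 0xf84))) (.node (.node (.leaf 0x74f80f5) (.leaf 0x630)) (.node (.leaf 0x520) (.leaf 0x0))))) (.node (.node (.node (.node (.leaf 0x70100f7) (.leaf 0xa6e)) (.node (.leaf 0x78480f5) (.leaf 0x50540f5))) (.node (.node (.leaf 0x53f80f7) (.leaf 0x42340f5)) (.node (.leaf 0x56ec0f5) (.leaf 0x0)))) (.node (.node (.node (.leaf 0x48880f5) (.leaf 0x77b40f5)) (.node (.leaf 0x41f00f7) (.leaf 0x71100f5))) (.node (.node (.leaf 0x175a) (.leaf 0x470)) (.node (.leaf 0x974) (.leaf 0x0)))))))) (.node (.node (.node (.node (.node (.node (.node (.leaf 0x4c500f7) (.leaf 0x79d00f5)) (.node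 (.leaf 0x736c0f7) (.leaf 0x760))) (.node (.node (.leaf 0x590) (.leaf 0x17f0)) (.node (.leaf 0x61f00f5) (.leaf 0x324)))) (.node (.node (.node (.leaf 0x6df00f7) (.leaf 0x783c0f7)) (.node (.leaf 0xb18) (.leaf 0x6ee))) (.node (.node (.leaf 0x63c) (.leaf 0x46440f5)) (.node (.leaf 0x42780f7) (.leaf 0x0))))) (.node (.node (.node (.node (.leaf 0x75240f7) (.leaf 0x330)) (.node (.leaf 0x1a74) (.leaf 0x774c0f7))) (.node (.node (.leaf 0x59ac0f5) (.leaf 0x685c0f5)) (.node (.leaf 0x598) (.leaf 0x45340f7)))) (.node (.node (.node (.leaf 0x5bf40f7) (.leaf 0x7f0)) (.node (.leaf 0x59900f7) (.leaf 0x6c640f5))) (.node (.node (.leaf 0x474) (.leaf 0x40d40f7)) (.node (.leaf 0x13d6) (.leaf 0x0)))))) (.node (.node (.node (.node (.node (.leaf 0x4bdc0f5) (.leaf 0xdb4)) (.node (.leaf 0x40040f7) (.leaf 0x78a80f7))) (.node (.node (.leaf 0x65d00f5) (.leaf 0x6d840f5)) (.node (.leaf 0x74a00f5) (.leaf 0x63880f7))))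 (.node (.node (.node (.leaf 0x862) (.leaf 0x75740f7)) (.node (.leaf 0x59800f5) (.leaf 0x59440f7))) (.node (.node (.leaf 0x4bb00f5) (.leaf 0x5b8)) (.node (.leaf 0x68040f7) (.leaf 0x0))))) (.node (.node (.node (.node (.leaf 0x6ae80f5) (.leaf 0x7a6c0f7)) (.node (.leaf 0x4fd40f5) (.leaf 0x49c40f5))) (.node (.node (.leaf 0x70c) (.leaf 0x4a300f5)) (.node (.leaf 0x45940f7) (.leaf 0x64a40f7)))) (.node (.node (.node (.leaf 0x58440f5) (.leaf 0x5e000f7)) (.node (.leaf 0x6ab00f5) (.leaf 0x43cc0f7))) (.node (.node (.leaf 0x759c0f5) (.leaf 0x3ec)) (.node (.leaf 0x540) (.leaf 0x0))))))) (.node (.node (.node (.node (.node (.node (.leaf 0x788) (.leaf 0x47a)) (.node (.leaf 0x5de80f7) (.leaf 0x4fa80f7))) (.node (.node (.leaf 0x2e4) (.leaf 0x6ed40f7)) (.node (.leaf 0x53d40f7) (.leaf 0x57440f5)))) (.node (.node (.node (.leaf 0xa88) (.leaf 0x766c0f5)) (.node (.leaf 0x73d40f7) (.leaf 0x396))) (.node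 (.node (.leaf 0x5f740f5) (.leaf 0x26c)) (.node (.leaf 0xcf4) (.leaf 0x0))))) (.node (.node (.node (.node (.leaf 0x65d80f7) (.leaf 0x7ad80f7)) (.node (.leaf 0x61b40f5) (.leaf 0x53800f7))) (.node (.node (.leaf 0x6a900f5) (.leaf 0x9ca)) (.node (.leaf 0x93c) (.leaf 0x5aa80f5)))) (.node (.node (.node (.leaf 0x4e700f5) (.leaf 0xa00)) (.node (.leaf 0x650c0f5) (.leaf 0x6e440f5))) (.node (.node (.leaf 0x44e) (.leaf 0x48480f7)) (.node (.leaf 0x52f00f7) (.leaf 0x0)))))) (.node (.node (.node (.node (.node (.leaf 0x46600f7) (.leaf 0x1224)) (.node (.leaf 0x57100f7) (.leaf 0x56dc0f5))) (.node (.node (.leaf 0x72e80f7) (.leaf 0x4c8)) (.node (.leaf 0x48a40f7) (.leaf 0x42080f5)))) (.node (.node (.node (.leaf 0x74480f7) (.leaf 0x464)) (.node (.leaf 0x47280f7) (.leaf 0x42240f5))) (.node (.node (.leaf 0x5dc) (.leaf 0x76540f7)) (.node (.leaf 0x6e300f5) (.leaf 0x0))))) (.node (.node (.node (.node (.leaf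 0x1afe) (.leaf 0x63140f5)) (.node (.leaf 0x50880f5) (.leaf 0x4b140f5))) (.node (.node (.leaf 0x268) (.leaf 0x870)) (.node (.leaf 0x68c40f7) (.leaf 0x0)))) (.node (.node (.node (.leaf 0x41080f7) (.leaf 0x80c)) (.node (.leaf 0xa9e) (.leaf 0x6ef00f7))) (.node (.node (.leaf 0xefc) (.leaf 0x64440f7)) (.node (.leaf 0x454) (.leaf 0x0))))))))) (.node (.node (.node (.node (.node (.node (.node (.node (.leaf 0x40c80f7) (.leaf 0x6df80f7)) (.node (.leaf 0x5fcc0f7) (.leaf 0x461c0f5))) (.node (.node (.leaf 0x40b40f5) (.leaf 0x72a00f7)) (.node (.leaf 0x698) (.leaf 0x643c0f7)))) (.node (.node (.node (.leaf 0x68d40f5) (.leaf 0x6c6)) (.node (.leaf 0x68500f5) (.leaf 0x66f00f7))) (.node (.node (.leaf 0xbda) (.leaf 0x41e)) (.node (.leaf 0x480) (.leaf 0x0))))) (.node (.node (.node (.node (.leaf 0x76880f7) (.leaf 0x5b3c0f5)) (.node (.leaf 0x6ca40f7) (.leaf 0x56e80f5))) (.node (.node (.leaf 0xf66) (.leaf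 0x77ac0f5)) (.node (.leaf 0x70c00f5) (.leaf 0x320)))) (.node (.node (.node (.leaf 0x6f100f5) (.leaf 0x68700f5)) (.node (.leaf 0x39e) (.leaf 0x716))) (.node (.node (.leaf 0x48500f5) (.leaf 0x542c0f5)) (.node (.leaf 0x69dc0f7) (.leaf 0x0)))))) (.node (.node (.node (.node (.node (.leaf 0x8ac) (.leaf 0x51e40f5)) (.node (.leaf 0x50e) (.leaf 0x52d80f5))) (.node (.node (.leaf 0x51440f5) (.leaf 0x77600f7)) (.node (.leaf 0x53700f7) (.leaf 0x57dc0f7)))) (.node (.node (.node (.leaf 0x542) (.leaf 0x440)) (.node (.leaf 0x1052) (.leaf 0x580c0f7))) (.node (.node (.leaf 0x6a2) (.leaf 0x3cc)) (.node (.leaf 0x488) (.leaf 0x0))))) (.node (.node (.node (.node (.leaf 0x49d80f5) (.leaf 0x5e040f7)) (.node (.leaf 0x46900f7) (.leaf 0x173c))) (.node (.node (.leaf 0x616c0f7) (.leaf 0x69c80f7)) (.node (.leaf 0x7a7c0f5) (.leaf 0xffc)))) (.node (.node (.node (.leaf 0x1704) (.leaf 0x77cc0f7)) (.node (.leaf 0x65ac0f5)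 (.leaf 0x695c0f5))) (.node (.node (.leaf 0x41dc0f5) (.leaf 0x53e)) (.node (.leaf 0x4dcc0f5) (.leaf 0x0))))))) (.node (.node (.node (.node (.node (.node (.leaf 0x63800f5) (.leaf 0x4df40f5)) (.node (.leaf 0x5bc40f7) (.leaf 0x40b80f7))) (.node (.node (.leaf 0x73f80f5) (.leaf 0x55740f5)) (.node (.leaf 0xb9c) (.leaf 0x728)))) (.node (.node (.node (.leaf 0x43f00f5) (.leaf 0x6d480f7)) (.node (.leaf 0x4eac0f5) (.leaf 0x3ac))) (.node (.node (.leaf 0x4ef40f7) (.leaf 0x6aa40f7)) (.node (.leaf 0x4b3c0f5) (.leaf 0x0))))) (.node (.node (.node (.node (.leaf 0x57c40f5) (.leaf 0x6d540f7)) (.node (.leaf 0x7af40f5) (.leaf 0x752))) (.node (.node (.leaf 0x75380f5) (.leaf 0x11d4)) (.node (.leaf 0x748) (.leaf 0x53640f7)))) (.node (.node (.node (.leaf 0x533c0f5) (.leaf 0x5bd80f7)) (.node (.leaf 0x7b240f5) (.leaf 0xcfe))) (.node (.node (.leaf 0x4fa80f5) (.leaf 0x49d40f5)) (.node (.leaf 0x484) (.leaf 0x0))))))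 (.node (.node (.node (.node (.node (.leaf 0x65680f5) (.leaf 0x42700f5)) (.node (.leaf 0x4ca40f5) (.leaf 0x40b40f7))) (.node (.node (.leaf 0x56100f7) (.leaf 0x75dc0f5)) (.node (.leaf 0x5e480f5) (.leaf 0x4e480f5)))) (.node (.node (.node (.leaf 0x8d4) (.leaf 0x43780f7)) (.node (.leaf 0x6be80f7) (.leaf 0x64680f7))) (.node (.node (.leaf 0x388) (.leaf 0x6ab80f7)) (.node (.leaf 0x64c) (.leaf 0x0))))) (.node (.node (.node (.node (.leaf 0x7a5c0f7) (.leaf 0xa80)) (.node (.leaf 0x4a100f5) (.leaf 0x66c00f7))) (.node (.node (.leaf 0x5bf80f7) (.leaf 0x67b80f5)) (.node (.leaf 0x936) (.leaf 0x0)))) (.node (.node (.node (.leaf 0x488c0f5) (.leaf 0x2e8)) (.node (.leaf 0x4dcc0f7) (.leaf 0x5ce80f7))) (.node (.node (.leaf 0x1a98) (.leaf 0x422c0f5)) (.node (.leaf 0x34c) (.leaf 0x0)))))))) (.node (.node (.node (.node (.node (.node (.node (.leaf 0xde6) (.leaf 0xe42)) (.node (.leaf 0x1446) (.leaf 0x756c0f5)))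 (.node (.node (.leaf 0x6e580f7) (.leaf 0x47200f7)) (.node (.leaf 0x74c00f5) (.leaf 0x631c0f7)))) (.node (.node (.node (.leaf 0x5b2c0f5) (.leaf 0x12dc)) (.node (.leaf 0x76d00f5) (.leaf 0x72100f7))) (.node (.node (.leaf 0x4ddc0f7) (.leaf 0x76ac0f5)) (.node (.leaf 0x4e580f7) (.leaf 0x0))))) (.node (.node (.node (.node (.leaf 0x504) (.leaf 0x54940f5)) (.node (.leaf 0x1bea) (.leaf 0x68140f7))) (.node (.node (.leaf 0x57c80f5) (.leaf 0x64d00f7)) (.node (.leaf 0x49400f5) (.leaf 0x48d80f7)))) (.node (.node (.node (.leaf 0x1c0e) (.leaf 0x6b940f7)) (.node (.leaf 0x5e3c0f7) (.leaf 0x4f4))) (.node (.node (.leaf 0xc18) (.leaf 0x40ec0f7)) (.node (.leaf 0x1bc) (.leaf 0x0)))))) (.node (.node (.node (.node (.node (.leaf 0x5f880f7) (.leaf 0x6f700f7)) (.node (.leaf 0x726c0f7) (.leaf 0x52c40f5))) (.node (.node (.leaf 0xd38) (.leaf 0x6b040f5)) (.node (.leaf 0x564c0f5) (.leaf 0x510)))) (.node (.node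 (.node (.leaf 0x67cc0f7) (.leaf 0x1816)) (.node (.leaf 0x7a640f7) (.leaf 0x1836))) (.node (.node (.leaf 0x4acc0f5) (.leaf 0x138)) (.node (.leaf 0x68400f7) (.leaf 0x0))))) (.node (.node (.node (.node (.leaf 0x554c0f7) (.leaf 0x4f840f7)) (.node (.leaf 0x7b280f5) (.leaf 0x53d40f5))) (.node (.node (.leaf 0x41700f7) (.leaf 0x4c0)) (.node (.leaf 0x68800f5) (.leaf 0x0)))) (.node (.node (.node (.leaf 0x58280f5) (.leaf 0x1232)) (.node (.leaf 0x79900f5) (.leaf 0x886))) (.node (.node (.leaf 0x5c5c0f7) (.leaf 0x700)) (.node (.leaf 0x41d40f7) (.leaf 0x0))))))) (.node (.node (.node (.node (.node (.node (.leaf 0x2dc) (.leaf 0x76a80f5)) (.node (.leaf 0x65c80f7) (.leaf 0x52dc0f5))) (.node (.node (.leaf 0x43380f7) (.leaf 0x490)) (.node (.leaf 0x65980f5) (.leaf 0x56e40f5)))) (.node (.node (.node (.leaf 0x6ae) (.leaf 0x4fa)) (.node (.leaf 0x4e540f5) (.leaf 0x6d880f7))) (.node (.node (.leaf 0x5f940f5)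 (.leaf 0x60100f5)) (.node (.leaf 0x1fa) (.leaf 0x0))))) (.node (.node (.node (.node (.leaf 0x74240f7) (.leaf 0x112)) (.node (.leaf 0x76bc0f5) (.leaf 0x4e2))) (.node (.node (.leaf 0x570) (.leaf 0xfae)) (.node (.leaf 0x44d40f5) (.leaf 0x2d4)))) (.node (.node (.node (.leaf 0x6d300f5) (.leaf 0x56c)) (.node (.leaf 0x1652) (.leaf 0x3c2))) (.node (.node (.leaf 0x52240f7) (.leaf 0x51940f7)) (.node (.leaf 0x6efc0f7) (.leaf 0x0)))))) (.node (.node (.node (.node (.node (.leaf 0x288) (.leaf 0x47600f5)) (.node (.leaf 0x60300f7) (.leaf 0x42400f5))) (.node (.node (.leaf 0x384) (.leaf 0x76040f7)) (.node (.leaf 0x5fe) (.leaf 0xd58)))) (.node (.node (.node (.leaf 0x442) (.leaf 0x42500f5)) (.node (.leaf 0x6f2) (.leaf 0x72a00f5))) (.node (.node (.leaf 0x41980f7) (.leaf 0x61880f7)) (.node (.leaf 0x338) (.leaf 0x0))))) (.node (.node (.node (.node (.leaf 0xc30) (.leaf 0x60a00f5)) (.node (.leaf 0x49ac0f5)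 (.leaf 0x1c12))) (.node (.node (.leaf 0xeca) (.leaf 0x3a8)) (.node (.leaf 0x60b00f7) (.leaf 0x0)))) (.node (.node (.node (.leaf 0x41000f7) (.leaf 0x67740f5)) (.node (.leaf 0x75680f5) (.leaf 0x15ac))) (.node (.node (.leaf 0x19e) (.leaf 0x57fc0f7)) (.node (.leaf 0x678) (.leaf 0x0))))))))))

/-- packed table -/
noncomputable def cov4_lrr : BTree := (.node (.node (.node (.node (.node (.node (.node (.node (.node (.leaf 0x4b8) (.leaf 0xb34)) (.node (.leaf 0x5f100f7) (.leaf 0x51300f7))) (.node (.node (.leaf 0x40dc0f5) (.leaf 0x76200f7)) (.node (.leaf 0x1234) (.leaf 0xd46)))) (.node (.node (.node (.leaf 0x2ce) (.leaf 0x61b80f5)) (.node (.leaf 0x4c4) (.leaf 0x66dc0f7))) (.node (.node (.leaf 0x1036) (.leaf 0x53780f7)) (.node (.leaf 0x556c0f7) (.leaf 0x0))))) (.node (.node (.node (.node (.leaf 0x32e) (.leaf 0x75c40f5)) (.node (.leaf 0x616c0f5) (.leaf 0x64280f7))) (.node (.node (.leaf 0x6b400f7)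 (.leaf 0x4d4)) (.node (.leaf 0x53c40f7) (.leaf 0x19b8)))) (.node (.node (.node (.leaf 0x71900f5) (.leaf 0x43900f7)) (.node (.leaf 0x254) (.leaf 0x57f80f5))) (.node (.node (.leaf 0x42b00f5) (.leaf 0x655c0f7)) (.node (.leaf 0x1562) (.leaf 0x0)))))) (.node (.node (.node (.node (.node (.leaf 0x1302) (.leaf 0x61a00f5)) (.node (.leaf 0x46240f7) (.leaf 0x52680f5))) (.node (.node (.leaf 0x46440f7) (.leaf 0x50740f7)) (.node (.leaf 0x6cec0f5) (.leaf 0x1e8)))) (.node (.node (.node (.leaf 0x7acc0f5) (.leaf 0x42000f5)) (.node (.leaf 0x5e3c0f5) (.leaf 0x61640f7))) (.node (.node (.leaf 0x27e) (.leaf 0x6b600f5)) (.node (.leaf 0x56300f7) (.leaf 0x0))))) (.node (.node (.node (.node (.leaf 0x1f4) (.leaf 0xf2)) (.node (.leaf 0x4fcc0f5) (.leaf 0x59540f5))) (.node (.node (.leaf 0x73b80f7) (.leaf 0x19ca)) (.node (.leaf 0xc10) (.leaf 0x573c0f5)))) (.node (.node (.node (.leaf 0x40180f5) (.leaf 0x6a380f5))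 (.node (.leaf 0x64900f5) (.leaf 0x62400f5))) (.node (.node (.leaf 0x6ff40f5) (.leaf 0x66700f5)) (.node (.leaf 0x57b40f7) (.leaf 0x0))))))) (.node (.node (.node (.node (.node (.node (.leaf 0x75580f7) (.leaf 0x63f40f7)) (.node (.leaf 0x4bb80f7) (.leaf 0x48740f7))) (.node (.node (.leaf 0x38c) (.leaf 0x5bf80f5)) (.node (.leaf 0x51cc0f5) (.leaf 0x5ddc0f5)))) (.node (.node (.node (.leaf 0x42500f7) (.leaf 0x5be00f7)) (.node (.leaf 0x73f00f5) (.leaf 0x40580f7))) (.node (.node (.leaf 0x51100f7) (.leaf 0x6e2c0f5)) (.node (.leaf 0x45500f5) (.leaf 0x0))))) (.node (.node (.node (.node (.leaf 0xf5e) (.leaf 0x76e80f5)) (.node (.leaf 0x43080f7) (.leaf 0x61480f7))) (.node (.node (.leaf 0x587c0f7) (.leaf 0x115e)) (.node (.leaf 0x7ab80f7) (.leaf 0x673c0f7)))) (.node (.node (.node (.leaf 0x532c0f5) (.leaf 0x4a640f7)) (.node (.leaf 0x79140f5) (.leaf 0x61000f7))) (.node (.node (.leaf 0x1328) (.leaf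 0x4e900f7)) (.node (.leaf 0x7a780f7) (.leaf 0x0)))))) (.node (.node (.node (.node (.node (.leaf 0xc9e) (.leaf 0x71c40f5)) (.node (.leaf 0x790c0f7) (.leaf 0x47b80f5))) (.node (.node (.leaf 0x4e740f5) (.leaf 0x63d80f5)) (.node (.leaf 0x4b780f5) (.leaf 0x1504)))) (.node (.node (.node (.leaf 0x688c0f7) (.leaf 0x13e0)) (.node (.leaf 0x6bd80f7) (.leaf 0x66480f7))) (.node (.node (.leaf 0x74f40f5) (.leaf 0x60380f5)) (.node (.leaf 0x6e400f5) (.leaf 0x0))))) (.node (.node (.node (.node (.leaf 0x5fe40f5) (.leaf 0x63140f7)) (.node (.leaf 0x6f200f5) (.leaf 0x556c0f5))) (.node (.node (.leaf 0x55740f7) (.leaf 0x69940f5)) (.node (.leaf 0x71300f7) (.leaf 0x0)))) (.node (.node (.node (.leaf 0x48a40f5) (.leaf 0x67e00f7)) (.node (.leaf 0x41f80f7) (.leaf 0x5cf40f7))) (.node (.node (.leaf 0x4c280f7) (.leaf 0x10c4)) (.node (.leaf 0x49600f5) (.leaf 0x0)))))))) (.node (.node (.node (.node (.node (.node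 (.node (.leaf 0x24c) (.leaf 0x5f400f5)) (.node (.leaf 0x73840f7) (.leaf 0x757c0f5))) (.node (.node (.leaf 0x73f40f7) (.leaf 0x54040f7)) (.node (.leaf 0x5d880f5) (.leaf 0x77bc0f5)))) (.node (.node (.node (.leaf 0x77d00f5) (.leaf 0x44100f7)) (.node (.leaf 0x79e80f7) (.leaf 0x488c0f7))) (.node (.node (.leaf 0x5bec0f7) (.leaf 0x6e3c0f5)) (.node (.leaf 0x62fc0f7) (.leaf 0x0))))) (.node (.node (.node (.node (.leaf 0x6ad80f5) (.leaf 0x96e)) (.node (.leaf 0x71380f5) (.leaf 0x5d340f5))) (.node (.node (.leaf 0x4de) (.leaf 0x17b0)) (.node (.leaf 0xcc2) (.leaf 0x508)))) (.node (.node (.node (.leaf 0x51400f5) (.leaf 0xc46)) (.node (.leaf 0x1124) (.leaf 0x44700f5))) (.node (.node (.leaf 0x58c) (.leaf 0x1958)) (.node (.leaf 0x29a) (.leaf 0x0)))))) (.node (.node (.node (.node (.node (.leaf 0x56180f5) (.leaf 0x374)) (.node (.leaf 0x70240f5) (.leaf 0x768))) (.node (.node (.leaf 0x658) (.leaf 0x77680f7))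 (.node (.leaf 0x5ea40f7) (.leaf 0x7b140f5)))) (.node (.node (.node (.leaf 0x4dd00f5) (.leaf 0x60880f7)) (.node (.leaf 0x5b040f5) (.leaf 0x272))) (.node (.node (.leaf 0x59d40f5) (.leaf 0xfe)) (.node (.leaf 0x68500f7) (.leaf 0x0))))) (.node (.node (.node (.node (.leaf 0x5e580f5) (.leaf 0x687c0f5)) (.node (.leaf 0x4dc80f7) (.leaf 0x55540f5))) (.node (.node (.leaf 0x4af80f5) (.leaf 0x44a)) (.node (.leaf 0x68cc0f7) (.leaf 0x0)))) (.node (.node (.node (.leaf 0x61e00f7) (.leaf 0x63100f7)) (.node (.leaf 0x48c80f5) (.leaf 0x67440f5))) (.node (.node (.leaf 0x7ea) (.leaf 0x6a400f7)) (.node (.leaf 0x5b500f5) (.leaf 0x0))))))) (.node (.node (.node (.node (.node (.node (.leaf 0x15a) (.leaf 0x5b380f5)) (.node (.leaf 0x6b180f5) (.leaf 0x63800f7))) (.node (.node (.leaf 0x72c) (.leaf 0x58f80f5)) (.node (.leaf 0x55540f7) (.leaf 0x74a80f5)))) (.node (.node (.node (.leaf 0x5ae40f7) (.leaf 0x6f680f7))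 (.node (.leaf 0x61e) (.leaf 0x57fc0f5))) (.node (.node (.leaf 0x49600f7) (.leaf 0x77100f5)) (.node (.leaf 0x1842) (.leaf 0x0))))) (.node (.node (.node (.node (.leaf 0x68e40f7) (.leaf 0x76e00f7)) (.node (.leaf 0x1774) (.leaf 0x44640f5))) (.node (.node (.leaf 0x40f40f5) (.leaf 0x1b8)) (.node (.leaf 0x44b80f5) (.leaf 0x168)))) (.node (.node (.node (.leaf 0x4c480f7) (.leaf 0x12e)) (.node (.leaf 0x1960) (.leaf 0x6d540f5))) (.node (.node (.leaf 0x84c) (.leaf 0x72700f5)) (.node (.leaf 0x46600f5) (.leaf 0x0)))))) (.node (.node (.node (.node (.node (.leaf 0x708) (.leaf 0x902)) (.node (.leaf 0x42c) (.leaf 0x75fc0f7))) (.node (.node (.leaf 0x1a4) (.leaf 0x56dc0f7)) (.node (.leaf 0x33e) (.leaf 0xc84)))) (.node (.node (.node (.leaf 0x4e8c0f5) (.leaf 0x181e)) (.node (.leaf 0x45d40f5) (.leaf 0x6bc))) (.node (.node (.leaf 0xcca) (.leaf 0x6d580f7)) (.node (.leaf 0x72ac0f5) (.leaf 0x0))))) (.node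 (.node (.node (.node (.leaf 0x5e8c0f7) (.leaf 0x926)) (.node (.leaf 0x7ae80f7) (.leaf 0xb84))) (.node (.node (.leaf 0xe8a) (.leaf 0x518)) (.node (.leaf 0x14a0) (.leaf 0x0)))) (.node (.node (.node (.leaf 0x40f40f7) (.leaf 0x494)) (.node (.leaf 0x66b00f7) (.leaf 0x44540f7))) (.node (.node (.leaf 0x2ca) (.leaf 0x7ac00f5)) (.node (.leaf 0x62ec0f7) (.leaf 0x0))))))))) (.node (.node (.node (.node (.node (.node (.node (.node (.leaf 0x51000f7) (.leaf 0x578)) (.node (.leaf 0x65cc0f7) (.leaf 0x406c0f7))) (.node (.node (.leaf 0x7a0) (.leaf 0x181a)) (.node (.leaf 0x95e) (.leaf 0x64680f5)))) (.node (.node (.node (.leaf 0x16c8) (.leaf 0x63f40f5)) (.node (.leaf 0x142a) (.leaf 0x58000f5))) (.node (.node (.leaf 0x4bf80f5) (.leaf 0x575c0f7)) (.node (.leaf 0x1760) (.leaf 0x0))))) (.node (.node (.node (.node (.leaf 0x4ae80f5) (.leaf 0x342)) (.node (.leaf 0x72a80f7) (.leaf 0x4fdc0f7))) (.node (.node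 (.leaf 0x5a580f5) (.leaf 0x19bc)) (.node (.leaf 0x44b80f7) (.leaf 0x45480f7)))) (.node (.node (.node (.leaf 0x372) (.leaf 0x79f40f5)) (.node (.leaf 0xd30) (.leaf 0x6df40f7))) (.node (.node (.leaf 0x79980f7) (.leaf 0x830)) (.node (.leaf 0x4ddc0f5) (.leaf 0x0)))))) (.node (.node (.node (.node (.node (.leaf 0x5bec0f5) (.leaf 0x60b00f5)) (.node (.leaf 0x70140f5) (.leaf 0xcb8))) (.node (.node (.leaf 0x5a480f7) (.leaf 0x4a840f7)) (.node (.leaf 0x70dc0f5) (.leaf 0x19ae)))) (.node (.node (.node (.leaf 0x7a300f5) (.leaf 0x756c0f7)) (.node (.leaf 0x734) (.leaf 0x3ae))) (.node (.node (.leaf 0xbfe) (.leaf 0x638c0f7)) (.node (.leaf 0x68140f5) (.leaf 0x0))))) (.node (.node (.node (.node (.leaf 0x12c) (.leaf 0x6d680f7)) (.node (.leaf 0x52a) (.leaf 0x489c0f7))) (.node (.node (.leaf 0x50fc0f7) (.leaf 0x59ac0f7)) (.node (.leaf 0x750) (.leaf 0x66b80f7)))) (.node (.node (.node (.leaf 0x65940f5) (.leaf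 0x75100f7)) (.node (.leaf 0x68e80f7) (.leaf 0x6f3c0f5))) (.node (.node (.leaf 0x7a100f7) (.leaf 0x3b8)) (.node (.leaf 0x6b600f7) (.leaf 0x0))))))) (.node (.node (.node (.node (.node (.node (.leaf 0xe6) (.leaf 0x787c0f7)) (.node (.leaf 0x79d80f5) (.leaf 0x6ec))) (.node (.node (.leaf 0x533c0f7) (.leaf 0x53f80f5)) (.node (.leaf 0x5cb00f7) (.leaf 0x5de80f5)))) (.node (.node (.node (.leaf 0x852) (.leaf 0x6d300f7)) (.node (.leaf 0x4e6) (.leaf 0x59e40f5))) (.node (.node (.leaf 0x4e100f7) (.leaf 0x75680f7)) (.node (.leaf 0xb64) (.leaf 0x0))))) (.node (.node (.node (.node (.leaf 0x75fc0f5) (.leaf 0x76e00f5)) (.node (.leaf 0x63040f5) (.leaf 0x53a00f5))) (.node (.node (.leaf 0x4b6) (.leaf 0x230)) (.node (.leaf 0x68dc0f7) (.leaf 0x528)))) (.node (.node (.node (.leaf 0x48400f7) (.leaf 0x128c)) (.node (.leaf 0x6b140f5) (.leaf 0x74800f5))) (.node (.node (.leaf 0x70b00f7) (.leaf 0x694c0f5)) (.node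 (.leaf 0x2ac) (.leaf 0x0)))))) (.node (.node (.node (.node (.node (.leaf 0x4a200f7) (.leaf 0x472)) (.node (.leaf 0x5a480f5) (.leaf 0x40680f7))) (.node (.node (.leaf 0x6e800f7) (.leaf 0x61c80f5)) (.node (.leaf 0x50e40f7) (.leaf 0x53ac0f7)))) (.node (.node (.node (.leaf 0x66f00f5) (.leaf 0x73e00f5)) (.node (.leaf 0x6dbc0f7) (.leaf 0x5f480f7))) (.node (.node (.leaf 0x792c0f7) (.leaf 0x639c0f7)) (.node (.leaf 0xad2) (.leaf 0x0))))) (.node (.node (.node (.node (.leaf 0x65280f5) (.leaf 0x63080f5)) (.node (.leaf 0x79800f7) (.leaf 0x3f8))) (.node (.node (.leaf 0x6cc) (.leaf 0x4d380f5)) (.node (.leaf 0x71380f7) (.leaf 0x0)))) (.node (.node (.node (.leaf 0x2fe) (.leaf 0x916)) (.node (.leaf 0x5de00f7) (.leaf 0x602))) (.node (.node (.leaf 0x54c) (.leaf 0x5c0c0f7)) (.node (.leaf 0x4dc40f5) (.leaf 0x0)))))))) (.node (.node (.node (.node (.node (.node (.node (.leaf 0x61d00f5) (.leaf 0x4dd80f5))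 (.node (.leaf 0x456) (.leaf 0x46e00f5))) (.node (.node (.leaf 0x433c0f5) (.leaf 0x787c0f5)) (.node (.leaf 0x74bc0f5) (.leaf 0x1492)))) (.node (.node (.node (.leaf 0x148a) (.leaf 0xd96)) (.node (.leaf 0x686c0f5) (.leaf 0x4c180f5))) (.node (.node (.leaf 0x761c0f5) (.leaf 0x1fe)) (.node (.leaf 0x129c) (.leaf 0x0))))) (.node (.node (.node (.node (.leaf 0xce8) (.leaf 0x76d00f7)) (.node (.leaf 0x6df40f5) (.leaf 0x61400f7))) (.node (.node (.leaf 0x45d40f7) (.leaf 0x612)) (.node (.leaf 0x66bc0f7) (.leaf 0x6be)))) (.node (.node (.node (.leaf 0x5ed00f7) (.leaf 0x6f100f7)) (.node (.leaf 0x4eac0f7) (.leaf 0x44440f5))) (.node (.node (.leaf 0x40fc0f5) (.leaf 0x944)) (.node (.leaf 0x50c) (.leaf 0x0)))))) (.node (.node (.node (.node (.node (.leaf 0x5f6c0f7) (.leaf 0x72a80f5)) (.node (.leaf 0x14f8) (.leaf 0x57ec0f5))) (.node (.node (.leaf 0x45400f7) (.leaf 0x674)) (.node (.leaf 0xb5c) (.leaf 0x67c80f5))))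 (.node (.node (.node (.leaf 0x601c0f7) (.leaf 0x14da)) (.node (.leaf 0x46380f5) (.leaf 0x65500f5))) (.node (.node (.leaf 0x52440f5) (.leaf 0xb82)) (.node (.leaf 0xbbe) (.leaf 0x0))))) (.node (.node (.node (.node (.leaf 0x526) (.leaf 0x1966)) (.node (.leaf 0xf2e) (.leaf 0x50640f5))) (.node (.node (.leaf 0x40a) (.leaf 0x6d140f7)) (.node (.leaf 0x5e240f7) (.leaf 0x0)))) (.node (.node (.node (.leaf 0x58380f5) (.leaf 0x5a0)) (.node (.leaf 0x42180f7) (.leaf 0x53b00f7))) (.node (.node (.leaf 0x634c0f5) (.leaf 0x7ab80f5)) (.node (.leaf 0x41840f5) (.leaf 0x0))))))) (.node (.node (.node (.node (.node (.node (.leaf 0x21a) (.leaf 0x66a40f7)) (.node (.leaf 0x41d80f5) (.leaf 0x51140f5))) (.node (.node (.leaf 0x654c0f5) (.leaf 0x50540f7)) (.node (.leaf 0x14d0) (.leaf 0xd98)))) (.node (.node (.node (.leaf 0x59040f7) (.leaf 0x6f500f7)) (.node (.leaf 0x4a0c0f7) (.leaf 0x5e0))) (.node (.node (.leaf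 0x4fc80f7) (.leaf 0x58f80f7)) (.node (.leaf 0x57500f7) (.leaf 0x0))))) (.node (.node (.node (.node (.leaf 0x6ac00f7) (.leaf 0xa30)) (.node (.leaf 0x4f2) (.leaf 0x44500f5))) (.node (.node (.leaf 0x17b6) (.leaf 0x344)) (.node (.leaf 0x65fc0f5) (.leaf 0x64c00f7)))) (.node (.node (.node (.leaf 0x71ac0f5) (.leaf 0x45e80f5)) (.node (.leaf 0x1952) (.leaf 0x6aa40f5))) (.node (.node (.leaf 0x6ce) (.leaf 0x695c0f7)) (.node (.leaf 0x930) (.leaf 0x0)))))) (.node (.node (.node (.node (.node (.leaf 0x1262) (.leaf 0x581c0f7)) (.node (.leaf 0x485c0f7) (.leaf 0x5bd40f5))) (.node (.node (.leaf 0x1128) (.leaf 0x246)) (.node (.leaf 0x43540f7) (.leaf 0x16c0)))) (.node (.node (.node (.leaf 0x779c0f7) (.leaf 0x4b340f5)) (.node (.leaf 0x72cc0f5) (.leaf 0x67a40f5))) (.node (.node (.leaf 0x662) (.leaf 0x1466)) (.node (.leaf 0x71e) (.leaf 0x0))))) (.node (.node (.node (.node (.leaf 0x6f3c0f7) (.leaf 0x63a80f7))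 (.node (.leaf 0x15bc) (.leaf 0x37c))) (.node (.node (.leaf 0x720) (.leaf 0x65740f7)) (.node (.leaf 0xada) (.leaf 0x0)))) (.node (.node (.node (.leaf 0x40bc0f5) (.leaf 0x67780f5)) (.node (.leaf 0xd02) (.leaf 0x6b540f5))) (.node (.node (.leaf 0x66c80f5) (.leaf 0x525c0f5)) (.node (.leaf 0x1410) (.leaf 0x0))))))))))

/-- packed table -/
noncomputable def cov4_rll : BTree := (.node (.node (.node (.node (.node (.node (.node (.node (.node (.leaf 0x46a) (.leaf 0x44240f7)) (.node (.leaf 0x5f9c0f7) (.leaf 0x52240f5))) (.node (.node (.leaf 0x40d80f5) (.leaf 0x506)) (.node (.leaf 0x5c280f7) (.leaf 0x4a440f7)))) (.node (.node (.node (.leaf 0x6bf00f7) (.leaf 0xa70)) (.node (.leaf 0xe2e) (.leaf 0x814))) (.node (.node (.leaf 0x5e740f7) (.leaf 0x43700f7)) (.node (.leaf 0x66700f7) (.leaf 0x0))))) (.node (.node (.node (.node (.leaf 0xef6) (.leaf 0x45100f5)) (.node (.leaf 0x54e) (.leaf 0x4fbc0f7)))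 (.node (.node (.leaf 0x10fa) (.leaf 0xb4c)) (.node (.leaf 0x74bc0f7) (.leaf 0x4fac0f7)))) (.node (.node (.node (.leaf 0x63080f7) (.leaf 0x62f00f7)) (.node (.leaf 0x4eec0f5) (.leaf 0xb08))) (.node (.node (.leaf 0x6b4) (.leaf 0x614)) (.node (.leaf 0x286) (.leaf 0x0)))))) (.node (.node (.node (.node (.node (.leaf 0x22a) (.leaf 0x44780f7)) (.node (.leaf 0xbac) (.leaf 0x51000f5))) (.node (.node (.leaf 0x6e6c0f7) (.leaf 0x50780f7)) (.node (.leaf 0x1c6) (.leaf 0x4fb00f7)))) (.node (.node (.node (.leaf 0xe8c) (.leaf 0x6a4)) (.node (.leaf 0x76500f7) (.leaf 0x56d80f5))) (.node (.node (.leaf 0x5fa80f5) (.leaf 0x5ffc0f5)) (.node (.leaf 0x478c0f5) (.leaf 0x0))))) (.node (.node (.node (.node (.leaf 0x7af40f7) (.leaf 0x30a)) (.node (.leaf 0x55000f7) (.leaf 0x48c40f5))) (.node (.node (.leaf 0x9fe) (.leaf 0x4f0)) (.node (.leaf 0x1764) (.leaf 0x68200f7)))) (.node (.node (.node (.leaf 0x4e980f5)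 (.leaf 0x66b80f5)) (.node (.leaf 0x62480f7) (.leaf 0x6ac80f5))) (.node (.node (.leaf 0x64100f5) (.leaf 0x60c80f5)) (.node (.leaf 0x4d840f7) (.leaf 0x0))))))) (.node (.node (.node (.node (.node (.node (.leaf 0x46a40f5) (.leaf 0x64000f7)) (.node (.leaf 0x6f0c0f5) (.leaf 0x6a9c0f7))) (.node (.node (.leaf 0x170) (.leaf 0x783c0f5)) (.node (.leaf 0x1732) (.leaf 0x76200f5)))) (.node (.node (.node (.leaf 0x5da80f5) (.leaf 0x725c0f5)) (.node (.leaf 0x71500f5) (.leaf 0xce0))) (.node (.node (.leaf 0x503c0f5) (.leaf 0x6bc00f5)) (.node (.leaf 0x7a300f7) (.leaf 0x0))))) (.node (.node (.node (.node (.leaf 0x1294) (.leaf 0x5bdc0f7)) (.node (.leaf 0x5e680f5) (.leaf 0x400c0f7))) (.node (.node (.leaf 0x63a) (.leaf 0x43a00f5)) (.node (.leaf 0x73b80f5) (.leaf 0x424c0f5)))) (.node (.node (.node (.leaf 0x3d4) (.leaf 0x5aa)) (.node (.leaf 0x5e400f7) (.leaf 0x1b2))) (.node (.node (.leaf 0xec4) (.leaf 0xa04))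 (.node (.leaf 0x4e100f5) (.leaf 0x0)))))) (.node (.node (.node (.node (.node (.leaf 0x982) (.leaf 0xb2c)) (.node (.leaf 0x5c400f5) (.leaf 0x40180f7))) (.node (.node (.leaf 0xba2) (.leaf 0x4ee)) (.node (.leaf 0x56300f5) (.leaf 0x46e)))) (.node (.node (.node (.leaf 0x54e40f7) (.leaf 0x447c0f7)) (.node (.leaf 0x4dc) (.leaf 0x53c40f5))) (.node (.node (.leaf 0xe0c) (.leaf 0x6d8)) (.node (.leaf 0x58dc0f5) (.leaf 0x0))))) (.node (.node (.node (.node (.leaf 0x4fb80f5) (.leaf 0x5f440f5)) (.node (.leaf 0x4e480f7) (.leaf 0x23e))) (.node (.node (.leaf 0x12b2) (.leaf 0x44bc0f7)) (.node (.leaf 0x58a40f7) (.leaf 0x0)))) (.node (.node (.node (.leaf 0x487c0f5) (.leaf 0x1038)) (.node (.leaf 0x41fc0f7) (.leaf 0x6d600f7))) (.node (.node (.leaf 0x152) (.leaf 0x6ab40f7)) (.node (.leaf 0x44a00f7) (.leaf 0x0)))))))) (.node (.node (.node (.node (.node (.node (.node (.leaf 0x442c0f5) (.leaf 0x79e80f5))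 (.node (.leaf 0x1340) (.leaf 0x9ae))) (.node (.node (.leaf 0x10e2) (.leaf 0xb4a)) (.node (.leaf 0x3f6) (.leaf 0x66d80f7)))) (.node (.node (.node (.leaf 0x12c6) (.leaf 0x45a)) (.node (.leaf 0x65280f7) (.leaf 0x52040f7))) (.node (.node (.leaf 0x6a8c0f7) (.leaf 0x5c280f5)) (.node (.leaf 0x667c0f5) (.leaf 0x0))))) (.node (.node (.node (.node (.leaf 0x408) (.leaf 0x7bc)) (.node (.leaf 0x12cc) (.leaf 0x77540f7))) (.node (.node (.leaf 0x126c) (.leaf 0x45e40f7)) (.node (.leaf 0x163a) (.leaf 0x45600f7)))) (.node (.node (.node (.leaf 0x1978) (.leaf 0x63900f5)) (.node (.leaf 0x59640f7) (.leaf 0xcee))) (.node (.node (.leaf 0xc56) (.leaf 0x538)) (.node (.leaf 0x898) (.leaf 0x0)))))) (.node (.node (.node (.node (.node (.leaf 0x45940f5) (.leaf 0x6e2c0f7)) (.node (.leaf 0x5e8) (.leaf 0x16de))) (.node (.node (.leaf 0x5a600f7) (.leaf 0x69a00f7)) (.node (.leaf 0x2be) (.leaf 0x4dac0f5)))) (.node (.node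 (.node (.leaf 0x1a0) (.leaf 0x49e80f7)) (.node (.leaf 0x77b80f7) (.leaf 0x43080f5))) (.node (.node (.leaf 0x67f40f5) (.leaf 0xfb8)) (.node (.leaf 0x53e40f5) (.leaf 0x0))))) (.node (.node (.node (.node (.leaf 0x6acc0f7) (.leaf 0x43bc0f7)) (.node (.leaf 0x4c340f5) (.leaf 0x720c0f7))) (.node (.node (.leaf 0x790c0f5) (.leaf 0x4a1c0f5)) (.node (.leaf 0x63780f7) (.leaf 0x74200f7)))) (.node (.node (.node (.leaf 0x581c0f5) (.leaf 0x252)) (.node (.leaf 0x3a0) (.leaf 0x1f8))) (.node (.node (.leaf 0x7a1c0f7) (.leaf 0x11c0)) (.node (.leaf 0x684) (.leaf 0x0))))))) (.node (.node (.node (.node (.node (.node (.leaf 0x48200f7) (.leaf 0x42bc0f5)) (.node (.leaf 0xe46) (.leaf 0x4ed80f5))) (.node (.node (.leaf 0x3bc) (.leaf 0x448)) (.node (.leaf 0x691c0f7) (.leaf 0x471c0f5)))) (.node (.node (.node (.leaf 0x5aa40f5) (.leaf 0x638c0f5)) (.node (.leaf 0x574) (.leaf 0x59e80f5))) (.node (.node (.leaf 0x484c0f7)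 (.leaf 0x40d80f7)) (.node (.leaf 0x58840f5) (.leaf 0x0))))) (.node (.node (.node (.node (.leaf 0x6e7c0f5) (.leaf 0x690c0f7)) (.node (.leaf 0xe08) (.leaf 0x462c0f5))) (.node (.node (.leaf 0x6a700f5) (.leaf 0x4ff00f5)) (.node (.leaf 0x44bc0f5) (.leaf 0x76100f7)))) (.node (.node (.node (.leaf 0x53300f5) (.leaf 0x1aa)) (.node (.leaf 0x60bc0f5) (.leaf 0x62b40f5))) (.node (.node (.leaf 0x1736) (.leaf 0x334)) (.node (.leaf 0x6e540f5) (.leaf 0x0)))))) (.node (.node (.node (.node (.node (.leaf 0x140e) (.leaf 0xc90)) (.node (.leaf 0x57dc0f5) (.leaf 0xb3c))) (.node (.node (.leaf 0x16d4) (.leaf 0x56e80f7)) (.node (.leaf 0x4d280f5) (.leaf 0x42440f5)))) (.node (.node (.node (.leaf 0x1ab2) (.leaf 0x51c)) (.node (.leaf 0x58ec0f5) (.leaf 0x29e))) (.node (.node (.leaf 0x378) (.leaf 0x40340f7)) (.node (.leaf 0x48a) (.leaf 0x0))))) (.node (.node (.node (.node (.leaf 0x701c0f7) (.leaf 0x62f80f5)) (.node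 (.leaf 0x2d0) (.leaf 0x1f0))) (.node (.node (.leaf 0x43dc0f7) (.leaf 0x6c780f7)) (.node (.leaf 0xdcc) (.leaf 0x0)))) (.node (.node (.node (.leaf 0x40f00f7) (.leaf 0x308)) (.node (.leaf 0x31e) (.leaf 0x13d0))) (.node (.node (.leaf 0x799c0f5) (.leaf 0x6aa80f7)) (.node (.leaf 0x28a) (.leaf 0x0))))))))) (.node (.node (.node (.node (.node (.node (.node (.node (.leaf 0xd36) (.leaf 0x79e40f5)) (.node (.leaf 0x60680f5) (.leaf 0x8e4))) (.node (.node (.leaf 0x40b80f5) (.leaf 0x7a280f5)) (.node (.leaf 0x61d40f5) (.leaf 0x4c740f7)))) (.node (.node (.node (.leaf 0x66e) (.leaf 0x6f6)) (.node (.leaf 0x68480f5) (.leaf 0x7d0))) (.node (.node (.leaf 0x74800f7) (.leaf 0x69a00f5)) (.node (.leaf 0x40e) (.leaf 0x0))))) (.node (.node (.node (.node (.leaf 0x3d0) (.leaf 0x74000f5)) (.node (.leaf 0x610) (.leaf 0x61840f7))) (.node (.node (.leaf 0x551c0f5) (.leaf 0x49f40f5)) (.node (.leaf 0x54d80f7) (.leaf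 0x4c940f7)))) (.node (.node (.node (.leaf 0x428) (.leaf 0x6c900f5)) (.node (.leaf 0x304) (.leaf 0x78780f7))) (.node (.node (.leaf 0x4fe40f5) (.leaf 0x65780f7)) (.node (.leaf 0xa62) (.leaf 0x0)))))) (.node (.node (.node (.node (.node (.leaf 0x124c) (.leaf 0x578c0f7)) (.node (.leaf 0x42540f5) (.leaf 0x54500f5))) (.node (.node (.leaf 0x5a440f7) (.leaf 0x41d80f7)) (.node (.leaf 0x58a00f7) (.leaf 0x52480f7)))) (.node (.node (.node (.leaf 0x4e840f5) (.leaf 0x18f4)) (.node (.leaf 0x11fc) (.leaf 0x1b60))) (.node (.node (.leaf 0x5b500f7) (.leaf 0x4b540f7)) (.node (.leaf 0x6aac0f5) (.leaf 0x0))))) (.node (.node (.node (.node (.leaf 0x15c) (.leaf 0x72fc0f7)) (.node (.leaf 0x9b0) (.leaf 0x72200f7))) (.node (.node (.leaf 0x49340f7) (.leaf 0x66c80f7)) (.node (.leaf 0x7a780f5) (.leaf 0x15ec)))) (.node (.node (.node (.leaf 0x65c40f5) (.leaf 0x49f40f7)) (.node (.leaf 0x62400f7) (.leaf 0x7a1c0f5)))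 (.node (.node (.leaf 0x6b7c0f5) (.leaf 0x5b0)) (.node (.leaf 0x66b00f5) (.leaf 0x0))))))) (.node (.node (.node (.node (.node (.node (.leaf 0x4fdc0f5) (.leaf 0x63a80f5)) (.node (.leaf 0x7ab40f5) (.leaf 0x4d180f7))) (.node (.node (.leaf 0x1ba) (.leaf 0x4b7c0f7)) (.node (.leaf 0x3a4) (.leaf 0x628c0f5)))) (.node (.node (.node (.leaf 0x609c0f7) (.leaf 0xcf8)) (.node (.leaf 0x6a580f7) (.leaf 0x50dc0f5))) (.node (.node (.leaf 0x1716) (.leaf 0x5c0)) (.node (.leaf 0x51cc0f7) (.leaf 0x0))))) (.node (.node (.node (.node (.leaf 0x73bc0f5) (.leaf 0x76cc0f5)) (.node (.leaf 0x68e40f5) (.leaf 0x48440f7))) (.node (.node (.leaf 0x76500f5) (.leaf 0x220)) (.node (.leaf 0x5f6) (.leaf 0x56d40f5)))) (.node (.node (.node (.leaf 0x12fe) (.leaf 0x1f6)) (.node (.leaf 0xaaa) (.leaf 0x66a40f5))) (.node (.node (.leaf 0x6e9c0f5) (.leaf 0x4e8c0f7)) (.node (.leaf 0x41a) (.leaf 0x0)))))) (.node (.node (.node (.node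 (.node (.leaf 0x43180f7) (.leaf 0x8aa)) (.node (.leaf 0x532c0f7) (.leaf 0x43000f5))) (.node (.node (.leaf 0x59900f5) (.leaf 0x66b40f7)) (.node (.leaf 0x4b340f7) (.leaf 0x4ffc0f7)))) (.node (.node (.node (.leaf 0x63000f5) (.leaf 0x73d80f5)) (.node (.leaf 0x68bc0f5) (.leaf 0x69f80f5))) (.node (.node (.leaf 0x64780f5) (.leaf 0x75340f7)) (.node (.leaf 0x5bd00f7) (.leaf 0x0))))) (.node (.node (.node (.node (.leaf 0x6e700f7) (.leaf 0x76c00f5)) (.node (.leaf 0x6ff40f7) (.leaf 0x4cc))) (.node (.node (.leaf 0x688c0f5) (.leaf 0x62f80f7)) (.node (.leaf 0x54e00f7) (.leaf 0x0)))) (.node (.node (.node (.leaf 0x48980f5) (.leaf 0x780)) (.node (.leaf 0x5f100f5) (.leaf 0x57500f5))) (.node (.node (.leaf 0x61c40f5) (.leaf 0x55380f7)) (.node (.leaf 0x4df80f5) (.leaf 0x0)))))))) (.node (.node (.node (.node (.node (.node (.node (.leaf 0x6e8) (.leaf 0x4e1c0f5)) (.node (.leaf 0x105c) (.leaf 0x48380f7)))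 (.node (.node (.leaf 0x5bf00f7) (.leaf 0x6b680f7)) (.node (.leaf 0x59dc0f7) (.leaf 0x79f00f5)))) (.node (.node (.node (.leaf 0x13fa) (.leaf 0x66d80f5)) (.node (.leaf 0xfd2) (.leaf 0x7a500f7))) (.node (.node (.leaf 0x376) (.leaf 0xd80)) (.node (.leaf 0xbdc) (.leaf 0x0))))) (.node (.node (.node (.node (.leaf 0x5fc80f5) (.leaf 0x71500f7)) (.node (.leaf 0x64280f5) (.leaf 0x6aac0f7))) (.node (.node (.leaf 0x15dc) (.leaf 0x6f500f5)) (.node (.leaf 0x13fc) (.leaf 0xdba)))) (.node (.node (.node (.leaf 0x5edc0f7) (.leaf 0x6f200f7)) (.node (.leaf 0x5e580f7) (.leaf 0x7a100f5))) (.node (.node (.leaf 0x62a) (.leaf 0x76bc0f7)) (.node (.leaf 0xee8) (.leaf 0x0)))))) (.node (.node (.node (.node (.node (.leaf 0x4ea00f5) (.leaf 0xd88)) (.node (.leaf 0x6ed40f5) (.leaf 0x6ab00f7))) (.node (.node (.leaf 0x5a8) (.leaf 0x554c0f5)) (.node (.leaf 0x302) (.leaf 0xbc6)))) (.node (.node (.node (.leaf 0x43240f7)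 (.leaf 0x141c)) (.node (.leaf 0x42b00f7) (.leaf 0x76880f5))) (.node (.node (.leaf 0x4bb40f5) (.leaf 0x6e580f5)) (.node (.leaf 0x53fc0f5) (.leaf 0x0))))) (.node (.node (.node (.node (.leaf 0x52bc0f7) (.leaf 0x670)) (.node (.leaf 0x1104) (.leaf 0x58ec0f7))) (.node (.node (.leaf 0x49e00f7) (.leaf 0x64cc0f5)) (.node (.leaf 0x472c0f7) (.leaf 0x0)))) (.node (.node (.node (.leaf 0x61cc0f7) (.leaf 0x7a140f5)) (.node (.leaf 0x212) (.leaf 0x6d4c0f7))) (.node (.node (.leaf 0x63640f5) (.leaf 0x64e80f5)) (.node (.leaf 0x41900f5) (.leaf 0x0))))))) (.node (.node (.node (.node (.node (.node (.leaf 0x10e4) (.leaf 0x66840f7)) (.node (.leaf 0xc8a) (.leaf 0x406c0f5))) (.node (.node (.leaf 0x7a580f5) (.leaf 0x23c)) (.node (.leaf 0x601c0f5) (.leaf 0x46f00f5)))) (.node (.node (.node (.leaf 0x54fc0f5) (.leaf 0x429c0f5)) (.node (.leaf 0x61c) (.leaf 0x6f880f7))) (.node (.node (.leaf 0x51280f7) (.leaf 0x40e00f7))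 (.node (.leaf 0x682) (.leaf 0x0))))) (.node (.node (.node (.node (.leaf 0x7a9c0f7) (.leaf 0x76c00f7)) (.node (.leaf 0x79a00f5) (.leaf 0xef0))) (.node (.node (.leaf 0x4ec40f7) (.leaf 0x43400f5)) (.node (.leaf 0x298) (.leaf 0x56d00f5)))) (.node (.node (.node (.leaf 0x79640f7) (.leaf 0x42700f7)) (.node (.leaf 0x2bc) (.leaf 0x62b40f7))) (.node (.node (.leaf 0x54b40f7) (.leaf 0x517c0f7)) (.node (.leaf 0x467c0f5) (.leaf 0x0)))))) (.node (.node (.node (.node (.node (.leaf 0x114) (.leaf 0x9d2)) (.node (.leaf 0x5f8) (.leaf 0x75f40f7))) (.node (.node (.leaf 0x6f900f7) (.leaf 0xf74)) (.node (.leaf 0x3de) (.leaf 0x300)))) (.node (.node (.node (.leaf 0x166) (.leaf 0x57640f5)) (.node (.leaf 0x58a80f7) (.leaf 0xaa6))) (.node (.node (.leaf 0x40e40f7) (.leaf 0x6f380f7)) (.node (.leaf 0x9ee) (.leaf 0x0))))) (.node (.node (.node (.node (.leaf 0x17bc) (.leaf 0x9e8)) (.node (.leaf 0x332) (.leaf 0x65940f7)))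 (.node (.node (.leaf 0x4e500f7) (.leaf 0x67fc0f7)) (.node (.leaf 0x71f40f7) (.leaf 0x0)))) (.node (.node (.node (.leaf 0x40f80f7) (.leaf 0x60d00f7)) (.node (.leaf 0x6f980f7) (.leaf 0x44440f7))) (.node (.node (.leaf 0x1622) (.leaf 0x73f40f5)) (.node (.leaf 0x262) (.leaf 0x0))))))))))

/-- packed table -/
noncomputable def cov4_rlr : BTree := (.node (.node (.node (.node (.node (.node (.node (.node (.node (.leaf 0x6ec40f5) (.leaf 0x6f480f7)) (.node (.leaf 0x65a00f7) (.leaf 0xc5c))) (.node (.node (.leaf 0x4bd80f7) (.leaf 0xb7a)) (.node (.leaf 0x61e00f5) (.leaf 0x52e)))) (.node (.node (.node (.leaf 0x53780f5) (.leaf 0x6b700f7)) (.node (.leaf 0x68380f5) (.leaf 0x439c0f5))) (.node (.node (.leaf 0x59a) (.leaf 0x44200f5)) (.node (.leaf 0x67bc0f7) (.leaf 0x0))))) (.node (.node (.node (.node (.leaf 0x164) (.leaf 0x53ac0f5)) (.node (.leaf 0x514c0f7) (.leaf 0x6b140f7))) (.node (.node (.leaf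 0x49680f7) (.leaf 0x67100f7)) (.node (.leaf 0x4b080f7) (.leaf 0x398)))) (.node (.node (.node (.leaf 0x65040f5) (.leaf 0x639c0f5)) (.node (.leaf 0x72e80f5) (.leaf 0x4bc80f7))) (.node (.node (.leaf 0x67ac0f7) (.leaf 0x41e80f5)) (.node (.leaf 0x840) (.leaf 0x0)))))) (.node (.node (.node (.node (.node (.leaf 0x90e) (.leaf 0x2ec)) (.node (.leaf 0xc3a) (.leaf 0x53b00f5))) (.node (.node (.leaf 0x1a50) (.leaf 0x50640f7)) (.node (.leaf 0x6d080f5) (.leaf 0x16c)))) (.node (.node (.node (.leaf 0x7ad40f5) (.leaf 0x4a100f7)) (.node (.leaf 0x1c24) (.leaf 0x77200f7))) (.node (.node (.leaf 0x54c40f7) (.leaf 0x1478)) (.node (.leaf 0x68380f7) (.leaf 0x0))))) (.node (.node (.node (.node (.leaf 0xa4e) (.leaf 0x7ac)) (.node (.leaf 0x5e9c0f5) (.leaf 0x76280f7))) (.node (.node (.leaf 0x160a) (.leaf 0x2aa)) (.node (.leaf 0x49b40f7) (.leaf 0xcdc)))) (.node (.node (.node (.leaf 0x6a9c0f5) (.leaf 0xd64))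 (.node (.leaf 0x77b80f5) (.leaf 0x760c0f7))) (.node (.node (.leaf 0x70000f5) (.leaf 0x41e40f5)) (.node (.leaf 0x57c40f7) (.leaf 0x0))))))) (.node (.node (.node (.node (.node (.node (.leaf 0x4bc80f5) (.leaf 0x52440f7)) (.node (.leaf 0x671c0f5) (.leaf 0x4fcc0f7))) (.node (.node (.leaf 0x208) (.leaf 0x4b8c0f7)) (.node (.leaf 0x638) (.leaf 0x71440f5)))) (.node (.node (.node (.leaf 0x6e7c0f7) (.leaf 0x63a00f5)) (.node (.leaf 0xeec) (.leaf 0x6b180f7))) (.node (.node (.leaf 0x99e) (.leaf 0x6b040f7)) (.node (.leaf 0x45540f5) (.leaf 0x0))))) (.node (.node (.node (.node (.leaf 0x4fb00f5) (.leaf 0x76dc0f5)) (.node (.leaf 0x54d00f5) (.leaf 0x48800f7))) (.node (.node (.leaf 0x5e4c0f5) (.leaf 0x4ae80f7)) (.node (.leaf 0x70b80f5) (.leaf 0x56a40f7)))) (.node (.node (.node (.leaf 0x51280f5) (.leaf 0x76900f7)) (.node (.leaf 0x76900f5) (.leaf 0xc20))) (.node (.node (.leaf 0x1d0) (.leaf 0x4ea00f7))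 (.node (.leaf 0x63e40f5) (.leaf 0x0)))))) (.node (.node (.node (.node (.node (.leaf 0x608) (.leaf 0x6f440f5)) (.node (.leaf 0x14be) (.leaf 0x180))) (.node (.node (.leaf 0x58940f7) (.leaf 0xfe2)) (.node (.leaf 0x56380f5) (.leaf 0x4e500f5)))) (.node (.node (.node (.leaf 0x14c) (.leaf 0x45c)) (.node (.leaf 0x6bc80f7) (.leaf 0x6f700f5))) (.node (.node (.leaf 0x5e440f5) (.leaf 0x6e780f5)) (.node (.leaf 0x5d200f7) (.leaf 0x0))))) (.node (.node (.node (.node (.leaf 0x5e640f5) (.leaf 0x406)) (.node (.leaf 0x1b24) (.leaf 0x75900f7))) (.node (.node (.leaf 0x660) (.leaf 0x14e4)) (.node (.leaf 0x712c0f7) (.leaf 0x0)))) (.node (.node (.node (.leaf 0x48a00f5) (.leaf 0x67f00f7)) (.node (.leaf 0x42040f7) (.leaf 0x5ce40f7))) (.node (.node (.leaf 0x4b780f7) (.leaf 0x55240f7)) (.node (.leaf 0xf4a) (.leaf 0x0)))))))) (.node (.node (.node (.node (.node (.node (.node (.leaf 0x45500f7) (.leaf 0x336))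 (.node (.leaf 0x544) (.leaf 0x75800f5))) (.node (.node (.leaf 0x4ed80f7) (.leaf 0x1374)) (.node (.leaf 0x43540f5) (.leaf 0x5e040f5)))) (.node (.node (.node (.leaf 0x162) (.leaf 0x52c40f7)) (.node (.leaf 0x73a40f7) (.leaf 0x4a000f5))) (.node (.node (.leaf 0x636c0f7) (.leaf 0x764c0f5)) (.node (.leaf 0x5ed00f5) (.leaf 0x0))))) (.node (.node (.node (.node (.leaf 0x14c4) (.leaf 0x572c0f5)) (.node (.leaf 0x7f8) (.leaf 0x5d280f5))) (.node (.node (.leaf 0x77ac0f7) (.leaf 0x64e80f7)) (.node (.leaf 0x49300f5) (.leaf 0x74040f5)))) (.node (.node (.node (.leaf 0x5ef80f7) (.leaf 0x1392)) (.node (.leaf 0x59780f7) (.leaf 0x592))) (.node (.node (.leaf 0x1118) (.leaf 0x1c0)) (.node (.leaf 0x3e4) (.leaf 0x0)))))) (.node (.node (.node (.node (.node (.leaf 0x52e00f5) (.leaf 0x71b00f7)) (.node (.leaf 0x700c0f5) (.leaf 0x484c0f5))) (.node (.node (.leaf 0x66bc0f5) (.leaf 0x5df80f7)) (.node (.leaf 0x1a78)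 (.leaf 0x3c0)))) (.node (.node (.node (.leaf 0x125c) (.leaf 0x757c0f7)) (.node (.leaf 0xbc8) (.leaf 0x5e880f5))) (.node (.node (.leaf 0x592c0f5) (.leaf 0x11c)) (.node (.leaf 0x541c0f5) (.leaf 0x0))))) (.node (.node (.node (.node (.leaf 0x88e) (.leaf 0x4f540f7)) (.node (.leaf 0x5ee) (.leaf 0x58bc0f7))) (.node (.node (.leaf 0x692) (.leaf 0x4be)) (.node (.leaf 0x400) (.leaf 0x0)))) (.node (.node (.node (.leaf 0x61f40f7) (.leaf 0x44540f5)) (.node (.leaf 0x720c0f5) (.leaf 0x122c))) (.node (.node (.leaf 0x4d8) (.leaf 0x45e40f5)) (.node (.leaf 0x5bd40f7) (.leaf 0x0))))))) (.node (.node (.node (.node (.node (.node (.leaf 0xf3c) (.leaf 0x63940f5)) (.node (.leaf 0x40580f5) (.leaf 0x5e9c0f7))) (.node (.node (.leaf 0x7a500f5) (.leaf 0x1010)) (.node (.leaf 0x679c0f7) (.leaf 0x6f400f5)))) (.node (.node (.node (.leaf 0xd90) (.leaf 0x104a)) (.node (.leaf 0x183c) (.leaf 0x6d080f7))) (.node (.node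 (.leaf 0x51040f7) (.leaf 0x703c0f5)) (.node (.leaf 0x58a80f5) (.leaf 0x0))))) (.node (.node (.node (.node (.leaf 0x54d00f7) (.leaf 0x63180f7)) (.node (.leaf 0x42440f7) (.leaf 0x56180f7))) (.node (.node (.leaf 0x6a800f5) (.leaf 0x10f4)) (.node (.leaf 0x44b40f5) (.leaf 0x7e6)))) (.node (.node (.node (.leaf 0x77c00f7) (.leaf 0xec)) (.node (.leaf 0x1c2) (.leaf 0x77c40f5))) (.node (.node (.leaf 0x4c480f5) (.leaf 0x49e)) (.node (.leaf 0x46800f5) (.leaf 0x0)))))) (.node (.node (.node (.node (.node (.leaf 0xcb2) (.leaf 0x37e)) (.node (.leaf 0x5f4) (.leaf 0x75f00f7))) (.node (.node (.leaf 0x4ac) (.leaf 0x56f00f7)) (.node (.leaf 0x81c) (.leaf 0x60380f7)))) (.node (.node (.node (.leaf 0x1694) (.leaf 0x60bc0f7)) (.node (.leaf 0x52040f5) (.leaf 0x67680f7))) (.node (.node (.leaf 0x60c) (.leaf 0x5eb80f7)) (.node (.leaf 0x66000f7) (.leaf 0x0))))) (.node (.node (.node (.node (.leaf 0x224) (.leaf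 0x63180f5)) (.node (.leaf 0x9b4) (.leaf 0x864))) (.node (.node (.leaf 0x6c080f5) (.leaf 0x55ac0f5)) (.node (.leaf 0x404) (.leaf 0x0)))) (.node (.node (.node (.leaf 0x41040f7) (.leaf 0xb6a)) (.node (.leaf 0xb96) (.leaf 0x54b80f5))) (.node (.node (.leaf 0x11c6) (.leaf 0x7a000f5)) (.node (.leaf 0x62a00f5) (.leaf 0x0))))))))) (.node (.node (.node (.node (.node (.node (.node (.node (.leaf 0xcac) (.leaf 0x4a040f7)) (.node (.leaf 0x5f400f7) (.leaf 0x52dc0f7))) (.node (.node (.leaf 0x43000f7) (.leaf 0x1306)) (.node (.leaf 0x61d80f5) (.leaf 0x643c0f5)))) (.node (.node (.node (.leaf 0x5df40f5) (.leaf 0x71f40f5)) (.node (.leaf 0x73e) (.leaf 0x485c0f5))) (.node (.node (.leaf 0x14a8) (.leaf 0x5dcc0f5)) (.node (.leaf 0x46680f5) (.leaf 0x0))))) (.node (.node (.node (.node (.leaf 0x14f6) (.leaf 0x65ac0f7)) (.node (.leaf 0x4d180f5) (.leaf 0x48840f7))) (.node (.node (.leaf 0x49c) (.leaf 0x6c300f5))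 (.node (.leaf 0x5b540f7) (.leaf 0x278)))) (.node (.node (.node (.leaf 0x6a980f7) (.leaf 0x41fc0f5)) (.node (.leaf 0x49680f5) (.leaf 0x6e040f7))) (.node (.node (.leaf 0x799c0f7) (.leaf 0x76e80f7)) (.node (.leaf 0x69f80f7) (.leaf 0x0)))))) (.node (.node (.node (.node (.node (.leaf 0x598c0f5) (.leaf 0xd24)) (.node (.leaf 0x701c0f5) (.leaf 0x124))) (.node (.node (.leaf 0x97a) (.leaf 0x1b20)) (.node (.leaf 0x66540f7) (.leaf 0x64780f7)))) (.node (.node (.node (.leaf 0x1ee) (.leaf 0x1da)) (.node (.leaf 0x644) (.leaf 0x896))) (.node (.node (.leaf 0x6ac80f7) (.leaf 0x46d00f5)) (.node (.leaf 0x826) (.leaf 0x0))))) (.node (.node (.node (.node (.leaf 0x40bc0f7) (.leaf 0x68800f7)) (.node (.leaf 0x4e040f5) (.leaf 0x6cec0f7))) (.node (.node (.leaf 0x1636) (.leaf 0x551c0f7)) (.node (.leaf 0x4a080f7) (.leaf 0x741c0f7)))) (.node (.node (.node (.leaf 0x72e40f7) (.leaf 0x6a180f5)) (.node (.leaf 0x56580f7)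 (.leaf 0x43d00f7))) (.node (.node (.leaf 0x75400f5) (.leaf 0x8b4)) (.node (.leaf 0x65980f7) (.leaf 0x0))))))) (.node (.node (.node (.node (.node (.node (.leaf 0x160) (.leaf 0x7ad40f7)) (.node (.leaf 0x340) (.leaf 0x4ed00f5))) (.node (.node (.leaf 0x4b540f5) (.leaf 0x4bac0f7)) (.node (.leaf 0x5cb40f7) (.leaf 0x673c0f5)))) (.node (.node (.node (.leaf 0x53a) (.leaf 0x5d1c0f7)) (.node (.leaf 0x142e) (.leaf 0x5a000f5))) (.node (.node (.leaf 0x471c0f7) (.leaf 0x53940f5)) (.node (.leaf 0x1702) (.leaf 0x0))))) (.node (.node (.node (.node (.leaf 0x176e) (.leaf 0x8ba)) (.node (.leaf 0x65780f5) (.leaf 0x57f00f5))) (.node (.node (.leaf 0x6ccc0f5) (.leaf 0x13ac)) (.node (.leaf 0x4d0) (.leaf 0x1c8)))) (.node (.node (.node (.leaf 0x6c4) (.leaf 0x11e)) (.node (.leaf 0x362) (.leaf 0x67f00f5))) (.node (.node (.leaf 0x41c40f5) (.leaf 0x45e)) (.node (.leaf 0x52ec0f7) (.leaf 0x0)))))) (.node (.node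 (.node (.node (.node (.leaf 0x65340f5) (.leaf 0x232)) (.node (.leaf 0x79140f7) (.leaf 0x52e00f7))) (.node (.node (.leaf 0xa9a) (.leaf 0x56cc0f7)) (.node (.leaf 0x54940f7) (.leaf 0x62440f5)))) (.node (.node (.node (.leaf 0x5fd00f5) (.leaf 0x66b40f5)) (.node (.leaf 0x58380f7) (.leaf 0x5c1c0f7))) (.node (.node (.leaf 0x63880f5) (.leaf 0x42980f5)) (.node (.leaf 0x5e7c0f7) (.leaf 0x0))))) (.node (.node (.node (.node (.leaf 0x64040f5) (.leaf 0x59d80f5)) (.node (.leaf 0x6e800f5) (.leaf 0x108))) (.node (.node (.leaf 0x1c4) (.leaf 0x49ac0f7)) (.node (.leaf 0x71340f7) (.leaf 0x0)))) (.node (.node (.node (.leaf 0x48740f5) (.leaf 0x44180f7)) (.node (.leaf 0x17e6) (.leaf 0xf10))) (.node (.node (.leaf 0x73280f5) (.leaf 0x4fe00f7)) (.node (.leaf 0x47100f5) (.leaf 0x0)))))))) (.node (.node (.node (.node (.node (.node (.node (.leaf 0x51140f7) (.leaf 0x5c8)) (.node (.leaf 0x492) (.leaf 0x48480f5)))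 (.node (.node (.leaf 0x100) (.leaf 0x5d280f7)) (.node (.leaf 0x5a080f7) (.leaf 0x760c0f5)))) (.node (.node (.node (.leaf 0x5fac0f7) (.leaf 0x50e40f5)) (.node (.leaf 0x7b1c0f5) (.leaf 0x78140f7))) (.node (.node (.leaf 0x47e) (.leaf 0x6bd80f5)) (.node (.leaf 0x45480f5) (.leaf 0x0))))) (.node (.node (.node (.node (.leaf 0x61a00f7) (.leaf 0x686c0f7)) (.node (.leaf 0x75380f7) (.leaf 0x518c0f5))) (.node (.node (.leaf 0x65d80f5) (.leaf 0x4ec40f5)) (.node (.leaf 0x65d00f7) (.leaf 0x5b380f7)))) (.node (.node (.node (.leaf 0x5ef40f7) (.leaf 0x53d00f5)) (.node (.leaf 0x5e640f7) (.leaf 0x43900f5))) (.node (.node (.leaf 0x8e0) (.leaf 0x17c)) (.node (.leaf 0xfc2) (.leaf 0x0)))))) (.node (.node (.node (.node (.node (.leaf 0x41d40f5) (.leaf 0x6ca40f5)) (.node (.leaf 0x6aa00f5) (.leaf 0x7b240f7))) (.node (.node (.leaf 0x4d840f5) (.leaf 0x6d780f7)) (.node (.leaf 0x5cdc0f7) (.leaf 0x5e000f5)))) (.node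 (.node (.node (.leaf 0x53240f7) (.leaf 0x16a6)) (.node (.leaf 0x4ae) (.leaf 0x138a))) (.node (.node (.leaf 0x52ec0f5) (.leaf 0x4fd00f7)) (.node (.leaf 0x68340f7) (.leaf 0x0))))) (.node (.node (.node (.node (.leaf 0x56100f5) (.leaf 0x66d00f5)) (.node (.leaf 0x5e100f7) (.leaf 0x50680f5))) (.node (.node (.leaf 0x70fc0f5) (.leaf 0x5e780f5)) (.node (.leaf 0x44200f7) (.leaf 0x0)))) (.node (.node (.node (.leaf 0x61d00f7) (.leaf 0x516)) (.node (.leaf 0x41e40f7) (.leaf 0x54500f7))) (.node (.node (.leaf 0x687c0f7) (.leaf 0x6e840f5)) (.node (.leaf 0x438) (.leaf 0x0))))))) (.node (.node (.node (.node (.node (.node (.leaf 0x85c) (.leaf 0x539c0f5)) (.node (.leaf 0x70fc0f7) (.leaf 0x51040f5))) (.node (.node (.leaf 0x55340f5) (.leaf 0x50440f7)) (.node (.leaf 0x512) (.leaf 0x83e)))) (.node (.node (.node (.leaf 0x56d00f7) (.leaf 0x6a400f5)) (.node (.leaf 0x1630) (.leaf 0x5e2))) (.node (.node (.leaf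 0x4df80f7) (.leaf 0x19d0)) (.node (.leaf 0x17aa) (.leaf 0x0))))) (.node (.node (.node (.node (.leaf 0x5a3c0f7) (.leaf 0x63d80f7)) (.node (.leaf 0x75ec0f7) (.leaf 0x5ea80f7))) (.node (.node (.leaf 0x43a00f7) (.leaf 0x430c0f5)) (.node (.leaf 0x566c0f7) (.leaf 0x322)))) (.node (.node (.node (.leaf 0x40680f5) (.leaf 0x741c0f5)) (.node (.leaf 0x69c80f5) (.leaf 0x49e00f5))) (.node (.node (.leaf 0x1476) (.leaf 0x76680f5)) (.node (.leaf 0x20a) (.leaf 0x0)))))) (.node (.node (.node (.node (.node (.leaf 0x578c0f5) (.leaf 0x1ac)) (.node (.leaf 0x74480f5) (.leaf 0x152e))) (.node (.node (.leaf 0x10c2) (.leaf 0x58f40f5)) (.node (.leaf 0x5d880f7) (.leaf 0x1a60)))) (.node (.node (.node (.leaf 0x79600f7) (.leaf 0x668)) (.node (.leaf 0x4c2) (.leaf 0xbea))) (.node (.node (.leaf 0x13f0) (.leaf 0x63e)) (.node (.leaf 0x15f0) (.leaf 0x0))))) (.node (.node (.node (.node (.leaf 0x77440f5) (.leaf 0xe24))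 (.node (.leaf 0x5cb00f5) (.leaf 0x3e8))) (.node (.node (.leaf 0x64d40f7) (.leaf 0x5df40f7)) (.node (.leaf 0x5a2) (.leaf 0x0)))) (.node (.node (.node (.leaf 0x40fc0f7) (.leaf 0x1b4c)) (.node (.leaf 0x66480f5) (.leaf 0x4a300f7))) (.node (.node (.leaf 0x61580f5) (.leaf 0x572)) (.node (.leaf 0x676) (.leaf 0x0))))))))))

/-- packed table -/
noncomputable def cov4_rrl : BTree := (.node (.node (.node (.node (.node (.node (.node (.node (.node (.leaf 0x258) (.leaf 0x4a7c0f5)) (.node (.leaf 0x4dd80f7) (.leaf 0xa36))) (.node (.node (.leaf 0x40c00f5) (.leaf 0x56b40f7)) (.node (.leaf 0xfea) (.leaf 0x43dc0f5)))) (.node (.node (.node (.leaf 0x424) (.leaf 0x69340f7)) (.node (.leaf 0x5d6c0f7) (.leaf 0x66e80f7))) (.node (.node (.leaf 0x65040f7) (.leaf 0x44240f5)) (.node (.leaf 0x8e8) (.leaf 0x0))))) (.node (.node (.node (.node (.leaf 0x25e) (.leaf 0x73ec0f7)) (.node (.leaf 0x618c0f5) (.leaf 0x1820)))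 (.node (.node (.leaf 0x75c) (.leaf 0x67140f7)) (.node (.leaf 0x796) (.leaf 0x75400f7)))) (.node (.node (.node (.leaf 0x61480f5) (.leaf 0x6dc00f7)) (.node (.leaf 0x46800f7) (.leaf 0xb7e))) (.node (.node (.leaf 0x401c0f5) (.leaf 0x65640f7)) (.node (.leaf 0x69e40f7) (.leaf 0x0)))))) (.node (.node (.node (.node (.node (.leaf 0x637c0f7) (.leaf 0x4fc)) (.node (.leaf 0x42180f5) (.leaf 0x77700f7))) (.node (.node (.leaf 0x48600f7) (.leaf 0xa2a)) (.node (.leaf 0x5ce40f5) (.leaf 0x46c)))) (.node (.node (.node (.leaf 0x4ef80f5) (.leaf 0xf0c)) (.node (.leaf 0x65600f5) (.leaf 0x79d00f7))) (.node (.node (.leaf 0x4b3c0f7) (.leaf 0x6b680f5)) (.node (.leaf 0x5cb80f5) (.leaf 0x0))))) (.node (.node (.node (.node (.leaf 0x121e) (.leaf 0xf2a)) (.node (.leaf 0x5ea40f5) (.leaf 0x70dc0f7))) (.node (.node (.leaf 0x65340f7) (.leaf 0x5d340f7)) (.node (.leaf 0x49f00f7) (.leaf 0x54340f5)))) (.node (.node (.node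 (.leaf 0x68340f5) (.leaf 0x6a300f5)) (.node (.leaf 0x368) (.leaf 0x9f4))) (.node (.node (.leaf 0x5f5c0f5) (.leaf 0xc72)) (.node (.leaf 0x57d40f7) (.leaf 0x0))))))) (.node (.node (.node (.node (.node (.node (.leaf 0x74f40f7) (.leaf 0x63e40f7)) (.node (.leaf 0x5c380f7) (.leaf 0x46d00f7))) (.node (.node (.leaf 0x10bc) (.leaf 0xabc)) (.node (.leaf 0x5cc80f7) (.leaf 0x54e00f5)))) (.node (.node (.node (.leaf 0x1aec) (.leaf 0x6d5c0f5)) (.node (.leaf 0x68cc0f5) (.leaf 0x50b40f5))) (.node (.node (.leaf 0x46f00f7) (.leaf 0x67440f7)) (.node (.leaf 0x45440f5) (.leaf 0x0))))) (.node (.node (.node (.node (.leaf 0x68c40f5) (.leaf 0x4ec)) (.node (.leaf 0x6ac00f5) (.leaf 0x75d80f7))) (.node (.node (.leaf 0x804) (.leaf 0x1484)) (.node (.leaf 0x44500f7) (.leaf 0x67a00f7)))) (.node (.node (.node (.leaf 0x5ef00f7) (.leaf 0x61000f5)) (.node (.leaf 0x5e480f7) (.leaf 0x44780f5))) (.node (.node (.leaf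 0x16e) (.leaf 0x42cc0f5)) (.node (.leaf 0x48c) (.leaf 0x0)))))) (.node (.node (.node (.node (.node (.leaf 0x45cc0f5) (.leaf 0xc16)) (.node (.leaf 0x127c) (.leaf 0x5f880f5))) (.node (.node (.leaf 0x4f540f5) (.leaf 0x6a180f7)) (.node (.leaf 0x7b8) (.leaf 0x4e440f5)))) (.node (.node (.node (.leaf 0x60540f7) (.leaf 0x86a)) (.node (.leaf 0x45700f5) (.leaf 0x4bdc0f7))) (.node (.node (.leaf 0x56d80f7) (.leaf 0x77100f7)) (.node (.leaf 0x57400f7) (.leaf 0x0))))) (.node (.node (.node (.node (.leaf 0x68d40f7) (.leaf 0x2b4)) (.node (.leaf 0x77bc0f7) (.leaf 0x774))) (.node (.node (.leaf 0xf42) (.leaf 0x5e780f7)) (.node (.leaf 0x3d8) (.leaf 0x0)))) (.node (.node (.node (.leaf 0x9e6) (.leaf 0x67f40f7)) (.node (.leaf 0xf88) (.leaf 0x5d000f7))) (.node (.node (.leaf 0x66d00f7) (.leaf 0x55340f7)) (.node (.leaf 0x50ec0f5) (.leaf 0x0)))))))) (.node (.node (.node (.node (.node (.node (.node (.leaf 0x55380f5)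 (.leaf 0x5fcc0f5)) (.node (.leaf 0x65680f7) (.leaf 0x654c0f7))) (.node (.node (.leaf 0x4f8) (.leaf 0x53fc0f7)) (.node (.leaf 0x59e40f7) (.leaf 0x43bc0f5)))) (.node (.node (.node (.leaf 0x53640f5) (.leaf 0x79080f5)) (.node (.leaf 0x3c8) (.leaf 0x6e880f5))) (.node (.node (.leaf 0x606c0f7) (.leaf 0x774c0f5)) (.node (.leaf 0x4ecc0f7) (.leaf 0x0))))) (.node (.node (.node (.node (.leaf 0x5bc) (.leaf 0x570c0f5)) (.node (.leaf 0x5e540f5) (.leaf 0x5dc40f7))) (.node (.node (.leaf 0x4e7c0f5) (.leaf 0xa10)) (.node (.leaf 0x49340f5) (.leaf 0x6e600f5)))) (.node (.node (.node (.leaf 0x4ab80f5) (.leaf 0x6f240f7)) (.node (.leaf 0x145a) (.leaf 0x5d8))) (.node (.node (.leaf 0x453c0f7) (.leaf 0x195c)) (.node (.leaf 0x33c) (.leaf 0x0)))))) (.node (.node (.node (.node (.node (.leaf 0x6e380f5) (.leaf 0xd78)) (.node (.leaf 0x566) (.leaf 0x41900f7))) (.node (.node (.leaf 0xdbe) (.leaf 0x3e0)) (.node (.leaf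 0x72200f5) (.leaf 0x54340f7)))) (.node (.node (.node (.leaf 0x8ca) (.leaf 0x3ee)) (.node (.leaf 0xe1c) (.leaf 0x6e300f7))) (.node (.node (.leaf 0x5a0c0f5) (.leaf 0x1e0)) (.node (.leaf 0x68440f7) (.leaf 0x0))))) (.node (.node (.node (.node (.leaf 0x514c0f5) (.leaf 0x1516)) (.node (.leaf 0x48400f5) (.leaf 0x1778))) (.node (.node (.leaf 0x5e600f5) (.leaf 0x4a280f5)) (.node (.leaf 0x48a00f7) (.leaf 0x0)))) (.node (.node (.node (.leaf 0x61d80f7) (.leaf 0x22c)) (.node (.leaf 0x6e880f7) (.leaf 0x12a0))) (.node (.node (.leaf 0x7a180f7) (.leaf 0xaf6)) (.node (.leaf 0x44c80f7) (.leaf 0x0))))))) (.node (.node (.node (.node (.node (.node (.leaf 0x79a) (.leaf 0x60180f7)) (.node (.leaf 0x70b00f5) (.leaf 0x703c0f7))) (.node (.node (.leaf 0x7a640f5) (.leaf 0x260)) (.node (.leaf 0x66840f5) (.leaf 0x6dc00f5)))) (.node (.node (.node (.leaf 0x5ac00f7) (.leaf 0xc24)) (.node (.leaf 0x4b7c0f5) (.leaf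 0x48980f7))) (.node (.node (.leaf 0x66c40f5) (.leaf 0x482)) (.node (.leaf 0x58ac0f5) (.leaf 0x0))))) (.node (.node (.node (.node (.leaf 0x918) (.leaf 0x74000f7)) (.node (.leaf 0x6e840f7) (.leaf 0x664))) (.node (.node (.leaf 0x12da) (.leaf 0x990)) (.node (.leaf 0x44e80f5) (.leaf 0x392)))) (.node (.node (.node (.leaf 0x5fa80f7) (.leaf 0x6f480f5)) (.node (.leaf 0x714) (.leaf 0x179e))) (.node (.node (.leaf 0xa84) (.leaf 0x51900f7)) (.node (.leaf 0x51400f7) (.leaf 0x0)))))) (.node (.node (.node (.node (.node (.leaf 0x49300f7) (.leaf 0x184)) (.node (.leaf 0x1872) (.leaf 0x5f6c0f5))) (.node (.node (.leaf 0x73e80f7) (.leaf 0x56f80f7)) (.node (.leaf 0x5cb40f5) (.leaf 0x6df80f5)))) (.node (.node (.node (.leaf 0xdf8) (.leaf 0x6b0)) (.node (.leaf 0x70000f7) (.leaf 0x52f80f5))) (.node (.node (.leaf 0x1404) (.leaf 0x46380f7)) (.node (.leaf 0x466) (.leaf 0x0))))) (.node (.node (.node (.node (.leaf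 0x85a) (.leaf 0x62f00f5)) (.node (.leaf 0x50fc0f5) (.leaf 0x68e80f5))) (.node (.node (.leaf 0x134) (.leaf 0x6c880f7)) (.node (.leaf 0x53d00f7) (.leaf 0x0)))) (.node (.node (.node (.leaf 0x41140f7) (.leaf 0x34e)) (.node (.leaf 0x4f580f5) (.leaf 0xcb6))) (.node (.node (.leaf 0x222) (.leaf 0x77540f5)) (.node (.leaf 0x430) (.leaf 0x0))))))))) (.node (.node (.node (.node (.node (.node (.node (.node (.leaf 0x462c0f7) (.leaf 0x41f80f5)) (.node (.leaf 0x40240f7) (.leaf 0x72cc0f7))) (.node (.node (.leaf 0x40e00f5) (.leaf 0x5d6c0f5)) (.node (.leaf 0x61f40f5) (.leaf 0x4ea)))) (.node (.node (.node (.leaf 0x580) (.leaf 0x544c0f7)) (.node (.leaf 0x498) (.leaf 0x51d80f7))) (.node (.node (.leaf 0x12ba) (.leaf 0x630c0f7)) (.node (.leaf 0x58ac0f7) (.leaf 0x0))))) (.node (.node (.node (.node (.leaf 0x694) (.leaf 0x70800f7)) (.node (.leaf 0x71c40f7) (.leaf 0x5c100f7))) (.node (.node (.leaf 0x6b580f7)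 (.leaf 0x75100f5)) (.node (.leaf 0x59300f7) (.leaf 0x5c780f5)))) (.node (.node (.node (.leaf 0xbb0) (.leaf 0x78f40f5)) (.node (.leaf 0x55100f5) (.leaf 0x6a100f7))) (.node (.node (.leaf 0x4b940f5) (.leaf 0x5c4)) (.node (.leaf 0x44b40f7) (.leaf 0x0)))))) (.node (.node (.node (.node (.node (.leaf 0x71940f5) (.leaf 0x658c0f5)) (.node (.leaf 0x49640f7) (.leaf 0x730))) (.node (.node (.leaf 0x5a580f7) (.leaf 0x6a300f7)) (.node (.leaf 0x3d6) (.leaf 0x434)))) (.node (.node (.node (.leaf 0x7a340f5) (.leaf 0x75880f7)) (.node (.leaf 0x422c0f7) (.leaf 0x36a))) (.node (.node (.leaf 0x152a) (.leaf 0x649c0f5)) (.node (.leaf 0x725c0f7) (.leaf 0x0))))) (.node (.node (.node (.node (.leaf 0x6ad40f7) (.leaf 0x73fc0f7)) (.node (.leaf 0xc98) (.leaf 0x1016))) (.node (.node (.leaf 0x73c40f7) (.leaf 0x4e7c0f7)) (.node (.leaf 0x4ca) (.leaf 0x74100f7)))) (.node (.node (.node (.leaf 0xa7e) (.leaf 0x6c300f7))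 (.node (.leaf 0x210) (.leaf 0x43f00f7))) (.node (.node (.leaf 0x48c40f7) (.leaf 0x723c0f7)) (.node (.leaf 0x694c0f7) (.leaf 0x0))))))) (.node (.node (.node (.node (.node (.node (.leaf 0x4e640f7) (.leaf 0x3c6)) (.node (.leaf 0x5cc00f5) (.leaf 0x4ec80f5))) (.node (.node (.leaf 0x49840f7) (.leaf 0x4b840f7)) (.node (.leaf 0x366) (.leaf 0x5e740f5)))) (.node (.node (.node (.leaf 0x6e9c0f7) (.leaf 0x6d440f7)) (.node (.leaf 0x7ae00f7) (.leaf 0x59dc0f5))) (.node (.node (.leaf 0x79f80f7) (.leaf 0x55f40f5)) (.node (.leaf 0x58a00f5) (.leaf 0x0))))) (.node (.node (.node (.node (.leaf 0x71580f7) (.leaf 0x54e40f5)) (.node (.leaf 0x65240f5) (.leaf 0x4d6))) (.node (.node (.leaf 0x595c0f7) (.leaf 0x354)) (.node (.leaf 0x4d280f7) (.leaf 0x55c)))) (.node (.node (.node (.leaf 0x4e040f7) (.leaf 0x61340f7)) (.node (.leaf 0x6e740f7) (.leaf 0xc00))) (.node (.node (.leaf 0x600) (.leaf 0x46e00f7)) (.node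 (.leaf 0x75ec0f5) (.leaf 0x0)))))) (.node (.node (.node (.node (.node (.leaf 0x51a00f7) (.leaf 0x42680f5)) (.node (.leaf 0x81a) (.leaf 0x626))) (.node (.node (.leaf 0x15ba) (.leaf 0x56d40f7)) (.node (.leaf 0x2c8) (.leaf 0x674c0f5)))) (.node (.node (.node (.leaf 0x46b40f5) (.leaf 0xd4a)) (.node (.leaf 0x1688) (.leaf 0x67b80f7))) (.node (.node (.leaf 0x16b0) (.leaf 0x65f40f5)) (.node (.leaf 0x174c) (.leaf 0x0))))) (.node (.node (.node (.node (.leaf 0x48500f7) (.leaf 0x62fc0f5)) (.node (.leaf 0x2e2) (.leaf 0x140))) (.node (.node (.leaf 0x966) (.leaf 0x5ff40f7)) (.node (.leaf 0x78a80f5) (.leaf 0x0)))) (.node (.node (.node (.leaf 0x48840f5) (.leaf 0x84a)) (.node (.leaf 0x65600f7) (.leaf 0x3fc))) (.node (.node (.leaf 0x1bf2) (.leaf 0x67a80f7)) (.node (.leaf 0x131c) (.leaf 0x0)))))))) (.node (.node (.node (.node (.node (.node (.node (.leaf 0xf8) (.leaf 0x5b2)) (.node (.leaf 0x5dac0f7)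 (.leaf 0x6ec00f7))) (.node (.node (.leaf 0x4e900f5) (.leaf 0x164a)) (.node (.leaf 0x59d40f7) (.leaf 0x43d00f5)))) (.node (.node (.node (.leaf 0x77e80f5) (.leaf 0x78180f5)) (.node (.leaf 0x4b040f7) (.leaf 0x4bf00f5))) (.node (.node (.leaf 0x66ec0f7) (.leaf 0x6bc80f5)) (.node (.leaf 0x4dd00f7) (.leaf 0x0))))) (.node (.node (.node (.node (.leaf 0x61a40f7) (.leaf 0x73f00f7)) (.node (.leaf 0x73d80f7) (.leaf 0x66c))) (.node (.node (.leaf 0x5d000f5) (.leaf 0x6f8)) (.node (.leaf 0x494c0f5) (.leaf 0x9d4)))) (.node (.node (.node (.leaf 0x1624) (.leaf 0x4bf80f7)) (.node (.leaf 0x43e) (.leaf 0x12f2))) (.node (.node (.leaf 0x79900f7) (.leaf 0x12a)) (.node (.leaf 0x5fc40f5) (.leaf 0x0)))))) (.node (.node (.node (.node (.node (.leaf 0x549c0f7) (.leaf 0x3c4)) (.node (.leaf 0x72700f7) (.leaf 0x79640f5))) (.node (.node (.leaf 0x46900f5) (.leaf 0xe22)) (.node (.leaf 0x56240f5) (.leaf 0x72ac0f7))))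 (.node (.node (.node (.leaf 0x68bc0f7) (.leaf 0x54640f7)) (.node (.leaf 0x2ba) (.leaf 0x1208))) (.node (.node (.leaf 0x52100f5) (.leaf 0x77600f5)) (.node (.leaf 0x764) (.leaf 0x0))))) (.node (.node (.node (.node (.leaf 0x48200f5) (.leaf 0x596)) (.node (.leaf 0x5d100f5) (.leaf 0x1064))) (.node (.node (.leaf 0x63fc0f5) (.leaf 0x67140f5)) (.node (.leaf 0x54f40f7) (.leaf 0x0)))) (.node (.node (.node (.leaf 0x58180f5) (.leaf 0x67dc0f7)) (.node (.leaf 0x42140f7) (.leaf 0x6c600f7))) (.node (.node (.leaf 0x63780f5) (.leaf 0x1b36)) (.node (.leaf 0x6dc) (.leaf 0x0))))))) (.node (.node (.node (.node (.node (.node (.leaf 0x240) (.leaf 0x66880f7)) (.node (.leaf 0x5ec) (.leaf 0x50f00f5))) (.node (.node (.leaf 0x700c0f7) (.leaf 0x66580f5)) (.node (.leaf 0x5d4) (.leaf 0x65fc0f7)))) (.node (.node (.node (.leaf 0x45400f5) (.leaf 0x4b480f7)) (.node (.leaf 0x6ffc0f7) (.leaf 0x792c0f5))) (.node (.node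 (.leaf 0x44380f7) (.leaf 0xe18)) (.node (.leaf 0x779c0f5) (.leaf 0x0))))) (.node (.node (.node (.node (.leaf 0x4e300f7) (.leaf 0x1616)) (.node (.leaf 0x1ec) (.leaf 0x67100f5))) (.node (.node (.leaf 0x49f80f7) (.leaf 0x43240f5)) (.node (.leaf 0x58280f7) (.leaf 0x67c00f7)))) (.node (.node (.node (.leaf 0x4ec80f7) (.leaf 0x73c)) (.node (.leaf 0x274) (.leaf 0x4a580f5))) (.node (.node (.leaf 0x740) (.leaf 0x77680f5)) (.node (.leaf 0x466c0f5) (.leaf 0x0)))))) (.node (.node (.node (.node (.node (.leaf 0x18a) (.leaf 0x58180f7)) (.node (.leaf 0x6a800f7) (.leaf 0x5bf40f5))) (.node (.node (.leaf 0x62a00f7) (.leaf 0x5e300f5)) (.node (.leaf 0x8da) (.leaf 0x6f340f7)))) (.node (.node (.node (.leaf 0x6b940f5) (.leaf 0x40340f5)) (.node (.leaf 0x65640f5) (.leaf 0x640))) (.node (.node (.leaf 0x5ab40f5) (.leaf 0x76440f5)) (.node (.leaf 0x71e00f7) (.leaf 0x0))))) (.node (.node (.node (.node (.leaf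 0x77400f5) (.leaf 0x60740f7)) (.node (.leaf 0x48440f5) (.leaf 0x17e))) (.node (.node (.leaf 0x74840f7) (.leaf 0x5b6)) (.node (.leaf 0x8fa) (.leaf 0x0)))) (.node (.node (.node (.leaf 0x637c0f5) (.leaf 0x67700f5)) (.node (.leaf 0x6c2) (.leaf 0x4a1c0f7))) (.node (.node (.leaf 0x5b180f7) (.leaf 0x4eec0f7)) (.node (.leaf 0x70480f7) (.leaf 0x0))))))))))

/-- packed table -/
noncomputable def cov4_rrr : BTree := (.node (.node (.node (.node (.node (.node (.node (.node (.node (.leaf 0xe06) (.leaf 0x3d2)) (.node (.leaf 0x454c0f7) (.leaf 0xff2))) (.node (.node (.leaf 0x40c80f5) (.leaf 0x74080f5)) (.node (.leaf 0x1dc) (.leaf 0x4cb00f7)))) (.node (.node (.node (.leaf 0x6c080f7) (.leaf 0x60680f7)) (.node (.leaf 0x6c8) (.leaf 0x7b6))) (.node (.node (.leaf 0x64000f5) (.leaf 0x6be80f5)) (.node (.leaf 0x4a4) (.leaf 0x0))))) (.node (.node (.node (.node (.leaf 0x62580f7) (.leaf 0x54f40f5)) (.node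 (.leaf 0x43e80f7) (.leaf 0x4c140f7))) (.node (.node (.leaf 0x1274) (.leaf 0x67200f7)) (.node (.leaf 0x43c80f7) (.leaf 0x2c2)))) (.node (.node (.node (.leaf 0xc50) (.leaf 0x64b00f5)) (.node (.leaf 0x6f6c0f7) (.leaf 0x530))) (.node (.node (.leaf 0x2a4) (.leaf 0x447c0f5)) (.node (.leaf 0x76040f5) (.leaf 0x0)))))) (.node (.node (.node (.node (.node (.leaf 0x47c00f5) (.leaf 0x49f00f5)) (.node (.leaf 0x40b00f5) (.leaf 0x6c600f5))) (.node (.node (.leaf 0x6ccc0f7) (.leaf 0x746)) (.node (.leaf 0x5ffc0f7) (.leaf 0x51ac0f5)))) (.node (.node (.node (.leaf 0x7ad80f5) (.leaf 0x44e80f7)) (.node (.leaf 0x726) (.leaf 0x6d840f7))) (.node (.node (.leaf 0x73c40f5) (.leaf 0x42340f7)) (.node (.leaf 0x16a8) (.leaf 0x0))))) (.node (.node (.node (.node (.leaf 0x6ae80f7) (.leaf 0x1604)) (.node (.leaf 0x6e540f7) (.leaf 0x59440f5))) (.node (.node (.leaf 0x73ac0f7) (.leaf 0x4f840f5)) (.node (.leaf 0x47280f5)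 (.leaf 0x5d6)))) (.node (.node (.node (.leaf 0x346) (.leaf 0xd6c)) (.node (.leaf 0x52c) (.leaf 0x752c0f7))) (.node (.node (.leaf 0x51ac0f7) (.leaf 0x66540f5)) (.node (.leaf 0x57c80f7) (.leaf 0x0))))))) (.node (.node (.node (.node (.node (.node (.leaf 0x49b40f5) (.leaf 0xb50)) (.node (.leaf 0x16e4) (.leaf 0x42980f7))) (.node (.node (.leaf 0xf9a) (.leaf 0x4b940f7)) (.node (.leaf 0x5cb80f7) (.leaf 0x71300f5)))) (.node (.node (.node (.leaf 0x60180f5) (.leaf 0x1432)) (.node (.leaf 0x4a2) (.leaf 0x5fc))) (.node (.node (.leaf 0x4fac0f5) (.leaf 0x65f40f7)) (.node (.leaf 0x45280f5) (.leaf 0x0))))) (.node (.node (.node (.node (.leaf 0xca4) (.leaf 0x4c740f5)) (.node (.leaf 0x4e300f5) (.leaf 0x67680f5))) (.node (.node (.leaf 0x5d100f7) (.leaf 0xace)) (.node (.leaf 0x71580f5) (.leaf 0x2c0)))) (.node (.node (.node (.leaf 0x4c340f7) (.leaf 0x60dc0f5)) (.node (.leaf 0x55240f5) (.leaf 0x60dc0f7)))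 (.node (.node (.leaf 0x49d40f7) (.leaf 0x458)) (.node (.leaf 0x204) (.leaf 0x0)))))) (.node (.node (.node (.node (.node (.leaf 0x44a00f5) (.leaf 0x42780f5)) (.node (.leaf 0x44c) (.leaf 0x5ef80f5))) (.node (.node (.leaf 0x6af80f5) (.leaf 0x5ff80f7)) (.node (.leaf 0x57100f5) (.leaf 0x5be)))) (.node (.node (.node (.leaf 0x67700f7) (.leaf 0x67c40f7)) (.node (.leaf 0x67fc0f5) (.leaf 0x7fe))) (.node (.node (.leaf 0x1754) (.leaf 0x45c00f5)) (.node (.leaf 0x54380f7) (.leaf 0x0))))) (.node (.node (.node (.node (.leaf 0x6f0) (.leaf 0x350)) (.node (.leaf 0xe4a) (.leaf 0x764c0f7))) (.node (.node (.leaf 0x4c640f5) (.leaf 0x440c0f7)) (.node (.leaf 0x628c0f7) (.leaf 0x0)))) (.node (.node (.node (.leaf 0x73f80f7) (.leaf 0x1ae)) (.node (.leaf 0x41ec0f7) (.leaf 0x718))) (.node (.node (.leaf 0x4e700f7) (.leaf 0x55280f7)) (.node (.leaf 0xb04) (.leaf 0x0)))))))) (.node (.node (.node (.node (.node (.node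 (.node (.leaf 0x75340f5) (.leaf 0x65cc0f5)) (.node (.leaf 0x4e080f7) (.leaf 0x61140f5))) (.node (.node (.leaf 0x738) (.leaf 0x1000)) (.node (.leaf 0x5a000f7) (.leaf 0x73fc0f5)))) (.node (.node (.node (.leaf 0x5fd00f7) (.leaf 0x50000f5)) (.node (.leaf 0x55e80f7) (.leaf 0x6e040f5))) (.node (.node (.leaf 0x4b840f5) (.leaf 0x770)) (.node (.leaf 0x185c) (.leaf 0x0))))) (.node (.node (.node (.node (.leaf 0x61c80f7) (.leaf 0x54640f5)) (.node (.leaf 0x1852) (.leaf 0x248))) (.node (.node (.leaf 0xd7e) (.leaf 0x60ac0f5)) (.node (.leaf 0x49580f5) (.leaf 0x9f0)))) (.node (.node (.node (.leaf 0x6efc0f5) (.leaf 0x6f280f7)) (.node (.leaf 0x56240f7) (.leaf 0x4a8))) (.node (.node (.leaf 0x79a00f7) (.leaf 0x55e80f5)) (.node (.leaf 0x8fc) (.leaf 0x0)))))) (.node (.node (.node (.node (.node (.leaf 0x75900f5) (.leaf 0x4c180f7)) (.node (.leaf 0x70100f5) (.leaf 0x67840f7))) (.node (.node (.leaf 0x5a640f7)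 (.leaf 0x1424)) (.node (.leaf 0x1782) (.leaf 0x47200f5)))) (.node (.node (.node (.leaf 0x5c780f7) (.leaf 0x9c0)) (.node (.leaf 0x5cf40f5) (.leaf 0x6e440f7))) (.node (.node (.leaf 0x40f80f5) (.leaf 0x1a66)) (.node (.leaf 0x68540f7) (.leaf 0x0))))) (.node (.node (.node (.node (.leaf 0x58e00f5) (.leaf 0x4f880f7)) (.node (.leaf 0x75880f5) (.leaf 0x68000f5))) (.node (.node (.leaf 0x42140f5) (.leaf 0x6f4)) (.node (.leaf 0x5e5c0f5) (.leaf 0x0)))) (.node (.node (.node (.leaf 0x61d40f7) (.leaf 0x6e500f5)) (.node (.leaf 0xb58) (.leaf 0x723c0f5))) (.node (.node (.leaf 0x564c0f7) (.leaf 0x429c0f7)) (.node (.leaf 0x2f8) (.leaf 0x0))))))) (.node (.node (.node (.node (.node (.node (.leaf 0x1e4) (.leaf 0x1d8)) (.node (.leaf 0xc0c) (.leaf 0x4e0))) (.node (.node (.leaf 0x7a5c0f5) (.leaf 0x988)) (.node (.leaf 0x6a0) (.leaf 0x42040f5)))) (.node (.node (.node (.leaf 0x68dc0f5) (.leaf 0x685c0f7)) (.node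 (.leaf 0x55280f5) (.leaf 0x42bc0f7))) (.node (.node (.leaf 0x5f9c0f5) (.leaf 0x6fdc0f5)) (.node (.leaf 0x562) (.leaf 0x0))))) (.node (.node (.node (.node (.leaf 0x76840f7) (.leaf 0x572c0f7)) (.node (.leaf 0xbd2) (.leaf 0x6e4c0f5))) (.node (.node (.leaf 0x6a6c0f5) (.leaf 0x49d80f7)) (.node (.leaf 0x5aa40f7) (.leaf 0x59040f5)))) (.node (.node (.node (.leaf 0x43780f5) (.leaf 0x358)) (.node (.leaf 0x3b0) (.leaf 0xf82))) (.node (.node (.leaf 0x71c) (.leaf 0x726c0f5)) (.node (.leaf 0xcda) (.leaf 0x0)))))) (.node (.node (.node (.node (.node (.leaf 0x23a) (.leaf 0x58440f7)) (.node (.leaf 0x53380f7) (.leaf 0x5edc0f5))) (.node (.node (.leaf 0x77b40f7) (.leaf 0xa6a)) (.node (.leaf 0x758) (.leaf 0x4a040f5)))) (.node (.node (.node (.leaf 0x6ad40f5) (.leaf 0x4f880f5)) (.node (.leaf 0x5ae40f5) (.leaf 0x62c))) (.node (.node (.leaf 0x4d2) (.leaf 0x77440f7)) (.node (.leaf 0x17ee) (.leaf 0x0)))))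 (.node (.node (.node (.node (.leaf 0x390) (.leaf 0x53540f5)) (.node (.leaf 0x10ce) (.leaf 0x658c0f7))) (.node (.node (.leaf 0x104) (.leaf 0x4c280f5)) (.node (.leaf 0x564) (.leaf 0x0)))) (.node (.node (.node (.leaf 0x41280f7) (.leaf 0x588)) (.node (.leaf 0x1308) (.leaf 0x6df00f5))) (.node (.node (.leaf 0x192) (.leaf 0x1422)) (.node (.leaf 0x634c0f7) (.leaf 0x0))))))))) (.node (.node (.node (.node (.node (.node (.node (.node (.leaf 0x4fbc0f5) (.leaf 0x448c0f5)) (.node (.leaf 0xc8c) (.leaf 0x256))) (.node (.node (.leaf 0x509c0f5) (.leaf 0x541c0f7)) (.node (.leaf 0x4c2c0f5) (.leaf 0xb88)))) (.node (.node (.node (.leaf 0x54b80f7) (.leaf 0x97e)) (.node (.leaf 0x6d280f5) (.leaf 0x51e40f7))) (.node (.node (.leaf 0x41000f5) (.leaf 0x56f00f5)) (.node (.leaf 0x64a00f5) (.leaf 0x0))))) (.node (.node (.node (.node (.leaf 0x10fc) (.leaf 0x50b00f7)) (.node (.leaf 0x6f440f7) (.leaf 0x182))) (.node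 (.node (.leaf 0x65c) (.leaf 0x64cc0f7)) (.node (.leaf 0x8bc) (.leaf 0x45300f7)))) (.node (.node (.node (.leaf 0x48d80f5) (.leaf 0x6d500f5)) (.node (.leaf 0x5cdc0f5) (.leaf 0x42a00f7))) (.node (.node (.leaf 0x56380f7) (.leaf 0x53c)) (.node (.leaf 0xfa8) (.leaf 0x0)))))) (.node (.node (.node (.node (.node (.leaf 0x73b40f5) (.leaf 0x6eb40f5)) (.node (.leaf 0x48b00f7) (.leaf 0xfe6))) (.node (.node (.leaf 0x49840f5) (.leaf 0x631c0f5)) (.node (.leaf 0x72fc0f5) (.leaf 0x4db00f5)))) (.node (.node (.node (.leaf 0x412) (.leaf 0x75800f7)) (.node (.leaf 0x55bc0f7) (.leaf 0x5ef40f5))) (.node (.node (.leaf 0x60100f7) (.leaf 0x64c00f5)) (.node (.leaf 0x5ff00f7) (.leaf 0x0))))) (.node (.node (.node (.node (.leaf 0x18d0) (.leaf 0x43d40f5)) (.node (.leaf 0x690) (.leaf 0x6f300f7))) (.node (.node (.leaf 0xcce) (.leaf 0x4a340f5)) (.node (.leaf 0x139c) (.leaf 0x66e80f5)))) (.node (.node (.node (.leaf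 0x79e40f7) (.leaf 0x318)) (.node (.leaf 0x1498) (.leaf 0x43d40f7))) (.node (.node (.leaf 0x7a280f7) (.leaf 0x380)) (.node (.leaf 0x67a40f7) (.leaf 0x0))))))) (.node (.node (.node (.node (.node (.node (.leaf 0x17a) (.leaf 0x786)) (.node (.leaf 0x74a00f7) (.leaf 0x54480f7))) (.node (.node (.leaf 0x58e00f7) (.leaf 0x1666)) (.node (.leaf 0x43c) (.leaf 0x56a40f5)))) (.node (.node (.node (.leaf 0x194) (.leaf 0x67dc0f5)) (.node (.leaf 0x168e) (.leaf 0x61a))) (.node (.node (.leaf 0x79f40f7) (.leaf 0x4a5c0f5)) (.node (.leaf 0x4edc0f7) (.leaf 0x0))))) (.node (.node (.node (.node (.leaf 0x702) (.leaf 0x70440f7)) (.node (.leaf 0x69e) (.leaf 0x79800f5))) (.node (.node (.leaf 0x7a180f5) (.leaf 0x472c0f5)) (.node (.leaf 0x69780f7) (.leaf 0x4fb80f7)))) (.node (.node (.node (.leaf 0x53240f5) (.leaf 0x137e)) (.node (.leaf 0x6e6c0f5) (.leaf 0xbe2))) (.node (.node (.leaf 0x5f000f7) (.leaf 0x69e40f5))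 (.node (.leaf 0x55000f5) (.leaf 0x0)))))) (.node (.node (.node (.node (.node (.leaf 0x41080f5) (.leaf 0x42840f5)) (.node (.leaf 0x46680f7) (.leaf 0x67e00f5))) (.node (.node (.leaf 0x6d5c0f7) (.leaf 0x56e00f7)) (.node (.leaf 0x68040f5) (.leaf 0x56e00f5)))) (.node (.node (.node (.leaf 0xa58) (.leaf 0x41240f5)) (.node (.leaf 0xfa0) (.leaf 0x4d380f7))) (.node (.node (.leaf 0x79380f7) (.leaf 0x59c)) (.node (.leaf 0x4fe40f7) (.leaf 0x0))))) (.node (.node (.node (.node (.leaf 0x328) (.leaf 0x63100f5)) (.node (.leaf 0xae0) (.leaf 0xf1e))) (.node (.node (.leaf 0x73ac0f5) (.leaf 0x55840f5)) (.node (.leaf 0x69840f7) (.leaf 0x0)))) (.node (.node (.node (.leaf 0x41200f7) (.leaf 0x234)) (.node (.leaf 0x50900f7) (.leaf 0x39c))) (.node (.node (.leaf 0xd12) (.leaf 0x466c0f7)) (.node (.leaf 0x41180f5) (.leaf 0x0)))))))) (.node (.node (.node (.node (.node (.node (.node (.leaf 0x51300f5) (.leaf 0x5fe80f5))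 (.node (.leaf 0x519c0f7) (.leaf 0x610c0f5))) (.node (.node (.leaf 0x31a) (.leaf 0x5d0)) (.node (.leaf 0x69a) (.leaf 0xdf2)))) (.node (.node (.node (.leaf 0x4e8) (.leaf 0x54800f7)) (.node (.leaf 0x54d40f7) (.leaf 0x5da00f7))) (.node (.node (.leaf 0x650c0f7) (.leaf 0x1d2)) (.node (.leaf 0x45340f5) (.leaf 0x0))))) (.node (.node (.node (.node (.leaf 0x61b40f7) (.leaf 0x7afc0f7)) (.node (.leaf 0x5a3c0f5) (.leaf 0x51940f5))) (.node (.node (.leaf 0x364) (.leaf 0x4acc0f7)) (.node (.leaf 0x4dd40f7) (.leaf 0xb38)))) (.node (.node (.node (.leaf 0x6b8) (.leaf 0x418)) (.node (.leaf 0x5e5c0f7) (.leaf 0x41ec0f5))) (.node (.node (.leaf 0x15da) (.leaf 0x2a0)) (.node (.leaf 0x4a0) (.leaf 0x0)))))) (.node (.node (.node (.node (.node (.leaf 0x5f600f7) (.leaf 0x137a)) (.node (.leaf 0xb00) (.leaf 0x79540f5))) (.node (.node (.leaf 0x6a700f7) (.leaf 0x11ee)) (.node (.leaf 0x56580f5) (.leaf 0x19b0))))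 (.node (.node (.node (.leaf 0x5de40f7) (.leaf 0x542c0f7)) (.node (.leaf 0x6c7c0f5) (.leaf 0xf46))) (.node (.node (.leaf 0x4a8c0f5) (.leaf 0x4a840f5)) (.node (.leaf 0x41140f5) (.leaf 0x0))))) (.node (.node (.node (.node (.leaf 0x5cc80f5) (.leaf 0x36c)) (.node (.leaf 0x70480f5) (.leaf 0x50780f5))) (.node (.node (.leaf 0x356) (.leaf 0x876)) (.node (.leaf 0x48600f5) (.leaf 0x0)))) (.node (.node (.node (.leaf 0x61f00f7) (.leaf 0x67d40f7)) (.node (.leaf 0x420c0f7) (.leaf 0x52d80f7))) (.node (.node (.leaf 0x618c0f7) (.leaf 0x68200f5)) (.node (.leaf 0x41940f5) (.leaf 0x0))))))) (.node (.node (.node (.node (.node (.node (.leaf 0x22e) (.leaf 0x4a640f5)) (.node (.leaf 0x130) (.leaf 0xe4e))) (.node (.node (.leaf 0x45540f7) (.leaf 0x4e080f5)) (.node (.leaf 0x6d000f5) (.leaf 0x5b180f5)))) (.node (.node (.node (.leaf 0x7ae80f5) (.leaf 0x53700f5)) (.node (.leaf 0xfce) (.leaf 0x4dac0f7))) (.node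 (.node (.leaf 0x5a440f5) (.leaf 0x58f40f7)) (.node (.leaf 0x42b40f7) (.leaf 0x0))))) (.node (.node (.node (.node (.leaf 0x797c0f7) (.leaf 0x294)) (.node (.leaf 0x58bc0f5) (.leaf 0xac4))) (.node (.node (.leaf 0x6a780f5) (.leaf 0x6d140f5)) (.node (.leaf 0x42680f7) (.leaf 0xddc)))) (.node (.node (.node (.leaf 0x6e700f5) (.leaf 0x74100f5)) (.node (.leaf 0x62380f7) (.leaf 0x4ff00f7))) (.node (.node (.leaf 0x6ffc0f5) (.leaf 0xbe4)) (.node (.leaf 0x66500f5) (.leaf 0x0)))))) (.node (.node (.node (.node (.node (.leaf 0x13e) (.leaf 0x6ec00f5)) (.node (.leaf 0x63640f7) (.leaf 0x5bd00f5))) (.node (.node (.leaf 0x40640f5) (.leaf 0x5e140f5)) (.node (.leaf 0x74c80f7) (.leaf 0x4cb00f5)))) (.node (.node (.node (.leaf 0x76dc0f7) (.leaf 0x426)) (.node (.leaf 0x44640f7) (.leaf 0x652))) (.node (.node (.leaf 0x54bc0f7) (.leaf 0x6c640f7)) (.node (.leaf 0x6c280f5) (.leaf 0x0))))) (.node (.node (.node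 (.node (.leaf 0x43140f7) (.leaf 0x290)) (.node (.leaf 0x57c) (.leaf 0x174))) (.node (.node (.leaf 0x5da00f5) (.leaf 0x440c0f5)) (.node (.leaf 0x41980f5) (.leaf 0x0)))) (.node (.node (.node (.leaf 0x40e80f5) (.leaf 0x1824)) (.node (.leaf 0x74c) (.leaf 0x4a280f7))) (.node (.node (.leaf 0x2a8) (.leaf 0x200)) (.node (.leaf 0x558) (.leaf 0x0))))))))))

/-- packed table -/
noncomputable def cov4 : BTree := (.node (.node (.node cov4_lll cov4_llr) (.node cov4_lrl cov4_lrr)) (.node (.node cov4_rll cov4_rlr) (.node cov4_rrl cov4_rrr)))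

theorem cov4_ok : okCover 4 cov4 = true := by decide +kernel

/-- straight-line program -/
def slp4 : List (Nat × Nat × Nat) :=
  [(0x60e48241d53984bbcda12c5ea02696, 0, 0)]

/-- levels -/
def levels4 : List (Nat × List Nat) :=
  [(0, [2, 0, 1])]

/-- stabilising facts -/
def gens4 : List Nat := [61]

theorem chain4_ok : okChain 4 gens4 slp4 levels4 = true := by decide +kernel

theorem chain4_size : chainSize levels4 = 3 := by decide +kernel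

end CfsgLib.Spor.J4.Index
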