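import Cfsg.Agent.Lib.Spor.J4.Index.Check

/-!
Coverage and stabiliser of node 5 (generated).
-/

set_option autoImplicit false
set_option linter.all false

namespace CfsgLib.Spor.J4.Index

open CfsgLib.PresCert

/-- packed table -/
noncomputable def cov5_lll : BTree := (.node (.node (.node (.node (.node (.node (.node (.node (.node (.leaf 0xcb907f5) (.leaf 0x750c829)) (.node (.leaf 0xcfe87f5) (.leaf 0xdfa))) (.node (.node (.leaf 0x9650829) (.leaf 0x7878829)) (.node (.leaf 0x97fc829) (.leaf 0xe54)))) (.node (.node (.node (.leaf 0xc5bc7f5) (.leaf 0x8b6c829)) (.node (.leaf 0xa2c) (.leaf 0x6f58829))) (.node (.node (.leaf 0xcf187f5) (.leaf 0x4a64829)) (.node (.leaf 0x9c147f5) (.leaf 0x0))))) (.node (.node (.node (.node (.leaf 0xdc4) (.leaf 0x994)) (.node (.leaf 0x51d0829) (.leaf 0x99a4829))) (.node (.node (.leaf 0x4ae07f5) (.leaf 0x496c7f5)) (.node (.leaf 0xa074829) (.leaf 0x7ac07f5)))) (.node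 (.node (.node (.leaf 0x768c7f5) (.leaf 0x985c829)) (.node (.leaf 0x443c7f5) (.leaf 0x7344829))) (.node (.node (.leaf 0x5bc4829) (.leaf 0xdec)) (.node (.leaf 0xcc287f5) (.leaf 0x0)))))) (.node (.node (.node (.node (.node (.leaf 0x1384) (.leaf 0x4be4829)) (.node (.leaf 0x77f07f5) (.leaf 0xac987f5))) (.node (.node (.leaf 0x667c829) (.leaf 0xb48c7f5)) (.node (.leaf 0xa6c07f5) (.leaf 0x7548829)))) (.node (.node (.node (.leaf 0xaf84829) (.leaf 0xaf7c829)) (.node (.leaf 0x4698829) (.leaf 0x998c7f5))) (.node (.node (.leaf 0x4cec7f5) (.leaf 0xf2e07f5)) (.node (.leaf 0x51b4829) (.leaf 0x0))))) (.node (.node (.node (.node (.leaf 0x19d4) (.leaf 0x5c84829)) (.node (.leaf 0xfbc) (.leaf 0x655c829))) (.node (.node (.leaf 0x68ac829) (.leaf 0x562c829)) (.node (.leaf 0x9b08829) (.leaf 0x4aa0829)))) (.node (.node (.node (.leaf 0xcc707f5) (.leaf 0xc0407f5)) (.node (.leaf 0x9c387f5) (.leaf 0xc4f87f5))) (.node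 (.node (.leaf 0x8ef8829) (.leaf 0xc0487f5)) (.node (.leaf 0xdbf47f5) (.leaf 0x0))))))) (.node (.node (.node (.node (.node (.node (.leaf 0xf7b07f5) (.leaf 0xd2287f5)) (.node (.leaf 0xc8247f5) (.leaf 0x99f87f5))) (.node (.node (.leaf 0xb64c7f5) (.leaf 0x89d4829)) (.node (.leaf 0xa610829) (.leaf 0x53007f5)))) (.node (.node (.node (.leaf 0x1350) (.leaf 0x9604829)) (.node (.leaf 0xb1687f5) (.leaf 0x952c829))) (.node (.node (.leaf 0x6928829) (.leaf 0x1162)) (.node (.leaf 0xe96c7f5) (.leaf 0x0))))) (.node (.node (.node (.node (.leaf 0x8f887f5) (.leaf 0x6b1c7f5)) (.node (.leaf 0x62cc7f5) (.leaf 0xe90))) (.node (.node (.leaf 0xea347f5) (.leaf 0x9c58829)) (.node (.leaf 0x5048829) (.leaf 0x97a47f5)))) (.node (.node (.node (.leaf 0x503c7f5) (.leaf 0xa3a47f5)) (.node (.leaf 0x4aac7f5) (.leaf 0xa578829))) (.node (.node (.leaf 0xee187f5) (.leaf 0x5dc4829)) (.node (.leaf 0xdeb07f5) (.leaf 0x0)))))) (.node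 (.node (.node (.node (.node (.leaf 0x9250829) (.leaf 0x6174829)) (.node (.leaf 0x54547f5) (.leaf 0xb48))) (.node (.node (.leaf 0xe9e07f5) (.leaf 0xa4d87f5)) (.node (.leaf 0x6ee87f5) (.leaf 0xc70)))) (.node (.node (.node (.leaf 0xedf47f5) (.leaf 0xc61c7f5)) (.node (.leaf 0x5dec7f5) (.leaf 0x8b187f5))) (.node (.node (.leaf 0xcc447f5) (.leaf 0x9a707f5)) (.node (.leaf 0x7a6) (.leaf 0x0))))) (.node (.node (.node (.node (.leaf 0xaae87f5) (.leaf 0x9fa)) (.node (.leaf 0xc5287f5) (.leaf 0x63f87f5))) (.node (.node (.leaf 0x40287f5) (.leaf 0xf43c7f5)) (.node (.leaf 0x8ee) (.leaf 0x0)))) (.node (.node (.node (.leaf 0x87ac829) (.leaf 0x6774829)) (.node (.leaf 0x68ac7f5) (.leaf 0x71387f5))) (.node (.node (.leaf 0xb94) (.leaf 0x56c07f5)) (.node (.leaf 0xe9d47f5) (.leaf 0x0)))))))) (.node (.node (.node (.node (.node (.node (.node (.leaf 0x906c829) (.leaf 0x114a)) (.node (.leaf 0xcc8) (.leaf 0x66387f5)))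 (.node (.node (.leaf 0xc8607f5) (.leaf 0xbb4)) (.node (.leaf 0xaf947f5) (.leaf 0xcaa)))) (.node (.node (.node (.leaf 0xca687f5) (.leaf 0x5584829)) (.node (.leaf 0xd1407f5) (.leaf 0xe32))) (.node (.node (.leaf 0xee207f5) (.leaf 0x94247f5)) (.node (.leaf 0xaa88829) (.leaf 0x0))))) (.node (.node (.node (.node (.leaf 0x66047f5) (.leaf 0xa234829)) (.node (.leaf 0xd92) (.leaf 0x1722))) (.node (.node (.leaf 0xdb007f5) (.leaf 0x79bc7f5)) (.node (.leaf 0xecac7f5) (.leaf 0xbb10829)))) (.node (.node (.node (.leaf 0x9780829) (.leaf 0x8a4c829)) (.node (.leaf 0xedcc7f5) (.leaf 0x8b98829))) (.node (.node (.leaf 0xdcd07f5) (.leaf 0x101e)) (.node (.leaf 0x1364) (.leaf 0x0)))))) (.node (.node (.node (.node (.node (.leaf 0x149e) (.leaf 0xaa24829)) (.node (.leaf 0xacf4829) (.leaf 0x946))) (.node (.node (.leaf 0xabd8829) (.leaf 0x1684)) (.node (.leaf 0x5f94829) (.leaf 0x120c)))) (.node (.node (.node (.leaf 0x6428829)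 (.leaf 0x94487f5)) (.node (.leaf 0x59487f5) (.leaf 0x61747f5))) (.node (.node (.leaf 0xf5a47f5) (.leaf 0x80b07f5)) (.node (.leaf 0x85407f5) (.leaf 0x0))))) (.node (.node (.node (.node (.leaf 0xe7e47f5) (.leaf 0x50b4829)) (.node (.leaf 0x16c4) (.leaf 0x414c7f5))) (.node (.node (.leaf 0x4be8829) (.leaf 0xcf7c7f5)) (.node (.leaf 0x5dc87f5) (.leaf 0x7584829)))) (.node (.node (.node (.leaf 0xd8c) (.leaf 0x62447f5)) (.node (.leaf 0x8898829) (.leaf 0xe4007f5))) (.node (.node (.leaf 0xf4807f5) (.leaf 0xb188829)) (.node (.leaf 0x95bc7f5) (.leaf 0x0))))))) (.node (.node (.node (.node (.node (.node (.leaf 0x77a) (.leaf 0xdea)) (.node (.leaf 0xa338829) (.leaf 0xbb48829))) (.node (.node (.leaf 0x739c829) (.leaf 0x5a90829)) (.node (.leaf 0x43f8829) (.leaf 0x4ff0829)))) (.node (.node (.node (.leaf 0xa3c8829) (.leaf 0xb3007f5)) (.node (.leaf 0x82347f5) (.leaf 0xde4))) (.node (.node (.leaf 0x42d07f5) (.leaf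 0x8b50829)) (.node (.leaf 0xefc87f5) (.leaf 0x0))))) (.node (.node (.node (.node (.leaf 0x93b8829) (.leaf 0x66dc7f5)) (.node (.leaf 0x7de) (.leaf 0x62207f5))) (.node (.node (.leaf 0xd4107f5) (.leaf 0x8310829)) (.node (.leaf 0xbb3c7f5) (.leaf 0x9c2)))) (.node (.node (.node (.leaf 0x4120829) (.leaf 0x712c829)) (.node (.leaf 0x89c) (.leaf 0xb230829))) (.node (.node (.leaf 0xe8547f5) (.leaf 0xded47f5)) (.node (.leaf 0x8fb07f5) (.leaf 0x0)))))) (.node (.node (.node (.node (.node (.leaf 0x73c47f5) (.leaf 0xf2dc7f5)) (.node (.leaf 0xc54) (.leaf 0x9f2c829))) (.node (.node (.leaf 0x6d68829) (.leaf 0xc2147f5)) (.node (.leaf 0xd56) (.leaf 0x5d98829)))) (.node (.node (.node (.leaf 0x6ffc829) (.leaf 0x96947f5)) (.node (.leaf 0xb68) (.leaf 0xc1687f5))) (.node (.node (.leaf 0x40a4829) (.leaf 0x717c829)) (.node (.leaf 0x9b4c7f5) (.leaf 0x0))))) (.node (.node (.node (.node (.leaf 0xefb47f5) (.leaf 0x44cc829))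 (.node (.leaf 0x4f80829) (.leaf 0xaa4))) (.node (.node (.leaf 0x4bdc7f5) (.leaf 0x16a2)) (.node (.leaf 0x92cc7f5) (.leaf 0x0)))) (.node (.node (.node (.leaf 0xf4bc7f5) (.leaf 0x9540829)) (.node (.leaf 0x65547f5) (.leaf 0x69747f5))) (.node (.node (.leaf 0xb7347f5) (.leaf 0x9cc87f5)) (.node (.leaf 0x726c7f5) (.leaf 0x0))))))))) (.node (.node (.node (.node (.node (.node (.node (.node (.leaf 0x8bb07f5) (.leaf 0xe02c7f5)) (.node (.leaf 0x86707f5) (.leaf 0xb768829))) (.node (.node (.leaf 0xb1d4829) (.leaf 0x846c829)) (.node (.leaf 0xaf8c7f5) (.leaf 0x49d07f5)))) (.node (.node (.node (.leaf 0x81fc7f5) (.leaf 0xdec87f5)) (.node (.leaf 0xb3e87f5) (.leaf 0x76887f5))) (.node (.node (.leaf 0xcfc47f5) (.leaf 0x6ca4829)) (.node (.leaf 0x78f0829) (.leaf 0x0))))) (.node (.node (.node (.node (.leaf 0xa2d47f5) (.leaf 0x7e4)) (.node (.leaf 0xaa447f5) (.leaf 0xb2fc7f5))) (.node (.node (.leaf 0x6638829) (.leaf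 0xca507f5)) (.node (.leaf 0xecb47f5) (.leaf 0x14ee)))) (.node (.node (.node (.leaf 0x9794829) (.leaf 0x63807f5)) (.node (.leaf 0x64987f5) (.leaf 0x6d50829))) (.node (.node (.leaf 0x40f87f5) (.leaf 0xb8a4829)) (.node (.leaf 0xae647f5) (.leaf 0x0)))))) (.node (.node (.node (.node (.node (.leaf 0x964) (.leaf 0x98ec7f5)) (.node (.leaf 0xf7f87f5) (.leaf 0xadb87f5))) (.node (.node (.leaf 0xcc587f5) (.leaf 0x72587f5)) (.node (.leaf 0x52e4829) (.leaf 0xa9e4829)))) (.node (.node (.node (.leaf 0xb6f07f5) (.leaf 0x8c047f5)) (.node (.leaf 0x84d07f5) (.leaf 0xacec829))) (.node (.node (.leaf 0xb5907f5) (.leaf 0xcc987f5)) (.node (.leaf 0x9d38829) (.leaf 0x0))))) (.node (.node (.node (.node (.leaf 0xe7e87f5) (.leaf 0xd9ec7f5)) (.node (.leaf 0xb9f87f5) (.leaf 0x8b747f5))) (.node (.node (.leaf 0xa0887f5) (.leaf 0xf2007f5)) (.node (.leaf 0xef507f5) (.leaf 0x67b4829)))) (.node (.node (.node (.leaf 0x60b87f5)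 (.leaf 0x7848829)) (.node (.leaf 0x5c447f5) (.leaf 0xcf007f5))) (.node (.node (.leaf 0xf46c7f5) (.leaf 0x4bf87f5)) (.node (.leaf 0x803c7f5) (.leaf 0x0))))))) (.node (.node (.node (.node (.node (.node (.leaf 0xbae) (.leaf 0x1898)) (.node (.leaf 0x11b8) (.leaf 0x8b48829))) (.node (.node (.leaf 0xf76c7f5) (.leaf 0xdbc)) (.node (.leaf 0x95107f5) (.leaf 0x8b6)))) (.node (.node (.node (.leaf 0x45e4829) (.leaf 0x8a6)) (.node (.leaf 0xbaec7f5) (.leaf 0x930c7f5))) (.node (.node (.leaf 0xc2f07f5) (.leaf 0xc6247f5)) (.node (.leaf 0x52e47f5) (.leaf 0x0))))) (.node (.node (.node (.node (.leaf 0x99a) (.leaf 0x94307f5)) (.node (.leaf 0x80d87f5) (.leaf 0xe1d47f5))) (.node (.node (.leaf 0x904) (.leaf 0x4328829)) (.node (.leaf 0x47447f5) (.leaf 0x57347f5)))) (.node (.node (.node (.leaf 0x46987f5) (.leaf 0x48ec829)) (.node (.leaf 0x836) (.leaf 0x970))) (.node (.node (.leaf 0x56bc829) (.leaf 0x79c)) (.node (.leaf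 0xde507f5) (.leaf 0x0)))))) (.node (.node (.node (.node (.node (.leaf 0xf5c87f5) (.leaf 0xacc8829)) (.node (.leaf 0x6bf07f5) (.leaf 0x9e587f5))) (.node (.node (.leaf 0x9e04829) (.leaf 0xb4e87f5)) (.node (.leaf 0x53707f5) (.leaf 0x5ac4829)))) (.node (.node (.node (.leaf 0x9fb0829) (.leaf 0x658c7f5)) (.node (.leaf 0x9df47f5) (.leaf 0x5cac829))) (.node (.node (.leaf 0xb9e) (.leaf 0x1af2)) (.node (.leaf 0x818) (.leaf 0x0))))) (.node (.node (.node (.node (.leaf 0xb51c829) (.leaf 0xab007f5)) (.node (.leaf 0xafd0829) (.leaf 0xa590829))) (.node (.node (.leaf 0x80087f5) (.leaf 0x474c7f5)) (.node (.leaf 0x89b87f5) (.leaf 0x0)))) (.node (.node (.node (.leaf 0x8794829) (.leaf 0x71a8829)) (.node (.leaf 0x79ec7f5) (.leaf 0x68947f5))) (.node (.node (.leaf 0xb8cc829) (.leaf 0xd8247f5)) (.node (.leaf 0xac4c7f5) (.leaf 0x0)))))))) (.node (.node (.node (.node (.node (.node (.node (.leaf 0xc88) (.leaf 0x7a787f5))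 (.node (.leaf 0x50407f5) (.leaf 0xa2487f5))) (.node (.node (.leaf 0x886c829) (.leaf 0xb788829)) (.node (.leaf 0x65f8829) (.leaf 0xa3e87f5)))) (.node (.node (.node (.leaf 0x47907f5) (.leaf 0x1800)) (.node (.leaf 0xa3f07f5) (.leaf 0xc6f07f5))) (.node (.node (.leaf 0xf0c07f5) (.leaf 0x82787f5)) (.node (.leaf 0x40f4829) (.leaf 0x0))))) (.node (.node (.node (.node (.leaf 0x9dd87f5) (.leaf 0xb3a4829)) (.node (.leaf 0x4188829) (.leaf 0x7330829))) (.node (.node (.leaf 0xac08829) (.leaf 0xb9c47f5)) (.node (.leaf 0x60b8829) (.leaf 0x7b18829)))) (.node (.node (.node (.leaf 0xd01c7f5) (.leaf 0x988c7f5)) (.node (.leaf 0xa59c7f5) (.leaf 0xb5e87f5))) (.node (.node (.leaf 0x4e34829) (.leaf 0xa14)) (.node (.leaf 0xa9b87f5) (.leaf 0x0)))))) (.node (.node (.node (.node (.node (.leaf 0x73307f5) (.leaf 0xdcfc7f5)) (.node (.leaf 0xb3ec7f5) (.leaf 0xd4907f5))) (.node (.node (.leaf 0xdf0) (.leaf 0x6e8c829)) (.node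 (.leaf 0x9fb4829) (.leaf 0x69f8829)))) (.node (.node (.node (.leaf 0x98f8829) (.leaf 0x58187f5)) (.node (.leaf 0xfec) (.leaf 0x97c87f5))) (.node (.node (.leaf 0xd1087f5) (.leaf 0xb3087f5)) (.node (.leaf 0x9d58829) (.leaf 0x0))))) (.node (.node (.node (.node (.leaf 0xaad47f5) (.leaf 0xa34c7f5)) (.node (.leaf 0xe2c) (.leaf 0x83ac829))) (.node (.node (.leaf 0xc1e) (.leaf 0xa3847f5)) (.node (.leaf 0xe4687f5) (.leaf 0x0)))) (.node (.node (.node (.leaf 0x44247f5) (.leaf 0xa28)) (.node (.leaf 0xb9607f5) (.leaf 0x43a8829))) (.node (.node (.leaf 0x52647f5) (.leaf 0x4b60829)) (.node (.leaf 0xda087f5) (.leaf 0x0))))))) (.node (.node (.node (.node (.node (.node (.leaf 0x980) (.leaf 0x4bbc829)) (.node (.leaf 0xdb0c7f5) (.leaf 0x8c107f5))) (.node (.node (.leaf 0xc28c7f5) (.leaf 0xdc2)) (.node (.leaf 0x775c829) (.leaf 0x44707f5)))) (.node (.node (.node (.leaf 0x52b8829) (.leaf 0x6ea07f5)) (.node (.leaf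 0x12b4) (.leaf 0x69847f5))) (.node (.node (.leaf 0x4d0c7f5) (.leaf 0xb2a8829)) (.node (.leaf 0x5bc47f5) (.leaf 0x0))))) (.node (.node (.node (.node (.leaf 0x42dc829) (.leaf 0xa6e47f5)) (.node (.leaf 0x56c0829) (.leaf 0x8460829))) (.node (.node (.leaf 0x16ec) (.leaf 0xc3707f5)) (.node (.leaf 0x5240829) (.leaf 0x4aa8829)))) (.node (.node (.node (.leaf 0xb1ac829) (.leaf 0xbbc)) (.node (.leaf 0x67447f5) (.leaf 0x44807f5))) (.node (.node (.leaf 0xa84c7f5) (.leaf 0xc6387f5)) (.node (.leaf 0x56687f5) (.leaf 0x0)))))) (.node (.node (.node (.node (.node (.leaf 0xe1587f5) (.leaf 0xd4387f5)) (.node (.leaf 0x91f8829) (.leaf 0x6f68829))) (.node (.node (.leaf 0x8e147f5) (.leaf 0xbaa0829)) (.node (.leaf 0xaec) (.leaf 0x4f74829)))) (.node (.node (.node (.leaf 0x4cc8829) (.leaf 0xa0e47f5)) (.node (.leaf 0x9f487f5) (.leaf 0x765c7f5))) (.node (.node (.leaf 0x67b47f5) (.leaf 0x40987f5)) (.node (.leaf 0xb66)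 (.leaf 0x0))))) (.node (.node (.node (.node (.leaf 0x1496) (.leaf 0xd52)) (.node (.leaf 0x93dc829) (.leaf 0xad387f5))) (.node (.node (.leaf 0x162e) (.leaf 0x49287f5)) (.node (.leaf 0x5f287f5) (.leaf 0x0)))) (.node (.node (.node (.leaf 0xb4c87f5) (.leaf 0x833c7f5)) (.node (.leaf 0x5804829) (.leaf 0x59847f5))) (.node (.node (.leaf 0xcfc87f5) (.leaf 0xf8c47f5)) (.node (.leaf 0x8c907f5) (.leaf 0x0))))))))))

/-- packed table -/
noncomputable def cov5_llr : BTree := (.node (.node (.node (.node (.node (.node (.node (.node (.node (.leaf 0xb0f8829) (.leaf 0xe5647f5)) (.node (.leaf 0xc6787f5) (.leaf 0x81c4829))) (.node (.node (.leaf 0x50a47f5) (.leaf 0x7280829)) (.node (.leaf 0x97e07f5) (.leaf 0xc9a87f5)))) (.node (.node (.node (.leaf 0x6b48829) (.leaf 0xfb387f5)) (.node (.leaf 0x8090829) (.leaf 0xb834829))) (.node (.node (.leaf 0x68fc829) (.leaf 0x51b47f5)) (.node (.leaf 0x6d24829) (.leaf 0x0)))))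 (.node (.node (.node (.node (.leaf 0x490c7f5) (.leaf 0xb2e)) (.node (.leaf 0xbb8) (.leaf 0xd6547f5))) (.node (.node (.leaf 0xd22) (.leaf 0x614c829)) (.node (.leaf 0xacb07f5) (.leaf 0xee287f5)))) (.node (.node (.node (.leaf 0x40ac7f5) (.leaf 0x40607f5)) (.node (.leaf 0x6484829) (.leaf 0x87187f5))) (.node (.node (.leaf 0xeac87f5) (.leaf 0xcfa)) (.node (.leaf 0xae507f5) (.leaf 0x0)))))) (.node (.node (.node (.node (.node (.leaf 0x8e2) (.leaf 0x98d87f5)) (.node (.leaf 0x77fc7f5) (.leaf 0xdaf87f5))) (.node (.node (.leaf 0x792) (.leaf 0x8bec829)) (.node (.leaf 0xa6d87f5) (.leaf 0xc6407f5)))) (.node (.node (.node (.leaf 0xaf64829) (.leaf 0xbaa87f5)) (.node (.leaf 0x58b4829) (.leaf 0xb8507f5))) (.node (.node (.leaf 0x4cfc7f5) (.leaf 0x1662)) (.node (.leaf 0xe1507f5) (.leaf 0x0))))) (.node (.node (.node (.node (.leaf 0x67ec7f5) (.leaf 0x9ca0829)) (.node (.leaf 0x8270829) (.leaf 0x8b4c7f5))) (.node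 (.node (.leaf 0x13bc) (.leaf 0xd0e47f5)) (.node (.leaf 0x4f807f5) (.leaf 0x60d87f5)))) (.node (.node (.node (.leaf 0x5db87f5) (.leaf 0x154e)) (.node (.leaf 0x570c829) (.leaf 0xceec7f5))) (.node (.node (.leaf 0x95547f5) (.leaf 0x562c7f5)) (.node (.leaf 0xdbd07f5) (.leaf 0x0))))))) (.node (.node (.node (.node (.node (.node (.leaf 0x6ffc7f5) (.leaf 0x8ae4829)) (.node (.leaf 0x838) (.leaf 0x52407f5))) (.node (.node (.leaf 0x574c829) (.leaf 0xdcb87f5)) (.node (.leaf 0xe6787f5) (.leaf 0xf2cc7f5)))) (.node (.node (.node (.leaf 0xa4d0829) (.leaf 0x96107f5)) (.node (.leaf 0x8160829) (.leaf 0x83e87f5))) (.node (.node (.leaf 0x6940829) (.leaf 0xa82)) (.node (.leaf 0xa308829) (.leaf 0x0))))) (.node (.node (.node (.node (.leaf 0x92ec829) (.leaf 0x6c54829)) (.node (.leaf 0x89c07f5) (.leaf 0x53b0829))) (.node (.node (.leaf 0xaa7c7f5) (.leaf 0x5c5c829)) (.node (.leaf 0x894) (.leaf 0xd5a)))) (.node (.node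 (.node (.leaf 0x86b07f5) (.leaf 0xac687f5)) (.node (.leaf 0xdd5c7f5) (.leaf 0x848))) (.node (.node (.leaf 0xe6c) (.leaf 0x1656)) (.node (.leaf 0xc63c7f5) (.leaf 0x0)))))) (.node (.node (.node (.node (.node (.leaf 0xd94) (.leaf 0x1358)) (.node (.leaf 0xbe6) (.leaf 0x9364829))) (.node (.node (.leaf 0x4124829) (.leaf 0x80c47f5)) (.node (.leaf 0x69407f5) (.leaf 0x915c7f5)))) (.node (.node (.node (.leaf 0xc3f07f5) (.leaf 0x65b87f5)) (.node (.leaf 0xd7c) (.leaf 0x56a0829))) (.node (.node (.leaf 0x58287f5) (.leaf 0x6da47f5)) (.node (.leaf 0x956) (.leaf 0x0))))) (.node (.node (.node (.node (.leaf 0x12ac) (.leaf 0xee447f5)) (.node (.leaf 0x93947f5) (.leaf 0x4e7c829))) (.node (.node (.leaf 0xb924829) (.leaf 0x6b98829)) (.node (.leaf 0x98d47f5) (.leaf 0x0)))) (.node (.node (.node (.leaf 0x1286) (.leaf 0xf4087f5)) (.node (.leaf 0x769c7f5) (.leaf 0x4c647f5))) (.node (.node (.leaf 0x8edc7f5) (.leaf 0x6ee8829))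 (.node (.leaf 0x5948829) (.leaf 0x0)))))))) (.node (.node (.node (.node (.node (.node (.node (.leaf 0xafb0829) (.leaf 0x59f0829)) (.node (.leaf 0xa2c0829) (.leaf 0xaed0829))) (.node (.node (.leaf 0x4854829) (.leaf 0x5e08829)) (.node (.leaf 0x9580829) (.leaf 0x6e90829)))) (.node (.node (.node (.leaf 0xd3c) (.leaf 0x5588829)) (.node (.leaf 0x41187f5) (.leaf 0x86dc7f5))) (.node (.node (.leaf 0xf7d87f5) (.leaf 0x62fc7f5)) (.node (.leaf 0x97047f5) (.leaf 0x0))))) (.node (.node (.node (.node (.leaf 0x824c829) (.leaf 0x599c829)) (.node (.leaf 0x61fc7f5) (.leaf 0x954c7f5))) (.node (.node (.leaf 0xac10829) (.leaf 0x80c87f5)) (.node (.leaf 0xa0c8829) (.leaf 0x990c829)))) (.node (.node (.node (.leaf 0x9770829) (.leaf 0xab4)) (.node (.leaf 0x49187f5) (.leaf 0x80887f5))) (.node (.node (.leaf 0xd4e) (.leaf 0x7ac0829)) (.node (.leaf 0xb504829) (.leaf 0x0)))))) (.node (.node (.node (.node (.node (.leaf 0xe5f47f5)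 (.leaf 0xaa1c829)) (.node (.leaf 0xd6387f5) (.leaf 0xb7e0829))) (.node (.node (.leaf 0xabc87f5) (.leaf 0xf7c87f5)) (.node (.leaf 0x5fa4829) (.leaf 0x7a20829)))) (.node (.node (.node (.leaf 0x74987f5) (.leaf 0xcc487f5)) (.node (.leaf 0x7d8) (.leaf 0x49107f5))) (.node (.node (.leaf 0x9bbc829) (.leaf 0x150a)) (.node (.leaf 0xa2247f5) (.leaf 0x0))))) (.node (.node (.node (.node (.leaf 0x6acc7f5) (.leaf 0x920c7f5)) (.node (.leaf 0x19f8) (.leaf 0x4e90829))) (.node (.node (.leaf 0x730c7f5) (.leaf 0xbf4)) (.node (.leaf 0xddb47f5) (.leaf 0x0)))) (.node (.node (.node (.leaf 0xe5c) (.leaf 0xdb0)) (.node (.leaf 0xee087f5) (.leaf 0x5568829))) (.node (.node (.leaf 0xaa68829) (.leaf 0x93ac829)) (.node (.leaf 0x143a) (.leaf 0x0))))))) (.node (.node (.node (.node (.node (.node (.leaf 0xa5a) (.leaf 0xc6307f5)) (.node (.leaf 0x95307f5) (.leaf 0x7840829))) (.node (.node (.leaf 0xc5e) (.leaf 0x9aa0829)) (.node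 (.leaf 0x6ca8829) (.leaf 0x6984829)))) (.node (.node (.node (.leaf 0x63b0829) (.leaf 0x6e8c7f5)) (.node (.leaf 0xbaf47f5) (.leaf 0x400c829))) (.node (.node (.leaf 0xc2e47f5) (.leaf 0x8600829)) (.node (.leaf 0x82cc829) (.leaf 0x0))))) (.node (.node (.node (.node (.leaf 0xdc0) (.leaf 0xa7087f5)) (.node (.leaf 0x7518829) (.leaf 0xb284829))) (.node (.node (.leaf 0x96b87f5) (.leaf 0xb454829)) (.node (.leaf 0xd8807f5) (.leaf 0x5d147f5)))) (.node (.node (.node (.leaf 0xf45c7f5) (.leaf 0x99207f5)) (.node (.leaf 0x69587f5) (.leaf 0xc47c7f5))) (.node (.node (.leaf 0xa8487f5) (.leaf 0x55607f5)) (.node (.leaf 0x842) (.leaf 0x0)))))) (.node (.node (.node (.node (.node (.leaf 0x5f947f5) (.leaf 0x5e407f5)) (.node (.leaf 0xc3e) (.leaf 0xba447f5))) (.node (.node (.leaf 0xb54) (.leaf 0x713c7f5)) (.node (.leaf 0xa280829) (.leaf 0x54f07f5)))) (.node (.node (.node (.leaf 0x91647f5) (.leaf 0xa1087f5)) (.node (.leaf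 0xaee4829) (.leaf 0xb6547f5))) (.node (.node (.leaf 0x6fcc829) (.leaf 0xc9a)) (.node (.leaf 0xdb247f5) (.leaf 0x0))))) (.node (.node (.node (.node (.leaf 0x873c7f5) (.leaf 0x717c7f5)) (.node (.leaf 0x93cc829) (.leaf 0xa95c829))) (.node (.node (.leaf 0xafc) (.leaf 0x494c829)) (.node (.leaf 0x8e20829) (.leaf 0x0)))) (.node (.node (.node (.leaf 0x96d0829) (.leaf 0x1b12)) (.node (.leaf 0xc02) (.leaf 0x40a07f5))) (.node (.node (.leaf 0x8c94829) (.leaf 0x5b1c7f5)) (.node (.leaf 0xb0d07f5) (.leaf 0x0))))))))) (.node (.node (.node (.node (.node (.node (.node (.node (.leaf 0x5158829) (.leaf 0x8cc0829)) (.node (.leaf 0xc6587f5) (.leaf 0x6df0829))) (.node (.node (.leaf 0x50a87f5) (.leaf 0x9df8829)) (.node (.leaf 0x8720829) (.leaf 0x955c829)))) (.node (.node (.node (.leaf 0x4968829) (.leaf 0x6b247f5)) (.node (.leaf 0x5454829) (.leaf 0x83c87f5))) (.node (.node (.leaf 0x8f4c829) (.leaf 0xf3747f5)) (.node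 (.leaf 0xdc047f5) (.leaf 0x0))))) (.node (.node (.node (.node (.leaf 0x8b0) (.leaf 0x622c829)) (.node (.leaf 0x47507f5) (.leaf 0x56cc7f5))) (.node (.node (.leaf 0x84107f5) (.leaf 0xca847f5)) (.node (.leaf 0x6cb87f5) (.leaf 0x6c2c829)))) (.node (.node (.node (.leaf 0x9784829) (.leaf 0xf0487f5)) (.node (.leaf 0xab18829) (.leaf 0xa398829))) (.node (.node (.leaf 0xeac07f5) (.leaf 0x804c829)) (.node (.leaf 0x6e607f5) (.leaf 0x0)))))) (.node (.node (.node (.node (.node (.leaf 0xa5947f5) (.leaf 0x98e07f5)) (.node (.leaf 0xc4887f5) (.leaf 0xb270829))) (.node (.node (.leaf 0x6bc07f5) (.leaf 0x40e47f5)) (.node (.leaf 0xbb207f5) (.leaf 0xc4b07f5)))) (.node (.node (.node (.leaf 0xb4d07f5) (.leaf 0xe10)) (.node (.leaf 0x7a78829) (.leaf 0xe68))) (.node (.node (.leaf 0xb5a87f5) (.leaf 0x70247f5)) (.node (.leaf 0x5d28829) (.leaf 0x0))))) (.node (.node (.node (.node (.leaf 0x67f07f5) (.leaf 0x54447f5)) (.node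 (.leaf 0x932c829) (.leaf 0x1690))) (.node (.node (.leaf 0x87fc829) (.leaf 0xa26)) (.node (.leaf 0x5db07f5) (.leaf 0xafec7f5)))) (.node (.node (.node (.leaf 0x76187f5) (.leaf 0xe4b87f5)) (.node (.leaf 0x9724829) (.leaf 0xf6b87f5))) (.node (.node (.leaf 0x6a3c829) (.leaf 0x13ca)) (.node (.leaf 0xd5b47f5) (.leaf 0x0))))))) (.node (.node (.node (.node (.node (.node (.leaf 0x5428829) (.leaf 0x7b187f5)) (.node (.leaf 0xc8207f5) (.leaf 0xd5787f5))) (.node (.node (.leaf 0xe12) (.leaf 0x8b2c829)) (.node (.leaf 0x41e4829) (.leaf 0x8d34829)))) (.node (.node (.node (.leaf 0xa3cc829) (.leaf 0xec647f5)) (.node (.leaf 0x84c87f5) (.leaf 0xc7f07f5))) (.node (.node (.leaf 0x43047f5) (.leaf 0x66ac829)) (.node (.leaf 0xba00829) (.leaf 0x0))))) (.node (.node (.node (.node (.leaf 0xb058829) (.leaf 0x1522)) (.node (.leaf 0x5d907f5) (.leaf 0x539c829))) (.node (.node (.leaf 0x9eb47f5) (.leaf 0x4324829)) (.node (.leaf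 0xd3d07f5) (.leaf 0x64047f5)))) (.node (.node (.node (.leaf 0x70d4829) (.leaf 0xac50829)) (.node (.leaf 0x8b8) (.leaf 0xc68))) (.node (.node (.leaf 0x68407f5) (.leaf 0xa90)) (.node (.leaf 0xa740829) (.leaf 0x0)))))) (.node (.node (.node (.node (.node (.leaf 0x73b47f5) (.leaf 0x545c7f5)) (.node (.leaf 0x6bf47f5) (.leaf 0x81b8829))) (.node (.node (.leaf 0x78147f5) (.leaf 0xed6)) (.node (.leaf 0x6d9c829) (.leaf 0xaa547f5)))) (.node (.node (.node (.leaf 0xade0829) (.leaf 0xa81c829)) (.node (.leaf 0x6460829) (.leaf 0x41907f5))) (.node (.node (.leaf 0x95587f5) (.leaf 0x4060829)) (.node (.leaf 0xb3e) (.leaf 0x0))))) (.node (.node (.node (.node (.leaf 0x81d8829) (.leaf 0xda2)) (.node (.leaf 0xd6a) (.leaf 0x9b2c829))) (.node (.node (.leaf 0x4f8c829) (.leaf 0x1ad6)) (.node (.leaf 0x410c7f5) (.leaf 0x0)))) (.node (.node (.node (.leaf 0x95647f5) (.leaf 0x4dc87f5)) (.node (.leaf 0xb0f4829) (.leaf 0x85b4829)))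 (.node (.node (.leaf 0x6c84829) (.leaf 0x5cd47f5)) (.node (.leaf 0x40a47f5) (.leaf 0x0)))))))) (.node (.node (.node (.node (.node (.node (.node (.leaf 0xb8b87f5) (.leaf 0x8fa47f5)) (.node (.leaf 0xa2e8829) (.leaf 0x81c0829))) (.node (.node (.leaf 0x6cdc7f5) (.leaf 0xc38)) (.node (.leaf 0xc86) (.leaf 0xaac)))) (.node (.node (.node (.leaf 0x1b1e) (.leaf 0x96087f5)) (.node (.leaf 0x9b8) (.leaf 0xb564829))) (.node (.node (.leaf 0xa924829) (.leaf 0xb63c829)) (.node (.leaf 0x59d8829) (.leaf 0x0))))) (.node (.node (.node (.node (.leaf 0x70007f5) (.leaf 0x70e47f5)) (.node (.leaf 0xacd87f5) (.leaf 0x55507f5))) (.node (.node (.leaf 0xabf8829) (.leaf 0xea8c7f5)) (.node (.leaf 0x52b4829) (.leaf 0x9c707f5)))) (.node (.node (.node (.leaf 0x4674829) (.leaf 0xe50)) (.node (.leaf 0x967c829) (.leaf 0x8364829))) (.node (.node (.leaf 0x53507f5) (.leaf 0xf0107f5)) (.node (.leaf 0xe3bc7f5) (.leaf 0x0)))))) (.node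 (.node (.node (.node (.node (.leaf 0xb5ac7f5) (.leaf 0xa1c)) (.node (.leaf 0xe16) (.leaf 0x9378829))) (.node (.node (.leaf 0x69f87f5) (.leaf 0xb7c47f5)) (.node (.leaf 0xb108829) (.leaf 0xc62c7f5)))) (.node (.node (.node (.leaf 0xec707f5) (.leaf 0xe20)) (.node (.leaf 0x46c4829) (.leaf 0xb5b0829))) (.node (.node (.leaf 0xc2387f5) (.leaf 0xda507f5)) (.node (.leaf 0x13cc) (.leaf 0x0))))) (.node (.node (.node (.node (.leaf 0xb790829) (.leaf 0xf30)) (.node (.leaf 0xcec) (.leaf 0x9b34829))) (.node (.node (.leaf 0xf3147f5) (.leaf 0x54e0829)) (.node (.leaf 0xa4407f5) (.leaf 0x0)))) (.node (.node (.node (.leaf 0x55687f5) (.leaf 0x6784829)) (.node (.leaf 0x60147f5) (.leaf 0xf2d87f5))) (.node (.node (.leaf 0xb5bc829) (.leaf 0x969c7f5)) (.node (.leaf 0x9f6c829) (.leaf 0x0))))))) (.node (.node (.node (.node (.node (.node (.leaf 0xf8e) (.leaf 0x8bc0829)) (.node (.leaf 0x78047f5) (.leaf 0x5af47f5))) (.node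 (.node (.leaf 0x85e) (.leaf 0xd83c7f5)) (.node (.leaf 0x5da4829) (.leaf 0x13c6)))) (.node (.node (.node (.leaf 0x95ac829) (.leaf 0x4f9c7f5)) (.node (.leaf 0xbee) (.leaf 0xb3d47f5))) (.node (.node (.leaf 0xba0) (.leaf 0x81c8829)) (.node (.leaf 0x91b0829) (.leaf 0x0))))) (.node (.node (.node (.node (.leaf 0x82ec829) (.leaf 0x9c8c829)) (.node (.leaf 0x59247f5) (.leaf 0x9ff0829))) (.node (.node (.leaf 0x96487f5) (.leaf 0xc7c)) (.node (.leaf 0xb2b07f5) (.leaf 0x4f68829)))) (.node (.node (.node (.leaf 0xb16c829) (.leaf 0xe2bc7f5)) (.node (.leaf 0x72407f5) (.leaf 0x5550829))) (.node (.node (.leaf 0xc6e07f5) (.leaf 0xd6307f5)) (.node (.leaf 0xaeb47f5) (.leaf 0x0)))))) (.node (.node (.node (.node (.node (.leaf 0xa76) (.leaf 0xb2987f5)) (.node (.leaf 0xedd47f5) (.leaf 0x81b4829))) (.node (.node (.leaf 0x4da07f5) (.leaf 0x89887f5)) (.node (.leaf 0xc8e) (.leaf 0xb2247f5)))) (.node (.node (.node (.leaf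 0xc1a) (.leaf 0x1672)) (.node (.leaf 0x58887f5) (.leaf 0xef8))) (.node (.node (.leaf 0x86bc829) (.leaf 0xb30)) (.node (.leaf 0x95b07f5) (.leaf 0x0))))) (.node (.node (.node (.node (.leaf 0xa4c8829) (.leaf 0x7274829)) (.node (.leaf 0x83847f5) (.leaf 0x77e4829))) (.node (.node (.leaf 0xa918829) (.leaf 0x1018)) (.node (.leaf 0xdf187f5) (.leaf 0x0)))) (.node (.node (.node (.leaf 0x96f0829) (.leaf 0xcae)) (.node (.leaf 0x104e) (.leaf 0xe04))) (.node (.node (.leaf 0xa64) (.leaf 0x805c829)) (.node (.leaf 0x655c7f5) (.leaf 0x0))))))))))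

/-- packed table -/
noncomputable def cov5_lrl : BTree := (.node (.node (.node (.node (.node (.node (.node (.node (.node (.leaf 0x442c829) (.leaf 0xcd8)) (.node (.leaf 0x46747f5) (.leaf 0xbb407f5))) (.node (.node (.leaf 0x50a07f5) (.leaf 0x6da0829)) (.node (.leaf 0x57ec7f5) (.leaf 0x91047f5)))) (.node (.node (.node (.leaf 0x6b30829) (.leaf 0x4d08829)) (.node (.leaf 0x4098829) (.leaf 0x9d94829))) (.node (.node (.leaf 0x4a107f5) (.leaf 0x40f07f5)) (.node (.leaf 0x9c187f5) (.leaf 0x0))))) (.node (.node (.node (.node (.leaf 0x67507f5) (.leaf 0x7324829)) (.node (.leaf 0x99587f5) (.leaf 0x4ce8829))) (.node (.node (.leaf 0x4e507f5) (.leaf 0x49847f5)) (.node (.leaf 0x8cdc829) (.leaf 0x8b88829)))) (.node (.node (.node (.leaf 0x8de8829) (.leaf 0x41147f5)) (.node (.leaf 0x6478829) (.leaf 0xb488829))) (.node (.node (.leaf 0xeab87f5) (.leaf 0xa9f4829)) (.node (.leaf 0x172a) (.leaf 0x0)))))) (.node (.node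 (.node (.node (.node (.leaf 0xa86) (.leaf 0x4bb4829)) (.node (.leaf 0x9110829) (.leaf 0x6c907f5))) (.node (.node (.leaf 0xedd87f5) (.leaf 0x411c7f5)) (.node (.leaf 0xada8829) (.leaf 0x4aac829)))) (.node (.node (.node (.leaf 0xb4fc829) (.leaf 0x87d47f5)) (.node (.leaf 0xab88829) (.leaf 0x92e07f5))) (.node (.node (.leaf 0xdd8) (.leaf 0x97d47f5)) (.node (.leaf 0x51c0829) (.leaf 0x0))))) (.node (.node (.node (.node (.leaf 0x4cc87f5) (.leaf 0x40e07f5)) (.node (.leaf 0x100e) (.leaf 0x5e40829))) (.node (.node (.leaf 0x4c64829) (.leaf 0xa2507f5)) (.node (.leaf 0x6dd07f5) (.leaf 0x5ed0829)))) (.node (.node (.node (.leaf 0xf6147f5) (.leaf 0x66fc829)) (.node (.leaf 0x7fa) (.leaf 0xc5187f5))) (.node (.node (.leaf 0x4efc829) (.leaf 0x5ad4829)) (.node (.leaf 0x67d0829) (.leaf 0x0))))))) (.node (.node (.node (.node (.node (.node (.leaf 0x5400829) (.leaf 0x4ae0829)) (.node (.leaf 0xc80c7f5) (.leaf 0x59d47f5)))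 (.node (.node (.leaf 0xa06c7f5) (.leaf 0xc5a07f5)) (.node (.leaf 0xad4) (.leaf 0x99407f5)))) (.node (.node (.node (.leaf 0xa4cc829) (.leaf 0x8f547f5)) (.node (.leaf 0x4140829) (.leaf 0x4f247f5))) (.node (.node (.leaf 0xa920829) (.leaf 0xb5fc829)) (.node (.leaf 0x62f8829) (.leaf 0x0))))) (.node (.node (.node (.node (.leaf 0x92f0829) (.leaf 0x9ef8829)) (.node (.leaf 0xa20c7f5) (.leaf 0x52c07f5))) (.node (.node (.leaf 0x6a0c7f5) (.leaf 0x40f47f5)) (.node (.leaf 0xd3e07f5) (.leaf 0xb040829)))) (.node (.node (.node (.leaf 0x900c7f5) (.leaf 0xa7947f5)) (.node (.leaf 0x43a87f5) (.leaf 0xcd2))) (.node (.node (.leaf 0x56847f5) (.leaf 0xf1f07f5)) (.node (.leaf 0x8ea) (.leaf 0x0)))))) (.node (.node (.node (.node (.node (.leaf 0x866) (.leaf 0x617c829)) (.node (.leaf 0xae747f5) (.leaf 0x52b87f5))) (.node (.node (.leaf 0x6cdc829) (.leaf 0xa3b87f5)) (.node (.leaf 0xc2547f5) (.leaf 0x7ae8829)))) (.node (.node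 (.node (.leaf 0xd2a87f5) (.leaf 0xa0007f5)) (.node (.leaf 0x170a) (.leaf 0xd2c))) (.node (.node (.leaf 0x8db8829) (.leaf 0x9a747f5)) (.node (.leaf 0x8be) (.leaf 0x0))))) (.node (.node (.node (.node (.leaf 0x9d087f5) (.leaf 0x6e387f5)) (.node (.leaf 0x4ab8829) (.leaf 0x52d87f5))) (.node (.node (.leaf 0x40147f5) (.leaf 0x74407f5)) (.node (.leaf 0x4eac829) (.leaf 0x0)))) (.node (.node (.node (.leaf 0x87b4829) (.leaf 0xd0c07f5)) (.node (.leaf 0x553c7f5) (.leaf 0x54287f5))) (.node (.node (.leaf 0x5f58829) (.leaf 0x56c47f5)) (.node (.leaf 0xb2087f5) (.leaf 0x0)))))))) (.node (.node (.node (.node (.node (.node (.node (.leaf 0xb090829) (.leaf 0xa0387f5)) (.node (.leaf 0xe70) (.leaf 0xa728829))) (.node (.node (.leaf 0x88447f5) (.leaf 0x5dec829)) (.node (.leaf 0xd9707f5) (.leaf 0xe26)))) (.node (.node (.node (.leaf 0xb8d07f5) (.leaf 0x9598829)) (.node (.leaf 0x5444829) (.leaf 0x6b5c7f5))) (.node (.node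 (.leaf 0xb84c829) (.leaf 0x9ef4829)) (.node (.leaf 0x6a6c829) (.leaf 0x0))))) (.node (.node (.node (.node (.leaf 0x5fd87f5) (.leaf 0x6244829)) (.node (.leaf 0x8194829) (.leaf 0x56e47f5))) (.node (.node (.leaf 0xf8307f5) (.leaf 0x94787f5)) (.node (.leaf 0x98c47f5) (.leaf 0xdd7c7f5)))) (.node (.node (.node (.leaf 0x979c829) (.leaf 0x8a1c829)) (.node (.leaf 0x6b0c829) (.leaf 0xb944829))) (.node (.node (.leaf 0xb5d47f5) (.leaf 0xb4e)) (.node (.leaf 0xb8e8829) (.leaf 0x0)))))) (.node (.node (.node (.node (.node (.leaf 0x89e47f5) (.leaf 0x6a0c829)) (.node (.leaf 0x42307f5) (.leaf 0x9ea))) (.node (.node (.leaf 0x6bc0829) (.leaf 0x6d147f5)) (.node (.leaf 0xdf4) (.leaf 0xb248829)))) (.node (.node (.node (.leaf 0x95387f5) (.leaf 0xd32)) (.node (.leaf 0xb0307f5) (.leaf 0x15c4))) (.node (.node (.leaf 0xb5947f5) (.leaf 0x69e8829)) (.node (.leaf 0x5d18829) (.leaf 0x0))))) (.node (.node (.node (.node (.leaf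 0xa33c829) (.leaf 0x5acc7f5)) (.node (.leaf 0x8e70829) (.leaf 0x5984829))) (.node (.node (.leaf 0x73247f5) (.leaf 0x14b8)) (.node (.leaf 0x48ec7f5) (.leaf 0x52bc7f5)))) (.node (.node (.node (.leaf 0xa0f87f5) (.leaf 0x9ea4829)) (.node (.leaf 0xc5247f5) (.leaf 0x5da07f5))) (.node (.node (.leaf 0xce447f5) (.leaf 0xe41c7f5)) (.node (.leaf 0x7000829) (.leaf 0x0))))))) (.node (.node (.node (.node (.node (.node (.leaf 0x40d4829) (.leaf 0x41087f5)) (.node (.leaf 0x6324829) (.leaf 0xfa687f5))) (.node (.node (.leaf 0x84287f5) (.leaf 0x9bc)) (.node (.leaf 0x79ec829) (.leaf 0xb164829)))) (.node (.node (.node (.leaf 0x63ac829) (.leaf 0x5da87f5)) (.node (.leaf 0x89007f5) (.leaf 0x7180829))) (.node (.node (.leaf 0xc52) (.leaf 0x5a3c7f5)) (.node (.leaf 0x7940829) (.leaf 0x0))))) (.node (.node (.node (.node (.leaf 0x8a08829) (.leaf 0xa6e87f5)) (.node (.leaf 0x1254) (.leaf 0x62107f5))) (.node (.node (.leaf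 0x9008829) (.leaf 0x8338829)) (.node (.leaf 0x1a4c) (.leaf 0xa7b0829)))) (.node (.node (.node (.leaf 0x46a87f5) (.leaf 0xcac47f5)) (.node (.leaf 0x8a8) (.leaf 0xb9c8829))) (.node (.node (.leaf 0xa8507f5) (.leaf 0xae2)) (.node (.leaf 0x8b80829) (.leaf 0x0)))))) (.node (.node (.node (.node (.node (.leaf 0x65f87f5) (.leaf 0xad647f5)) (.node (.leaf 0x9cdc829) (.leaf 0x6d507f5))) (.node (.node (.leaf 0x78247f5) (.leaf 0xa9bc829)) (.node (.leaf 0x4128829) (.leaf 0x6a3c7f5)))) (.node (.node (.node (.leaf 0x68707f5) (.leaf 0xe0f47f5)) (.node (.leaf 0xcd887f5) (.leaf 0xbb44829))) (.node (.node (.leaf 0x882) (.leaf 0x48d0829)) (.node (.leaf 0x98c) (.leaf 0x0))))) (.node (.node (.node (.node (.leaf 0x54d8829) (.leaf 0x71807f5)) (.node (.leaf 0x9a807f5) (.leaf 0x9c8))) (.node (.node (.leaf 0x9da) (.leaf 0x4944829)) (.node (.leaf 0x9f247f5) (.leaf 0x0)))) (.node (.node (.node (.leaf 0x56e4829) (.leaf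 0x8dc07f5)) (.node (.leaf 0x7174829) (.leaf 0x9ecc829))) (.node (.node (.leaf 0xab7c829) (.leaf 0x8a9c829)) (.node (.leaf 0x6c90829) (.leaf 0x0))))))))) (.node (.node (.node (.node (.node (.node (.node (.node (.leaf 0xbcc) (.leaf 0x8cbc829)) (.node (.leaf 0x6364829) (.leaf 0x9ee8829))) (.node (.node (.leaf 0x8210829) (.leaf 0x6220829)) (.node (.leaf 0xe4c) (.leaf 0xc9bc7f5)))) (.node (.node (.node (.leaf 0x6b50829) (.leaf 0xe40)) (.node (.leaf 0x1aa0) (.leaf 0x5ac47f5))) (.node (.node (.leaf 0xa45c829) (.leaf 0xfd8)) (.node (.leaf 0x5c1c7f5) (.leaf 0x0))))) (.node (.node (.node (.node (.leaf 0x856) (.leaf 0x9ae8829)) (.node (.leaf 0xb4f8829) (.leaf 0x6d687f5))) (.node (.node (.leaf 0xa634829) (.leaf 0xca607f5)) (.node (.leaf 0xa52c7f5) (.leaf 0x5d8c829)))) (.node (.node (.node (.leaf 0x9778829) (.leaf 0xab687f5)) (.node (.leaf 0xf1707f5) (.leaf 0x87247f5))) (.node (.node (.leaf 0xaab07f5)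 (.leaf 0xa278829)) (.node (.leaf 0xee587f5) (.leaf 0x0)))))) (.node (.node (.node (.node (.node (.leaf 0x13c0) (.leaf 0x98dc7f5)) (.node (.leaf 0xd3307f5) (.leaf 0xadb07f5))) (.node (.node (.leaf 0x7d4) (.leaf 0xbca)) (.node (.leaf 0x672c829) (.leaf 0x1b28)))) (.node (.node (.node (.leaf 0xa430829) (.leaf 0x7a907f5)) (.node (.leaf 0x8c8) (.leaf 0xd93c7f5))) (.node (.node (.leaf 0xb5a07f5) (.leaf 0xf6487f5)) (.node (.leaf 0xb28) (.leaf 0x0))))) (.node (.node (.node (.node (.leaf 0x17d4) (.leaf 0x50bc829)) (.node (.leaf 0x5340829) (.leaf 0x8b547f5))) (.node (.node (.leaf 0xf5707f5) (.leaf 0xad5c7f5)) (.node (.leaf 0xc14) (.leaf 0x60c07f5)))) (.node (.node (.node (.leaf 0x9ea87f5) (.leaf 0x6b487f5)) (.node (.leaf 0x9c487f5) (.leaf 0x700c829))) (.node (.node (.leaf 0x91a) (.leaf 0xaf0c7f5)) (.node (.leaf 0x1848) (.leaf 0x0))))))) (.node (.node (.node (.node (.node (.node (.leaf 0xf88c7f5) (.leaf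 0x4acc829)) (.node (.leaf 0x8f4) (.leaf 0x52107f5))) (.node (.node (.leaf 0x9d6c7f5) (.leaf 0x4b0c829)) (.node (.leaf 0xe6587f5) (.leaf 0xb448829)))) (.node (.node (.node (.leaf 0x8350829) (.leaf 0x43cc829)) (.node (.leaf 0xbb087f5) (.leaf 0x940c7f5))) (.node (.node (.leaf 0xe34) (.leaf 0x810)) (.node (.leaf 0xafac7f5) (.leaf 0x0))))) (.node (.node (.node (.node (.leaf 0x6c58829) (.leaf 0x1314)) (.node (.leaf 0x92b0829) (.leaf 0x61dc7f5))) (.node (.node (.leaf 0x146e) (.leaf 0x8df87f5)) (.node (.leaf 0x41e8829) (.leaf 0x6710829)))) (.node (.node (.node (.leaf 0x9ec) (.leaf 0x92e87f5)) (.node (.leaf 0x73b4829) (.leaf 0x92d47f5))) (.node (.node (.leaf 0x5b80829) (.leaf 0x7c8)) (.node (.leaf 0x6750829) (.leaf 0x0)))))) (.node (.node (.node (.node (.node (.leaf 0xf3b07f5) (.leaf 0xba9c829)) (.node (.leaf 0x5ce8829) (.leaf 0xb56))) (.node (.node (.leaf 0xaec4829) (.leaf 0x5d9c829)) (.node (.leaf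 0x7818829) (.leaf 0xd1447f5)))) (.node (.node (.node (.leaf 0xe86c7f5) (.leaf 0x785c829)) (.node (.leaf 0x97a8829) (.leaf 0x4a98829))) (.node (.node (.leaf 0xd66c7f5) (.leaf 0x5c747f5)) (.node (.leaf 0x844) (.leaf 0x0))))) (.node (.node (.node (.node (.leaf 0x19a6) (.leaf 0xee307f5)) (.node (.leaf 0x6ecc829) (.leaf 0xe4147f5))) (.node (.node (.leaf 0x40347f5) (.leaf 0xaba0829)) (.node (.leaf 0x95247f5) (.leaf 0x0)))) (.node (.node (.node (.leaf 0xa71c7f5) (.leaf 0x7928829)) (.node (.leaf 0x5b847f5) (.leaf 0xe8b87f5))) (.node (.node (.leaf 0xa54c7f5) (.leaf 0x98447f5)) (.node (.leaf 0x420c7f5) (.leaf 0x0)))))))) (.node (.node (.node (.node (.node (.node (.node (.leaf 0xf0207f5) (.leaf 0x8f6c7f5)) (.node (.leaf 0x62cc829) (.leaf 0xe23c7f5))) (.node (.node (.leaf 0xe74) (.leaf 0xc5a47f5)) (.node (.leaf 0x55287f5) (.leaf 0x824)))) (.node (.node (.node (.leaf 0xb40) (.leaf 0x957c829)) (.node (.leaf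 0xa2907f5) (.leaf 0x9ed8829))) (.node (.node (.leaf 0xc9947f5) (.leaf 0x5090829)) (.node (.leaf 0xd7307f5) (.leaf 0x0))))) (.node (.node (.node (.node (.leaf 0xcbc) (.leaf 0xb8e0829)) (.node (.leaf 0xece07f5) (.leaf 0x5d90829))) (.node (.node (.leaf 0xabec829) (.leaf 0x52c87f5)) (.node (.leaf 0xe70c7f5) (.leaf 0x9edc829)))) (.node (.node (.node (.leaf 0x88c) (.leaf 0x98b07f5)) (.node (.leaf 0x850) (.leaf 0x9f687f5))) (.node (.node (.leaf 0xf6347f5) (.leaf 0x6f30829)) (.node (.leaf 0xf1a47f5) (.leaf 0x0)))))) (.node (.node (.node (.node (.node (.leaf 0x8870829) (.leaf 0x9ce47f5)) (.node (.leaf 0x9184829) (.leaf 0x4aa4829))) (.node (.node (.leaf 0x14f0) (.leaf 0xcad87f5)) (.node (.leaf 0x503c829) (.leaf 0x9ee0829)))) (.node (.node (.node (.leaf 0xb3f07f5) (.leaf 0x60087f5)) (.node (.leaf 0xadc) (.leaf 0x99507f5))) (.node (.node (.leaf 0x9bac829) (.leaf 0xdb6)) (.node (.leaf 0x76a07f5) (.leaf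 0x0))))) (.node (.node (.node (.node (.leaf 0xead07f5) (.leaf 0xcac87f5)) (.node (.leaf 0xaf10829) (.leaf 0x147c))) (.node (.node (.leaf 0xb31c7f5) (.leaf 0x54f0829)) (.node (.leaf 0xe4487f5) (.leaf 0x0)))) (.node (.node (.node (.leaf 0x9eb87f5) (.leaf 0xd7c47f5)) (.node (.leaf 0x889c829) (.leaf 0x5ac87f5))) (.node (.node (.leaf 0x9d0) (.leaf 0xb12)) (.node (.leaf 0x5f64829) (.leaf 0x0))))))) (.node (.node (.node (.node (.node (.node (.leaf 0xa8107f5) (.leaf 0xa5d87f5)) (.node (.leaf 0xa348829) (.leaf 0xdf707f5))) (.node (.node (.leaf 0xf58c7f5) (.leaf 0xa8c47f5)) (.node (.leaf 0x523c829) (.leaf 0x44447f5)))) (.node (.node (.node (.leaf 0xa3d0829) (.leaf 0x40fc7f5)) (.node (.leaf 0x6b5c829) (.leaf 0x4390829))) (.node (.node (.leaf 0x16b8) (.leaf 0x525c7f5)) (.node (.leaf 0x1056) (.leaf 0x0))))) (.node (.node (.node (.node (.leaf 0x4ca87f5) (.leaf 0x66e07f5)) (.node (.leaf 0x50a8829) (.leaf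 0x8d00829))) (.node (.node (.leaf 0x5e887f5) (.leaf 0x7258829)) (.node (.leaf 0x6f687f5) (.leaf 0x1472)))) (.node (.node (.node (.leaf 0x84087f5) (.leaf 0x66e0829)) (.node (.leaf 0x41007f5) (.leaf 0xc4987f5))) (.node (.node (.leaf 0x13a6) (.leaf 0x1400)) (.node (.leaf 0x6b307f5) (.leaf 0x0)))))) (.node (.node (.node (.node (.node (.leaf 0xbe8) (.leaf 0xa7187f5)) (.node (.leaf 0x95007f5) (.leaf 0xfa347f5))) (.node (.node (.leaf 0x8b1c7f5) (.leaf 0xb10)) (.node (.leaf 0x8a207f5) (.leaf 0xa274829)))) (.node (.node (.node (.leaf 0x6eb0829) (.leaf 0xa1047f5)) (.node (.leaf 0x6284829) (.leaf 0x5d88829))) (.node (.node (.leaf 0x67bc7f5) (.leaf 0x9c887f5)) (.node (.leaf 0xa834829) (.leaf 0x0))))) (.node (.node (.node (.node (.leaf 0x649c829) (.leaf 0x7318829)) (.node (.leaf 0x9aa87f5) (.leaf 0x6874829))) (.node (.node (.leaf 0x978) (.leaf 0x89487f5)) (.node (.leaf 0xdf1c7f5) (.leaf 0x0)))) (.node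 (.node (.node (.leaf 0xdf987f5) (.leaf 0x9f04829)) (.node (.leaf 0xd7dc7f5) (.leaf 0x54147f5))) (.node (.node (.leaf 0xb540829) (.leaf 0xd9607f5)) (.node (.leaf 0xd72) (.leaf 0x0))))))))))

/-- packed table -/
noncomputable def cov5_lrr : BTree := (.node (.node (.node (.node (.node (.node (.node (.node (.node (.leaf 0x7498829) (.leaf 0xa5847f5)) (.node (.leaf 0xd8a) (.leaf 0x4e987f5))) (.node (.node (.leaf 0xae94829) (.leaf 0x7978829)) (.node (.leaf 0xb80) (.leaf 0x141a)))) (.node (.node (.node (.leaf 0xd0c) (.leaf 0x4534829)) (.node (.leaf 0x40a0829) (.leaf 0xce787f5))) (.node (.node (.leaf 0xae807f5) (.leaf 0x4a54829)) (.node (.leaf 0x713c829) (.leaf 0x0))))) (.node (.node (.node (.node (.leaf 0xd3107f5) (.leaf 0xc78)) (.node (.leaf 0xd46c7f5) (.leaf 0x83bc7f5))) (.node (.node (.leaf 0x452c829) (.leaf 0xa13c829)) (.node (.leaf 0x622c7f5) (.leaf 0x996c7f5)))) (.node (.node (.node (.leaf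 0x812c829) (.leaf 0x5d8c7f5)) (.node (.leaf 0x64787f5) (.leaf 0xd2a))) (.node (.node (.leaf 0xaaa07f5) (.leaf 0xb018829)) (.node (.leaf 0x9e24829) (.leaf 0x0)))))) (.node (.node (.node (.node (.node (.leaf 0xaf8) (.leaf 0x98e87f5)) (.node (.leaf 0xd6e) (.leaf 0x43907f5))) (.node (.node (.leaf 0x8c2) (.leaf 0x6f547f5)) (.node (.leaf 0xe6c47f5) (.leaf 0x5db8829)))) (.node (.node (.node (.leaf 0x8074829) (.leaf 0x76b0829)) (.node (.leaf 0x59f07f5) (.leaf 0x96c))) (.node (.node (.leaf 0xf59c7f5) (.leaf 0xf6087f5)) (.node (.leaf 0x874) (.leaf 0x0))))) (.node (.node (.node (.node (.leaf 0x67d87f5) (.leaf 0xed2c7f5)) (.node (.leaf 0xe9107f5) (.leaf 0x1b8e))) (.node (.node (.leaf 0x68a0829) (.leaf 0x41287f5)) (.node (.leaf 0x8e607f5) (.leaf 0xc66)))) (.node (.node (.node (.leaf 0x582c829) (.leaf 0x73c8829)) (.node (.leaf 0x9720829) (.leaf 0x8f087f5))) (.node (.node (.leaf 0x8ee4829) (.leaf 0xa3e4829))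 (.node (.leaf 0xa7cc829) (.leaf 0x0))))))) (.node (.node (.node (.node (.node (.node (.leaf 0x161e) (.leaf 0x4f747f5)) (.node (.leaf 0xc7f87f5) (.leaf 0x4100829))) (.node (.node (.leaf 0x41247f5) (.leaf 0x4b10829)) (.node (.leaf 0x66647f5) (.leaf 0xb428829)))) (.node (.node (.node (.leaf 0xa4d4829) (.leaf 0xae4)) (.node (.leaf 0xdd4c7f5) (.leaf 0xe14))) (.node (.node (.leaf 0xa948829) (.leaf 0x52c8829)) (.node (.leaf 0xc5607f5) (.leaf 0x0))))) (.node (.node (.node (.node (.leaf 0xc76) (.leaf 0x62a47f5)) (.node (.leaf 0x608c7f5) (.leaf 0x52d8829))) (.node (.node (.leaf 0x96a) (.leaf 0x9c34829)) (.node (.leaf 0x68c8829) (.leaf 0x4450829)))) (.node (.node (.node (.leaf 0xb1a) (.leaf 0x4904829)) (.node (.leaf 0x9618829) (.leaf 0x806))) (.node (.node (.leaf 0xbf8) (.leaf 0x89a)) (.node (.leaf 0xa68c7f5) (.leaf 0x0)))))) (.node (.node (.node (.node (.node (.leaf 0xb5b47f5) (.leaf 0xa16)) (.node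 (.leaf 0xac007f5) (.leaf 0x4104829))) (.node (.node (.leaf 0x69dc7f5) (.leaf 0x822c7f5)) (.node (.leaf 0xba587f5) (.leaf 0x914c7f5)))) (.node (.node (.node (.leaf 0xf2d07f5) (.leaf 0x1b5e)) (.node (.leaf 0x5e087f5) (.leaf 0x41f0829))) (.node (.node (.leaf 0x49b47f5) (.leaf 0x43cc7f5)) (.node (.leaf 0x78e) (.leaf 0x0))))) (.node (.node (.node (.node (.leaf 0xb7c0829) (.leaf 0x42287f5)) (.node (.leaf 0xb0f0829) (.leaf 0x63e0829))) (.node (.node (.leaf 0x400c7f5) (.leaf 0xe38)) (.node (.leaf 0x96ac7f5) (.leaf 0x0)))) (.node (.node (.node (.leaf 0x4790829) (.leaf 0xb4047f5)) (.node (.leaf 0x43f87f5) (.leaf 0xa8a87f5))) (.node (.node (.leaf 0xec887f5) (.leaf 0x8208829)) (.node (.leaf 0x994c829) (.leaf 0x0)))))))) (.node (.node (.node (.node (.node (.node (.node (.leaf 0xc4347f5) (.leaf 0x59e0829)) (.node (.leaf 0xd04c7f5) (.leaf 0x4e387f5))) (.node (.node (.leaf 0x48347f5) (.leaf 0x8ea87f5)) (.node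 (.leaf 0xa608829) (.leaf 0xcbfc7f5)))) (.node (.node (.node (.leaf 0x98607f5) (.leaf 0x5594829)) (.node (.leaf 0x83e47f5) (.leaf 0x4108829))) (.node (.node (.leaf 0x8830829) (.leaf 0xf22)) (.node (.leaf 0x421c7f5) (.leaf 0x0))))) (.node (.node (.node (.node (.leaf 0x9314829) (.leaf 0xb0647f5)) (.node (.leaf 0x6cd47f5) (.leaf 0xa34))) (.node (.node (.leaf 0x8e007f5) (.leaf 0xb9b47f5)) (.node (.leaf 0x60bc829) (.leaf 0x726c829)))) (.node (.node (.node (.leaf 0x8680829) (.leaf 0x98a4829)) (.node (.leaf 0xb1ec7f5) (.leaf 0xb5d87f5))) (.node (.node (.leaf 0x6c587f5) (.leaf 0xb3f4829)) (.node (.leaf 0x79bc829) (.leaf 0x0)))))) (.node (.node (.node (.node (.node (.leaf 0xb3487f5) (.leaf 0xaa14829)) (.node (.leaf 0xda0) (.leaf 0xa394829))) (.node (.node (.leaf 0xebd47f5) (.leaf 0xd16)) (.node (.leaf 0x4694829) (.leaf 0xb2f87f5)))) (.node (.node (.node (.leaf 0x5210829) (.leaf 0x92d07f5)) (.node (.leaf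 0x6f1c829) (.leaf 0x4e947f5))) (.node (.node (.leaf 0x9bb0829) (.leaf 0xa8c)) (.node (.leaf 0x785c7f5) (.leaf 0x0))))) (.node (.node (.node (.node (.leaf 0xaae47f5) (.leaf 0x5024829)) (.node (.leaf 0x4918829) (.leaf 0x1744))) (.node (.node (.leaf 0xb21c829) (.leaf 0x5ad47f5)) (.node (.leaf 0xe4647f5) (.leaf 0x0)))) (.node (.node (.node (.leaf 0xe5e) (.leaf 0xc2447f5)) (.node (.leaf 0xe7347f5) (.leaf 0xcc3c7f5))) (.node (.node (.leaf 0x67f4829) (.leaf 0x9e2)) (.node (.leaf 0x1b3a) (.leaf 0x0))))))) (.node (.node (.node (.node (.node (.node (.leaf 0x40dc829) (.leaf 0x133e)) (.node (.leaf 0x8aec7f5) (.leaf 0xb238829))) (.node (.node (.leaf 0x964c7f5) (.leaf 0x8f5c7f5)) (.node (.leaf 0x73dc829) (.leaf 0x9f6)))) (.node (.node (.node (.leaf 0xd6707f5) (.leaf 0x4480829)) (.node (.leaf 0xca0) (.leaf 0x41ec829))) (.node (.node (.leaf 0x6614829) (.leaf 0x7004829)) (.node (.leaf 0xd9347f5) (.leaf 0x0)))))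 (.node (.node (.node (.node (.leaf 0x8308829) (.leaf 0x66fc7f5)) (.node (.leaf 0x90c) (.leaf 0xb044829))) (.node (.node (.leaf 0xa07c829) (.leaf 0x6c94829)) (.node (.leaf 0x8afc7f5) (.leaf 0x7138829)))) (.node (.node (.node (.leaf 0xf4687f5) (.leaf 0x4ab4829)) (.node (.leaf 0xc4c07f5) (.leaf 0xc4a47f5))) (.node (.node (.leaf 0x1828) (.leaf 0xd1787f5)) (.node (.leaf 0x6eb87f5) (.leaf 0x0)))))) (.node (.node (.node (.node (.node (.leaf 0x73c07f5) (.leaf 0x61dc829)) (.node (.leaf 0xcdf07f5) (.leaf 0x8e4c7f5))) (.node (.node (.leaf 0xa0fc829) (.leaf 0x6d247f5)) (.node (.leaf 0xb46) (.leaf 0xd5087f5)))) (.node (.node (.node (.leaf 0x685c7f5) (.leaf 0x65d4829)) (.node (.leaf 0x78a0829) (.leaf 0x52c4829))) (.node (.node (.leaf 0xa7a07f5) (.leaf 0x8804829)) (.node (.leaf 0x5f50829) (.leaf 0x0))))) (.node (.node (.node (.node (.leaf 0x64a0829) (.leaf 0x44b4829)) (.node (.leaf 0x5a907f5) (.leaf 0x83b47f5)))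 (.node (.node (.leaf 0x4bb47f5) (.leaf 0x494c7f5)) (.node (.leaf 0xa5c) (.leaf 0x0)))) (.node (.node (.node (.leaf 0xcd587f5) (.leaf 0xedc)) (.node (.leaf 0x8ba8829) (.leaf 0xbb1c829))) (.node (.node (.leaf 0x4ff07f5) (.leaf 0xb6c)) (.node (.leaf 0xc58) (.leaf 0x0))))))))) (.node (.node (.node (.node (.node (.node (.node (.node (.leaf 0xd34) (.leaf 0x4ca8829)) (.node (.leaf 0x6378829) (.leaf 0x452c7f5))) (.node (.node (.leaf 0x48547f5) (.leaf 0xceb47f5)) (.node (.leaf 0x8730829) (.leaf 0xca247f5)))) (.node (.node (.node (.leaf 0x570c7f5) (.leaf 0xfa087f5)) (.node (.leaf 0x9450829) (.leaf 0x4200829))) (.node (.node (.leaf 0xcf507f5) (.leaf 0xba0c829)) (.node (.leaf 0x4bb8829) (.leaf 0x0))))) (.node (.node (.node (.node (.leaf 0x8240829) (.leaf 0x4b0c7f5)) (.node (.leaf 0x57d0829) (.leaf 0x4e747f5))) (.node (.node (.leaf 0x78487f5) (.leaf 0x8a747f5)) (.node (.leaf 0xe91c7f5) (.leaf 0x95cc829))))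 (.node (.node (.node (.leaf 0x978c829) (.leaf 0xc26)) (.node (.leaf 0xaafc829) (.leaf 0xb118829))) (.node (.node (.leaf 0x1874) (.leaf 0x992)) (.node (.leaf 0xee4c7f5) (.leaf 0x0)))))) (.node (.node (.node (.node (.node (.leaf 0x73447f5) (.leaf 0x98f07f5)) (.node (.leaf 0x94e87f5) (.leaf 0x906))) (.node (.node (.leaf 0xabcc7f5) (.leaf 0x4c7c829)) (.node (.leaf 0xe6487f5) (.leaf 0x84e07f5)))) (.node (.node (.node (.leaf 0xa424829) (.leaf 0x6534829)) (.node (.leaf 0x4038829) (.leaf 0xc3947f5))) (.node (.node (.leaf 0xb5987f5) (.leaf 0x6958829)) (.node (.leaf 0x41047f5) (.leaf 0x0))))) (.node (.node (.node (.node (.leaf 0x67d47f5) (.leaf 0x41107f5)) (.node (.leaf 0xe28) (.leaf 0x4114829))) (.node (.node (.leaf 0x75847f5) (.leaf 0x9cc47f5)) (.node (.leaf 0x9dcc7f5) (.leaf 0x8b9c829)))) (.node (.node (.node (.leaf 0x9fc87f5) (.leaf 0x8d10829)) (.node (.leaf 0xe5b47f5) (.leaf 0xf8ac7f5))) (.node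 (.node (.leaf 0xf47c7f5) (.leaf 0x4028829)) (.node (.leaf 0x95d87f5) (.leaf 0x0))))))) (.node (.node (.node (.node (.node (.node (.leaf 0x40e0829) (.leaf 0xcba)) (.node (.leaf 0xa0347f5) (.leaf 0xf9687f5))) (.node (.node (.leaf 0x765c829) (.leaf 0x8b38829)) (.node (.leaf 0x66747f5) (.leaf 0x7264829)))) (.node (.node (.node (.leaf 0xb9347f5) (.leaf 0x83d4829)) (.node (.leaf 0xbb007f5) (.leaf 0xc7cc7f5))) (.node (.node (.leaf 0xdac) (.leaf 0xab2)) (.node (.leaf 0xad44829) (.leaf 0x0))))) (.node (.node (.node (.node (.leaf 0x42987f5) (.leaf 0x628c7f5)) (.node (.leaf 0x93e) (.leaf 0xa2087f5))) (.node (.node (.leaf 0xd44) (.leaf 0x832c829)) (.node (.leaf 0x5078829) (.leaf 0x6d047f5)))) (.node (.node (.node (.leaf 0x86c07f5) (.leaf 0x59047f5)) (.node (.leaf 0x75f0829) (.leaf 0x8b5c829))) (.node (.node (.leaf 0xa83c7f5) (.leaf 0xa60)) (.node (.leaf 0x674c829) (.leaf 0x0)))))) (.node (.node (.node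 (.node (.node (.leaf 0x50fc7f5) (.leaf 0x40ec7f5)) (.node (.leaf 0xac187f5) (.leaf 0x4014829))) (.node (.node (.leaf 0x773c829) (.leaf 0x69ac829)) (.node (.leaf 0x93887f5) (.leaf 0x5dc8829)))) (.node (.node (.node (.leaf 0xe8607f5) (.leaf 0x1552)) (.node (.leaf 0x9f3c7f5) (.leaf 0x81787f5))) (.node (.node (.leaf 0x42687f5) (.leaf 0x7240829)) (.node (.leaf 0xc1c) (.leaf 0x0))))) (.node (.node (.node (.node (.leaf 0xf6387f5) (.leaf 0x44bc829)) (.node (.leaf 0x4e347f5) (.leaf 0xa388829))) (.node (.node (.leaf 0xf3a) (.leaf 0x6b8c7f5)) (.node (.leaf 0x83a47f5) (.leaf 0x0)))) (.node (.node (.node (.leaf 0x1174) (.leaf 0x8df47f5)) (.node (.leaf 0x79807f5) (.leaf 0xa9647f5))) (.node (.node (.leaf 0xb9507f5) (.leaf 0x9ccc7f5)) (.node (.leaf 0x992c829) (.leaf 0x0)))))))) (.node (.node (.node (.node (.node (.node (.node (.leaf 0xef9c7f5) (.leaf 0x59d4829)) (.node (.leaf 0x1526) (.leaf 0xda007f5)))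 (.node (.node (.leaf 0xd20) (.leaf 0x45d47f5)) (.node (.leaf 0x4298829) (.leaf 0x7cc)))) (.node (.node (.node (.leaf 0x48f0829) (.leaf 0x1268)) (.node (.leaf 0x414c829) (.leaf 0x1206))) (.node (.node (.leaf 0x786c7f5) (.leaf 0x6c847f5)) (.node (.leaf 0x62fc829) (.leaf 0x0))))) (.node (.node (.node (.node (.leaf 0x52f8829) (.leaf 0x6b507f5)) (.node (.leaf 0x649c7f5) (.leaf 0x7a8))) (.node (.node (.leaf 0xdaa) (.leaf 0x6a6c7f5)) (.node (.leaf 0xe40c7f5) (.leaf 0xc94)))) (.node (.node (.node (.leaf 0x8664829) (.leaf 0x9884829)) (.node (.leaf 0xa53c7f5) (.leaf 0xf4107f5))) (.node (.node (.leaf 0xaf74829) (.leaf 0xc3b07f5)) (.node (.leaf 0xc18c7f5) (.leaf 0x0)))))) (.node (.node (.node (.node (.node (.leaf 0x5264829) (.leaf 0x616c829)) (.node (.leaf 0x9180829) (.leaf 0x4204829))) (.node (.node (.leaf 0x69e87f5) (.leaf 0x92fc7f5)) (.node (.leaf 0xf5207f5) (.leaf 0xa54)))) (.node (.node (.node (.leaf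 0xb87c829) (.leaf 0x600c7f5)) (.node (.leaf 0x9eec829) (.leaf 0x7ab4829))) (.node (.node (.leaf 0xc3a07f5) (.leaf 0x7024829)) (.node (.leaf 0xfa547f5) (.leaf 0x0))))) (.node (.node (.node (.node (.leaf 0xaad87f5) (.leaf 0xd4c)) (.node (.leaf 0x59c07f5) (.leaf 0x82b8829))) (.node (.node (.leaf 0x6b24829) (.leaf 0xcad47f5)) (.node (.leaf 0x64607f5) (.leaf 0x0)))) (.node (.node (.node (.leaf 0xa8187f5) (.leaf 0xe2047f5)) (.node (.leaf 0x6ca87f5) (.leaf 0x5db0829))) (.node (.node (.leaf 0xb93c829) (.leaf 0x96a87f5)) (.node (.leaf 0xe7387f5) (.leaf 0x0))))))) (.node (.node (.node (.node (.node (.node (.leaf 0xacc) (.leaf 0x4bd0829)) (.node (.leaf 0x9a587f5) (.leaf 0x45347f5))) (.node (.node (.leaf 0xcb307f5) (.leaf 0x8c08829)) (.node (.leaf 0x66d47f5) (.leaf 0xcd947f5)))) (.node (.node (.node (.leaf 0xb4e0829) (.leaf 0x6ea87f5)) (.node (.leaf 0xd0c47f5) (.leaf 0x75f07f5))) (.node (.node (.leaf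 0x8cd87f5) (.leaf 0x88e47f5)) (.node (.leaf 0x51ac829) (.leaf 0x0))))) (.node (.node (.node (.node (.leaf 0x4cac7f5) (.leaf 0x1be4)) (.node (.leaf 0xd42) (.leaf 0x6380829))) (.node (.node (.leaf 0xe9c87f5) (.leaf 0x9990829)) (.node (.leaf 0x9b10829) (.leaf 0x6200829)))) (.node (.node (.node (.leaf 0xb4647f5) (.leaf 0xc9c)) (.node (.leaf 0xb22c7f5) (.leaf 0xc5007f5))) (.node (.node (.leaf 0x5d287f5) (.leaf 0x7440829)) (.node (.leaf 0x6ec87f5) (.leaf 0x0)))))) (.node (.node (.node (.node (.node (.leaf 0xb2b4829) (.leaf 0xb2a47f5)) (.node (.leaf 0x41207f5) (.leaf 0xb6007f5))) (.node (.node (.leaf 0x6ea0829) (.leaf 0xb0a)) (.node (.leaf 0x6064829) (.leaf 0x55c0829)))) (.node (.node (.node (.leaf 0x6e007f5) (.leaf 0xafa)) (.node (.leaf 0xe4807f5) (.leaf 0x9230829))) (.node (.node (.leaf 0x5bec829) (.leaf 0x43e07f5)) (.node (.leaf 0x55907f5) (.leaf 0x0))))) (.node (.node (.node (.node (.leaf 0xa18)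 (.leaf 0xcd6)) (.node (.leaf 0x9a987f5) (.leaf 0x4110829))) (.node (.node (.leaf 0xbc4) (.leaf 0x51ac7f5)) (.node (.leaf 0x9f0c7f5) (.leaf 0x0)))) (.node (.node (.node (.leaf 0x9bb4829) (.leaf 0xc30c7f5)) (.node (.leaf 0x57f0829) (.leaf 0xa80c829))) (.node (.node (.leaf 0xcfd07f5) (.leaf 0x839c7f5)) (.node (.leaf 0xad98829) (.leaf 0x0))))))))))

/-- packed table -/
noncomputable def cov5_rll : BTree := (.node (.node (.node (.node (.node (.node (.node (.node (.node (.leaf 0x8ba47f5) (.leaf 0xe5747f5)) (.node (.leaf 0x866c7f5) (.leaf 0x17f4))) (.node (.node (.leaf 0x507c7f5) (.leaf 0x78d8829)) (.node (.leaf 0x1026) (.leaf 0x16fe)))) (.node (.node (.node (.leaf 0xc9407f5) (.leaf 0xdc8)) (.node (.leaf 0xf9847f5) (.leaf 0x7764829))) (.node (.node (.leaf 0x68ec829) (.leaf 0xd1c87f5)) (.node (.leaf 0xb0fc829) (.leaf 0x0))))) (.node (.node (.node (.node (.leaf 0xcb0) (.leaf 0xb784829)) (.node (.leaf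 0xb2f47f5) (.leaf 0xba607f5))) (.node (.node (.leaf 0x600c829) (.leaf 0x898c7f5)) (.node (.leaf 0xd7b07f5) (.leaf 0x9a18829)))) (.node (.node (.node (.leaf 0xc2507f5) (.leaf 0x7ba)) (.node (.leaf 0x64947f5) (.leaf 0x9ae07f5))) (.node (.node (.leaf 0xeabc7f5) (.leaf 0x7794829)) (.node (.leaf 0x55887f5) (.leaf 0x0)))))) (.node (.node (.node (.node (.node (.leaf 0x962) (.leaf 0x4be0829)) (.node (.leaf 0x50fc829) (.leaf 0x667c7f5))) (.node (.node (.leaf 0x7c2) (.leaf 0xf3707f5)) (.node (.leaf 0xb86) (.leaf 0x8d9c7f5)))) (.node (.node (.node (.leaf 0xb780829) (.leaf 0x8f307f5)) (.node (.leaf 0xf9e87f5) (.leaf 0x6d587f5))) (.node (.node (.leaf 0x8704829) (.leaf 0xb52)) (.node (.leaf 0x40f0829) (.leaf 0x0))))) (.node (.node (.node (.node (.leaf 0xcb4) (.leaf 0x4ab47f5)) (.node (.leaf 0x827c829) (.leaf 0x61987f5))) (.node (.node (.leaf 0xcc4) (.leaf 0x9644829)) (.node (.leaf 0x6ecc7f5) (.leaf 0x5d80829))))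 (.node (.node (.node (.leaf 0x5f647f5) (.leaf 0x9ab87f5)) (.node (.leaf 0x5708829) (.leaf 0xc50c7f5))) (.node (.node (.leaf 0x4f687f5) (.leaf 0xb2687f5)) (.node (.leaf 0x5bec7f5) (.leaf 0x0))))))) (.node (.node (.node (.node (.node (.node (.leaf 0xe21c7f5) (.leaf 0x8ae8829)) (.node (.leaf 0xb104829) (.leaf 0x59e07f5))) (.node (.node (.leaf 0xb74c7f5) (.leaf 0x85c07f5)) (.node (.leaf 0x66507f5) (.leaf 0x892)))) (.node (.node (.node (.leaf 0xa4e8829) (.leaf 0x952)) (.node (.leaf 0x8144829) (.leaf 0x9a30829))) (.node (.node (.leaf 0xa930829) (.leaf 0x14b4)) (.node (.leaf 0xb14) (.leaf 0x0))))) (.node (.node (.node (.node (.leaf 0xf1c07f5) (.leaf 0xb90)) (.node (.leaf 0xde4c7f5) (.leaf 0x5d807f5))) (.node (.node (.leaf 0x838c829) (.leaf 0x1b98)) (.node (.leaf 0xa96) (.leaf 0xe30)))) (.node (.node (.node (.leaf 0x865c829) (.leaf 0x490c829)) (.node (.leaf 0x111c) (.leaf 0xa1b4829))) (.node (.node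 (.leaf 0x6d94829) (.leaf 0xecf07f5)) (.node (.leaf 0xc7a07f5) (.leaf 0x0)))))) (.node (.node (.node (.node (.node (.leaf 0x525c829) (.leaf 0x6170829)) (.node (.leaf 0x6c547f5) (.leaf 0x63ac7f5))) (.node (.node (.leaf 0xc60) (.leaf 0x81e)) (.node (.leaf 0xaf0) (.leaf 0xa878829)))) (.node (.node (.node (.leaf 0xd8747f5) (.leaf 0x5da8829)) (.node (.leaf 0xc82) (.leaf 0x14ac))) (.node (.node (.leaf 0xf8fc7f5) (.leaf 0x9a607f5)) (.node (.leaf 0x7884829) (.leaf 0x0))))) (.node (.node (.node (.node (.leaf 0x68e0829) (.leaf 0x6fd8829)) (.node (.leaf 0xd9d07f5) (.leaf 0xa1887f5))) (.node (.node (.leaf 0xb0a8829) (.leaf 0x9d847f5)) (.node (.leaf 0xcf6) (.leaf 0x0)))) (.node (.node (.node (.leaf 0x93347f5) (.leaf 0xa6c)) (.node (.leaf 0x6de47f5) (.leaf 0x6f587f5))) (.node (.node (.leaf 0x6af0829) (.leaf 0x56a07f5)) (.node (.leaf 0xa4087f5) (.leaf 0x0)))))))) (.node (.node (.node (.node (.node (.node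 (.node (.leaf 0x91cc7f5) (.leaf 0xe0287f5)) (.node (.leaf 0xa2dc829) (.leaf 0x661c7f5))) (.node (.node (.leaf 0x484c829) (.leaf 0x4ed87f5)) (.node (.leaf 0x4740829) (.leaf 0x8a187f5)))) (.node (.node (.node (.leaf 0x972) (.leaf 0x5590829)) (.node (.leaf 0xe44) (.leaf 0x6218829))) (.node (.node (.leaf 0xb27c829) (.leaf 0x67bc829)) (.node (.leaf 0x858) (.leaf 0x0))))) (.node (.node (.node (.node (.leaf 0x823c829) (.leaf 0xaf4)) (.node (.leaf 0xece47f5) (.leaf 0xc25c7f5))) (.node (.node (.leaf 0x1454) (.leaf 0x4f24829)) (.node (.leaf 0xed6c7f5) (.leaf 0x5acc829)))) (.node (.node (.node (.leaf 0x97a0829) (.leaf 0x8a14829)) (.node (.leaf 0x4ab87f5) (.leaf 0x9ee4829))) (.node (.node (.leaf 0x8e58829) (.leaf 0x9514829)) (.node (.leaf 0xb1947f5) (.leaf 0x0)))))) (.node (.node (.node (.node (.node (.leaf 0x60547f5) (.leaf 0x9d007f5)) (.node (.leaf 0xb32c829) (.leaf 0x8d8))) (.node (.node (.leaf 0xcd0)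 (.leaf 0x975c7f5)) (.node (.leaf 0xa0a87f5) (.leaf 0x44bc7f5)))) (.node (.node (.node (.leaf 0x442c7f5) (.leaf 0xd0cc7f5)) (.node (.leaf 0xf0507f5) (.leaf 0xa1b8829))) (.node (.node (.leaf 0xc6287f5) (.leaf 0x7ab47f5)) (.node (.leaf 0x7ae87f5) (.leaf 0x0))))) (.node (.node (.node (.node (.leaf 0x67d07f5) (.leaf 0x597c7f5)) (.node (.leaf 0x93287f5) (.leaf 0xcfc))) (.node (.node (.leaf 0x8a5c7f5) (.leaf 0x4424829)) (.node (.leaf 0x92c) (.leaf 0x70047f5)))) (.node (.node (.node (.leaf 0xe64) (.leaf 0xd5c)) (.node (.leaf 0xb5dc7f5) (.leaf 0xaf607f5))) (.node (.node (.leaf 0xf4747f5) (.leaf 0x63ec7f5)) (.node (.leaf 0x95d47f5) (.leaf 0x0))))))) (.node (.node (.node (.node (.node (.node (.leaf 0x40c0829) (.leaf 0x80cc7f5)) (.node (.leaf 0xa334829) (.leaf 0xe2887f5))) (.node (.node (.leaf 0x7a90829) (.leaf 0x5a84829)) (.node (.leaf 0x6de4829) (.leaf 0xb084829)))) (.node (.node (.node (.leaf 0x79407f5)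 (.leaf 0xbaac7f5)) (.node (.leaf 0x83d87f5) (.leaf 0xc7dc7f5))) (.node (.node (.leaf 0x43007f5) (.leaf 0x658c829)) (.node (.leaf 0x6d04829) (.leaf 0x0))))) (.node (.node (.node (.node (.leaf 0x8ea4829) (.leaf 0xa6f47f5)) (.node (.leaf 0x9b2) (.leaf 0x62007f5))) (.node (.node (.leaf 0xa0a4829) (.leaf 0x4e247f5)) (.node (.leaf 0x1bfa) (.leaf 0x9ae47f5)))) (.node (.node (.node (.leaf 0xa48) (.leaf 0xb06c829)) (.node (.leaf 0x18d6) (.leaf 0xe27c7f5))) (.node (.node (.leaf 0xcd4c7f5) (.leaf 0x5ed07f5)) (.node (.leaf 0x675c829) (.leaf 0x0)))))) (.node (.node (.node (.node (.node (.leaf 0x65347f5) (.leaf 0x5a3c829)) (.node (.leaf 0xabfc7f5) (.leaf 0x61fc829))) (.node (.node (.leaf 0xf81c7f5) (.leaf 0x69b0829)) (.node (.leaf 0xd3687f5) (.leaf 0x7688829)))) (.node (.node (.node (.leaf 0x68647f5) (.leaf 0x8b407f5)) (.node (.leaf 0xb880829) (.leaf 0xc1807f5))) (.node (.node (.leaf 0xa7a87f5) (.leaf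 0x619c7f5)) (.node (.leaf 0xad8) (.leaf 0x0))))) (.node (.node (.node (.node (.leaf 0x98e47f5) (.leaf 0xb1787f5)) (.node (.leaf 0x9a947f5) (.leaf 0xad0))) (.node (.node (.leaf 0x4be87f5) (.leaf 0x49447f5)) (.node (.leaf 0xfde) (.leaf 0x0)))) (.node (.node (.node (.leaf 0x96f4829) (.leaf 0x8dd47f5)) (.node (.leaf 0xac78829) (.leaf 0x625c829))) (.node (.node (.leaf 0x9dd4829) (.leaf 0x5cac7f5)) (.node (.leaf 0xcbe) (.leaf 0x0))))))))) (.node (.node (.node (.node (.node (.node (.node (.node (.leaf 0xcb847f5) (.leaf 0x4cac829)) (.node (.leaf 0x1074) (.leaf 0x1bec))) (.node (.node (.leaf 0x9b48829) (.leaf 0x618c7f5)) (.node (.leaf 0x872c829) (.leaf 0xc3c)))) (.node (.node (.node (.leaf 0xb72) (.leaf 0x4f8c7f5)) (.node (.leaf 0x40ac829) (.leaf 0xf6847f5))) (.node (.node (.leaf 0xa6a07f5) (.leaf 0x6da4829)) (.node (.leaf 0x63fc829) (.leaf 0x0))))) (.node (.node (.node (.node (.leaf 0xaba47f5) (.leaf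 0x65b8829)) (.node (.leaf 0xf0a47f5) (.leaf 0x6ccc829))) (.node (.node (.leaf 0xa620829) (.leaf 0x4a547f5)) (.node (.leaf 0x98547f5) (.leaf 0x597c829)))) (.node (.node (.node (.leaf 0x9774829) (.leaf 0x8a3c829)) (.node (.leaf 0xf1907f5) (.leaf 0x6870829))) (.node (.node (.leaf 0xe1a) (.leaf 0xba287f5)) (.node (.leaf 0x41ec7f5) (.leaf 0x0)))))) (.node (.node (.node (.node (.node (.leaf 0x98e) (.leaf 0x58cc7f5)) (.node (.leaf 0x78007f5) (.leaf 0xadc87f5))) (.node (.node (.leaf 0xabdc829) (.leaf 0x6c947f5)) (.node (.leaf 0x171c) (.leaf 0x64287f5)))) (.node (.node (.node (.leaf 0xaa00829) (.leaf 0x1786)) (.node (.leaf 0x77fc829) (.leaf 0x7a84829))) (.node (.node (.leaf 0xa0587f5) (.leaf 0x9c4)) (.node (.leaf 0xc5047f5) (.leaf 0x0))))) (.node (.node (.node (.node (.leaf 0xc04) (.leaf 0xd00)) (.node (.leaf 0x533c829) (.leaf 0xdce))) (.node (.node (.leaf 0x75887f5) (.leaf 0xbb2)) (.node (.leaf 0xaf14829)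 (.leaf 0x60bc7f5)))) (.node (.node (.node (.leaf 0x5828829) (.leaf 0xbb28829)) (.node (.leaf 0x5c5c7f5) (.leaf 0x4ee87f5))) (.node (.node (.leaf 0xa7c) (.leaf 0x64a07f5)) (.node (.leaf 0x67ec829) (.leaf 0x0))))))) (.node (.node (.node (.node (.node (.node (.leaf 0xe3c) (.leaf 0x5c847f5)) (.node (.leaf 0x8c4) (.leaf 0x8f60829))) (.node (.node (.leaf 0x5734829) (.leaf 0xf78c7f5)) (.node (.leaf 0x41e47f5) (.leaf 0x52dc7f5)))) (.node (.node (.node (.leaf 0xa4f4829) (.leaf 0xf6807f5)) (.node (.leaf 0xbaf87f5) (.leaf 0x4cf0829))) (.node (.node (.leaf 0x82e07f5) (.leaf 0x860)) (.node (.leaf 0x55847f5) (.leaf 0x0))))) (.node (.node (.node (.node (.leaf 0xd50) (.leaf 0x7b0)) (.node (.leaf 0x48d07f5) (.leaf 0x7368829))) (.node (.node (.leaf 0xd9a) (.leaf 0xce1c7f5)) (.node (.leaf 0xd3d47f5) (.leaf 0xe5007f5)))) (.node (.node (.node (.leaf 0x13de) (.leaf 0x4914829)) (.node (.leaf 0x10d4) (.leaf 0x1320)))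 (.node (.node (.leaf 0x4e647f5) (.leaf 0x7ae)) (.node (.leaf 0x4b607f5) (.leaf 0x0)))))) (.node (.node (.node (.node (.node (.leaf 0xf3ac7f5) (.leaf 0x735c7f5)) (.node (.leaf 0xec147f5) (.leaf 0xa1a4829))) (.node (.node (.leaf 0x78187f5) (.leaf 0xa4187f5)) (.node (.leaf 0x53607f5) (.leaf 0x6864829)))) (.node (.node (.node (.leaf 0x84e4829) (.leaf 0xbad0829)) (.node (.leaf 0x48b07f5) (.leaf 0x9abc829))) (.node (.node (.leaf 0xb9087f5) (.leaf 0x16f2)) (.node (.leaf 0x7c4) (.leaf 0x0))))) (.node (.node (.node (.node (.leaf 0x7868829) (.leaf 0x50a4829)) (.node (.leaf 0x93c07f5) (.leaf 0x739c7f5))) (.node (.node (.leaf 0x66d4829) (.leaf 0x6b9c829)) (.node (.leaf 0x98647f5) (.leaf 0x0)))) (.node (.node (.node (.leaf 0x40dc7f5) (.leaf 0x8dd07f5)) (.node (.leaf 0x59fc829) (.leaf 0xa8987f5))) (.node (.node (.leaf 0x6c9c829) (.leaf 0xd8307f5)) (.node (.leaf 0xaa0) (.leaf 0x0)))))))) (.node (.node (.node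 (.node (.node (.node (.node (.leaf 0xd0e87f5) (.leaf 0x12e8)) (.node (.leaf 0xd0447f5) (.leaf 0x7358829))) (.node (.node (.leaf 0x48687f5) (.leaf 0xcea)) (.node (.leaf 0x6604829) (.leaf 0xb5247f5)))) (.node (.node (.node (.leaf 0x5fe8829) (.leaf 0x95a4829)) (.node (.leaf 0xf1507f5) (.leaf 0x5ac8829))) (.node (.node (.leaf 0xcf2) (.leaf 0xa560829)) (.node (.leaf 0xd7187f5) (.leaf 0x0))))) (.node (.node (.node (.node (.leaf 0x87c) (.leaf 0xb5e0829)) (.node (.leaf 0xdd0) (.leaf 0x968))) (.node (.node (.leaf 0x8f0) (.leaf 0x94087f5)) (.node (.leaf 0xed7c7f5) (.leaf 0xfa047f5)))) (.node (.node (.node (.leaf 0x50347f5) (.leaf 0xd18)) (.node (.leaf 0x5668829) (.leaf 0xa1787f5))) (.node (.node (.leaf 0x180c) (.leaf 0x5528829)) (.node (.leaf 0xb18c7f5) (.leaf 0x0)))))) (.node (.node (.node (.node (.node (.leaf 0xe2647f5) (.leaf 0x9cf87f5)) (.node (.leaf 0x5190829) (.leaf 0x54707f5))) (.node (.node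 (.leaf 0xb36) (.leaf 0x7054829)) (.node (.leaf 0xae687f5) (.leaf 0x7854829)))) (.node (.node (.node (.leaf 0xf4707f5) (.leaf 0xaf24829)) (.node (.leaf 0x6c80829) (.leaf 0x5d987f5))) (.node (.node (.leaf 0x89f87f5) (.leaf 0x735c829)) (.node (.leaf 0x749c7f5) (.leaf 0x0))))) (.node (.node (.node (.node (.leaf 0x6af07f5) (.leaf 0xe5a)) (.node (.leaf 0x59bc7f5) (.leaf 0xa6847f5))) (.node (.node (.leaf 0x50bc7f5) (.leaf 0xb4447f5)) (.node (.leaf 0xc4f07f5) (.leaf 0x0)))) (.node (.node (.node (.leaf 0x8cc) (.leaf 0x617c7f5)) (.node (.leaf 0xad487f5) (.leaf 0x908))) (.node (.node (.leaf 0xab707f5) (.leaf 0x71447f5)) (.node (.leaf 0x1668) (.leaf 0x0))))))) (.node (.node (.node (.node (.node (.node (.leaf 0x798) (.leaf 0x4bc8829)) (.node (.leaf 0x99a0829) (.leaf 0xc5a))) (.node (.node (.leaf 0x4470829) (.leaf 0xe58)) (.node (.leaf 0x6014829) (.leaf 0x84647f5)))) (.node (.node (.node (.leaf 0x408c7f5)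 (.leaf 0x6b2c7f5)) (.node (.leaf 0xc48c7f5) (.leaf 0x4444829))) (.node (.node (.leaf 0xcd047f5) (.leaf 0xaf44829)) (.node (.leaf 0x51bc829) (.leaf 0x0))))) (.node (.node (.node (.node (.leaf 0x82f8829) (.leaf 0x5040829)) (.node (.leaf 0x8ae) (.leaf 0xb184829))) (.node (.node (.leaf 0x65487f5) (.leaf 0x7214829)) (.node (.leaf 0x5cd4829) (.leaf 0xdd207f5)))) (.node (.node (.node (.leaf 0xad30829) (.leaf 0x66dc829)) (.node (.leaf 0xc22) (.leaf 0x84787f5))) (.node (.node (.leaf 0x5b287f5) (.leaf 0x53087f5)) (.node (.leaf 0x40c07f5) (.leaf 0x0)))))) (.node (.node (.node (.node (.node (.leaf 0xc40) (.leaf 0xb2947f5)) (.node (.leaf 0xb5cc7f5) (.leaf 0xfa407f5))) (.node (.node (.leaf 0x6e40829) (.leaf 0x49607f5)) (.node (.leaf 0xa94c7f5) (.leaf 0xb95c829)))) (.node (.node (.node (.leaf 0xc48) (.leaf 0xa0e07f5)) (.node (.leaf 0x5924829) (.leaf 0x685c829))) (.node (.node (.leaf 0x4acc7f5) (.leaf 0x1a68))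 (.node (.leaf 0xa844829) (.leaf 0x0))))) (.node (.node (.node (.node (.leaf 0x64b4829) (.leaf 0x678c7f5)) (.node (.leaf 0xda8c7f5) (.leaf 0x6fd47f5))) (.node (.node (.leaf 0x95a) (.leaf 0x4928829)) (.node (.leaf 0x8f587f5) (.leaf 0x0)))) (.node (.node (.node (.leaf 0x4a987f5) (.leaf 0x9f14829)) (.node (.leaf 0x97f47f5) (.leaf 0x1994))) (.node (.node (.leaf 0xb724829) (.leaf 0x6598829)) (.node (.leaf 0x89c8829) (.leaf 0x0))))))))))

/-- packed table -/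
noncomputable def cov5_rlr : BTree := (.node (.node (.node (.node (.node (.node (.node (.node (.node (.leaf 0xb06) (.leaf 0xa1a)) (.node (.leaf 0xc6847f5) (.leaf 0x6008829))) (.node (.node (.leaf 0xb550829) (.leaf 0x6ea8829)) (.node (.leaf 0xaf907f5) (.leaf 0xb9a)))) (.node (.node (.node (.leaf 0xc4547f5) (.leaf 0x853c829)) (.node (.leaf 0x13b0) (.leaf 0x97c0829))) (.node (.node (.leaf 0xb9187f5) (.leaf 0x8a88829)) (.node (.leaf 0x7694829) (.leaf 0x0))))) (.node (.node (.node (.node (.leaf 0x9c28829) (.leaf 0xe7487f5)) (.node (.leaf 0x6eb8829) (.leaf 0xf7a))) (.node (.node (.leaf 0x78407f5) (.leaf 0x4a787f5)) (.node (.leaf 0xda4c7f5) (.leaf 0xbab0829)))) (.node (.node (.node (.leaf 0xf72c7f5) (.leaf 0xba4)) (.node (.leaf 0x648c7f5) (.leaf 0xb558829))) (.node (.node (.leaf 0x5bd8829) (.leaf 0x88c47f5)) (.node (.leaf 0xa7707f5) (.leaf 0x0)))))) (.node (.node (.node (.node (.node (.leaf 0x15e8)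 (.leaf 0x8b007f5)) (.node (.leaf 0xf7f47f5) (.leaf 0x6c287f5))) (.node (.node (.leaf 0x8d6) (.leaf 0x97cc7f5)) (.node (.leaf 0x80b87f5) (.leaf 0xeb147f5)))) (.node (.node (.node (.leaf 0xb7a0829) (.leaf 0x90c87f5)) (.node (.leaf 0x582c7f5) (.leaf 0xc3987f5))) (.node (.node (.leaf 0xa0247f5) (.leaf 0xa92)) (.node (.leaf 0xd68) (.leaf 0x0))))) (.node (.node (.node (.node (.leaf 0xd19c7f5) (.leaf 0x712c7f5)) (.node (.leaf 0x78a07f5) (.leaf 0x97b8829))) (.node (.node (.leaf 0xb5787f5) (.leaf 0x9634829)) (.node (.leaf 0x151c) (.leaf 0x6210829)))) (.node (.node (.node (.leaf 0xc4fc7f5) (.leaf 0x94887f5)) (.node (.leaf 0xdc407f5) (.leaf 0x11de))) (.node (.node (.leaf 0x77147f5) (.leaf 0x68ec7f5)) (.node (.leaf 0x5bd87f5) (.leaf 0x0))))))) (.node (.node (.node (.node (.node (.node (.leaf 0x8a0c7f5) (.leaf 0x4aa87f5)) (.node (.leaf 0xc8187f5) (.leaf 0x51d07f5))) (.node (.node (.leaf 0xec5c7f5) (.leaf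 0x95c)) (.node (.leaf 0x6664829) (.leaf 0x6ea4829)))) (.node (.node (.node (.leaf 0xa4e0829) (.leaf 0x159e)) (.node (.leaf 0xf14c7f5) (.leaf 0x6acc829))) (.node (.node (.leaf 0x61907f5) (.leaf 0xa98)) (.node (.leaf 0xb77c7f5) (.leaf 0x0))))) (.node (.node (.node (.node (.leaf 0xc2c07f5) (.leaf 0x6d10829)) (.node (.leaf 0x9298829) (.leaf 0x4118829))) (.node (.node (.leaf 0xa7807f5) (.leaf 0xaa907f5)) (.node (.leaf 0x68d4829) (.leaf 0xa50c7f5)))) (.node (.node (.node (.leaf 0xdca) (.leaf 0x4910829)) (.node (.leaf 0x4bdc829) (.leaf 0x924))) (.node (.node (.leaf 0x7a2) (.leaf 0x48f07f5)) (.node (.leaf 0xdd607f5) (.leaf 0x0)))))) (.node (.node (.node (.node (.node (.leaf 0x62f87f5) (.leaf 0xb8c07f5)) (.node (.leaf 0x6d107f5) (.leaf 0x56a4829))) (.node (.node (.leaf 0x837c829) (.leaf 0xb4d87f5)) (.node (.leaf 0xd7687f5) (.leaf 0xc2587f5)))) (.node (.node (.node (.leaf 0x56c4829) (.leaf 0x749c829))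 (.node (.leaf 0x88a) (.leaf 0x52c0829))) (.node (.node (.leaf 0x8d98829) (.leaf 0x1b66)) (.node (.leaf 0x77e47f5) (.leaf 0x0))))) (.node (.node (.node (.node (.leaf 0xb820829) (.leaf 0x6e407f5)) (.node (.leaf 0x6dd0829) (.leaf 0x8810829))) (.node (.node (.leaf 0xc01c7f5) (.leaf 0x6b8c829)) (.node (.leaf 0x92607f5) (.leaf 0x0)))) (.node (.node (.node (.leaf 0x60647f5) (.leaf 0x507c829)) (.node (.leaf 0x73dc7f5) (.leaf 0xd82))) (.node (.node (.leaf 0x77947f5) (.leaf 0x4e94829)) (.node (.leaf 0xf00) (.leaf 0x0)))))))) (.node (.node (.node (.node (.node (.node (.node (.leaf 0xb1e07f5) (.leaf 0xe0e)) (.node (.leaf 0xd0707f5) (.leaf 0xa68))) (.node (.node (.leaf 0x115a) (.leaf 0x9ca4829)) (.node (.leaf 0x65f0829) (.leaf 0xdd2)))) (.node (.node (.node (.leaf 0xbab8829) (.leaf 0x9b7c7f5)) (.node (.leaf 0xcc0) (.leaf 0x46d47f5))) (.node (.node (.leaf 0xe3107f5) (.leaf 0xcf0)) (.node (.leaf 0x97107f5)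 (.leaf 0x0))))) (.node (.node (.node (.node (.leaf 0x8248829) (.leaf 0x63e07f5)) (.node (.leaf 0x4190829) (.leaf 0xaef87f5))) (.node (.node (.leaf 0xde2) (.leaf 0x4f28829)) (.node (.leaf 0xad787f5) (.leaf 0xa5a0829)))) (.node (.node (.node (.leaf 0x90287f5) (.leaf 0x9898829)) (.node (.leaf 0x89a4829) (.leaf 0x4f9c829))) (.node (.node (.leaf 0x98787f5) (.leaf 0x46ac829)) (.node (.leaf 0xb1987f5) (.leaf 0x0)))))) (.node (.node (.node (.node (.node (.leaf 0xb3387f5) (.leaf 0x9d047f5)) (.node (.leaf 0xb9a07f5) (.leaf 0xd4847f5))) (.node (.node (.leaf 0xabe0829) (.leaf 0xf7bc7f5)) (.node (.leaf 0xac447f5) (.leaf 0xc2907f5)))) (.node (.node (.node (.leaf 0xb1b87f5) (.leaf 0xd84)) (.node (.leaf 0x7870829) (.leaf 0xa9387f5))) (.node (.node (.leaf 0xcb587f5) (.leaf 0xae1c829)) (.node (.leaf 0xf3a07f5) (.leaf 0x0))))) (.node (.node (.node (.node (.leaf 0xc7c47f5) (.leaf 0x902c829)) (.node (.leaf 0xd9b47f5)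 (.leaf 0xd1e07f5))) (.node (.node (.leaf 0x798c829) (.leaf 0x94187f5)) (.node (.leaf 0x8eb0829) (.leaf 0x0)))) (.node (.node (.node (.leaf 0xa44) (.leaf 0xa7207f5)) (.node (.leaf 0xf9207f5) (.leaf 0x6e60829))) (.node (.node (.leaf 0x6494829) (.leaf 0xe60)) (.node (.leaf 0x95e87f5) (.leaf 0x0))))))) (.node (.node (.node (.node (.node (.node (.leaf 0x78a) (.leaf 0xfb0c7f5)) (.node (.leaf 0xe7247f5) (.leaf 0x7b4))) (.node (.node (.leaf 0xf36c7f5) (.leaf 0xb20)) (.node (.leaf 0x769c829) (.leaf 0xc44c7f5)))) (.node (.node (.node (.leaf 0xf9487f5) (.leaf 0x4f287f5)) (.node (.leaf 0xb9dc7f5) (.leaf 0x42a0829))) (.node (.node (.leaf 0xc2f47f5) (.leaf 0x1a5a)) (.node (.leaf 0xbd0) (.leaf 0x0))))) (.node (.node (.node (.node (.leaf 0x4304829) (.leaf 0x505c829)) (.node (.leaf 0x7478829) (.leaf 0x881c829))) (.node (.node (.leaf 0xa098829) (.leaf 0x6d14829)) (.node (.leaf 0xd48) (.leaf 0x9d487f5)))) (.node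 (.node (.node (.leaf 0x16ce) (.leaf 0xc2c)) (.node (.leaf 0x87e4829) (.leaf 0xc4847f5))) (.node (.node (.leaf 0xe8307f5) (.leaf 0xd3a)) (.node (.leaf 0xb2c4829) (.leaf 0x0)))))) (.node (.node (.node (.node (.node (.leaf 0xf3bc7f5) (.leaf 0xa1d0829)) (.node (.leaf 0xae547f5) (.leaf 0x48fc7f5))) (.node (.node (.leaf 0x54007f5) (.leaf 0x8ce0829)) (.node (.leaf 0x99c) (.leaf 0x54e07f5)))) (.node (.node (.node (.leaf 0xe02) (.leaf 0x9fc)) (.node (.leaf 0x74c0829) (.leaf 0x42ac829))) (.node (.node (.leaf 0x6c8c829) (.leaf 0x86a0829)) (.node (.leaf 0x5b447f5) (.leaf 0x0))))) (.node (.node (.node (.node (.leaf 0x750c7f5) (.leaf 0xe2607f5)) (.node (.leaf 0x93d8829) (.leaf 0x56b0829))) (.node (.node (.leaf 0xf7e) (.leaf 0x8930829)) (.node (.leaf 0x9f087f5) (.leaf 0x0)))) (.node (.node (.node (.leaf 0x56cc829) (.leaf 0x1058)) (.node (.leaf 0x4468829) (.leaf 0x6b0c7f5))) (.node (.node (.leaf 0xcff47f5)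 (.leaf 0xb6e)) (.node (.leaf 0xd0dc7f5) (.leaf 0x0))))))))) (.node (.node (.node (.node (.node (.node (.node (.node (.leaf 0xc34) (.leaf 0x4cb8829)) (.node (.leaf 0x1806) (.leaf 0xa63c7f5))) (.node (.node (.leaf 0xc08) (.leaf 0x4eac7f5)) (.node (.leaf 0xef987f5) (.leaf 0x4a447f5)))) (.node (.node (.node (.leaf 0xab58829) (.leaf 0xd7d87f5)) (.node (.leaf 0xa3c07f5) (.leaf 0x6e98829))) (.node (.node (.leaf 0xe6407f5) (.leaf 0x771c829)) (.node (.leaf 0x57087f5) (.leaf 0x0))))) (.node (.node (.node (.node (.leaf 0x4230829) (.leaf 0x70547f5)) (.node (.leaf 0xa8f47f5) (.leaf 0x410c829))) (.node (.node (.leaf 0xf83c7f5) (.leaf 0x9ab4829)) (.node (.leaf 0x86c8829) (.leaf 0xb60c829)))) (.node (.node (.node (.leaf 0x9790829) (.leaf 0x67107f5)) (.node (.leaf 0x51187f5) (.leaf 0x82b4829))) (.node (.node (.leaf 0xd66) (.leaf 0x97ac829)) (.node (.leaf 0x9c787f5) (.leaf 0x0)))))) (.node (.node (.node (.node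 (.node (.leaf 0xb3347f5) (.leaf 0x98c07f5)) (.node (.leaf 0x798c7f5) (.leaf 0x800))) (.node (.node (.leaf 0xabc4829) (.leaf 0x8f847f5)) (.node (.leaf 0x9f8c829) (.leaf 0x59c0829)))) (.node (.node (.node (.leaf 0x7e2) (.leaf 0x12c0)) (.node (.leaf 0x917c7f5) (.leaf 0xc5387f5))) (.node (.node (.leaf 0x47547f5) (.leaf 0x9b30829)) (.node (.leaf 0xcadc7f5) (.leaf 0x0))))) (.node (.node (.node (.node (.leaf 0x8a8c7f5) (.leaf 0x42007f5)) (.node (.leaf 0x5338829) (.leaf 0x6e00829))) (.node (.node (.leaf 0x8f94829) (.leaf 0xd8387f5)) (.node (.leaf 0x50b47f5) (.leaf 0xeff07f5)))) (.node (.node (.node (.leaf 0xf61c7f5) (.leaf 0xaa08829)) (.node (.leaf 0x1518) (.leaf 0x7980829))) (.node (.node (.leaf 0xe0847f5) (.leaf 0xb088829)) (.node (.leaf 0xb874829) (.leaf 0x0))))))) (.node (.node (.node (.node (.node (.node (.leaf 0x8a0) (.leaf 0xc6e47f5)) (.node (.leaf 0xc7a) (.leaf 0xec487f5))) (.node (.node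 (.leaf 0xb42c7f5) (.leaf 0x4b04829)) (.node (.leaf 0xb1c) (.leaf 0xb288829)))) (.node (.node (.node (.leaf 0xc32) (.leaf 0x9a0)) (.node (.leaf 0xbaf07f5) (.leaf 0xc7d07f5))) (.node (.node (.leaf 0x82d47f5) (.leaf 0x9134829)) (.node (.leaf 0xb8dc829) (.leaf 0x0))))) (.node (.node (.node (.node (.leaf 0x42a07f5) (.leaf 0xe29c7f5)) (.node (.leaf 0x912) (.leaf 0x62187f5))) (.node (.node (.leaf 0x1a94) (.leaf 0x8318829)) (.node (.leaf 0x5d0c7f5) (.leaf 0xd62)))) (.node (.node (.node (.leaf 0xc69c7f5) (.leaf 0xb60)) (.node (.leaf 0x6d58829) (.leaf 0xa124829))) (.node (.node (.leaf 0x9b78829) (.leaf 0x52bc829)) (.node (.leaf 0x6744829) (.leaf 0x0)))))) (.node (.node (.node (.node (.node (.leaf 0x4b107f5) (.leaf 0x675c7f5)) (.node (.leaf 0x868) (.leaf 0x49147f5))) (.node (.node (.leaf 0xa8a) (.leaf 0xadbc7f5)) (.node (.leaf 0xb7d4829) (.leaf 0x5e88829)))) (.node (.node (.node (.leaf 0x68747f5) (.leaf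 0xa9fc829)) (.node (.leaf 0xa1f4829) (.leaf 0x63ec829))) (.node (.node (.leaf 0xb8ec7f5) (.leaf 0xe8f87f5)) (.node (.leaf 0xaf20829) (.leaf 0x0))))) (.node (.node (.node (.node (.leaf 0x6974829) (.leaf 0x87c87f5)) (.node (.leaf 0x8e9c829) (.leaf 0xaa8))) (.node (.node (.leaf 0xa20) (.leaf 0xe7c)) (.node (.leaf 0x49047f5) (.leaf 0x0)))) (.node (.node (.node (.leaf 0x68fc7f5) (.leaf 0x1680)) (.node (.leaf 0xc4ac7f5) (.leaf 0xc6207f5))) (.node (.node (.leaf 0xd04) (.leaf 0x9fec829)) (.node (.leaf 0x6fcc7f5) (.leaf 0x0)))))))) (.node (.node (.node (.node (.node (.node (.node (.leaf 0x71407f5) (.leaf 0x7a847f5)) (.node (.leaf 0xd0507f5) (.leaf 0x99f47f5))) (.node (.node (.leaf 0xee3c7f5) (.leaf 0x15fa)) (.node (.leaf 0xa618829) (.leaf 0x42647f5)))) (.node (.node (.node (.leaf 0xa4ec829) (.leaf 0x9600829)) (.node (.leaf 0xf1587f5) (.leaf 0xb420829))) (.node (.node (.leaf 0xc4a87f5) (.leaf 0xc12))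 (.node (.leaf 0x9a6) (.leaf 0x0))))) (.node (.node (.node (.node (.leaf 0x5308829) (.leaf 0x76a47f5)) (.node (.leaf 0xecd07f5) (.leaf 0xf62))) (.node (.node (.leaf 0x6bf0829) (.leaf 0xea987f5)) (.node (.leaf 0x60d8829) (.leaf 0xa0787f5)))) (.node (.node (.node (.leaf 0xce6) (.leaf 0xd08)) (.node (.leaf 0xe0907f5) (.leaf 0xf4147f5))) (.node (.node (.leaf 0xb78) (.leaf 0x62a4829)) (.node (.leaf 0xcf3c7f5) (.leaf 0x0)))))) (.node (.node (.node (.node (.node (.leaf 0xa1d87f5) (.leaf 0x9a4)) (.node (.leaf 0xc51c7f5) (.leaf 0x125a))) (.node (.node (.leaf 0x44b47f5) (.leaf 0xb3a)) (.node (.leaf 0xe8b07f5) (.leaf 0xc0507f5)))) (.node (.node (.node (.leaf 0xd6ec7f5) (.leaf 0xb9cc829)) (.node (.leaf 0xf1307f5) (.leaf 0x8b087f5))) (.node (.node (.leaf 0xd1ec7f5) (.leaf 0x70e4829)) (.node (.leaf 0xafe47f5) (.leaf 0x0))))) (.node (.node (.node (.node (.leaf 0xeaf87f5) (.leaf 0x99687f5)) (.node (.leaf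 0x99c87f5) (.leaf 0xae9c829))) (.node (.node (.leaf 0x5da0829) (.leaf 0xb4387f5)) (.node (.leaf 0xa4587f5) (.leaf 0x0)))) (.node (.node (.node (.leaf 0x4e907f5) (.leaf 0xbe0)) (.node (.leaf 0x523c7f5) (.leaf 0xf62c7f5))) (.node (.node (.leaf 0xb7c) (.leaf 0x56bc7f5)) (.node (.leaf 0xb4a47f5) (.leaf 0x0))))))) (.node (.node (.node (.node (.node (.node (.leaf 0x86c) (.leaf 0x8bc4829)) (.node (.leaf 0xb7ec7f5) (.leaf 0x6c9c7f5))) (.node (.node (.leaf 0xf3947f5) (.leaf 0x4bf8829)) (.node (.leaf 0xe6b07f5) (.leaf 0xcdac7f5)))) (.node (.node (.node (.leaf 0xa9d0829) (.leaf 0x6e907f5)) (.node (.leaf 0xc1f87f5) (.leaf 0x8ea07f5))) (.node (.node (.leaf 0x7804829) (.leaf 0x789c7f5)) (.node (.leaf 0xe1407f5) (.leaf 0x0))))) (.node (.node (.node (.node (.leaf 0x82e8829) (.leaf 0x5c74829)) (.node (.leaf 0xfa387f5) (.leaf 0x46a4829))) (.node (.node (.leaf 0xec387f5) (.leaf 0x835c7f5)) (.node (.leaf 0x9f8)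 (.leaf 0x619c829)))) (.node (.node (.node (.leaf 0xb4587f5) (.leaf 0x66f8829)) (.node (.leaf 0x69287f5) (.leaf 0xc4f47f5))) (.node (.node (.leaf 0xb7287f5) (.leaf 0xb2607f5)) (.node (.leaf 0x6eb07f5) (.leaf 0x0)))))) (.node (.node (.node (.node (.node (.leaf 0x6cb8829) (.leaf 0x52f87f5)) (.node (.leaf 0x70d47f5) (.leaf 0x42a4829))) (.node (.node (.leaf 0x841c7f5) (.leaf 0x49687f5)) (.node (.leaf 0x6054829) (.leaf 0x71487f5)))) (.node (.node (.node (.leaf 0xad90829) (.leaf 0x986c829)) (.node (.leaf 0xd6987f5) (.leaf 0x85587f5))) (.node (.node (.leaf 0x420c829) (.leaf 0xbadc829)) (.node (.leaf 0x6840829) (.leaf 0x0))))) (.node (.node (.node (.node (.leaf 0xf2f07f5) (.leaf 0x7530829)) (.node (.leaf 0x9a7c7f5) (.leaf 0x67847f5))) (.node (.node (.leaf 0xb9b87f5) (.leaf 0xba8)) (.node (.leaf 0x8dfc829) (.leaf 0x0)))) (.node (.node (.node (.leaf 0x5d887f5) (.leaf 0xbd4)) (.node (.leaf 0x57ec829)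 (.leaf 0xbb24829))) (.node (.node (.leaf 0x81dc829) (.leaf 0xb748829)) (.node (.leaf 0xc16c7f5) (.leaf 0x0))))))))))

/-- packed table -/
noncomputable def cov5_rrl : BTree := (.node (.node (.node (.node (.node (.node (.node (.node (.node (.leaf 0x940) (.leaf 0xe1e)) (.node (.leaf 0x6370829) (.leaf 0x175c))) (.node (.node (.leaf 0xb1b4829) (.leaf 0x76907f5)) (.node (.leaf 0x97f87f5) (.leaf 0xc99c7f5)))) (.node (.node (.node (.leaf 0x81847f5) (.leaf 0x8550829)) (.node (.leaf 0x408c829) (.leaf 0x51707f5))) (.node (.node (.leaf 0xa3407f5) (.leaf 0x91a87f5)) (.node (.leaf 0xc4747f5) (.leaf 0x0))))) (.node (.node (.node (.node (.leaf 0xcd4) (.leaf 0x7144829)) (.node (.leaf 0x5034829) (.leaf 0xdfe47f5))) (.node (.node (.leaf 0x45d4829) (.leaf 0xab8)) (.node (.leaf 0xacc47f5) (.leaf 0x6e107f5)))) (.node (.node (.node (.leaf 0xae7c7f5) (.leaf 0x82747f5)) (.node (.leaf 0xe4747f5) (.leaf 0x47407f5)))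 (.node (.node (.leaf 0xeaac7f5) (.leaf 0xba247f5)) (.node (.leaf 0xdcb07f5) (.leaf 0x0)))))) (.node (.node (.node (.node (.node (.leaf 0x7be) (.leaf 0x98c87f5)) (.node (.leaf 0x9100829) (.leaf 0xe2f07f5))) (.node (.node (.leaf 0x976) (.leaf 0xed347f5)) (.node (.leaf 0x66ac7f5) (.leaf 0xa9c47f5)))) (.node (.node (.node (.leaf 0xb9d4829) (.leaf 0x77f0829)) (.node (.leaf 0x67f0829) (.leaf 0x1414))) (.node (.node (.leaf 0x9f2) (.leaf 0xf8a87f5)) (.node (.leaf 0xce2) (.leaf 0x0))))) (.node (.node (.node (.node (.leaf 0xaac4829) (.leaf 0xc2887f5)) (.node (.leaf 0x4268829) (.leaf 0x167e))) (.node (.node (.leaf 0xca6) (.leaf 0xa38)) (.node (.leaf 0x9b04829) (.leaf 0xa270829)))) (.node (.node (.node (.leaf 0xb6247f5) (.leaf 0xb2c8829)) (.node (.leaf 0xb8a) (.leaf 0xc5dc7f5))) (.node (.node (.leaf 0x771c7f5) (.leaf 0x5fc4829)) (.node (.leaf 0x67d8829) (.leaf 0x0))))))) (.node (.node (.node (.node (.node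 (.node (.leaf 0x17c4) (.leaf 0x1468)) (.node (.leaf 0x82c) (.leaf 0x92147f5))) (.node (.node (.leaf 0x84307f5) (.leaf 0x92547f5)) (.node (.leaf 0x6650829) (.leaf 0x85c4829)))) (.node (.node (.node (.leaf 0xa4dc829) (.leaf 0x1ade)) (.node (.leaf 0x88b87f5) (.leaf 0x5b28829))) (.node (.node (.leaf 0x46d4829) (.leaf 0x9dc)) (.node (.leaf 0x672c7f5) (.leaf 0x0))))) (.node (.node (.node (.node (.leaf 0x931c829) (.leaf 0x94a)) (.node (.leaf 0xc5107f5) (.leaf 0x81cc829))) (.node (.node (.leaf 0x5f28829) (.leaf 0x8438829)) (.node (.leaf 0xa8cc829) (.leaf 0x58cc829)))) (.node (.node (.node (.leaf 0x50247f5) (.leaf 0x48fc829)) (.node (.leaf 0xa4ac7f5) (.leaf 0x914))) (.node (.node (.leaf 0xf0d87f5) (.leaf 0xf16)) (.node (.leaf 0xcc887f5) (.leaf 0x0)))))) (.node (.node (.node (.node (.node (.leaf 0x9258829) (.leaf 0x91e)) (.node (.leaf 0x956c7f5) (.leaf 0x45f0829))) (.node (.node (.leaf 0x5fdc829) (.leaf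 0xb4cc7f5)) (.node (.leaf 0x56c8829) (.leaf 0x174a)))) (.node (.node (.node (.leaf 0xef347f5) (.leaf 0xbf0)) (.node (.leaf 0xdde47f5) (.leaf 0x8808829))) (.node (.node (.leaf 0x78f07f5) (.leaf 0x66b4829)) (.node (.leaf 0x7d2) (.leaf 0x0))))) (.node (.node (.node (.node (.leaf 0x51c07f5) (.leaf 0x96647f5)) (.node (.leaf 0x93a87f5) (.leaf 0x628c829))) (.node (.node (.leaf 0x80307f5) (.leaf 0x1aca)) (.node (.leaf 0x55947f5) (.leaf 0x0)))) (.node (.node (.node (.leaf 0xe89c7f5) (.leaf 0x187a)) (.node (.leaf 0x67607f5) (.leaf 0x8a00829))) (.node (.node (.leaf 0xdf6) (.leaf 0x7148829)) (.node (.leaf 0x6c8c7f5) (.leaf 0x0)))))))) (.node (.node (.node (.node (.node (.node (.node (.leaf 0x78547f5) (.leaf 0xfa7c7f5)) (.node (.leaf 0xa2d8829) (.leaf 0xa2307f5))) (.node (.node (.leaf 0xa78) (.leaf 0x48b0829)) (.node (.leaf 0xd5d07f5) (.leaf 0x75187f5)))) (.node (.node (.node (.leaf 0xafc4829) (.leaf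 0xdb547f5)) (.node (.leaf 0xcf787f5) (.leaf 0x86fc7f5))) (.node (.node (.leaf 0xef407f5) (.leaf 0x4dcc829)) (.node (.leaf 0x6a84829) (.leaf 0x0))))) (.node (.node (.node (.node (.leaf 0x6c2c7f5) (.leaf 0xb05c7f5)) (.node (.leaf 0x6ccc7f5) (.leaf 0xaf087f5))) (.node (.node (.leaf 0x52c47f5) (.leaf 0x81f47f5)) (.node (.leaf 0xa0b0829) (.leaf 0xa1c47f5)))) (.node (.node (.node (.leaf 0xf6b47f5) (.leaf 0xd89c7f5)) (.node (.leaf 0x6b1c829) (.leaf 0x496c829))) (.node (.node (.leaf 0x4e50829) (.leaf 0x9fcc829)) (.node (.leaf 0xb228829) (.leaf 0x0)))))) (.node (.node (.node (.node (.node (.leaf 0x934) (.leaf 0xd26)) (.node (.leaf 0x6cd4829) (.leaf 0x85f8829))) (.node (.node (.leaf 0xd8e) (.leaf 0x6fd4829)) (.node (.leaf 0x79287f5) (.leaf 0xf6307f5)))) (.node (.node (.node (.leaf 0xaf387f5) (.leaf 0x6554829)) (.node (.leaf 0x6ebc829) (.leaf 0xac347f5))) (.node (.node (.leaf 0x9b8c829) (.leaf 0xdfb87f5))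 (.node (.leaf 0x9d64829) (.leaf 0x0))))) (.node (.node (.node (.node (.leaf 0x6190829) (.leaf 0x5018829)) (.node (.leaf 0x533c7f5) (.leaf 0x88bc7f5))) (.node (.node (.leaf 0x7814829) (.leaf 0xa6947f5)) (.node (.leaf 0x411c829) (.leaf 0x0)))) (.node (.node (.node (.leaf 0xe78) (.leaf 0xb70)) (.node (.leaf 0x8f8) (.leaf 0x4984829))) (.node (.node (.leaf 0x74787f5) (.leaf 0xb1c47f5)) (.node (.leaf 0xd5c47f5) (.leaf 0x0))))))) (.node (.node (.node (.node (.node (.node (.leaf 0x40d0829) (.leaf 0xc5f47f5)) (.node (.leaf 0xa330829) (.leaf 0xa3007f5))) (.node (.node (.leaf 0x6ed47f5) (.leaf 0x41e87f5)) (.node (.leaf 0x7f2) (.leaf 0x44687f5)))) (.node (.node (.node (.leaf 0x1698) (.leaf 0x6ea47f5)) (.node (.leaf 0xbb047f5) (.leaf 0x40fc829))) (.node (.node (.leaf 0xc2d87f5) (.leaf 0xcde)) (.node (.leaf 0x6404829) (.leaf 0x0))))) (.node (.node (.node (.node (.leaf 0x42ac7f5) (.leaf 0x190c)) (.node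 (.leaf 0x7278829) (.leaf 0x9148829))) (.node (.node (.leaf 0x106e) (.leaf 0xa32)) (.node (.leaf 0xb44) (.leaf 0x9d307f5)))) (.node (.node (.node (.leaf 0xa4447f5) (.leaf 0xd9087f5)) (.node (.leaf 0x1768) (.leaf 0xc49c7f5))) (.node (.node (.leaf 0xa82c7f5) (.leaf 0x14c8)) (.node (.leaf 0x6eac7f5) (.leaf 0x0)))))) (.node (.node (.node (.node (.node (.leaf 0x73c87f5) (.leaf 0xf28c7f5)) (.node (.leaf 0x5d0c829) (.leaf 0xba307f5))) (.node (.node (.leaf 0x9afc7f5) (.leaf 0x63fc7f5)) (.node (.leaf 0x93587f5) (.leaf 0x54d87f5)))) (.node (.node (.node (.leaf 0x8610829) (.leaf 0xe0dc7f5)) (.node (.leaf 0x5f587f5) (.leaf 0x46a8829))) (.node (.node (.leaf 0x1b92) (.leaf 0x935c829)) (.node (.leaf 0x4a10829) (.leaf 0x0))))) (.node (.node (.node (.node (.leaf 0x880) (.leaf 0x71747f5)) (.node (.leaf 0x5a847f5) (.leaf 0xba1c829))) (.node (.node (.leaf 0xc9d87f5) (.leaf 0x493c829)) (.node (.leaf 0x9efc7f5)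 (.leaf 0x0)))) (.node (.node (.node (.leaf 0x96e8829) (.leaf 0x43247f5)) (.node (.leaf 0x5b44829) (.leaf 0xa8147f5))) (.node (.node (.leaf 0xa764829) (.leaf 0xc28)) (.node (.leaf 0x6f307f5) (.leaf 0x0))))))))) (.node (.node (.node (.node (.node (.node (.node (.node (.leaf 0x8b787f5) (.leaf 0x8cb0829)) (.node (.leaf 0x46687f5) (.leaf 0xe6447f5))) (.node (.node (.leaf 0xd0847f5) (.leaf 0x5de0829)) (.node (.leaf 0xb26) (.leaf 0xca287f5)))) (.node (.node (.node (.leaf 0xb24) (.leaf 0xf6407f5)) (.node (.leaf 0xe56c7f5) (.leaf 0x76a4829))) (.node (.node (.leaf 0xf29c7f5) (.leaf 0x1510)) (.node (.leaf 0x4d0c829) (.leaf 0x0))))) (.node (.node (.node (.node (.leaf 0x4228829) (.leaf 0xccc)) (.node (.leaf 0xb0987f5) (.leaf 0x63f8829))) (.node (.node (.leaf 0x661c829) (.leaf 0xca707f5)) (.node (.leaf 0xecbc7f5) (.leaf 0xe1a07f5)))) (.node (.node (.node (.leaf 0x9788829) (.leaf 0x8a38829)) (.node (.leaf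 0xd7a) (.leaf 0xb6e0829))) (.node (.node (.leaf 0xeab47f5) (.leaf 0x81b0829)) (.node (.leaf 0xa8007f5) (.leaf 0x0)))))) (.node (.node (.node (.node (.node (.leaf 0x733c7f5) (.leaf 0x98d07f5)) (.node (.leaf 0xb9a47f5) (.leaf 0x1248))) (.node (.node (.leaf 0xabd07f5) (.leaf 0xb4947f5)) (.node (.leaf 0x71a87f5) (.leaf 0xc4e87f5)))) (.node (.node (.node (.leaf 0xc4e) (.leaf 0x6530829)) (.node (.leaf 0x40d47f5) (.leaf 0x7800829))) (.node (.node (.leaf 0xa3287f5) (.leaf 0xa6b8829)) (.node (.leaf 0xbae07f5) (.leaf 0x0))))) (.node (.node (.node (.node (.leaf 0x67f47f5) (.leaf 0xd2947f5)) (.node (.leaf 0x53407f5) (.leaf 0x41407f5))) (.node (.node (.leaf 0x5fc47f5) (.leaf 0xa72)) (.node (.leaf 0x5dc47f5) (.leaf 0x4cfc829)))) (.node (.node (.node (.leaf 0x41f07f5) (.leaf 0xb02)) (.node (.leaf 0xdc3c7f5) (.leaf 0xb114829))) (.node (.node (.leaf 0xf4847f5) (.leaf 0x8de4829)) (.node (.leaf 0x55c07f5) (.leaf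 0x0))))))) (.node (.node (.node (.node (.node (.node (.leaf 0x9b6) (.leaf 0xbb147f5)) (.node (.leaf 0xc8007f5) (.leaf 0xf0287f5))) (.node (.node (.leaf 0xad747f5) (.leaf 0x8d2)) (.node (.leaf 0x66707f5) (.leaf 0x8b64829)))) (.node (.node (.node (.leaf 0xa4f0829) (.leaf 0x43e0829)) (.node (.leaf 0x8a2c7f5) (.leaf 0x87ec7f5))) (.node (.node (.leaf 0x130e) (.leaf 0x9fc0829)) (.node (.leaf 0x132e) (.leaf 0x0))))) (.node (.node (.node (.node (.leaf 0xa12) (.leaf 0xc07c7f5)) (.node (.leaf 0x92a4829) (.leaf 0xe2287f5))) (.node (.node (.leaf 0xc92) (.leaf 0x8330829)) (.node (.leaf 0xc6e) (.leaf 0x6570829)))) (.node (.node (.node (.leaf 0x13e8) (.leaf 0xbd8)) (.node (.leaf 0x7134829) (.leaf 0x88a47f5))) (.node (.node (.leaf 0xd9c) (.leaf 0xa2e)) (.node (.leaf 0xa5fc7f5) (.leaf 0x0)))))) (.node (.node (.node (.node (.node (.leaf 0xc9347f5) (.leaf 0x9ec47f5)) (.node (.leaf 0xb8c) (.leaf 0x700c7f5)))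 (.node (.node (.leaf 0xc17c7f5) (.leaf 0xac8)) (.node (.leaf 0x90ec7f5) (.leaf 0xcc307f5)))) (.node (.node (.node (.leaf 0xe8807f5) (.leaf 0xa5a87f5)) (.node (.leaf 0x5ddc7f5) (.leaf 0x768c829))) (.node (.node (.leaf 0x8d90829) (.leaf 0xdfbc7f5)) (.node (.leaf 0x9b3c7f5) (.leaf 0x0))))) (.node (.node (.node (.node (.leaf 0x47b87f5) (.leaf 0xa08)) (.node (.leaf 0x539c7f5) (.leaf 0xa298829))) (.node (.node (.leaf 0xc0107f5) (.leaf 0x6b987f5)) (.node (.leaf 0x47647f5) (.leaf 0x0)))) (.node (.node (.node (.leaf 0x5fa47f5) (.leaf 0xc7807f5)) (.node (.leaf 0x7a207f5) (.leaf 0xa9607f5))) (.node (.node (.leaf 0xb07c829) (.leaf 0x4dc8829)) (.node (.leaf 0xc6087f5) (.leaf 0x0)))))))) (.node (.node (.node (.node (.node (.node (.node (.leaf 0xf8987f5) (.leaf 0x4960829)) (.node (.leaf 0x50787f5) (.leaf 0x59d87f5))) (.node (.node (.leaf 0x484c7f5) (.leaf 0xb7e8829)) (.node (.leaf 0x4aa47f5) (.leaf 0xa9c))))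 (.node (.node (.node (.leaf 0x78d87f5) (.leaf 0x961c7f5)) (.node (.leaf 0x8138829) (.leaf 0x9b40829))) (.node (.node (.leaf 0xf6707f5) (.leaf 0x8e88829)) (.node (.leaf 0x95e47f5) (.leaf 0x0))))) (.node (.node (.node (.node (.leaf 0x5300829) (.leaf 0xd2ac7f5)) (.node (.leaf 0xac207f5) (.leaf 0x820))) (.node (.node (.leaf 0xaa107f5) (.leaf 0xa50)) (.node (.leaf 0xac247f5) (.leaf 0xa0507f5)))) (.node (.node (.node (.leaf 0x4668829) (.leaf 0x98947f5)) (.node (.leaf 0x9680829) (.leaf 0x85e87f5))) (.node (.node (.leaf 0xb1f47f5) (.leaf 0xf1b07f5)) (.node (.leaf 0xe2407f5) (.leaf 0x0)))))) (.node (.node (.node (.node (.node (.leaf 0x9278829) (.leaf 0x984)) (.node (.leaf 0xb38c7f5) (.leaf 0x63b07f5))) (.node (.node (.leaf 0x996) (.leaf 0x991c829)) (.node (.leaf 0x7824829) (.leaf 0x7714829)))) (.node (.node (.node (.leaf 0xc9547f5) (.leaf 0xb7dc829)) (.node (.leaf 0x62b0829) (.leaf 0xcb347f5))) (.node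 (.node (.leaf 0xcf707f5) (.leaf 0x8de0829)) (.node (.leaf 0x4964829) (.leaf 0x0))))) (.node (.node (.node (.node (.leaf 0x80bc7f5) (.leaf 0xe3547f5)) (.node (.leaf 0x99a87f5) (.leaf 0xb57c829))) (.node (.node (.leaf 0x73187f5) (.leaf 0xb4347f5)) (.node (.leaf 0xd8507f5) (.leaf 0x0)))) (.node (.node (.node (.leaf 0xab3c7f5) (.leaf 0xb4007f5)) (.node (.leaf 0xba8c7f5) (.leaf 0x8978829))) (.node (.node (.leaf 0x73c4829) (.leaf 0x56c87f5)) (.node (.leaf 0x66147f5) (.leaf 0x0))))))) (.node (.node (.node (.node (.node (.node (.leaf 0xf24) (.leaf 0x4bd4829)) (.node (.leaf 0x5118829) (.leaf 0x6ca47f5))) (.node (.node (.leaf 0x884) (.leaf 0xb76)) (.node (.leaf 0x553c829) (.leaf 0x4fb4829)))) (.node (.node (.node (.leaf 0xa314829) (.leaf 0x69b07f5)) (.node (.leaf 0xb9e07f5) (.leaf 0x85947f5))) (.node (.node (.leaf 0x816) (.leaf 0x5fe87f5)) (.node (.leaf 0xa1487f5) (.leaf 0x0))))) (.node (.node (.node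 (.node (.leaf 0x4cb87f5) (.leaf 0xad8c7f5)) (.node (.leaf 0x6e487f5) (.leaf 0xb8947f5))) (.node (.node (.leaf 0x608c829) (.leaf 0x834c7f5)) (.node (.leaf 0xb2907f5) (.leaf 0x508c829)))) (.node (.node (.node (.leaf 0xa5387f5) (.leaf 0xa2e47f5)) (.node (.leaf 0x87f4829) (.leaf 0xc5147f5))) (.node (.node (.leaf 0x8f04829) (.leaf 0x9f907f5)) (.node (.leaf 0x6ebc7f5) (.leaf 0x0)))))) (.node (.node (.node (.node (.node (.leaf 0x782) (.leaf 0xa8087f5)) (.node (.leaf 0x91f4829) (.leaf 0x5360829))) (.node (.node (.leaf 0xc4907f5) (.leaf 0x89907f5)) (.node (.leaf 0xa060829) (.leaf 0x83c)))) (.node (.node (.node (.leaf 0xb0ec829) (.leaf 0x9868829)) (.node (.leaf 0xe47c7f5) (.leaf 0x92007f5))) (.node (.node (.leaf 0x81d0829) (.leaf 0x5370829)) (.node (.leaf 0xda6) (.leaf 0x0))))) (.node (.node (.node (.node (.leaf 0xb0147f5) (.leaf 0xb62)) (.node (.leaf 0x5a9c7f5) (.leaf 0x62a8829))) (.node (.node (.leaf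 0x5f507f5) (.leaf 0x51bc7f5)) (.node (.leaf 0xa4c) (.leaf 0x0)))) (.node (.node (.node (.leaf 0x4e74829) (.leaf 0xc0e)) (.node (.leaf 0x173a) (.leaf 0x7690829))) (.node (.node (.leaf 0xcfcc7f5) (.leaf 0x5fd8829)) (.node (.leaf 0x65707f5) (.leaf 0x0))))))))))

/-- packed table -/
noncomputable def cov5_rrr : BTree := (.node (.node (.node (.node (.node (.node (.node (.node (.node (.leaf 0xb038829) (.leaf 0x8cc4829)) (.node (.leaf 0xa35c829) (.leaf 0x8c8c7f5))) (.node (.node (.leaf 0x508c7f5) (.leaf 0x5d707f5)) (.node (.leaf 0xde3c7f5) (.leaf 0x9518829)))) (.node (.node (.node (.leaf 0x6b2c829) (.leaf 0x8544829)) (.node (.leaf 0x51907f5) (.leaf 0xdc7c7f5))) (.node (.node (.leaf 0xb7787f5) (.leaf 0x6c747f5)) (.node (.leaf 0xc4a) (.leaf 0x0))))) (.node (.node (.node (.node (.leaf 0xb22) (.leaf 0x85d8829)) (.node (.leaf 0xf0a07f5) (.leaf 0x773c7f5))) (.node (.node (.leaf 0x4dcc7f5) (.leaf 0x4a647f5))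 (.node (.leaf 0xecc07f5) (.leaf 0x625c7f5)))) (.node (.node (.node (.leaf 0x9798829) (.leaf 0xa06)) (.node (.leaf 0x443c829) (.leaf 0x9980829))) (.node (.node (.leaf 0x9be0829) (.leaf 0x45f07f5)) (.node (.leaf 0xe5ec7f5) (.leaf 0x0)))))) (.node (.node (.node (.node (.node (.leaf 0x784) (.leaf 0x98bc7f5)) (.node (.leaf 0x4e7c7f5) (.leaf 0xadc07f5))) (.node (.node (.leaf 0xf2d47f5) (.leaf 0x8c78829)) (.node (.leaf 0x66b47f5) (.leaf 0xa1847f5)))) (.node (.node (.node (.leaf 0xa2b8829) (.leaf 0x826c7f5)) (.node (.leaf 0xd10c7f5) (.leaf 0x78687f5))) (.node (.node (.leaf 0x813c7f5) (.leaf 0xf6c87f5)) (.node (.leaf 0xbad87f5) (.leaf 0x0))))) (.node (.node (.node (.node (.leaf 0x6a9c829) (.leaf 0x9a5c7f5)) (.node (.leaf 0x62847f5) (.leaf 0x6c28829))) (.node (.node (.leaf 0x6894829) (.leaf 0x10ee)) (.node (.leaf 0x1b42) (.leaf 0x52b47f5)))) (.node (.node (.node (.leaf 0xb6207f5) (.leaf 0x7588829))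 (.node (.leaf 0x9c607f5) (.leaf 0x7e8))) (.node (.node (.leaf 0xc5b07f5) (.leaf 0x154a)) (.node (.leaf 0x89dc829) (.leaf 0x0))))))) (.node (.node (.node (.node (.node (.node (.leaf 0x5414829) (.leaf 0x85fc7f5)) (.node (.leaf 0xc8287f5) (.leaf 0x92387f5))) (.node (.node (.leaf 0x5fdc7f5) (.leaf 0x8b24829)) (.node (.leaf 0xa65c829) (.leaf 0xbde)))) (.node (.node (.node (.leaf 0xa4e4829) (.leaf 0xd60)) (.node (.leaf 0xbafc7f5) (.leaf 0xbfc))) (.node (.node (.leaf 0x6040829) (.leaf 0x1312)) (.node (.leaf 0xfa507f5) (.leaf 0x0))))) (.node (.node (.node (.node (.leaf 0x82a87f5) (.leaf 0xb40c829)) (.node (.leaf 0xc79c7f5) (.leaf 0xb388829))) (.node (.node (.leaf 0x68a07f5) (.leaf 0x9a8)) (.node (.leaf 0xd74) (.leaf 0x65247f5)))) (.node (.node (.node (.leaf 0xb094829) (.leaf 0xb8bc7f5)) (.node (.leaf 0x6e38829) (.leaf 0x7ee))) (.node (.node (.leaf 0x5b147f5) (.leaf 0x45e47f5)) (.node (.leaf 0xe62c7f5)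 (.leaf 0x0)))))) (.node (.node (.node (.node (.node (.leaf 0xc5ec7f5) (.leaf 0x900)) (.node (.leaf 0x9ce0829) (.leaf 0xde487f5))) (.node (.node (.leaf 0xa93c829) (.leaf 0xa4a87f5)) (.node (.leaf 0xe36) (.leaf 0x913c7f5)))) (.node (.node (.node (.leaf 0xc6487f5) (.leaf 0x76a0829)) (.node (.leaf 0xdde87f5) (.leaf 0x8fd8829))) (.node (.node (.leaf 0x4da0829) (.leaf 0xe3e)) (.node (.leaf 0x7fc) (.leaf 0x0))))) (.node (.node (.node (.node (.leaf 0x73c0829) (.leaf 0xee347f5)) (.node (.leaf 0xa0e) (.leaf 0xe48))) (.node (.node (.leaf 0x40387f5) (.leaf 0x1b32)) (.node (.leaf 0xc4947f5) (.leaf 0x0)))) (.node (.node (.node (.leaf 0x87a4829) (.leaf 0xcdec7f5)) (.node (.leaf 0x5da47f5) (.leaf 0xa8b47f5))) (.node (.node (.leaf 0x8fe) (.leaf 0x85c8829)) (.node (.leaf 0xef2c7f5) (.leaf 0x0)))))))) (.node (.node (.node (.node (.node (.node (.node (.leaf 0x60a07f5) (.leaf 0xfa887f5)) (.node (.leaf 0x1130)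 (.leaf 0x5560829))) (.node (.node (.leaf 0x8858829) (.leaf 0xaea)) (.node (.leaf 0x4efc7f5) (.leaf 0x97c)))) (.node (.node (.node (.leaf 0x789c829) (.leaf 0x5b807f5)) (.node (.leaf 0x19f2) (.leaf 0xa568829))) (.node (.node (.leaf 0xf8b47f5) (.leaf 0x8974829)) (.node (.leaf 0x15e0) (.leaf 0x0))))) (.node (.node (.node (.node (.leaf 0x87bc829) (.leaf 0x14dc)) (.node (.leaf 0xd5e) (.leaf 0xeb047f5))) (.node (.node (.leaf 0x6bf4829) (.leaf 0xb9c07f5)) (.node (.leaf 0x60c0829) (.leaf 0x9cbc829)))) (.node (.node (.node (.leaf 0x50187f5) (.leaf 0x58b47f5)) (.node (.leaf 0xdffc7f5) (.leaf 0xb5e))) (.node (.node (.leaf 0xf3787f5) (.leaf 0xde187f5)) (.node (.leaf 0x8998829) (.leaf 0x0)))))) (.node (.node (.node (.node (.node (.leaf 0xd1687f5) (.leaf 0xdcf07f5)) (.node (.leaf 0x52dc829) (.leaf 0xc6187f5))) (.node (.node (.leaf 0xabe47f5) (.leaf 0x47587f5)) (.node (.leaf 0xfac87f5) (.leaf 0x6fd87f5))))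 (.node (.node (.node (.leaf 0x8fbc7f5) (.leaf 0xa40)) (.node (.leaf 0x6df07f5) (.leaf 0xa6987f5))) (.node (.node (.leaf 0xc5087f5) (.leaf 0x59bc829)) (.node (.leaf 0x9d68829) (.leaf 0x0))))) (.node (.node (.node (.node (.leaf 0x786c829) (.leaf 0x63787f5)) (.node (.leaf 0x599c7f5) (.leaf 0xb5a))) (.node (.node (.leaf 0x63247f5) (.leaf 0xac6)) (.node (.leaf 0xa4507f5) (.leaf 0x0)))) (.node (.node (.node (.leaf 0xa5187f5) (.leaf 0xb0e)) (.node (.leaf 0x4878829) (.leaf 0x94e))) (.node (.node (.leaf 0x5aac829) (.leaf 0xa8287f5)) (.node (.leaf 0xbb2c7f5) (.leaf 0x0))))))) (.node (.node (.node (.node (.node (.node (.leaf 0x10da) (.leaf 0x8bd8829)) (.node (.leaf 0xa344829) (.leaf 0x4fb47f5))) (.node (.node (.leaf 0xf3cc7f5) (.leaf 0xa8c07f5)) (.node (.leaf 0x733c829) (.leaf 0x44507f5)))) (.node (.node (.node (.leaf 0x88c07f5) (.leaf 0x6e987f5)) (.node (.leaf 0xf9e47f5) (.leaf 0xa9a87f5))) (.node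 (.node (.leaf 0x4cf07f5) (.leaf 0xd10)) (.node (.leaf 0x614c7f5) (.leaf 0x0))))) (.node (.node (.node (.node (.leaf 0x80e) (.leaf 0x66f87f5)) (.node (.leaf 0x932) (.leaf 0xadc4829))) (.node (.node (.leaf 0xa094829) (.leaf 0xc3487f5)) (.node (.leaf 0xb9647f5) (.leaf 0x5d187f5)))) (.node (.node (.node (.leaf 0x6eac829) (.leaf 0xa3e)) (.node (.leaf 0xb2347f5) (.leaf 0x84a07f5))) (.node (.node (.leaf 0x5b84829) (.leaf 0xcfac7f5)) (.node (.leaf 0x65f07f5) (.leaf 0x0)))))) (.node (.node (.node (.node (.node (.leaf 0x616c7f5) (.leaf 0xe0a)) (.node (.leaf 0xda347f5) (.leaf 0xcfa07f5))) (.node (.node (.leaf 0x43287f5) (.leaf 0x9d6)) (.node (.leaf 0xf0707f5) (.leaf 0x6ed4829)))) (.node (.node (.node (.leaf 0x8f0c829) (.leaf 0xa1007f5)) (.node (.leaf 0xdf347f5) (.leaf 0x69dc829))) (.node (.node (.leaf 0xe7c07f5) (.leaf 0x8c807f5)) (.node (.leaf 0x872) (.leaf 0x0))))) (.node (.node (.node (.node (.leaf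 0x8a047f5) (.leaf 0xfa147f5)) (.node (.leaf 0x5aac7f5) (.leaf 0x98a))) (.node (.node (.leaf 0x9e4) (.leaf 0x493c7f5)) (.node (.leaf 0x950c7f5) (.leaf 0x0)))) (.node (.node (.node (.leaf 0x96e0829) (.leaf 0x831c7f5)) (.node (.leaf 0x9808829) (.leaf 0x64b47f5))) (.node (.node (.leaf 0xb304829) (.leaf 0xf2e47f5)) (.node (.leaf 0xac2) (.leaf 0x0))))))))) (.node (.node (.node (.node (.node (.node (.node (.node (.leaf 0x4e24829) (.leaf 0x85e07f5)) (.node (.leaf 0xdde) (.leaf 0xe6247f5))) (.node (.node (.leaf 0x1c50) (.leaf 0x5ddc829)) (.node (.leaf 0x8710829) (.leaf 0xb9d0829)))) (.node (.node (.node (.leaf 0x11ca) (.leaf 0x9b887f5)) (.node (.leaf 0x845c7f5) (.leaf 0x88cc829))) (.node (.node (.leaf 0xaf80829) (.leaf 0xed547f5)) (.node (.leaf 0xaa78829) (.leaf 0x0))))) (.node (.node (.node (.node (.leaf 0x58707f5) (.leaf 0xa238829)) (.node (.leaf 0x878) (.leaf 0xd6d47f5))) (.node (.node (.leaf 0x4aa07f5)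 (.leaf 0xabe)) (.node (.leaf 0xda4) (.leaf 0xd7407f5)))) (.node (.node (.node (.leaf 0x977c829) (.leaf 0x4a44829)) (.node (.leaf 0xadec7f5) (.leaf 0x5d9c7f5))) (.node (.node (.leaf 0xb4d47f5) (.leaf 0x8970829)) (.node (.leaf 0xb1c8829) (.leaf 0x0)))))) (.node (.node (.node (.node (.node (.leaf 0x5470829) (.leaf 0x5ce87f5)) (.node (.leaf 0x730c829) (.leaf 0x8de))) (.node (.node (.leaf 0x17ea) (.leaf 0x72147f5)) (.node (.leaf 0x9fa8829) (.leaf 0x44cc7f5)))) (.node (.node (.node (.leaf 0x51587f5) (.leaf 0x6548829)) (.node (.leaf 0x9ac) (.leaf 0xe2687f5))) (.node (.node (.leaf 0xa2f47f5) (.leaf 0xf6c07f5)) (.node (.leaf 0x8e847f5) (.leaf 0x0))))) (.node (.node (.node (.node (.leaf 0x40f8829) (.leaf 0x4c7c7f5)) (.node (.leaf 0x19a0) (.leaf 0x8e6))) (.node (.node (.leaf 0xe6547f5) (.leaf 0x4418829)) (.node (.leaf 0x6f54829) (.leaf 0x7140829)))) (.node (.node (.node (.leaf 0x5818829) (.leaf 0x96b47f5))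 (.node (.leaf 0xa3d87f5) (.leaf 0x832))) (.node (.node (.leaf 0xaa40829) (.leaf 0xcc847f5)) (.node (.leaf 0x7698829) (.leaf 0x0))))))) (.node (.node (.node (.node (.node (.node (.leaf 0x40e4829) (.leaf 0xbc2)) (.node (.leaf 0x808) (.leaf 0xf6447f5))) (.node (.node (.leaf 0x6ec8829) (.leaf 0x5a9c829)) (.node (.leaf 0x6760829) (.leaf 0x50a0829)))) (.node (.node (.node (.leaf 0x794) (.leaf 0xc6507f5)) (.node (.leaf 0x87987f5) (.leaf 0xb380829))) (.node (.node (.leaf 0x42dc7f5) (.leaf 0x89f0829)) (.node (.leaf 0x65307f5) (.leaf 0x0))))) (.node (.node (.node (.node (.leaf 0xc2c87f5) (.leaf 0x9060829)) (.node (.leaf 0x92a) (.leaf 0xcbf07f5))) (.node (.node (.leaf 0xa1807f5) (.leaf 0x8344829)) (.node (.leaf 0x72647f5) (.leaf 0xfa5c7f5)))) (.node (.node (.node (.leaf 0x46947f5) (.leaf 0x99287f5)) (.node (.leaf 0x84e) (.leaf 0xa1bc7f5))) (.node (.node (.leaf 0xc9a07f5) (.leaf 0x1b04)) (.node (.leaf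 0x809c7f5) (.leaf 0x0)))))) (.node (.node (.node (.node (.node (.leaf 0xf3b87f5) (.leaf 0x6524829)) (.node (.leaf 0xd1e) (.leaf 0xc6447f5))) (.node (.node (.leaf 0xb3fc829) (.leaf 0x76947f5)) (.node (.leaf 0x1992) (.leaf 0xa02)))) (.node (.node (.node (.leaf 0xb7d0829) (.leaf 0xe0f07f5)) (.node (.leaf 0x6e48829) (.leaf 0x41887f5))) (.node (.node (.leaf 0xb9007f5) (.leaf 0x5c1c829)) (.node (.leaf 0xc7887f5) (.leaf 0x0))))) (.node (.node (.node (.node (.leaf 0x49d0829) (.leaf 0x84c4829)) (.node (.leaf 0xd3987f5) (.leaf 0xac1c829))) (.node (.node (.leaf 0x15e4) (.leaf 0xc9247f5)) (.node (.leaf 0x574c7f5) (.leaf 0x0)))) (.node (.node (.node (.leaf 0x74c07f5) (.leaf 0x16b4)) (.node (.leaf 0xae047f5) (.leaf 0x89b0829))) (.node (.node (.leaf 0x4034829) (.leaf 0xdcb47f5)) (.node (.leaf 0xaf6c829) (.leaf 0x0)))))))) (.node (.node (.node (.node (.node (.node (.node (.leaf 0x941c829) (.leaf 0x56b07f5))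 (.node (.leaf 0x910) (.leaf 0x59fc7f5))) (.node (.node (.leaf 0xde5c7f5) (.leaf 0xc5cc7f5)) (.node (.leaf 0xd3047f5) (.leaf 0x78847f5)))) (.node (.node (.node (.leaf 0xa4f8829) (.leaf 0x95fc829)) (.node (.leaf 0xd8587f5) (.leaf 0xb340829))) (.node (.node (.leaf 0x922) (.leaf 0xe7fc7f5)) (.node (.leaf 0xa304829) (.leaf 0x0))))) (.node (.node (.node (.node (.leaf 0x76987f5) (.leaf 0xa528829)) (.node (.leaf 0xa0ec7f5) (.leaf 0x72787f5))) (.node (.node (.leaf 0xea187f5) (.leaf 0x5c44829)) (.node (.leaf 0x68e4829) (.leaf 0xb3e4829)))) (.node (.node (.node (.leaf 0x90387f5) (.leaf 0x1216)) (.node (.leaf 0x42047f5) (.leaf 0xe1a87f5))) (.node (.node (.leaf 0x187c) (.leaf 0x6c74829)) (.node (.leaf 0xe6007f5) (.leaf 0x0)))))) (.node (.node (.node (.node (.node (.leaf 0x924c829) (.leaf 0xa74)) (.node (.leaf 0x5170829) (.leaf 0x9ba))) (.node (.node (.leaf 0xcd507f5) (.leaf 0xb4e47f5)) (.node (.leaf 0xdfe)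 (.leaf 0xa1b0829)))) (.node (.node (.node (.leaf 0xeff47f5) (.leaf 0xdff87f5)) (.node (.leaf 0x5de07f5) (.leaf 0x4b047f5))) (.node (.node (.leaf 0xc6347f5) (.leaf 0x89fc829)) (.node (.leaf 0xaf88829) (.leaf 0x0))))) (.node (.node (.node (.node (.leaf 0x48787f5) (.leaf 0xee2c7f5)) (.node (.leaf 0x99b07f5) (.leaf 0xdc907f5))) (.node (.node (.leaf 0x80187f5) (.leaf 0x61707f5)) (.node (.leaf 0x4ed8829) (.leaf 0x0)))) (.node (.node (.node (.leaf 0xa3f47f5) (.leaf 0xb3f87f5)) (.node (.leaf 0x775c7f5) (.leaf 0x5904829))) (.node (.node (.leaf 0xace8829) (.leaf 0x56a47f5)) (.node (.leaf 0xf2e87f5) (.leaf 0x0))))))) (.node (.node (.node (.node (.node (.node (.leaf 0x77e) (.leaf 0x65d47f5)) (.node (.leaf 0x15d2) (.leaf 0x69ac7f5))) (.node (.node (.leaf 0x9cc) (.leaf 0x1564)) (.node (.leaf 0xd2487f5) (.leaf 0xb0dc829)))) (.node (.node (.node (.leaf 0xb9f4829) (.leaf 0xba987f5)) (.node (.leaf 0xc5787f5)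 (.leaf 0x71347f5))) (.node (.node (.leaf 0xdb8) (.leaf 0xe8207f5)) (.node (.leaf 0x91a0829) (.leaf 0x0))))) (.node (.node (.node (.node (.leaf 0x8c9c7f5) (.leaf 0xa52)) (.node (.leaf 0x4264829) (.leaf 0x49b4829))) (.node (.node (.leaf 0x60a0829) (.leaf 0x6d9c7f5)) (.node (.leaf 0x5af4829) (.leaf 0x4cec829)))) (.node (.node (.node (.leaf 0x4e98829) (.leaf 0xdd4)) (.node (.leaf 0x9c4c7f5) (.leaf 0xc4ec7f5))) (.node (.node (.leaf 0x197e) (.leaf 0xa8047f5)) (.node (.leaf 0x67d4829) (.leaf 0x0)))))) (.node (.node (.node (.node (.node (.leaf 0x7618829) (.leaf 0x1448)) (.node (.leaf 0x95707f5) (.leaf 0xf8c87f5))) (.node (.node (.leaf 0x40d07f5) (.leaf 0x49647f5)) (.node (.leaf 0xc44) (.leaf 0xa6a47f5)))) (.node (.node (.node (.leaf 0x6e10829) (.leaf 0x5870829)) (.node (.leaf 0x64847f5) (.leaf 0x57d07f5))) (.node (.node (.leaf 0x6a9c7f5) (.leaf 0x88907f5)) (.node (.leaf 0xd5a87f5) (.leaf 0x0)))))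 (.node (.node (.node (.node (.leaf 0xc8147f5) (.leaf 0x1674)) (.node (.leaf 0xb5e47f5) (.leaf 0x67747f5))) (.node (.node (.leaf 0xa908829) (.leaf 0x4a78829)) (.node (.leaf 0x9c2c7f5) (.leaf 0x0)))) (.node (.node (.node (.leaf 0x50907f5) (.leaf 0xb2c0829)) (.node (.leaf 0x40b47f5) (.leaf 0x938))) (.node (.node (.leaf 0xa824829) (.leaf 0x1bfe)) (.node (.leaf 0xadf8829) (.leaf 0x0))))))))))

/-- packed table -/
noncomputable def cov5 : BTree := (.node (.node (.node cov5_lll cov5_llr) (.node cov5_lrl cov5_lrr)) (.node (.node cov5_rll cov5_rlr) (.node cov5_rrl cov5_rrr)))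

theorem cov5_ok : okCover 5 cov5 = true := by decide +kernel

/-- straight-line program -/
def slp5 : List (Nat × Nat × Nat) :=
  [(0x2d4d29a624605a85aa8f85867b880e, 0, 1),
   (0x19ac99d227401af5aa4c256f0289c1, 2, 1),
   (0xb9aa759229405ac9aa0fa5872289c0, 3, 1)]

/-- levels -/
def levels5 : List (Nat × List Nat) :=
  [(4, [5, 0, 1, 2, 3, 4])]

/-- stabilising facts -/
def gens5 : List Nat := [509, 522]

theorem chain5_ok : okChain 5 gens5 slp5 levels5 = true := by decide +kernel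

theorem chain5_size : chainSize levels5 = 6 := by decide +kernel

end CfsgLib.Spor.J4.Index
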