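import Cfsg.Agent.Lib.Spor.J4.Index.Check

/-!
Coverage and stabiliser of node 6 (generated).
-/

set_option autoImplicit false
set_option linter.all false

namespace CfsgLib.Spor.J4.Index

open CfsgLib.PresCert

/-- packed table -/
noncomputable def cov6_lll : BTree := (.node (.node (.node (.node (.node (.node (.node (.node (.node (.leaf 0xede8e9d) (.leaf 0xdb6ce9b)) (.node (.leaf 0x136d0e85) (.leaf 0x88e0e9b))) (.node (.node (.leaf 0x16ce8e9b) (.leaf 0x17934e9f)) (.node (.leaf 0x14b38e9f) (.leaf 0x14cf0e97)))) (.node (.node (.node (.leaf 0x131ece9b) (.leaf 0x10c8ce9f)) (.node (.leaf 0x1177ce9f) (.leaf 0x1099ce95))) (.node (.node (.leaf 0xcff0e95) (.leaf 0x12150e9d)) (.node (.leaf 0x139cce85) (.leaf 0x0))))) (.node (.node (.node (.node (.leaf 0x12c24e95) (.leaf 0x11d9ce97)) (.node (.leaf 0xedf8e95) (.leaf 0x129bce95))) (.node (.node (.leaf 0xcf9ce9b) (.leaf 0xe928e9f)) (.node (.leaf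 0xeeace9f) (.leaf 0x16c8ce97)))) (.node (.node (.node (.leaf 0xe8c4e97) (.leaf 0x15028e99)) (.node (.leaf 0x16184e9d) (.leaf 0x8890e9d))) (.node (.node (.leaf 0x12530e97) (.leaf 0x102b4e9d)) (.node (.leaf 0x82f4e9d) (.leaf 0x0)))))) (.node (.node (.node (.node (.node (.leaf 0x92c8e95) (.leaf 0xd4ace99)) (.node (.leaf 0x12598e9b) (.leaf 0x14164e97))) (.node (.node (.leaf 0x1027ce9f) (.leaf 0xc120e95)) (.node (.leaf 0x131b4e97) (.leaf 0x12be4e9d)))) (.node (.node (.node (.leaf 0xc870e9b) (.leaf 0xd278e9b)) (.node (.leaf 0x117b4e9b) (.leaf 0xe458e9f))) (.node (.node (.leaf 0xf9bce9f) (.leaf 0x72e0e85)) (.node (.leaf 0xf4f0e99) (.leaf 0x0))))) (.node (.node (.node (.node (.leaf 0x82f4e99) (.leaf 0x10a00e95)) (.node (.leaf 0x122f8e9b) (.leaf 0x13690e9b))) (.node (.node (.leaf 0x12628e99) (.leaf 0x15654e9d)) (.node (.leaf 0x10ff4e9d) (.leaf 0x10274e9f)))) (.node (.node (.node (.leaf 0x14d70e9d)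 (.leaf 0x10d78e97)) (.node (.leaf 0x11910e99) (.leaf 0x10428e95))) (.node (.node (.leaf 0xdb50e99) (.leaf 0xeff8e97)) (.node (.leaf 0x8774e99) (.leaf 0x0))))))) (.node (.node (.node (.node (.node (.node (.leaf 0x10720e95) (.leaf 0x10714e9f)) (.node (.leaf 0x100fce95) (.leaf 0x103dce9f))) (.node (.node (.leaf 0x12070e95) (.leaf 0xeb08e9f)) (.node (.leaf 0x126a8e99) (.leaf 0x129d4e9d)))) (.node (.node (.node (.leaf 0x88d8e9f) (.leaf 0xb850e9f)) (.node (.leaf 0x9b30e97) (.leaf 0x177a8e9f))) (.node (.node (.leaf 0x14910e95) (.leaf 0x7360e85)) (.node (.leaf 0x101e4e97) (.leaf 0x0))))) (.node (.node (.node (.node (.leaf 0xeae0e97) (.leaf 0x128c0e9d)) (.node (.leaf 0x100ace9d) (.leaf 0x130bce85))) (.node (.node (.leaf 0xeeace99) (.leaf 0x16634e9d)) (.node (.leaf 0x10838e97) (.leaf 0xfa0ce9f)))) (.node (.node (.node (.leaf 0x12764e99) (.leaf 0x12c18e97)) (.node (.leaf 0xc268e99) (.leaf 0x15d20e99)))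 (.node (.node (.leaf 0x128d4e95) (.leaf 0xf698e97)) (.node (.leaf 0x11168e99) (.leaf 0x0)))))) (.node (.node (.node (.node (.node (.leaf 0x14644e85) (.leaf 0x14290e99)) (.node (.leaf 0xe710e97) (.leaf 0x12590e99))) (.node (.node (.leaf 0x129bce9d) (.leaf 0x150a8e97)) (.node (.leaf 0x12f18e9b) (.leaf 0x15a4ce9b)))) (.node (.node (.node (.leaf 0x11b3ce99) (.leaf 0xcd60e97)) (.node (.leaf 0x11aa0e9f) (.leaf 0xf774e9d))) (.node (.node (.leaf 0x9324e9b) (.leaf 0x136a4e97)) (.node (.leaf 0x130bce97) (.leaf 0x0))))) (.node (.node (.node (.node (.leaf 0x103e4e9f) (.leaf 0xfa64e97)) (.node (.leaf 0x8308e9d) (.leaf 0xc35ce95))) (.node (.node (.leaf 0x10f4ce97) (.leaf 0xf308e85)) (.node (.leaf 0x11f70e9f) (.leaf 0x0)))) (.node (.node (.node (.leaf 0xeae8e95) (.leaf 0x1027ce99)) (.node (.leaf 0x136f8e99) (.leaf 0x9b30e99))) (.node (.node (.leaf 0xd39ce85) (.leaf 0x11d70e9d)) (.node (.leaf 0x11658e95)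 (.leaf 0x0)))))))) (.node (.node (.node (.node (.node (.node (.node (.leaf 0x13340e9d) (.leaf 0x10410e9b)) (.node (.leaf 0x12764e9d) (.leaf 0xec1ce9f))) (.node (.node (.leaf 0x162bce95) (.leaf 0xf638e95)) (.node (.leaf 0x177e0e99) (.leaf 0xef70e9d)))) (.node (.node (.node (.leaf 0xe1a0e97) (.leaf 0x12c3ce97)) (.node (.leaf 0x11ae8e9b) (.leaf 0x10950e9f))) (.node (.node (.leaf 0x16920e9b) (.leaf 0x9190e85)) (.node (.leaf 0xe670e99) (.leaf 0x0))))) (.node (.node (.node (.node (.leaf 0x15b08e9d) (.leaf 0x1141ce97)) (.node (.leaf 0x1718ce85) (.leaf 0xc8bce99))) (.node (.node (.leaf 0x127c0e99) (.leaf 0x10c60e99)) (.node (.leaf 0x10624e9f) (.leaf 0x12a30e9d)))) (.node (.node (.node (.leaf 0xcce4e9b) (.leaf 0xea74e9f)) (.node (.leaf 0x13048e95) (.leaf 0x12720e97))) (.node (.node (.leaf 0x12490e97) (.leaf 0x16bfce97)) (.node (.leaf 0x10330e9d) (.leaf 0x0)))))) (.node (.node (.node (.node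 (.node (.leaf 0xf750e99) (.leaf 0x8af0e9d)) (.node (.leaf 0x103f4e9d) (.leaf 0x8784e99))) (.node (.node (.leaf 0x1069ce9b) (.leaf 0x105f0e99)) (.node (.leaf 0x11714e95) (.leaf 0x15e24e95)))) (.node (.node (.node (.leaf 0x16dace99) (.leaf 0x11c38e85)) (.node (.leaf 0xc010e9b) (.leaf 0x11054e9d))) (.node (.node (.leaf 0x1316ce99) (.leaf 0xce28e9b)) (.node (.leaf 0x10f48e99) (.leaf 0x0))))) (.node (.node (.node (.node (.leaf 0xe3c4e97) (.leaf 0x88e0e97)) (.node (.leaf 0xf8d0e9f) (.leaf 0xeae0e9d))) (.node (.node (.leaf 0xf82ce99) (.leaf 0x100a4e95)) (.node (.leaf 0xc148e97) (.leaf 0x879ce9d)))) (.node (.node (.node (.leaf 0xe71ce95) (.leaf 0xd1e8e95)) (.node (.leaf 0x144b4e95) (.leaf 0x10648e9d))) (.node (.node (.leaf 0x12224e97) (.leaf 0xce70e9b)) (.node (.leaf 0x11c6ce85) (.leaf 0x0))))))) (.node (.node (.node (.node (.node (.node (.leaf 0x110a) (.leaf 0xedf8e9d)) (.node (.leaf 0x109a8e9f)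 (.leaf 0x4744e99))) (.node (.node (.leaf 0x13248e9b) (.leaf 0xc148e99)) (.node (.leaf 0x103cce95) (.leaf 0x1228ce9d)))) (.node (.node (.node (.leaf 0x9220e95) (.leaf 0x17178e99)) (.node (.leaf 0xcbace9f) (.leaf 0x12f9ce85))) (.node (.node (.leaf 0x12ba0e95) (.leaf 0x1242ce9f)) (.node (.leaf 0xe2cce9d) (.leaf 0x0))))) (.node (.node (.node (.node (.leaf 0xe7c8e97) (.leaf 0x13348e9d)) (.node (.leaf 0x620ce9b) (.leaf 0x1394ce95))) (.node (.node (.leaf 0x10e9ce95) (.leaf 0xc4a0e99)) (.node (.leaf 0x15454e99) (.leaf 0x10440e9f)))) (.node (.node (.node (.leaf 0x8948e99) (.leaf 0xf9d8e97)) (.node (.leaf 0x12844e9d) (.leaf 0x11aa0e9d))) (.node (.node (.leaf 0x12a30e9f) (.leaf 0x109d0e95)) (.node (.leaf 0x12bc0e9f) (.leaf 0x0)))))) (.node (.node (.node (.node (.node (.leaf 0x11f68e95) (.leaf 0xe038e97)) (.node (.leaf 0xe850e97) (.leaf 0x70e0e95))) (.node (.node (.leaf 0x4510e85) (.leaf 0xeae0e9b))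 (.node (.leaf 0x12054e9f) (.leaf 0xf234e97)))) (.node (.node (.node (.leaf 0x13770e9f) (.leaf 0x13690e9d)) (.node (.leaf 0x13148e85) (.leaf 0x12334e97))) (.node (.node (.leaf 0x12248e95) (.leaf 0x15588e9f)) (.node (.leaf 0x1064ce9d) (.leaf 0x0))))) (.node (.node (.node (.node (.leaf 0x122dce9d) (.leaf 0x176d8e9f)) (.node (.leaf 0xdb44e9f) (.leaf 0x40b4e99))) (.node (.node (.leaf 0x132e4e9d) (.leaf 0xd668e95)) (.node (.leaf 0xf768e9b) (.leaf 0x0)))) (.node (.node (.node (.leaf 0x10c6ce9f) (.leaf 0xf794e9f)) (.node (.leaf 0x154e4e99) (.leaf 0x14630e9d))) (.node (.node (.leaf 0xca04e99) (.leaf 0x12490e85)) (.node (.leaf 0xea74e97) (.leaf 0x0))))))))) (.node (.node (.node (.node (.node (.node (.node (.node (.leaf 0x12bc4e9d) (.leaf 0x15b00e9b)) (.node (.leaf 0xf31ce97) (.leaf 0xd2cce9f))) (.node (.node (.leaf 0xc4ace9f) (.leaf 0x14a2ce9b)) (.node (.leaf 0x16c54e99) (.leaf 0x13a14e95))))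 (.node (.node (.node (.leaf 0xf1f0e9b) (.leaf 0x13338e99)) (.node (.leaf 0xeeace9d) (.leaf 0x10144e97))) (.node (.node (.leaf 0xe330e9b) (.leaf 0x40c0e9b)) (.node (.leaf 0x11558e99) (.leaf 0x0))))) (.node (.node (.node (.node (.leaf 0x10098e9d) (.leaf 0xf768e9d)) (.node (.leaf 0x72e0e9b) (.leaf 0x13908e99))) (.node (.node (.leaf 0x13a9ce9f) (.leaf 0x1357ce95)) (.node (.leaf 0x1180ce95) (.leaf 0x11ab4e85)))) (.node (.node (.node (.leaf 0x11a10e9d) (.leaf 0x10924e9b)) (.node (.leaf 0x128b4e95) (.leaf 0x104f4e97))) (.node (.node (.leaf 0x12fc8e97) (.leaf 0xd310e9d)) (.node (.leaf 0xf85ce97) (.leaf 0x0)))))) (.node (.node (.node (.node (.node (.leaf 0x98d0e95) (.leaf 0x1126ce99)) (.node (.leaf 0xcbace95) (.leaf 0x105ace85))) (.node (.node (.leaf 0xe7f4e95) (.leaf 0x129dce9d)) (.node (.leaf 0x11f68e9f) (.leaf 0x1357ce99)))) (.node (.node (.node (.leaf 0x10bf8e9f) (.leaf 0x4f18e85)) (.node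 (.leaf 0xe8cce95) (.leaf 0x11ee0e95))) (.node (.node (.leaf 0x130d4e9f) (.leaf 0x130c8e9d)) (.node (.leaf 0x12a00e95) (.leaf 0x0))))) (.node (.node (.node (.node (.leaf 0x11264e9b) (.leaf 0x1315ce95)) (.node (.leaf 0x105ece9b) (.leaf 0xd664e97))) (.node (.node (.leaf 0x10e04e9f) (.leaf 0xe71ce99)) (.node (.leaf 0xd2b8e97) (.leaf 0x131ece95)))) (.node (.node (.node (.leaf 0xf1f0e95) (.leaf 0xd270e97)) (.node (.leaf 0xdc48e9d) (.leaf 0x136ece9d))) (.node (.node (.leaf 0x140f8e95) (.leaf 0xec60e95)) (.node (.leaf 0x82e4e9d) (.leaf 0x0))))))) (.node (.node (.node (.node (.node (.node (.leaf 0x12b20e99) (.leaf 0xce70e99)) (.node (.leaf 0xfb34e99) (.leaf 0x10734e9f))) (.node (.node (.leaf 0x11794e9d) (.leaf 0x13580e95)) (.node (.leaf 0x11c24e95) (.leaf 0xf764e99)))) (.node (.node (.node (.leaf 0x9220e85) (.leaf 0x12da0e95)) (.node (.leaf 0xcca0e99) (.leaf 0x10a80e9d))) (.node (.node (.leaf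 0x88dce97) (.leaf 0x12410e97)) (.node (.leaf 0xe348e9b) (.leaf 0x0))))) (.node (.node (.node (.node (.leaf 0xb4d0e95) (.leaf 0xf794e99)) (.node (.leaf 0x139c0e99) (.leaf 0xe3c4e99))) (.node (.node (.leaf 0xcbace97) (.leaf 0xe470e9f)) (.node (.leaf 0xdb6ce95) (.leaf 0x139dce99)))) (.node (.node (.node (.leaf 0xede8e97) (.leaf 0xe340e99)) (.node (.leaf 0x106f8e97) (.leaf 0xacfce99))) (.node (.node (.leaf 0x1765ce9f) (.leaf 0x13198e9f)) (.node (.leaf 0x15588e95) (.leaf 0x0)))))) (.node (.node (.node (.node (.node (.leaf 0x157dce9d) (.leaf 0xa028e97)) (.node (.leaf 0x11214e95) (.leaf 0x10160e97))) (.node (.node (.leaf 0x133f4e9d) (.leaf 0x15830e9f)) (.node (.leaf 0x10478e9b) (.leaf 0x110b0e9b)))) (.node (.node (.node (.leaf 0x10ae8e97) (.leaf 0xd4ace97)) (.node (.leaf 0x10e78e97) (.leaf 0x164f8e99))) (.node (.node (.leaf 0x70e0e9d) (.leaf 0xf774e95)) (.node (.leaf 0x10c6ce9d) (.leaf 0x0)))))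 (.node (.node (.node (.node (.leaf 0x16a28e99) (.leaf 0xcd9ce97)) (.node (.leaf 0x12c24e9d) (.leaf 0x1555ce9b))) (.node (.node (.leaf 0xd51ce85) (.leaf 0xdb78e95)) (.node (.leaf 0x12c94e9b) (.leaf 0x0)))) (.node (.node (.node (.leaf 0x10a8ce9d) (.leaf 0x10e9ce9b)) (.node (.leaf 0x129d4e97) (.leaf 0xc574e9f))) (.node (.node (.leaf 0x12918e9b) (.leaf 0xe618e99)) (.node (.leaf 0x111f0e99) (.leaf 0x0)))))))) (.node (.node (.node (.node (.node (.node (.node (.leaf 0x179d0e9d) (.leaf 0xf290e9f)) (.node (.leaf 0x166c8e85) (.leaf 0xc3f8e9f))) (.node (.node (.leaf 0x122e4e95) (.leaf 0x88d8e9b)) (.node (.leaf 0x150a8e99) (.leaf 0x11a54e9b)))) (.node (.node (.node (.leaf 0x10914e99) (.leaf 0x10a48e9b)) (.node (.leaf 0xcb48e9f) (.leaf 0xd254e9f))) (.node (.node (.leaf 0xece0e9f) (.leaf 0xb1c0e9b)) (.node (.leaf 0x13240e99) (.leaf 0x0))))) (.node (.node (.node (.node (.leaf 0x8ae0e97) (.leaf 0x101e8e9d))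 (.node (.leaf 0x15774e85) (.leaf 0xb34ce99))) (.node (.node (.leaf 0x1431ce9f) (.leaf 0xe480e95)) (.node (.leaf 0x125d0e97) (.leaf 0xb868e9d)))) (.node (.node (.node (.leaf 0x12cc8e9f) (.leaf 0x13254e99)) (.node (.leaf 0xe7f4e9f) (.leaf 0x16f30e9f))) (.node (.node (.leaf 0xe7b4e99) (.leaf 0xdd54e9d)) (.node (.leaf 0x10ae8e99) (.leaf 0x0)))))) (.node (.node (.node (.node (.node (.leaf 0xe330e9f) (.leaf 0x8afce9d)) (.node (.leaf 0x125dce85) (.leaf 0x1706ce97))) (.node (.node (.leaf 0x118d8e9f) (.leaf 0x129b8e9b)) (.node (.leaf 0x11d60e97) (.leaf 0x136a4e99)))) (.node (.node (.node (.leaf 0x11020e9b) (.leaf 0xca04e9f)) (.node (.leaf 0x100fce9f) (.leaf 0x10324e9f))) (.node (.node (.leaf 0xa01ce9b) (.leaf 0xf780e95)) (.node (.leaf 0xd2b8e9d) (.leaf 0x0))))) (.node (.node (.node (.node (.leaf 0xc870e95) (.leaf 0x14f74e99)) (.node (.leaf 0xd170e9f) (.leaf 0xe88))) (.node (.node (.leaf 0x1589ce9b)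 (.leaf 0x16c04e97)) (.node (.leaf 0x15e70e9b) (.leaf 0x0)))) (.node (.node (.node (.leaf 0xc6d8e9b) (.leaf 0xece0e85)) (.node (.leaf 0xc4c0e95) (.leaf 0xe8bce85))) (.node (.node (.leaf 0xf69ce85) (.leaf 0x12760e9f)) (.node (.leaf 0xf898e9f) (.leaf 0x0))))))) (.node (.node (.node (.node (.node (.node (.leaf 0x80c8e85) (.leaf 0x10410e99)) (.node (.leaf 0xd3b0e85) (.leaf 0x136e))) (.node (.node (.leaf 0x70e0e97) (.leaf 0x80d0e99)) (.node (.leaf 0x10964e9d) (.leaf 0x12bcce9d)))) (.node (.node (.node (.leaf 0x179fce9d) (.leaf 0x89c0e99)) (.node (.leaf 0x10f58e9d) (.leaf 0xe7a8e9f))) (.node (.node (.leaf 0x139c8e9f) (.leaf 0xaebce9b)) (.node (.leaf 0xf4f4e99) (.leaf 0x0))))) (.node (.node (.node (.node (.leaf 0x42dce85) (.leaf 0xcae4e99)) (.node (.leaf 0x9d90e9b) (.leaf 0xe8e))) (.node (.node (.leaf 0x40d8e9d) (.leaf 0x88d0e9d)) (.node (.leaf 0x12c6ce95) (.leaf 0x14de4e95)))) (.node (.node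 (.node (.leaf 0x10d5ce9d) (.leaf 0x10e2ce9b)) (.node (.leaf 0xf648e95) (.leaf 0x10fe8e85))) (.node (.node (.leaf 0x12c3ce85) (.leaf 0xede4e9f)) (.node (.leaf 0xeba8e95) (.leaf 0x0)))))) (.node (.node (.node (.node (.node (.leaf 0x174ece99) (.leaf 0x11d60e9b)) (.node (.leaf 0x80c4e9f) (.leaf 0xf638e97))) (.node (.node (.leaf 0xc4b0e9b) (.leaf 0xd1e0e97)) (.node (.leaf 0x105fce9d) (.leaf 0xdb38e9f)))) (.node (.node (.node (.leaf 0x128d0e97) (.leaf 0xf698e9d)) (.node (.leaf 0x10208e85) (.leaf 0x1212ce95))) (.node (.node (.leaf 0xf1bce9d) (.leaf 0xead0e9d)) (.node (.leaf 0xf2f0e9f) (.leaf 0x0))))) (.node (.node (.node (.node (.leaf 0xe8c4e85) (.leaf 0x111f0e95)) (.node (.leaf 0xd3d0e85) (.leaf 0x10348e95))) (.node (.node (.leaf 0x17684e99) (.leaf 0xeeb0e95)) (.node (.leaf 0xdb34e97) (.leaf 0x0)))) (.node (.node (.node (.leaf 0xdde4e9f) (.leaf 0xe848e99)) (.node (.leaf 0x10428e9d) (.leaf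 0x10e6ce97))) (.node (.node (.leaf 0x11b10e9f) (.leaf 0x10f6ce9f)) (.node (.leaf 0x10e5ce9d) (.leaf 0x0))))))))))

/-- packed table -/
noncomputable def cov6_llr : BTree := (.node (.node (.node (.node (.node (.node (.node (.node (.node (.leaf 0xb358e9f) (.leaf 0x10dace97)) (.node (.leaf 0x112d0e95) (.leaf 0x112c4e9f))) (.node (.node (.leaf 0xca64e99) (.leaf 0xe9a8e99)) (.node (.leaf 0x1180ce85) (.leaf 0x1012ce9f)))) (.node (.node (.node (.leaf 0xcc18e9d) (.leaf 0xc8bce9b)) (.node (.leaf 0xf0ace9d) (.leaf 0xd254e97))) (.node (.node (.leaf 0x101f4e99) (.leaf 0x17640e9f)) (.node (.leaf 0xd254e95) (.leaf 0x0))))) (.node (.node (.node (.node (.leaf 0x10c00e9b) (.leaf 0x13760e9d)) (.node (.leaf 0x13198e99) (.leaf 0x12884e99))) (.node (.node (.leaf 0xcfc4e9b) (.leaf 0xf794e85)) (.node (.leaf 0xeffce9d) (.leaf 0x13518e95)))) (.node (.node (.node (.leaf 0xcf5ce97) (.leaf 0x11334e99)) (.node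 (.leaf 0x10dc8e97) (.leaf 0x10d00e9f))) (.node (.node (.leaf 0xc4b0e9f) (.leaf 0x11fa8e9d)) (.node (.leaf 0xf9bce97) (.leaf 0x0)))))) (.node (.node (.node (.node (.node (.leaf 0xac20e95) (.leaf 0xede8e9f)) (.node (.leaf 0x15af4e9d) (.leaf 0x13678e9f))) (.node (.node (.leaf 0x10e5ce9f) (.leaf 0x14404e9b)) (.node (.leaf 0xde14e99) (.leaf 0xe0ece9d)))) (.node (.node (.node (.leaf 0xe92) (.leaf 0xd278e97)) (.node (.leaf 0x10484e9b) (.leaf 0xf848e9d))) (.node (.node (.leaf 0xf9b0e9f) (.leaf 0x16594e97)) (.node (.leaf 0xe478e99) (.leaf 0x0))))) (.node (.node (.node (.node (.leaf 0x12068e99) (.leaf 0x109dce95)) (.node (.leaf 0xb5b0e9b) (.leaf 0x11720e99))) (.node (.node (.leaf 0x12628e9b) (.leaf 0x103bce9d)) (.node (.leaf 0xc0bce97) (.leaf 0x15958e9d)))) (.node (.node (.node (.leaf 0x11cc0e95) (.leaf 0xb358e97)) (.node (.leaf 0x13324e9b) (.leaf 0x10160e9f))) (.node (.node (.leaf 0x9dd8e9d)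 (.leaf 0xd3b0e95)) (.node (.leaf 0xf6a8e95) (.leaf 0x0))))))) (.node (.node (.node (.node (.node (.node (.leaf 0xc72ce9b) (.leaf 0x176d8e9d)) (.node (.leaf 0xc590e9f) (.leaf 0x10068e99))) (.node (.node (.leaf 0x4510e99) (.leaf 0x12484e85)) (.node (.leaf 0x10768e99) (.leaf 0xf75ce99)))) (.node (.node (.node (.leaf 0x88dce9f) (.leaf 0xc3d4e9f)) (.node (.leaf 0x15e70e99) (.leaf 0x10094e95))) (.node (.node (.leaf 0x117c8e95) (.leaf 0x16f28e9b)) (.node (.leaf 0x10bf0e97) (.leaf 0x0))))) (.node (.node (.node (.node (.leaf 0x117bce97) (.leaf 0x13014e9f)) (.node (.leaf 0x12ac4e97) (.leaf 0x9374e95))) (.node (.node (.leaf 0x177dce85) (.leaf 0x129e0e9b)) (.node (.leaf 0x10478e97) (.leaf 0x139e0e99)))) (.node (.node (.node (.leaf 0x119cce95) (.leaf 0xaf0ce85)) (.node (.leaf 0xe46ce99) (.leaf 0xf308e9d))) (.node (.node (.leaf 0x11b74e95) (.leaf 0x11090e97)) (.node (.leaf 0xdf90e97) (.leaf 0x0))))))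 (.node (.node (.node (.node (.node (.leaf 0x12394e9d) (.leaf 0xca04e9b)) (.node (.leaf 0x400ce99) (.leaf 0xcacce9b))) (.node (.node (.leaf 0x11790e9d) (.leaf 0x13268e99)) (.node (.leaf 0x10f4ce9f) (.leaf 0x14124e9b)))) (.node (.node (.node (.leaf 0x80d0e95) (.leaf 0xf848e97)) (.node (.leaf 0xe8e4e95) (.leaf 0x14058e85))) (.node (.node (.leaf 0x12524e9f) (.leaf 0x12ac4e9b)) (.node (.leaf 0x620ce85) (.leaf 0x0))))) (.node (.node (.node (.node (.leaf 0x12c34e99) (.leaf 0x13a54e97)) (.node (.leaf 0x12b54e95) (.leaf 0x177dce99))) (.node (.node (.leaf 0xd9ace85) (.leaf 0x16a54e95)) (.node (.leaf 0x12134e85) (.leaf 0x0)))) (.node (.node (.node (.leaf 0xf8d0e97) (.leaf 0x160dce9f)) (.node (.leaf 0xc4ace95) (.leaf 0x1059ce9f))) (.node (.node (.leaf 0xb854e85) (.leaf 0x117cce95)) (.node (.leaf 0xb34ce9b) (.leaf 0x0)))))))) (.node (.node (.node (.node (.node (.node (.node (.leaf 0xed84e9d) (.leaf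 0x11c4ce9f)) (.node (.leaf 0x103f4e99) (.leaf 0x8308e9f))) (.node (.node (.leaf 0xe2d4e95) (.leaf 0xb5b0e9d)) (.node (.leaf 0x12284e99) (.leaf 0x7360e99)))) (.node (.node (.node (.leaf 0x12a60e99) (.leaf 0x12274e99)) (.node (.leaf 0xdad4e9b) (.leaf 0xc870e9f))) (.node (.node (.leaf 0x148fce9b) (.leaf 0x176d8e95)) (.node (.leaf 0xf260e99) (.leaf 0x0))))) (.node (.node (.node (.node (.leaf 0x183a0e97) (.leaf 0x13460e99)) (.node (.leaf 0x13958e95) (.leaf 0x42d0e9f))) (.node (.node (.leaf 0x16a9ce99) (.leaf 0x106bce9d)) (.node (.leaf 0xd2bce9f) (.leaf 0x143b0e99)))) (.node (.node (.node (.leaf 0xf1b8e9f) (.leaf 0x1b52ce9d)) (.node (.leaf 0x10810e85) (.leaf 0x11790e99))) (.node (.node (.leaf 0x128d4e99) (.leaf 0x10fe8e97)) (.node (.leaf 0x13340e99) (.leaf 0x0)))))) (.node (.node (.node (.node (.node (.leaf 0xf3d0e99) (.leaf 0xcae4e9d)) (.node (.leaf 0x103cce9d) (.leaf 0x15518e97))) (.node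 (.node (.leaf 0xf848e9f) (.leaf 0xe8c8e95)) (.node (.leaf 0x179b4e99) (.leaf 0x12a34e85)))) (.node (.node (.node (.leaf 0x12bc0e99) (.leaf 0xf0ace9f)) (.node (.leaf 0xc120e9f) (.leaf 0x12350e99))) (.node (.node (.leaf 0xc48ce9b) (.leaf 0x132c4e99)) (.node (.leaf 0xd2b4e9d) (.leaf 0x0))))) (.node (.node (.node (.node (.leaf 0xdb50e9d) (.leaf 0xc73ce9f)) (.node (.leaf 0xa7f8e97) (.leaf 0x10160e9b))) (.node (.node (.leaf 0x11f84e9d) (.leaf 0x10ba0e99)) (.node (.leaf 0x8da0e97) (.leaf 0x0)))) (.node (.node (.node (.leaf 0xc764e85) (.leaf 0xaf0ce9b)) (.node (.leaf 0x1653ce9d) (.leaf 0xa01ce85))) (.node (.node (.leaf 0x1111ce97) (.leaf 0x12754e9f)) (.node (.leaf 0xeb4) (.leaf 0x0))))))) (.node (.node (.node (.node (.node (.node (.leaf 0x7360e9d) (.leaf 0x13430e9d)) (.node (.leaf 0x133e4e97) (.leaf 0xd24ce97))) (.node (.node (.leaf 0x40d8e97) (.leaf 0xc148e9b)) (.node (.leaf 0x40b4e9b) (.leaf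 0xb278e99)))) (.node (.node (.node (.leaf 0x11c10e95) (.leaf 0x134b8e9d)) (.node (.leaf 0x10478e99) (.leaf 0x400ce85))) (.node (.node (.leaf 0xe528e97) (.leaf 0x16a9ce9b)) (.node (.leaf 0xd1e8e9f) (.leaf 0x0))))) (.node (.node (.node (.node (.leaf 0xea0) (.leaf 0x857ce95)) (.node (.leaf 0xe2cce9b) (.leaf 0xc788e9b))) (.node (.node (.leaf 0xe458e85) (.leaf 0x88d8e9d)) (.node (.leaf 0x12c7ce95) (.leaf 0x10ddce95)))) (.node (.node (.node (.leaf 0x1404ce9b) (.leaf 0x139dce97)) (.node (.leaf 0xcc4ce95) (.leaf 0xcae4e9b))) (.node (.node (.leaf 0xef70e97) (.leaf 0x42dce9f)) (.node (.leaf 0x1319ce97) (.leaf 0x0)))))) (.node (.node (.node (.node (.node (.leaf 0xcd9ce99) (.leaf 0x11a0ce9b)) (.node (.leaf 0xd878e9d) (.leaf 0xced4e99))) (.node (.node (.leaf 0xc0bce99) (.leaf 0x12958e99)) (.node (.leaf 0xcca0e9b) (.leaf 0x11cc0e9d)))) (.node (.node (.node (.leaf 0x13784e9f) (.leaf 0xf6a0e9d)) (.node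 (.leaf 0x1218ce95) (.leaf 0x11070e99))) (.node (.node (.leaf 0x16a58e95) (.leaf 0xe87ce9b)) (.node (.leaf 0x8ee4e85) (.leaf 0x0))))) (.node (.node (.node (.node (.leaf 0x11044e9b) (.leaf 0x11504e95)) (.node (.leaf 0x857ce9d) (.leaf 0x90b8e95))) (.node (.node (.leaf 0xa034e85) (.leaf 0xaebce95)) (.node (.leaf 0x1265ce99) (.leaf 0x0)))) (.node (.node (.node (.leaf 0xc278e97) (.leaf 0x1111ce95)) (.node (.leaf 0xc60ce85) (.leaf 0x15774e99))) (.node (.node (.leaf 0xfa24e99) (.leaf 0xe7c4e99)) (.node (.leaf 0xc818e9f) (.leaf 0x0))))))))) (.node (.node (.node (.node (.node (.node (.node (.node (.leaf 0xede4e9d) (.leaf 0x128d0e85)) (.node (.leaf 0x13acce9b) (.leaf 0x82d8e9f))) (.node (.node (.leaf 0x12764e95) (.leaf 0xd2e0e9f)) (.node (.leaf 0x131f8e99) (.leaf 0xe048e99)))) (.node (.node (.node (.leaf 0x120b0e9b) (.leaf 0x17458e99)) (.node (.leaf 0x11ab4e9b) (.leaf 0xcc08e95))) (.node (.node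 (.leaf 0x119e4e97) (.leaf 0xc570e9b)) (.node (.leaf 0x136a4e9f) (.leaf 0x0))))) (.node (.node (.node (.node (.leaf 0x172c0e95) (.leaf 0x12c5ce99)) (.node (.leaf 0x13924e99) (.leaf 0xf9bce95))) (.node (.node (.leaf 0xcb48e9b) (.leaf 0xc0e0e99)) (.node (.leaf 0xc35ce85) (.leaf 0xede4e99)))) (.node (.node (.node (.leaf 0x10d10e9b) (.leaf 0x11a70e95)) (.node (.leaf 0xd664e9f) (.leaf 0xcce8e9f))) (.node (.node (.leaf 0xc480e99) (.leaf 0x12d70e99)) (.node (.leaf 0x119b8e9b) (.leaf 0x0)))))) (.node (.node (.node (.node (.node (.leaf 0xe340e9f) (.leaf 0xc3e8e9f)) (.node (.leaf 0x103e4e9d) (.leaf 0x82e4e9f))) (.node (.node (.leaf 0x17684e9f) (.leaf 0xfa28e99)) (.node (.leaf 0x111c8e99) (.leaf 0x12be0e9f)))) (.node (.node (.node (.leaf 0x17618e95) (.leaf 0xe478e97)) (.node (.leaf 0x17640e9b) (.leaf 0xa028e85))) (.node (.node (.leaf 0x12ba0e9d) (.leaf 0xe4e0e95)) (.node (.leaf 0x11034e99) (.leaf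 0x0))))) (.node (.node (.node (.node (.leaf 0xf6a0e97) (.leaf 0x88c4e97)) (.node (.leaf 0x12b70e9f) (.leaf 0xe2d0e9f))) (.node (.node (.leaf 0x10820e85) (.leaf 0xe8e0e95)) (.node (.leaf 0x72e0e99) (.leaf 0xeca8e99)))) (.node (.node (.node (.leaf 0x136ece95) (.leaf 0x171ace9f)) (.node (.leaf 0x12324e9b) (.leaf 0x10b40e85))) (.node (.node (.leaf 0x179d4e99) (.leaf 0x117b4e95)) (.node (.leaf 0xd4c4e9f) (.leaf 0x0))))))) (.node (.node (.node (.node (.node (.node (.leaf 0x10708e95) (.leaf 0xc590e9d)) (.node (.leaf 0xcf9ce95) (.leaf 0x82f4e9f))) (.node (.node (.leaf 0x5338e97) (.leaf 0x105dce99)) (.node (.leaf 0x1322ce95) (.leaf 0xa02ce85)))) (.node (.node (.node (.leaf 0x9b30e85) (.leaf 0x14660e9f)) (.node (.leaf 0x10ba4e9f) (.leaf 0x155a0e9b))) (.node (.node (.leaf 0xce28e97) (.leaf 0xe670e95)) (.node (.leaf 0x12398e99) (.leaf 0x0))))) (.node (.node (.node (.node (.leaf 0x9190e99) (.leaf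 0xb358e95)) (.node (.leaf 0x161b0e9f) (.leaf 0x11368e95))) (.node (.node (.leaf 0x11884e9b) (.leaf 0x12ef4e9d)) (.node (.leaf 0x117bce99) (.leaf 0x1113ce95)))) (.node (.node (.node (.leaf 0x16f80e9d) (.leaf 0x13430e9f)) (.node (.leaf 0x10f68e99) (.leaf 0x8d14e85))) (.node (.node (.leaf 0x1106ce9f) (.leaf 0xa88ce99)) (.node (.leaf 0x10008e9d) (.leaf 0x0)))))) (.node (.node (.node (.node (.node (.leaf 0x137fce9f) (.leaf 0x12070e99)) (.node (.leaf 0x13028e95) (.leaf 0x10dcce9f))) (.node (.node (.leaf 0x173f0e9d) (.leaf 0x12aece9b)) (.node (.leaf 0x11f6ce9d) (.leaf 0xac80e9b)))) (.node (.node (.node (.leaf 0xf788e9f) (.leaf 0x10e68e85)) (.node (.leaf 0x15028e9f) (.leaf 0x620ce9d))) (.node (.node (.leaf 0x5f50e9d) (.leaf 0x171ace99)) (.node (.leaf 0xf82ce9d) (.leaf 0x0))))) (.node (.node (.node (.node (.leaf 0x13830e9f) (.leaf 0x112d0e9f)) (.node (.leaf 0x9374e9b) (.leaf 0x157f8e99))) (.node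 (.node (.leaf 0xc878e99) (.leaf 0x12ee4e9b)) (.node (.leaf 0x1037ce95) (.leaf 0x0)))) (.node (.node (.node (.leaf 0x82e8e9f) (.leaf 0xe418e9d)) (.node (.leaf 0x13158e95) (.leaf 0xcaf4e9b))) (.node (.node (.leaf 0x158b0e9b) (.leaf 0xc378e99)) (.node (.leaf 0x10428e9b) (.leaf 0x0)))))))) (.node (.node (.node (.node (.node (.node (.node (.leaf 0x15774e9b) (.leaf 0xebd0e9f)) (.node (.leaf 0xf530e9f) (.leaf 0xf834e9f))) (.node (.node (.leaf 0xb604e9f) (.leaf 0x12f10e9b)) (.node (.leaf 0x18864e99) (.leaf 0x16738e9d)))) (.node (.node (.node (.leaf 0x121c0e97) (.leaf 0x8014e9f)) (.node (.leaf 0x1395ce9f) (.leaf 0x117d4e9d))) (.node (.node (.leaf 0xd270e9f) (.leaf 0x15ae4e97)) (.node (.leaf 0x12ba0e9f) (.leaf 0x0))))) (.node (.node (.node (.node (.leaf 0xe23ce97) (.leaf 0xe8e0e9d)) (.node (.leaf 0xaebce9f) (.leaf 0xc7b0e95))) (.node (.node (.leaf 0x12b20e9d) (.leaf 0x11b84e97)) (.node (.leaf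 0xeeb0e9d) (.leaf 0x130cce9b)))) (.node (.node (.node (.leaf 0x13a30e97) (.leaf 0xb358e99)) (.node (.leaf 0xd310e95) (.leaf 0x14868e9f))) (.node (.node (.leaf 0x8afce97) (.leaf 0xfa28e97)) (.node (.leaf 0x10208e9d) (.leaf 0x0)))))) (.node (.node (.node (.node (.node (.leaf 0x119ece97) (.leaf 0x115e4e97)) (.node (.leaf 0xb358e9b) (.leaf 0x12ee0e9f))) (.node (.node (.leaf 0x12274e9d) (.leaf 0x12448e95)) (.node (.leaf 0x177e4e9b) (.leaf 0x16050e97)))) (.node (.node (.node (.leaf 0x80c4e95) (.leaf 0x149f8e9f)) (.node (.leaf 0x10108e9f) (.leaf 0xf8d0e9d))) (.node (.node (.leaf 0x12770e9b) (.leaf 0xf69ce95)) (.node (.leaf 0xd2d8e9d) (.leaf 0x0))))) (.node (.node (.node (.node (.leaf 0xdb38e9d) (.leaf 0x1394ce85)) (.node (.leaf 0x9164e9f) (.leaf 0x105d4e9f))) (.node (.node (.leaf 0x1350ce99) (.leaf 0xeae8e97)) (.node (.leaf 0x16d04e95) (.leaf 0x0)))) (.node (.node (.node (.leaf 0xb250e97)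 (.leaf 0xe0ece9f)) (.node (.leaf 0xd274e85) (.leaf 0xf85ce99))) (.node (.node (.leaf 0x13a7ce9b) (.leaf 0xacfce9d)) (.node (.leaf 0xee88e95) (.leaf 0x0))))))) (.node (.node (.node (.node (.node (.node (.leaf 0x11b4ce85) (.leaf 0x1383ce99)) (.node (.leaf 0x1389ce9f) (.leaf 0xfa24e9d))) (.node (.node (.leaf 0x12d18e9d) (.leaf 0x119cce97)) (.node (.leaf 0xc3ece95) (.leaf 0xe078e9d)))) (.node (.node (.node (.leaf 0x12f20e9f) (.leaf 0x15ae0e9d)) (.node (.leaf 0x10f80e9d) (.leaf 0x8890e9f))) (.node (.node (.leaf 0x10410e85) (.leaf 0xdb78e9d)) (.node (.leaf 0x156ece9d) (.leaf 0x0))))) (.node (.node (.node (.node (.leaf 0x82d8e95) (.leaf 0x15980e97)) (.node (.leaf 0x13448e9f) (.leaf 0x8b1ce95))) (.node (.node (.leaf 0x40c0e9d) (.leaf 0x11b40e9f)) (.node (.leaf 0x175bce9f) (.leaf 0xc260e9f)))) (.node (.node (.node (.leaf 0x10d54e9d) (.leaf 0x100a4e9d)) (.node (.leaf 0x13744e9d) (.leaf 0xb34ce85)))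 (.node (.node (.leaf 0xd278e9f) (.leaf 0xd39ce95)) (.node (.leaf 0xe74ce95) (.leaf 0x0)))))) (.node (.node (.node (.node (.node (.leaf 0x12fb8e9d) (.leaf 0x165b0e9d)) (.node (.leaf 0xf1f4e9d) (.leaf 0x8588e9d))) (.node (.node (.leaf 0x122f8e97) (.leaf 0x1407ce95)) (.node (.leaf 0x105f0e9d) (.leaf 0x16780e99)))) (.node (.node (.node (.leaf 0xe8e0e97) (.leaf 0x12a30e95)) (.node (.leaf 0x12174e9d) (.leaf 0x105f8e9f))) (.node (.node (.leaf 0x13acce97) (.leaf 0xd1fce97)) (.node (.leaf 0xea8) (.leaf 0x0))))) (.node (.node (.node (.node (.leaf 0x110b0e9d) (.leaf 0xc75ce97)) (.node (.leaf 0x82e8e9d) (.leaf 0x10c70e95))) (.node (.node (.leaf 0xf750e9d) (.leaf 0xb3c0e85)) (.node (.leaf 0x10b9ce99) (.leaf 0x0)))) (.node (.node (.node (.leaf 0x10084e85) (.leaf 0xc78ce9f)) (.node (.leaf 0x10c60e9f) (.leaf 0x8d14e9b))) (.node (.node (.leaf 0x857ce9b) (.leaf 0x10c8ce99)) (.node (.leaf 0x113e8e9d)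 (.leaf 0x0))))))))))

/-- packed table -/
noncomputable def cov6_lrl : BTree := (.node (.node (.node (.node (.node (.node (.node (.node (.node (.leaf 0xf498e85) (.leaf 0xf764e95)) (.node (.leaf 0x17700e9f) (.leaf 0x116e8e95))) (.node (.node (.leaf 0x10344e9f) (.leaf 0x141f0e97)) (.node (.leaf 0x10d10e9f) (.leaf 0x101b8e9d)))) (.node (.node (.node (.leaf 0x165c4e95) (.leaf 0x15b08e85)) (.node (.leaf 0x13760e9f) (.leaf 0xf69ce97))) (.node (.node (.leaf 0xac80e9d) (.leaf 0x10a00e97)) (.node (.leaf 0xf794e95) (.leaf 0x0))))) (.node (.node (.node (.node (.leaf 0xcc18e9b) (.leaf 0x105ece9f)) (.node (.leaf 0xb4d0e9f) (.leaf 0x11790e95))) (.node (.node (.leaf 0xcfbce9b) (.leaf 0xf9d8e9b)) (.node (.leaf 0xf874e9f) (.leaf 0x12ba0e9b)))) (.node (.node (.node (.leaf 0xfa64e99) (.leaf 0xee88e97)) (.node (.leaf 0x1747ce99) (.leaf 0xc878e9d))) (.node (.node (.leaf 0x10fc0e9f) (.leaf 0xe904e9f)) (.node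 (.leaf 0xe23ce9d) (.leaf 0x0)))))) (.node (.node (.node (.node (.node (.leaf 0xe8c4e95) (.leaf 0x15b00e99)) (.node (.leaf 0x16c8ce9d) (.leaf 0x10ff4e9b))) (.node (.node (.leaf 0x16ce8e95) (.leaf 0xebd0e9b)) (.node (.leaf 0x133f4e99) (.leaf 0xe8cce85)))) (.node (.node (.node (.leaf 0x1225ce97) (.leaf 0xc4a8e97)) (.node (.leaf 0x10f68e9d) (.leaf 0xc764e9f))) (.node (.node (.leaf 0x101f4e9f) (.leaf 0x11b74e97)) (.node (.leaf 0xf898e95) (.leaf 0x0))))) (.node (.node (.node (.node (.leaf 0x42dce99) (.leaf 0x109f4e95)) (.node (.leaf 0x16ea4e9f) (.leaf 0xacfce9b))) (.node (.node (.leaf 0x14e24e9f) (.leaf 0x8a84e9f)) (.node (.leaf 0x10fe8e9d) (.leaf 0xc278e9f)))) (.node (.node (.node (.leaf 0xeae0e95) (.leaf 0x10094e9d)) (.node (.leaf 0x8a84e95) (.leaf 0x11090e9b))) (.node (.node (.leaf 0xcdece97) (.leaf 0x16a40e9d)) (.node (.leaf 0xea68e95) (.leaf 0x0))))))) (.node (.node (.node (.node (.node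 (.node (.leaf 0x125e4e99) (.leaf 0x10d5ce9f)) (.node (.leaf 0x154e4e97) (.leaf 0x161ace9f))) (.node (.node (.leaf 0x1037ce97) (.leaf 0x802ce95)) (.node (.leaf 0x12fb8e95) (.leaf 0xf804e9d)))) (.node (.node (.node (.leaf 0x11a10e99) (.leaf 0x12face95)) (.node (.leaf 0x1394ce9f) (.leaf 0xe038e9f))) (.node (.node (.leaf 0x10118e99) (.leaf 0x103e4e9b)) (.node (.leaf 0x15fb4e9b) (.leaf 0x0))))) (.node (.node (.node (.node (.leaf 0x13910e97) (.leaf 0xf388e9f)) (.node (.leaf 0x16e74e99) (.leaf 0xbb3ce99))) (.node (.node (.leaf 0x10820e9b) (.leaf 0xe648e9d)) (.node (.leaf 0x117cce99) (.leaf 0x11020e9f)))) (.node (.node (.node (.leaf 0xc278e9d) (.leaf 0x12324e99)) (.node (.leaf 0x5df0e9b) (.leaf 0xcc4ce97))) (.node (.node (.leaf 0x12908e9d) (.leaf 0xaf0ce99)) (.node (.leaf 0x121b4e9d) (.leaf 0x0)))))) (.node (.node (.node (.node (.node (.leaf 0x1208ce99) (.leaf 0xc590e9b)) (.node (.leaf 0x9374e9d)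 (.leaf 0x10768e9f))) (.node (.node (.leaf 0x14b00e9f) (.leaf 0x15834e9f)) (.node (.leaf 0x10834e99) (.leaf 0x14710e99)))) (.node (.node (.node (.leaf 0x40d8e95) (.leaf 0x109f4e9f)) (.node (.leaf 0x11c58e9f) (.leaf 0x10d64e9f))) (.node (.node (.leaf 0xa520e9d) (.leaf 0x14680e9d)) (.node (.leaf 0x12224e95) (.leaf 0x0))))) (.node (.node (.node (.node (.leaf 0x10ae8e9d) (.leaf 0x133e4e9d)) (.node (.leaf 0x13190e85) (.leaf 0xb604e9b))) (.node (.node (.leaf 0xd4ace9d) (.leaf 0x11cc8e97)) (.node (.leaf 0xf698e9f) (.leaf 0x0)))) (.node (.node (.node (.leaf 0x8b1ce97) (.leaf 0x170e8e99)) (.node (.leaf 0x1212ce99) (.leaf 0x8014e99))) (.node (.node (.leaf 0xf698e85) (.leaf 0xe458e97)) (.node (.leaf 0xb278e9d) (.leaf 0x0)))))))) (.node (.node (.node (.node (.node (.node (.node (.leaf 0xd2e0e95) (.leaf 0xac80e9f)) (.node (.leaf 0x103dce99) (.leaf 0xeb08e99))) (.node (.node (.leaf 0x10e78e9d) (.leaf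 0xb854e97)) (.node (.leaf 0x105f8e99) (.leaf 0xa028e99)))) (.node (.node (.node (.leaf 0x121b4e97) (.leaf 0xef70e95)) (.node (.leaf 0x11ab8e9b) (.leaf 0xf41ce97))) (.node (.node (.leaf 0x1062ce9d) (.leaf 0xd3b0e9f)) (.node (.leaf 0xb850e99) (.leaf 0x0))))) (.node (.node (.node (.node (.leaf 0x14394e97) (.leaf 0xf648e99)) (.node (.leaf 0x1744ce9d) (.leaf 0xe8bce9f))) (.node (.node (.leaf 0xcce8e95) (.leaf 0x13028e9f)) (.node (.leaf 0xf004e9f) (.leaf 0x16e24e97)))) (.node (.node (.node (.leaf 0xccd8e9b) (.leaf 0x8af0e95)) (.node (.leaf 0x11054e85) (.leaf 0xa01ce9f))) (.node (.node (.leaf 0x12b28e97) (.leaf 0x15650e9d)) (.node (.leaf 0x131d0e95) (.leaf 0x0)))))) (.node (.node (.node (.node (.node (.leaf 0xad00e9d) (.leaf 0xc4ace85)) (.node (.leaf 0x15c30e9f) (.leaf 0xc60ce9b))) (.node (.node (.leaf 0x40b4e97) (.leaf 0x10208e95)) (.node (.leaf 0x11c18e95) (.leaf 0xcc4ce9b)))) (.node (.node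 (.node (.leaf 0x1636ce9f) (.leaf 0x134f8e97)) (.node (.leaf 0x11d34e9d) (.leaf 0x1106ce9d))) (.node (.node (.leaf 0x1275ce95) (.leaf 0x14164e99)) (.node (.leaf 0xe4e0e97) (.leaf 0x0))))) (.node (.node (.node (.node (.leaf 0xc878e95) (.leaf 0x88b0e97)) (.node (.leaf 0xf7d8e99) (.leaf 0xca64e97))) (.node (.node (.leaf 0x92dce95) (.leaf 0x15718e9d)) (.node (.leaf 0xc7f8e85) (.leaf 0x4744e95)))) (.node (.node (.node (.leaf 0xf6a8e9d) (.leaf 0x10fd4e99)) (.node (.leaf 0x1615ce99) (.leaf 0x121c0e9f))) (.node (.node (.leaf 0xcacce95) (.leaf 0x15b08e97)) (.node (.leaf 0x12504e9d) (.leaf 0x0))))))) (.node (.node (.node (.node (.node (.node (.leaf 0x7360e9b) (.leaf 0xc73ce9d)) (.node (.leaf 0x157e0e95) (.leaf 0xc60ce97))) (.node (.node (.leaf 0xc100e9b) (.leaf 0x8b1ce99)) (.node (.leaf 0x103f4e95) (.leaf 0xb5b0e99)))) (.node (.node (.node (.leaf 0x111a8e9d) (.leaf 0xe1a0e9f)) (.node (.leaf 0x10ba0e9f)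 (.leaf 0x15fe0e97))) (.node (.node (.leaf 0xe618e97) (.leaf 0xc4ace99)) (.node (.leaf 0xc48ce9f) (.leaf 0x0))))) (.node (.node (.node (.node (.leaf 0xcfbce95) (.leaf 0x15cb0e9f)) (.node (.leaf 0x40d8e9b) (.leaf 0x10810e95))) (.node (.node (.leaf 0x12168e9f) (.leaf 0xc43ce9f)) (.node (.leaf 0xe8bce95) (.leaf 0x10854e9d)))) (.node (.node (.node (.leaf 0x10600e97) (.leaf 0x12628e9f)) (.node (.leaf 0x10a80e97) (.leaf 0x90b8e9f))) (.node (.node (.leaf 0x12d18e99) (.leaf 0x16ce8e99)) (.node (.leaf 0x1555ce97) (.leaf 0x0)))))) (.node (.node (.node (.node (.node (.leaf 0xd9ace9f) (.leaf 0xa02ce97)) (.node (.leaf 0xcce4e95) (.leaf 0x10dc8e9f))) (.node (.node (.leaf 0x17400e9d) (.leaf 0x16634e9f)) (.node (.leaf 0x12070e9f) (.leaf 0xf23ce97)))) (.node (.node (.node (.leaf 0xef70e9b) (.leaf 0xca64e9d)) (.node (.leaf 0x10420e85) (.leaf 0x1167ce97))) (.node (.node (.leaf 0xdb78e99) (.leaf 0x13af0e99))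 (.node (.leaf 0xe1bce9d) (.leaf 0x0))))) (.node (.node (.node (.node (.leaf 0x1104ce9b) (.leaf 0x101c8e99)) (.node (.leaf 0xf898e99) (.leaf 0x11054e95))) (.node (.node (.leaf 0x11a10e9b) (.leaf 0x17318e85)) (.node (.leaf 0xa034e97) (.leaf 0x0)))) (.node (.node (.node (.leaf 0x141fce9d) (.leaf 0x82e0e9d)) (.node (.leaf 0xcc18e85) (.leaf 0x10720e9d))) (.node (.node (.leaf 0x10f7ce9d) (.leaf 0xe480e97)) (.node (.leaf 0x14e40e9d) (.leaf 0x0))))))))) (.node (.node (.node (.node (.node (.node (.node (.node (.leaf 0x13634e95) (.leaf 0x7360e9f)) (.node (.leaf 0x11c4ce95) (.leaf 0xd2d8e9f))) (.node (.node (.leaf 0x1249ce9b) (.leaf 0x92c0e97)) (.node (.leaf 0xe9a8e9d) (.leaf 0x1178ce9f)))) (.node (.node (.node (.leaf 0xcc08e9d) (.leaf 0x11214e9b)) (.node (.leaf 0xf750e9f) (.leaf 0xdde4e97))) (.node (.node (.leaf 0x10e78e85) (.leaf 0x1197ce97)) (.node (.leaf 0x1779ce95) (.leaf 0x0))))) (.node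 (.node (.node (.node (.leaf 0x12c24e99) (.leaf 0x1177ce9d)) (.node (.leaf 0x1104ce97) (.leaf 0x10050e95))) (.node (.node (.leaf 0x10e18e97) (.leaf 0x136a4e95)) (.node (.leaf 0xfa5ce85) (.leaf 0xb868e97)))) (.node (.node (.node (.leaf 0x13078e9f) (.leaf 0xcc18e95)) (.node (.leaf 0x11d10e95) (.leaf 0x12fb0e9d))) (.node (.node (.leaf 0x8b1ce9d) (.leaf 0x136f8e95)) (.node (.leaf 0x16c54e9d) (.leaf 0x0)))))) (.node (.node (.node (.node (.node (.leaf 0x10c70e9b) (.leaf 0xf600e97)) (.node (.leaf 0xc3e8e9d) (.leaf 0x10950e97))) (.node (.node (.leaf 0x12248e9f) (.leaf 0x88c4e99)) (.node (.leaf 0x16688e99) (.leaf 0x11368e97)))) (.node (.node (.node (.leaf 0x10ac4e97) (.leaf 0x8da0e9d)) (.node (.leaf 0x136d0e95) (.leaf 0xf844e9d))) (.node (.node (.leaf 0x13b14e9b) (.leaf 0x14188e99)) (.node (.leaf 0x10ff4e95) (.leaf 0x0))))) (.node (.node (.node (.node (.leaf 0x7568e9d) (.leaf 0x108c8e97)) (.node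 (.leaf 0x11e08e95) (.leaf 0x105e8e97))) (.node (.node (.leaf 0x12128e9d) (.leaf 0xca64e9f)) (.node (.leaf 0x10fe8e95) (.leaf 0x160e0e95)))) (.node (.node (.node (.leaf 0xaf0ce95) (.leaf 0xf05ce95)) (.node (.leaf 0x11720e85) (.leaf 0x10714e9d))) (.node (.node (.leaf 0x15980e9d) (.leaf 0x11450e95)) (.node (.leaf 0xfb1ce85) (.leaf 0x0))))))) (.node (.node (.node (.node (.node (.node (.leaf 0xc73ce95) (.leaf 0x10294e99)) (.node (.leaf 0x13a9ce9d) (.leaf 0xc728e9f))) (.node (.node (.leaf 0x12060e95) (.leaf 0x10024e9d)) (.node (.leaf 0x12f18e95) (.leaf 0xed84e95)))) (.node (.node (.node (.leaf 0x88e0e9f) (.leaf 0x12da4e95)) (.node (.leaf 0x10748e99) (.leaf 0x10294e9b))) (.node (.node (.leaf 0x12b80e99) (.leaf 0x857ce99)) (.node (.leaf 0x139e0e9f) (.leaf 0x0))))) (.node (.node (.node (.node (.leaf 0x7568e9b) (.leaf 0x15974e99)) (.node (.leaf 0x1744ce95) (.leaf 0x16120e9d))) (.node (.node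 (.leaf 0x15b28e99) (.leaf 0x10348e9b)) (.node (.leaf 0x14a28e9f) (.leaf 0xd1e8e99)))) (.node (.node (.node (.leaf 0x10950e99) (.leaf 0xe348e99)) (.node (.leaf 0x10a80e85) (.leaf 0xb604e99))) (.node (.node (.leaf 0x1208ce9b) (.leaf 0xf774e85)) (.node (.leaf 0x147c0e9b) (.leaf 0x0)))))) (.node (.node (.node (.node (.node (.leaf 0x10e7ce9f) (.leaf 0xa01ce97)) (.node (.leaf 0xf024e95) (.leaf 0x102bce99))) (.node (.node (.leaf 0xdb38e9b) (.leaf 0xb278e97)) (.node (.leaf 0x12060e9f) (.leaf 0x11d50e95)))) (.node (.node (.node (.leaf 0x11054e9f) (.leaf 0xc4a0e9f)) (.node (.leaf 0x134b4e99) (.leaf 0x138a0e9d))) (.node (.node (.leaf 0xf778e9d) (.leaf 0xfb34e9b)) (.node (.leaf 0x16230e9f) (.leaf 0x0))))) (.node (.node (.node (.node (.leaf 0x11d60e9d) (.leaf 0x12234e9d)) (.node (.leaf 0xac44e9d) (.leaf 0x13410e97))) (.node (.node (.leaf 0xd4ace95) (.leaf 0x90b8e85)) (.node (.leaf 0x12134e99) (.leaf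 0x0)))) (.node (.node (.node (.leaf 0xc96ce9b) (.leaf 0x88d8e99)) (.node (.leaf 0xef70e85) (.leaf 0x10714e99))) (.node (.node (.leaf 0x122dce9b) (.leaf 0x107f4e99)) (.node (.leaf 0xf36ce9b) (.leaf 0x0)))))))) (.node (.node (.node (.node (.node (.node (.node (.leaf 0xd2e0e85) (.leaf 0xdb6ce9f)) (.node (.leaf 0x1275ce9d) (.leaf 0xcc34e9b))) (.node (.node (.leaf 0x11c58e9b) (.leaf 0x1042ce97)) (.node (.leaf 0x166b0e85) (.leaf 0x40d8e99)))) (.node (.node (.node (.leaf 0x134b8e9f) (.leaf 0x92dce97)) (.node (.leaf 0x12150e9b) (.leaf 0xd268e9f))) (.node (.node (.leaf 0x139e0e9b) (.leaf 0x12908e95)) (.node (.leaf 0x15ed0e9d) (.leaf 0x0))))) (.node (.node (.node (.node (.leaf 0xb5b0e97) (.leaf 0xe468e9b)) (.node (.leaf 0xacfce9f) (.leaf 0xf134e97))) (.node (.node (.leaf 0x16b14e9d) (.leaf 0x8afce99)) (.node (.leaf 0x166bce97) (.leaf 0x12d60e9f)))) (.node (.node (.node (.leaf 0x1394ce97) (.leaf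 0x12294e9d)) (.node (.leaf 0xb3c0e95) (.leaf 0x1177ce95))) (.node (.node (.leaf 0xe458e99) (.leaf 0x14604e99)) (.node (.leaf 0xc498e99) (.leaf 0x0)))))) (.node (.node (.node (.node (.node (.leaf 0x1238ce9d) (.leaf 0xcaf4e95)) (.node (.leaf 0xe2d4e9f) (.leaf 0x13070e97))) (.node (.node (.leaf 0xc4ace9b) (.leaf 0x1068ce99)) (.node (.leaf 0x10f48e9f) (.leaf 0xe8e4e85)))) (.node (.node (.node (.leaf 0x10e5ce99) (.leaf 0x128c0e95)) (.node (.leaf 0x10ccce97) (.leaf 0x1b0a))) (.node (.node (.leaf 0x10144e9b) (.leaf 0x13b08e99)) (.node (.leaf 0x92c8e9d) (.leaf 0x0))))) (.node (.node (.node (.node (.leaf 0x12ea8e9f) (.leaf 0xe648e9f)) (.node (.leaf 0xd39ce99) (.leaf 0x14718e99))) (.node (.node (.leaf 0x16aace9b) (.leaf 0xd188e95)) (.node (.leaf 0x12cf0e95) (.leaf 0x0)))) (.node (.node (.node (.leaf 0xeca8e9f) (.leaf 0xd058e9f)) (.node (.leaf 0x10f8ce97) (.leaf 0x9324e95))) (.node (.node (.leaf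 0xf774e97) (.leaf 0xddf4e97)) (.node (.leaf 0xe8e8e95) (.leaf 0x0))))))) (.node (.node (.node (.node (.node (.node (.leaf 0x10ad0e9f) (.leaf 0x10dcce99)) (.node (.leaf 0xcf90e95) (.leaf 0x12ba0e99))) (.node (.node (.leaf 0x170e8e9f) (.leaf 0x8ae0e99)) (.node (.leaf 0x103e0e95) (.leaf 0x175d8e99)))) (.node (.node (.node (.leaf 0x114a0e99) (.leaf 0x11034e9d)) (.node (.leaf 0x117d4e9b) (.leaf 0x40c0e97))) (.node (.node (.leaf 0x80c8e9f) (.leaf 0x11b3ce9f)) (.node (.leaf 0x116d0e9d) (.leaf 0x0))))) (.node (.node (.node (.node (.leaf 0x42d0e95) (.leaf 0x10564e95)) (.node (.leaf 0x10858e9b) (.leaf 0xdb34e9b))) (.node (.node (.leaf 0xc0bce9d) (.leaf 0x88b0e9d)) (.node (.leaf 0xcf98e95) (.leaf 0x10dc4e95)))) (.node (.node (.node (.leaf 0x10048e9b) (.leaf 0x11574e9b)) (.node (.leaf 0xe468e9d) (.leaf 0x161b0e9d))) (.node (.node (.leaf 0xd4c4e9b) (.leaf 0xd188e9b)) (.node (.leaf 0xf750e95) (.leaf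 0x0)))))) (.node (.node (.node (.node (.node (.leaf 0xcc08e9b) (.leaf 0x137f8e9d)) (.node (.leaf 0xb4e8e9f) (.leaf 0xf648e97))) (.node (.node (.leaf 0x1357ce85) (.leaf 0x10484e97)) (.node (.leaf 0xa02ce99) (.leaf 0x15c30e85)))) (.node (.node (.node (.leaf 0xe8bce97) (.leaf 0x13460e97)) (.node (.leaf 0x14cc0e9b) (.leaf 0xc378e95))) (.node (.node (.leaf 0xf1b8e9d) (.leaf 0xac20e97)) (.node (.leaf 0x11b14e9b) (.leaf 0x0))))) (.node (.node (.node (.node (.leaf 0x98d0e85) (.leaf 0x10410e9d)) (.node (.leaf 0xf6a8e97) (.leaf 0xd39ce97))) (.node (.node (.leaf 0x1260ce9f) (.leaf 0x15024e9f)) (.node (.leaf 0x16c68e9f) (.leaf 0x0)))) (.node (.node (.node (.leaf 0x10280e97) (.leaf 0xe850e99)) (.node (.leaf 0x118c4e99) (.leaf 0xce34e97))) (.node (.node (.leaf 0xebd0e9d) (.leaf 0xd378e97)) (.node (.leaf 0x126b8e9b) (.leaf 0x0))))))))))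

/-- packed table -/
noncomputable def cov6_lrr : BTree := (.node (.node (.node (.node (.node (.node (.node (.node (.node (.leaf 0xf1f4e95) (.leaf 0x12e44e97)) (.node (.leaf 0x17b24e9d) (.leaf 0x92c0e9f))) (.node (.node (.leaf 0x8a84e99) (.leaf 0x13948e9f)) (.node (.leaf 0x131e8e97) (.leaf 0x11770e9f)))) (.node (.node (.node (.leaf 0xc138e9b) (.leaf 0x80c4e9b)) (.node (.leaf 0xc378e9d) (.leaf 0xe7cce97))) (.node (.node (.leaf 0xaebce9d) (.leaf 0xe928e99)) (.node (.leaf 0xc78ce95) (.leaf 0x0))))) (.node (.node (.node (.node (.leaf 0x15804e9d) (.leaf 0x11c10e9d)) (.node (.leaf 0x163b0e9f) (.leaf 0x12bc0e9d))) (.node (.node (.leaf 0x12cb8e9d) (.leaf 0x130e4e95)) (.node (.leaf 0xe860e9d) (.leaf 0x109d0e97)))) (.node (.node (.node (.leaf 0xccfce9b) (.leaf 0x8bcce9d)) (.node (.leaf 0x10050e85) (.leaf 0x12530e9d))) (.node (.node (.leaf 0xcf9ce9f) (.leaf 0xc72ce9d)) (.node (.leaf 0x12bece9d)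 (.leaf 0x0)))))) (.node (.node (.node (.node (.node (.leaf 0xdc48e95) (.leaf 0x10600e9f)) (.node (.leaf 0x1137ce85) (.leaf 0x11ca4e9b))) (.node (.node (.leaf 0xe874e99) (.leaf 0xc100e95)) (.node (.leaf 0x163e4e99) (.leaf 0x13954e97)))) (.node (.node (.node (.leaf 0x10e98e99) (.leaf 0x11b88e95)) (.node (.leaf 0x1229ce9f) (.leaf 0xf834e9d))) (.node (.node (.leaf 0xeba8e9d) (.leaf 0xe3c4e95)) (.node (.leaf 0xf41ce9d) (.leaf 0x0))))) (.node (.node (.node (.node (.leaf 0xf0b8e97) (.leaf 0x139f4e97)) (.node (.leaf 0x105c4e9f) (.leaf 0x11714e99))) (.node (.node (.leaf 0x10720e9b) (.leaf 0xde04e9d)) (.node (.leaf 0xf498e99) (.leaf 0x130d4e9d)))) (.node (.node (.node (.leaf 0x13910e95) (.leaf 0x1760ce97)) (.node (.leaf 0x11c4ce9d) (.leaf 0xb850e97))) (.node (.node (.leaf 0x1c3e) (.leaf 0xece0e95)) (.node (.leaf 0xf8c8e9d) (.leaf 0x0))))))) (.node (.node (.node (.node (.node (.node (.leaf 0xf600e99)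 (.leaf 0xeae4e97)) (.node (.leaf 0x10f6ce9b) (.leaf 0x14738e9f))) (.node (.node (.leaf 0x10370e97) (.leaf 0x11720e95)) (.node (.leaf 0x16ca0e9b) (.leaf 0x9324e99)))) (.node (.node (.node (.leaf 0x88b0e9f) (.leaf 0x12ac0e9d)) (.node (.leaf 0x13954e9f) (.leaf 0x8a84e9d))) (.node (.node (.leaf 0xe048e9f) (.leaf 0x161ace9d)) (.node (.leaf 0xe874e95) (.leaf 0x0))))) (.node (.node (.node (.node (.leaf 0xcbd0e9d) (.leaf 0x11090e99)) (.node (.leaf 0x1371ce99) (.leaf 0x1229ce9d))) (.node (.node (.leaf 0x133e4e9f) (.leaf 0x12628e9d)) (.node (.leaf 0x10748e97) (.leaf 0x12a78e9b)))) (.node (.node (.node (.leaf 0x12a60e9f) (.leaf 0xe32ce99)) (.node (.leaf 0x12fb0e85) (.leaf 0xb1c0e99))) (.node (.node (.leaf 0xe458e95) (.leaf 0xf434e85)) (.node (.leaf 0x1178ce9d) (.leaf 0x0)))))) (.node (.node (.node (.node (.node (.leaf 0x14630e85) (.leaf 0xe848e9d)) (.node (.leaf 0x11a00e97) (.leaf 0xdb38e99)))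 (.node (.node (.leaf 0x16124e97) (.leaf 0x13518e97)) (.node (.leaf 0xf764e9b) (.leaf 0x10084e95)))) (.node (.node (.node (.leaf 0xc138e9f) (.leaf 0xc0e0e9f)) (.node (.leaf 0x134b8e99) (.leaf 0x172c0e99))) (.node (.node (.leaf 0x12e80e9d) (.leaf 0x1041ce95)) (.node (.leaf 0xe1a8e9d) (.leaf 0x0))))) (.node (.node (.node (.node (.leaf 0x1377ce9b) (.leaf 0xfa5ce97)) (.node (.leaf 0x13190e97) (.leaf 0xeb08e85))) (.node (.node (.leaf 0x10410e95) (.leaf 0x15114e95)) (.node (.leaf 0x121ece9d) (.leaf 0x0)))) (.node (.node (.node (.leaf 0x13144e9b) (.leaf 0x130c8e99)) (.node (.leaf 0xc490e95) (.leaf 0xc570e9f))) (.node (.node (.leaf 0xb868e85) (.leaf 0x124c8e9b)) (.node (.leaf 0x14994e97) (.leaf 0x0)))))))) (.node (.node (.node (.node (.node (.node (.node (.leaf 0x10750e9b) (.leaf 0x11120e99)) (.node (.leaf 0xb3c0e97) (.leaf 0x9164e9d))) (.node (.node (.leaf 0xe2cce95) (.leaf 0xa7f8e99)) (.node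 (.leaf 0x11214e9f) (.leaf 0x70e0e99)))) (.node (.node (.node (.leaf 0xda7ce97) (.leaf 0xa26ce99)) (.node (.leaf 0x14e50e95) (.leaf 0x1126ce9f))) (.node (.node (.leaf 0x16ce4e9f) (.leaf 0xf1b8e9b)) (.node (.leaf 0xebd0e95) (.leaf 0x0))))) (.node (.node (.node (.node (.leaf 0x12abce99) (.leaf 0xd40ce97)) (.node (.leaf 0x179d0e95) (.leaf 0x11690e9f))) (.node (.node (.leaf 0xeeb0e99) (.leaf 0x10c98e99)) (.node (.leaf 0xa02ce9b) (.leaf 0xb854e9d)))) (.node (.node (.node (.leaf 0x10e58e9d) (.leaf 0x12268e9d)) (.node (.leaf 0xe690e99) (.leaf 0x10e9ce9d))) (.node (.node (.leaf 0xeae4e9d) (.leaf 0xcff0e97)) (.node (.leaf 0x10478e9f) (.leaf 0x0)))))) (.node (.node (.node (.node (.node (.leaf 0xe74ce99) (.leaf 0x10ad0e9d)) (.node (.leaf 0xc3f8e9d) (.leaf 0xcce4e9f))) (.node (.node (.leaf 0x15804e97) (.leaf 0xc8e4e99)) (.node (.leaf 0x118d8e95) (.leaf 0xf6a0e99)))) (.node (.node (.node (.leaf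 0x17178e95) (.leaf 0x13428e9b)) (.node (.leaf 0xdd54e99) (.leaf 0x11efce9b))) (.node (.node (.leaf 0x122ace85) (.leaf 0x12ef4e9f)) (.node (.leaf 0x112c4e9d) (.leaf 0x0))))) (.node (.node (.node (.node (.leaf 0xdb34e9d) (.leaf 0x13630e85)) (.node (.leaf 0xd38ce99) (.leaf 0x40c0e9f))) (.node (.node (.leaf 0x13a14e9d) (.leaf 0x11ca4e97)) (.node (.leaf 0xf378e9f) (.leaf 0x0)))) (.node (.node (.node (.leaf 0xfb1ce9d) (.leaf 0x15074e9f)) (.node (.leaf 0x15d5ce9d) (.leaf 0xe7cce85))) (.node (.node (.leaf 0xf6a8e85) (.leaf 0xe74ce9f)) (.node (.leaf 0xdb50e9f) (.leaf 0x0))))))) (.node (.node (.node (.node (.node (.node (.leaf 0xe82) (.leaf 0x11798e9d)) (.node (.leaf 0x10044e95) (.leaf 0xddece99))) (.node (.node (.leaf 0x7568e97) (.leaf 0x8328e99)) (.node (.leaf 0xc3d4e95) (.leaf 0xf8d0e85)))) (.node (.node (.node (.leaf 0x12b94e95) (.leaf 0xc480e97)) (.node (.leaf 0x131d0e9f) (.leaf 0x111e4e9d)))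 (.node (.node (.leaf 0x9220e9f) (.leaf 0x16ec0e9f)) (.node (.leaf 0xe2d4e9d) (.leaf 0x0))))) (.node (.node (.node (.node (.leaf 0x42dce95) (.leaf 0xf4f0e85)) (.node (.leaf 0x8588e9b) (.leaf 0xdb44e9b))) (.node (.node (.leaf 0x1126ce9b) (.leaf 0x112d4e9f)) (.node (.leaf 0xebf0e95) (.leaf 0x11334e9d)))) (.node (.node (.node (.leaf 0xb278e85) (.leaf 0x179d4e97)) (.node (.leaf 0xe828e9d) (.leaf 0x11c4ce9b))) (.node (.node (.leaf 0x12f84e97) (.leaf 0x1214ce95)) (.node (.leaf 0xf6c8e9b) (.leaf 0x0)))))) (.node (.node (.node (.node (.node (.leaf 0x14e80e95) (.leaf 0xd310e97)) (.node (.leaf 0xb4d4e9d) (.leaf 0xc010e97))) (.node (.node (.leaf 0xeadce95) (.leaf 0xa02ce9f)) (.node (.leaf 0x125d0e85) (.leaf 0x8948e9f)))) (.node (.node (.node (.leaf 0x112d4e97) (.leaf 0x10c70e97)) (.node (.leaf 0x10c6ce97) (.leaf 0x11910e9d))) (.node (.node (.leaf 0x11e10e9d) (.leaf 0x12c30e97)) (.node (.leaf 0x5f50e95)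 (.leaf 0x0))))) (.node (.node (.node (.node (.leaf 0x111c8e9d) (.leaf 0x12908e9f)) (.node (.leaf 0x11f10e95) (.leaf 0xddece9b))) (.node (.node (.leaf 0x12cc8e99) (.leaf 0x168f4e99)) (.node (.leaf 0x10ddce99) (.leaf 0x0)))) (.node (.node (.node (.leaf 0x10264e97) (.leaf 0xb0c0e85)) (.node (.leaf 0x11aa0e9b) (.leaf 0xb3c0e9d))) (.node (.node (.leaf 0x12278e9d) (.leaf 0x117c8e97)) (.node (.leaf 0x166b0e9b) (.leaf 0x0))))))))) (.node (.node (.node (.node (.node (.node (.node (.node (.leaf 0x13798e9f) (.leaf 0xad00e9f)) (.node (.leaf 0x17318e97) (.leaf 0x9164e95))) (.node (.node (.leaf 0xf4f0e97) (.leaf 0x9688e95)) (.node (.leaf 0x12608e99) (.leaf 0x12cf0e9d)))) (.node (.node (.node (.leaf 0x11714e9f) (.leaf 0x105e8e9b)) (.node (.leaf 0x1265ce9d) (.leaf 0x126ace9d))) (.node (.node (.leaf 0x137b0e97) (.leaf 0x100fce9b)) (.node (.leaf 0xf834e99) (.leaf 0x0))))) (.node (.node (.node (.node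 (.leaf 0x16a18e99) (.leaf 0xd40ce99)) (.node (.leaf 0x10318e97) (.leaf 0x88b0e99))) (.node (.node (.leaf 0x119e4e85) (.leaf 0x11fc0e97)) (.node (.leaf 0xf000e9d) (.leaf 0x12a34e9d)))) (.node (.node (.node (.leaf 0x10924e9d) (.leaf 0x10dc4e9b)) (.node (.leaf 0x172c8e95) (.leaf 0xb34ce9f))) (.node (.node (.leaf 0x11420e97) (.leaf 0x10044e97)) (.node (.leaf 0x10fe8e9b) (.leaf 0x0)))))) (.node (.node (.node (.node (.node (.leaf 0x8890e85) (.leaf 0x1af44e9f)) (.node (.leaf 0x12a00e99) (.leaf 0xc788e99))) (.node (.node (.leaf 0x106b4e9b) (.leaf 0xfa0ce99)) (.node (.leaf 0x11fd0e85) (.leaf 0xe750e95)))) (.node (.node (.node (.leaf 0x11034e9b) (.leaf 0x10a58e85)) (.node (.leaf 0xe86ce95) (.leaf 0xd058e9d))) (.node (.node (.leaf 0xf6c8e97) (.leaf 0x10150e99)) (.node (.leaf 0x163d8e99) (.leaf 0x0))))) (.node (.node (.node (.node (.leaf 0xcda4e97) (.leaf 0x108d4e97)) (.node (.leaf 0xf9e) (.leaf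 0xc3d4e97))) (.node (.node (.leaf 0x10720e99) (.leaf 0x145d8e9b)) (.node (.leaf 0x80d0e97) (.leaf 0x1205ce97)))) (.node (.node (.node (.leaf 0x117bce95) (.leaf 0x1178ce95)) (.node (.leaf 0xd878e9f) (.leaf 0xde64e99))) (.node (.node (.leaf 0x125e4e97) (.leaf 0x10294e97)) (.node (.leaf 0x10338e9f) (.leaf 0x0))))))) (.node (.node (.node (.node (.node (.node (.leaf 0x17350e9d) (.leaf 0x132c4e9f)) (.node (.leaf 0x72e0e9f) (.leaf 0xb9ace9d))) (.node (.node (.leaf 0x16ad8e9f) (.leaf 0x10708e99)) (.node (.leaf 0xc728e99) (.leaf 0x4744e9b)))) (.node (.node (.node (.leaf 0x10a80e9f) (.leaf 0x12cb8e99)) (.node (.leaf 0xf290e9d) (.leaf 0xf6a0e95))) (.node (.node (.leaf 0xde64e97) (.leaf 0xe1a0e9d)) (.node (.leaf 0x122e4e9d) (.leaf 0x0))))) (.node (.node (.node (.node (.leaf 0x133e8e99) (.leaf 0x1322ce9f)) (.node (.leaf 0x89c0e9b) (.leaf 0x13968e95))) (.node (.node (.leaf 0x11cd8e97) (.leaf 0x10c70e85))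 (.node (.leaf 0xc570e95) (.leaf 0x10838e9d)))) (.node (.node (.node (.leaf 0x10f4ce9d) (.leaf 0xc48ce97)) (.node (.leaf 0x12ea8e9b) (.leaf 0x110e0e9f))) (.node (.node (.leaf 0x15958e9f) (.leaf 0x10740e9d)) (.node (.leaf 0x10c9ce97) (.leaf 0x0)))))) (.node (.node (.node (.node (.node (.leaf 0xe038e9b) (.leaf 0xe078e99)) (.node (.leaf 0x11a50e95) (.leaf 0x82a8e97))) (.node (.node (.leaf 0x13b08e95) (.leaf 0xcf9ce9d)) (.node (.leaf 0xddece9d) (.leaf 0x70e0e9b)))) (.node (.node (.node (.leaf 0xc498e97) (.leaf 0x10f24e95)) (.node (.leaf 0x12190e95) (.leaf 0x13908e95))) (.node (.node (.leaf 0x4f18e9d) (.leaf 0x15e7ce99)) (.node (.leaf 0x10f04e9f) (.leaf 0x0))))) (.node (.node (.node (.node (.leaf 0x12698e99) (.leaf 0xd274e95)) (.node (.leaf 0x82d8e9d) (.leaf 0x1180ce99))) (.node (.node (.leaf 0x13a9ce99) (.leaf 0x8d14e9f)) (.node (.leaf 0x1308ce9f) (.leaf 0x0)))) (.node (.node (.node (.leaf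 0xbb48e9f) (.leaf 0xf290e9b)) (.node (.leaf 0x10950e85) (.leaf 0xcc34e95))) (.node (.node (.leaf 0x117d4e97) (.leaf 0xe478e85)) (.node (.leaf 0x15b08e99) (.leaf 0x0)))))))) (.node (.node (.node (.node (.node (.node (.node (.leaf 0xf8c8e99) (.leaf 0x8890e97)) (.node (.leaf 0x103cce99) (.leaf 0xeeb0e9f))) (.node (.node (.leaf 0x88dce9d) (.leaf 0xf498e97)) (.node (.leaf 0x82a8e85) (.leaf 0x176d4e95)))) (.node (.node (.node (.leaf 0xc8e4e9f) (.leaf 0xb868e9f)) (.node (.leaf 0x12958e97) (.leaf 0x15f78e9f))) (.node (.node (.leaf 0x16a28e95) (.leaf 0x1030ce97)) (.node (.leaf 0x173a4e9d) (.leaf 0x0))))) (.node (.node (.node (.node (.leaf 0xaf0ce97) (.leaf 0xe8e8e9d)) (.node (.leaf 0xb1c0e9f) (.leaf 0x620ce99))) (.node (.node (.leaf 0x16f28e95) (.leaf 0xc4ace97)) (.node (.leaf 0xf000e9f) (.leaf 0x12104e95)))) (.node (.node (.node (.leaf 0x15648e9b) (.leaf 0x11450e9f)) (.node (.leaf 0xe2d0e9b)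 (.leaf 0xd1e0e99))) (.node (.node (.leaf 0xd270e9b) (.leaf 0xe848e97)) (.node (.leaf 0x11fa8e97) (.leaf 0x0)))))) (.node (.node (.node (.node (.node (.leaf 0x10874e9d) (.leaf 0x150a4e99)) (.node (.leaf 0xe140e95) (.leaf 0x101e8e85))) (.node (.node (.leaf 0x16a1ce9d) (.leaf 0x10ef8e95)) (.node (.leaf 0x13784e9b) (.leaf 0x12d78e9d)))) (.node (.node (.node (.leaf 0x17200e9f) (.leaf 0x10a00e9f)) (.node (.leaf 0x10118e9f) (.leaf 0x1242ce9d))) (.node (.node (.leaf 0xdde4e9b) (.leaf 0xf75ce95)) (.node (.leaf 0x105f8e97) (.leaf 0x0))))) (.node (.node (.node (.node (.leaf 0x8890e95) (.leaf 0x11034e9f)) (.node (.leaf 0x8af0e85) (.leaf 0x8014e97))) (.node (.node (.leaf 0xf848e95) (.leaf 0x1263ce9f)) (.node (.leaf 0xad00e95) (.leaf 0x0)))) (.node (.node (.node (.leaf 0xf388e9d) (.leaf 0x139f4e9b)) (.node (.leaf 0x13824e9d) (.leaf 0xb858e99))) (.node (.node (.leaf 0x154e4e9f) (.leaf 0x117a8e97))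 (.node (.leaf 0x12b20e95) (.leaf 0x0))))))) (.node (.node (.node (.node (.node (.node (.leaf 0x1099ce9b) (.leaf 0xf844e99)) (.node (.leaf 0x16fd8e97) (.leaf 0x11cd0e9b))) (.node (.node (.leaf 0x11414e99) (.leaf 0x10e78e9f)) (.node (.leaf 0x133f8e99) (.leaf 0xfa28e9d)))) (.node (.node (.node (.leaf 0x12c3ce99) (.leaf 0x10e68e95)) (.node (.leaf 0x10f8ce9d) (.leaf 0xe4e0e9f))) (.node (.node (.leaf 0x13840e85) (.leaf 0x11b64e97)) (.node (.leaf 0x134f8e99) (.leaf 0x0))))) (.node (.node (.node (.node (.leaf 0x82e8e99) (.leaf 0xe750e97)) (.node (.leaf 0x114c0e9f) (.leaf 0xccf4e9f))) (.node (.node (.leaf 0x12070e9b) (.leaf 0x108d4e9d)) (.node (.leaf 0x15964e97) (.leaf 0xd2cce97)))) (.node (.node (.node (.leaf 0xf0ace99) (.leaf 0x11460e9b)) (.node (.leaf 0x13248e95) (.leaf 0xe164e99))) (.node (.node (.leaf 0xcdece95) (.leaf 0x122a4e97)) (.node (.leaf 0xf8b0e95) (.leaf 0x0)))))) (.node (.node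 (.node (.node (.node (.leaf 0x16920e97) (.leaf 0x11d4ce9b)) (.node (.leaf 0x10f48e9d) (.leaf 0xdd68e95))) (.node (.node (.leaf 0x10fa4e9b) (.leaf 0x14bfce97)) (.node (.leaf 0xc490e9f) (.leaf 0x11dfce9d)))) (.node (.node (.node (.leaf 0xe8e8e97) (.leaf 0x1106ce95)) (.node (.leaf 0x11e10e97) (.leaf 0x1014ce9b))) (.node (.node (.leaf 0x12fb0e97) (.leaf 0x82a8e9d)) (.node (.leaf 0xf018e9b) (.leaf 0x0))))) (.node (.node (.node (.node (.leaf 0xac20e85) (.leaf 0x14c90e9f)) (.node (.leaf 0xfb40e9d) (.leaf 0xf31ce99))) (.node (.node (.leaf 0xd2d8e95) (.leaf 0x12e2ce95)) (.node (.leaf 0x15010e9f) (.leaf 0x0)))) (.node (.node (.node (.leaf 0xa88ce9b) (.leaf 0x42d0e9d)) (.node (.leaf 0x125c8e97) (.leaf 0xcbace85))) (.node (.node (.leaf 0x11b20e9f) (.leaf 0x88b0e9b)) (.node (.leaf 0x10208e97) (.leaf 0x0))))))))))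

/-- packed table -/
noncomputable def cov6_rll : BTree := (.node (.node (.node (.node (.node (.node (.node (.node (.node (.leaf 0x12de0e9d) (.leaf 0x14e94e97)) (.node (.leaf 0x14b98e9f) (.leaf 0x88c4e9b))) (.node (.node (.leaf 0xede4e97) (.leaf 0x13af8e9b)) (.node (.leaf 0x118d8e99) (.leaf 0xa034e9b)))) (.node (.node (.node (.leaf 0x10c20e9d) (.leaf 0x1041ce9d)) (.node (.leaf 0x12d70e9d) (.leaf 0x12014e97))) (.node (.node (.leaf 0x10a48e9d) (.leaf 0x10484e9f)) (.node (.leaf 0x1113ce9d) (.leaf 0x0))))) (.node (.node (.node (.node (.leaf 0x17318e9d) (.leaf 0x1774ce9d)) (.node (.leaf 0xf378e9d) (.leaf 0x1059ce9d))) (.node (.node (.leaf 0x8bcce95) (.leaf 0x12924e9f)) (.node (.leaf 0x12150e85) (.leaf 0x10608e97)))) (.node (.node (.node (.leaf 0x128d4e97) (.leaf 0x10858e99)) (.node (.leaf 0x15e70e97) (.leaf 0x5338e95))) (.node (.node (.leaf 0xe74ce9b) (.leaf 0xfa24e9f)) (.node (.leaf 0x8afce95)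 (.leaf 0x0)))))) (.node (.node (.node (.node (.node (.leaf 0x159c8e85) (.leaf 0xf848e99)) (.node (.leaf 0x12fcce97) (.leaf 0x141a8e95))) (.node (.node (.leaf 0x13af0e95) (.leaf 0x856ce9b)) (.node (.leaf 0x1710ce9d) (.leaf 0x118f0e9d)))) (.node (.node (.node (.leaf 0x12284e97) (.leaf 0xd278e95)) (.node (.leaf 0xe494e99) (.leaf 0xf69ce9f))) (.node (.node (.leaf 0x11d48e97) (.leaf 0x12b28e99)) (.node (.leaf 0x13500e99) (.leaf 0x0))))) (.node (.node (.node (.node (.leaf 0x9dd8e9f) (.leaf 0x10264e99)) (.node (.leaf 0x121ece95) (.leaf 0x11d50e9d))) (.node (.node (.leaf 0x128d0e9d) (.leaf 0x10a58e9f)) (.node (.leaf 0x12104e85) (.leaf 0xc764e97)))) (.node (.node (.node (.leaf 0xc7f8e9d) (.leaf 0xe828e9f)) (.node (.leaf 0xf31ce9b) (.leaf 0x11ab4e99))) (.node (.node (.leaf 0xeaf4e97) (.leaf 0x16d64e9d)) (.node (.leaf 0xf134e9f) (.leaf 0x0))))))) (.node (.node (.node (.node (.node (.node (.leaf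 0xee88e99) (.leaf 0x117b4e9d)) (.node (.leaf 0x136d0e97) (.leaf 0xf4f4e9f))) (.node (.node (.leaf 0x12054e95) (.leaf 0xe86ce85)) (.node (.leaf 0xf530e95) (.leaf 0x12d70e95)))) (.node (.node (.node (.leaf 0xc8bce9f) (.leaf 0xf85ce9f)) (.node (.leaf 0x14aa4e9d) (.leaf 0x10610e97))) (.node (.node (.leaf 0x11d98e95) (.leaf 0x13510e99)) (.node (.leaf 0x11044e97) (.leaf 0x0))))) (.node (.node (.node (.node (.leaf 0x11cc0e97) (.leaf 0xe8e4e9d)) (.node (.leaf 0x16120e9f) (.leaf 0xe1c8e9f))) (.node (.node (.leaf 0x40c0e99) (.leaf 0x1263ce9d)) (.node (.leaf 0x16644e9b) (.leaf 0x12c5ce97)))) (.node (.node (.node (.leaf 0x11d34e9b) (.leaf 0x140ece9f)) (.node (.leaf 0x9f0ce9b) (.leaf 0x10484e99))) (.node (.node (.leaf 0x10de0e95) (.leaf 0xe618e95)) (.node (.leaf 0x11f6ce95) (.leaf 0x0)))))) (.node (.node (.node (.node (.node (.leaf 0x10f24e9b) (.leaf 0x13014e9b)) (.node (.leaf 0x1136ce9d) (.leaf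 0x13504e9f))) (.node (.node (.leaf 0xdd68e9d) (.leaf 0xe828e9b)) (.node (.leaf 0x1589ce9d) (.leaf 0xcc34e9f)))) (.node (.node (.node (.leaf 0x13500e85) (.leaf 0x12d30e95)) (.node (.leaf 0xe470e85) (.leaf 0xcd80e9f))) (.node (.node (.leaf 0xcdece85) (.leaf 0xaf0ce9d)) (.node (.leaf 0x126b8e9d) (.leaf 0x0))))) (.node (.node (.node (.node (.leaf 0x117c8e99) (.leaf 0x158c8e9b)) (.node (.leaf 0xd38ce9b) (.leaf 0x1153ce9f))) (.node (.node (.leaf 0x11b20e97) (.leaf 0xe1bce9f)) (.node (.leaf 0xfa28e9f) (.leaf 0x0)))) (.node (.node (.node (.leaf 0x5df0e95) (.leaf 0x12e60e85)) (.node (.leaf 0x171fce99) (.leaf 0xd2d8e97))) (.node (.node (.leaf 0xf780e97) (.leaf 0xf238e9f)) (.node (.leaf 0xfa60e95) (.leaf 0x0)))))))) (.node (.node (.node (.node (.node (.node (.node (.leaf 0xe164e9d) (.leaf 0x137fce99)) (.node (.leaf 0xe74ce9d) (.leaf 0x13624e9d))) (.node (.node (.leaf 0x12398e9b) (.leaf 0xe7cce99))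 (.node (.leaf 0x17a84e97) (.leaf 0xa034e99)))) (.node (.node (.node (.leaf 0xfa64e9d) (.leaf 0x11264e9f)) (.node (.leaf 0xfa24e97) (.leaf 0x10bf8e95))) (.node (.node (.leaf 0x1249ce9f) (.leaf 0x400ce9b)) (.node (.leaf 0x11418e95) (.leaf 0x0))))) (.node (.node (.node (.node (.leaf 0x143b0e97) (.leaf 0x11428e97)) (.node (.leaf 0x15b08e95) (.leaf 0x88e0e99))) (.node (.node (.leaf 0x137a0e97) (.leaf 0x14730e9f)) (.node (.leaf 0x10984e97) (.leaf 0x12a10e9d)))) (.node (.node (.node (.leaf 0x10d00e9b) (.leaf 0x12a78e9f)) (.node (.leaf 0xc278e99) (.leaf 0x12214e97))) (.node (.node (.leaf 0x117c8e9d) (.leaf 0xec14e97)) (.node (.leaf 0x12698e9f) (.leaf 0x0)))))) (.node (.node (.node (.node (.node (.leaf 0xe32ce9f) (.leaf 0x10714e9b)) (.node (.leaf 0x11a48e95) (.leaf 0xd2e0e97))) (.node (.node (.leaf 0x157e0e97) (.leaf 0x17960e85)) (.node (.leaf 0xf718e99) (.leaf 0x10420e95)))) (.node (.node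 (.node (.leaf 0x15010e9b) (.leaf 0x173a8e9b)) (.node (.leaf 0x11d18e9d) (.leaf 0x1104ce9d))) (.node (.node (.leaf 0x130e4e9f) (.leaf 0x10158e99)) (.node (.leaf 0xc73ce99) (.leaf 0x0))))) (.node (.node (.node (.node (.leaf 0xdd68e97) (.leaf 0xc8e4e97)) (.node (.leaf 0xde04e95) (.leaf 0xe458e9d))) (.node (.node (.leaf 0x17ab0e9d) (.leaf 0x14164e9b)) (.node (.leaf 0x8328e97) (.leaf 0x107e0e97)))) (.node (.node (.node (.leaf 0xeac) (.leaf 0x13248e85)) (.node (.leaf 0x14e88e9d) (.leaf 0xcb48e95))) (.node (.node (.leaf 0x162b8e97) (.leaf 0x16c04e99)) (.node (.leaf 0x16518e9d) (.leaf 0x0))))))) (.node (.node (.node (.node (.node (.node (.leaf 0x40c0e85) (.leaf 0x11d48e99)) (.node (.leaf 0x132dce9f) (.leaf 0x1076ce99))) (.node (.node (.leaf 0x7360e97) (.leaf 0x80d0e9b)) (.node (.leaf 0xc3f8e95) (.leaf 0xdd74e97)))) (.node (.node (.node (.leaf 0x12a34e9f) (.leaf 0x169e8e9f)) (.node (.leaf 0x8da0e95)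 (.leaf 0x137b0e85))) (.node (.node (.leaf 0x14f38e9d) (.leaf 0x1265ce95)) (.node (.leaf 0x122e0e9d) (.leaf 0x0))))) (.node (.node (.node (.node (.leaf 0xf498e95) (.leaf 0x16264e9d)) (.node (.leaf 0xe0ece9b) (.leaf 0xf308e9f))) (.node (.node (.leaf 0xc0e0e9d) (.leaf 0xe480e9f)) (.node (.leaf 0x15438e99) (.leaf 0xea68e99)))) (.node (.node (.node (.leaf 0x10f7ce97) (.leaf 0x11fc4e99)) (.node (.leaf 0x16e30e97) (.leaf 0x11ee8e99))) (.node (.node (.leaf 0x124bce9f) (.leaf 0x12b28e9f)) (.node (.leaf 0x11574e97) (.leaf 0x0)))))) (.node (.node (.node (.node (.node (.leaf 0x11ac8e95) (.leaf 0x1179ce9d)) (.node (.leaf 0x13014e95) (.leaf 0x92c8e97))) (.node (.node (.leaf 0x159f0e95) (.leaf 0x12974e99)) (.node (.leaf 0xccdce9f) (.leaf 0x13248e97)))) (.node (.node (.node (.leaf 0xf774e9f) (.leaf 0x136a4e9d)) (.node (.leaf 0x11ee0e99) (.leaf 0x129c0e97))) (.node (.node (.leaf 0xf1c4e9d) (.leaf 0x10554e9b))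 (.node (.leaf 0xf7f0e9d) (.leaf 0x0))))) (.node (.node (.node (.node (.leaf 0x1114ce9f) (.leaf 0x9220e9d)) (.node (.leaf 0x13508e97) (.leaf 0x157e0e99))) (.node (.node (.leaf 0x11e68e99) (.leaf 0xd708e95)) (.node (.leaf 0x1229ce99) (.leaf 0x0)))) (.node (.node (.node (.leaf 0x108c8e9d) (.leaf 0x8af0e99)) (.node (.leaf 0x13630e95) (.leaf 0x13504e85))) (.node (.node (.leaf 0xb858e85) (.leaf 0xe46ce85)) (.node (.leaf 0xc7f8e9f) (.leaf 0x0))))))))) (.node (.node (.node (.node (.node (.node (.node (.node (.leaf 0xe860e97) (.leaf 0x10418e85)) (.node (.leaf 0x11a28e95) (.leaf 0x92dce9f))) (.node (.node (.leaf 0x145d8e9f) (.leaf 0x11520e9f)) (.node (.leaf 0x12984e9d) (.leaf 0xee88e9d)))) (.node (.node (.node (.leaf 0x11b64e95) (.leaf 0x16c8ce95)) (.node (.leaf 0x12d30e9d) (.leaf 0x1558ce97))) (.node (.node (.leaf 0xe904e95) (.leaf 0xede4e95)) (.node (.leaf 0xd1e8e85) (.leaf 0x0))))) (.node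 (.node (.node (.node (.leaf 0x111a8e99) (.leaf 0xf75ce9d)) (.node (.leaf 0x12094e99) (.leaf 0x129b8e97))) (.node (.node (.leaf 0x16f5ce9b) (.leaf 0x13a30e9f)) (.node (.leaf 0xeff8e9d) (.leaf 0x8a84e97)))) (.node (.node (.node (.leaf 0xd2b4e95) (.leaf 0x11420e95)) (.node (.leaf 0x10e58e99) (.leaf 0xf290e95))) (.node (.node (.leaf 0x12d30e99) (.leaf 0x1090ce9d)) (.node (.leaf 0x11cc0e9b) (.leaf 0x0)))))) (.node (.node (.node (.node (.node (.leaf 0x10fa4e95) (.leaf 0x129b8e9d)) (.node (.leaf 0x121ece85) (.leaf 0x13a2ce9d))) (.node (.node (.leaf 0xf004e9d) (.leaf 0xec14e9b)) (.node (.leaf 0x135e8e9f) (.leaf 0xdb34e99)))) (.node (.node (.node (.leaf 0x12274e97) (.leaf 0xc4a8e99)) (.node (.leaf 0x130a8e85) (.leaf 0x10aa0e9d))) (.node (.node (.leaf 0x12a60e95) (.leaf 0x165b4e97)) (.node (.leaf 0x137a0e9b) (.leaf 0x0))))) (.node (.node (.node (.node (.leaf 0xde4ce9f) (.leaf 0xc8bce97)) (.node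 (.leaf 0x620ce9f) (.leaf 0xd2bce97))) (.node (.node (.leaf 0x119f8e85) (.leaf 0x14424e9b)) (.node (.leaf 0x10348e9f) (.leaf 0x10c60e9b)))) (.node (.node (.node (.leaf 0xfb40e95) (.leaf 0x109d0e9d)) (.node (.leaf 0x12b30e9f) (.leaf 0xc818e97))) (.node (.node (.leaf 0xe4e0e85) (.leaf 0x101cce95)) (.node (.leaf 0xf018e99) (.leaf 0x0))))))) (.node (.node (.node (.node (.node (.node (.leaf 0xfa60e99) (.leaf 0x13430e95)) (.node (.leaf 0x117b4e97) (.leaf 0x10044e99))) (.node (.node (.leaf 0xccdce95) (.leaf 0x1099ce99)) (.node (.leaf 0x13910e9b) (.leaf 0xdf88e9d)))) (.node (.node (.node (.leaf 0x108c8e9f) (.leaf 0x12770e97)) (.node (.leaf 0x1730ce95) (.leaf 0x15940e9f))) (.node (.node (.leaf 0x15cf8e9d) (.leaf 0xe418e97)) (.node (.leaf 0xe2d0e9d) (.leaf 0x0))))) (.node (.node (.node (.node (.leaf 0xe648e9b) (.leaf 0xd51ce9d)) (.node (.leaf 0x157f8e9f) (.leaf 0x156dce95))) (.node (.node (.leaf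 0x11d70e95) (.leaf 0x13460e85)) (.node (.leaf 0xf6b0e9f) (.leaf 0x179d0e99)))) (.node (.node (.node (.leaf 0x10924e99) (.leaf 0x10614e9b)) (.node (.leaf 0x14e24e97) (.leaf 0xdad4e99))) (.node (.node (.leaf 0xe7b4e95) (.leaf 0x1319ce9f)) (.node (.leaf 0x163e4e9b) (.leaf 0x0)))))) (.node (.node (.node (.node (.node (.leaf 0xead0e95) (.leaf 0x16050e99)) (.node (.leaf 0x125ace97) (.leaf 0x15578e85))) (.node (.node (.leaf 0x173fce9d) (.leaf 0x175d8e97)) (.node (.leaf 0x16050e9f) (.leaf 0x12b68e9f)))) (.node (.node (.node (.leaf 0xf778e9f) (.leaf 0x17838e97)) (.node (.leaf 0x10d5ce85) (.leaf 0x12da0e99))) (.node (.node (.leaf 0xb9b8e9d) (.leaf 0xc818e95)) (.node (.leaf 0x16254e9f) (.leaf 0x0))))) (.node (.node (.node (.node (.leaf 0x12350e97) (.leaf 0x15cb0e99)) (.node (.leaf 0xec1ce9d) (.leaf 0x12b28e85))) (.node (.node (.leaf 0xf834e95) (.leaf 0x16e64e9b)) (.node (.leaf 0x12374e85) (.leaf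 0x0)))) (.node (.node (.node (.leaf 0x13b04e99) (.leaf 0x13634e97)) (.node (.leaf 0xda7ce9b) (.leaf 0x137fce9d))) (.node (.node (.leaf 0xc3d4e85) (.leaf 0x13910e9d)) (.node (.leaf 0x15e7ce95) (.leaf 0x0)))))))) (.node (.node (.node (.node (.node (.node (.node (.leaf 0x1068ce9d) (.leaf 0x121c0e9b)) (.node (.leaf 0x10a00e85) (.leaf 0xe710e9b))) (.node (.node (.leaf 0x17684e9d) (.leaf 0xf290e99)) (.node (.leaf 0x12350e85) (.leaf 0x13a7ce97)))) (.node (.node (.node (.leaf 0x12d70e9f) (.leaf 0x13324e9f)) (.node (.leaf 0x10810e9f) (.leaf 0x15d58e9d))) (.node (.node (.leaf 0x11d00e95) (.leaf 0x11e10e9f)) (.node (.leaf 0x10ba0e95) (.leaf 0x0))))) (.node (.node (.node (.node (.leaf 0xe690e97) (.leaf 0x128d4e9d)) (.node (.leaf 0xdb78e9f) (.leaf 0x4744e9d))) (.node (.node (.leaf 0xaebce99) (.leaf 0x13048e9f)) (.node (.leaf 0x11d18e95) (.leaf 0x8014e9d)))) (.node (.node (.node (.leaf 0x14604e9f)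 (.leaf 0x11a50e9b)) (.node (.leaf 0x8948e9b) (.leaf 0x10e7ce9d))) (.node (.node (.leaf 0xddf4e99) (.leaf 0x10ff4e97)) (.node (.leaf 0x8328e9d) (.leaf 0x0)))))) (.node (.node (.node (.node (.node (.leaf 0x12324e9f) (.leaf 0x8ae0e9d)) (.node (.leaf 0x400ce95) (.leaf 0xc764e9d))) (.node (.node (.leaf 0xf600e85) (.leaf 0xc480e9f)) (.node (.leaf 0x1188ce9d) (.leaf 0xf6a8e99)))) (.node (.node (.node (.leaf 0xc0bce95) (.leaf 0x11b40e9b)) (.node (.leaf 0x188f4e99) (.leaf 0xeadce9d))) (.node (.node (.leaf 0xe8bce9b) (.leaf 0x13028e99)) (.node (.leaf 0xd2e0e9d) (.leaf 0x0))))) (.node (.node (.node (.node (.leaf 0x15648e9f) (.leaf 0x1510ce9d)) (.node (.leaf 0x10e60e97) (.leaf 0x165ece99))) (.node (.node (.leaf 0x1077ce9d) (.leaf 0x1275ce9f)) (.node (.leaf 0xf718e9f) (.leaf 0x0)))) (.node (.node (.node (.leaf 0x9d90e99) (.leaf 0xf9b0e85)) (.node (.leaf 0xc4b0e95) (.leaf 0xa88ce95))) (.node (.node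 (.leaf 0x136a4e85) (.leaf 0x1545ce9d)) (.node (.leaf 0x125e4e95) (.leaf 0x0))))))) (.node (.node (.node (.node (.node (.node (.leaf 0x14580e97) (.leaf 0x177ece9b)) (.node (.leaf 0x16444e99) (.leaf 0xebd0e99))) (.node (.node (.leaf 0xad00e97) (.leaf 0x8bcce9b)) (.node (.leaf 0x1180ce9b) (.leaf 0x10640e9d)))) (.node (.node (.node (.leaf 0xe528e9b) (.leaf 0x10fd4e9f)) (.node (.leaf 0x1208ce9f) (.leaf 0xde64e95))) (.node (.node (.leaf 0x92c8e9f) (.leaf 0x10820e99)) (.node (.leaf 0x13504e99) (.leaf 0x0))))) (.node (.node (.node (.node (.leaf 0x42d0e9b) (.leaf 0xc590e95)) (.node (.leaf 0xe32ce9b) (.leaf 0xc260e9b))) (.node (.node (.leaf 0x80c8e9d) (.leaf 0x88c4e9d)) (.node (.leaf 0x12a00e9f) (.leaf 0x10dc8e95)))) (.node (.node (.node (.leaf 0x14074e9b) (.leaf 0x10084e9d)) (.node (.leaf 0x13324e9d) (.leaf 0x12e54e99))) (.node (.node (.leaf 0x4f18e9f) (.leaf 0xd188e97)) (.node (.leaf 0x10418e95)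 (.leaf 0x0)))))) (.node (.node (.node (.node (.node (.leaf 0xf530e9d) (.leaf 0xdd54e9b)) (.node (.leaf 0xeb08e97) (.leaf 0x124bce9d))) (.node (.node (.leaf 0x124bce99) (.leaf 0x16934e9f)) (.node (.leaf 0xed8ce9f) (.leaf 0x13500e9f)))) (.node (.node (.node (.leaf 0x128c0e97) (.leaf 0xf69ce9d)) (.node (.leaf 0xed84e85) (.leaf 0x109cce95))) (.node (.node (.leaf 0x131b4e9d) (.leaf 0x856ce99)) (.node (.leaf 0x9d90e9f) (.leaf 0x0))))) (.node (.node (.node (.node (.leaf 0xdc48e85) (.leaf 0x1099ce9f)) (.node (.leaf 0x11efce95) (.leaf 0xdd54e97))) (.node (.node (.leaf 0x10f84e97) (.leaf 0xeeace95)) (.node (.leaf 0xeadce97) (.leaf 0x0)))) (.node (.node (.node (.leaf 0xc268e97) (.leaf 0xf7d8e97)) (.node (.leaf 0x16ed4e9d) (.leaf 0x121b4e9f))) (.node (.node (.leaf 0x10294e9f) (.leaf 0x12720e9b)) (.node (.leaf 0x14e50e9d) (.leaf 0x0))))))))))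

/-- packed table -/
noncomputable def cov6_rlr : BTree := (.node (.node (.node (.node (.node (.node (.node (.node (.node (.leaf 0x7568e99) (.leaf 0xed84e97)) (.node (.leaf 0x12398e9f) (.leaf 0xd2b4e9f))) (.node (.node (.leaf 0x10f60e9b) (.leaf 0x14900e9b)) (.node (.leaf 0x1765ce99) (.leaf 0x11794e9f)))) (.node (.node (.node (.leaf 0x163ece9f) (.leaf 0x16e50e9f)) (.node (.leaf 0xf75ce9f) (.leaf 0x10324e97))) (.node (.node (.leaf 0x12008e95) (.leaf 0xa028e9f)) (.node (.leaf 0x139e0e85) (.leaf 0x0))))) (.node (.node (.node (.node (.leaf 0x1268ce99) (.leaf 0xf764e9d)) (.node (.leaf 0xd2b8e9f) (.leaf 0x13198e97))) (.node (.node (.leaf 0x12f58e9b) (.leaf 0x13a2ce9f)) (.node (.leaf 0x1062ce9f) (.leaf 0xfa5ce95)))) (.node (.node (.node (.leaf 0xe8e4e97) (.leaf 0x11aa0e99)) (.node (.leaf 0x12188e9d) (.leaf 0x10f58e9b))) (.node (.node (.leaf 0x128c0e99) (.leaf 0x129c0e9d)) (.node (.leaf 0x89c0e9f)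 (.leaf 0x0)))))) (.node (.node (.node (.node (.node (.leaf 0x1555ce9d) (.leaf 0x1319ce9d)) (.node (.leaf 0x1191ce85) (.leaf 0x11a48e9b))) (.node (.node (.leaf 0xe494e95) (.leaf 0x14e80e9f)) (.node (.leaf 0x13408e99) (.leaf 0x13468e9b)))) (.node (.node (.node (.leaf 0x12270e97) (.leaf 0x11bf4e95)) (.node (.leaf 0x124c8e99) (.leaf 0xb854e95))) (.node (.node (.leaf 0x70e0e9f) (.leaf 0x1491ce9f)) (.node (.leaf 0x125e4e85) (.leaf 0x0))))) (.node (.node (.node (.node (.leaf 0x16934e99) (.leaf 0xca04e95)) (.node (.leaf 0x173a8e9f) (.leaf 0x1431ce97))) (.node (.node (.leaf 0xf308e97) (.leaf 0x13028e9b)) (.node (.leaf 0xcff0e9d) (.leaf 0xd2b4e97)))) (.node (.node (.node (.leaf 0xf36ce95) (.leaf 0x13078e97)) (.node (.leaf 0xca64e95) (.leaf 0x14fc8e95))) (.node (.node (.leaf 0xd4c4e99) (.leaf 0xf308e95)) (.node (.leaf 0x98d0e9d) (.leaf 0x0))))))) (.node (.node (.node (.node (.node (.node (.leaf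 0xe8e8e99) (.leaf 0xc260e99)) (.node (.leaf 0xec1ce9b) (.leaf 0x10720e9f))) (.node (.node (.leaf 0x10158e85) (.leaf 0x11f10e9d)) (.node (.leaf 0x12580e9b) (.leaf 0x13760e99)))) (.node (.node (.node (.leaf 0x11d18e99) (.leaf 0x9b30e9f)) (.node (.leaf 0xccf4e95) (.leaf 0x1595ce9f))) (.node (.node (.leaf 0x12c30e85) (.leaf 0xc728e9d)) (.node (.leaf 0xccd8e99) (.leaf 0x0))))) (.node (.node (.node (.node (.leaf 0xcacce97) (.leaf 0xd270e95)) (.node (.leaf 0x10c7ce99) (.leaf 0x143d0e97))) (.node (.node (.leaf 0x165c4e99) (.leaf 0x121e4e85)) (.node (.leaf 0x117b4e99) (.leaf 0x139cce99)))) (.node (.node (.node (.leaf 0x16a58e9f) (.leaf 0x15c60e97)) (.node (.leaf 0x137f8e9b) (.leaf 0x15648e95))) (.node (.node (.leaf 0x10c98e97) (.leaf 0xc818e85)) (.node (.leaf 0x13410e9b) (.leaf 0x0)))))) (.node (.node (.node (.node (.node (.leaf 0x1062ce85) (.leaf 0x13230e95)) (.node (.leaf 0xa034e9f) (.leaf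 0x12128e9f))) (.node (.node (.leaf 0x1027ce9d) (.leaf 0x15cece9d)) (.node (.leaf 0x11884e9d) (.leaf 0x10f88e9b)))) (.node (.node (.node (.leaf 0x131f8e9f) (.leaf 0x10410e97)) (.node (.leaf 0x12e60e9d) (.leaf 0xf898e9d))) (.node (.node (.leaf 0x125e0e99) (.leaf 0x166cce9f)) (.node (.leaf 0x1740ce9d) (.leaf 0x0))))) (.node (.node (.node (.node (.leaf 0x1265ce9f) (.leaf 0xfa60e97)) (.node (.leaf 0x9190e95) (.leaf 0x13510e97))) (.node (.node (.leaf 0xd274e97) (.leaf 0xd268e95)) (.node (.leaf 0x115e4e95) (.leaf 0x0)))) (.node (.node (.node (.leaf 0xc78ce85) (.leaf 0x16e64e99)) (.node (.leaf 0xd268e85) (.leaf 0x856ce9f))) (.node (.node (.leaf 0xf85ce85) (.leaf 0x177e4e99)) (.node (.leaf 0x12a78e9d) (.leaf 0x0)))))))) (.node (.node (.node (.node (.node (.node (.node (.leaf 0x168f4e9b) (.leaf 0xe2cce9f)) (.node (.leaf 0xc3d4e99) (.leaf 0xe874e9d))) (.node (.node (.leaf 0xe2d4e9b) (.leaf 0xf434e9d))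 (.node (.leaf 0x16434e99) (.leaf 0x5338e99)))) (.node (.node (.node (.leaf 0x10624e9b) (.leaf 0x111c8e9b)) (.node (.leaf 0x11450e85) (.leaf 0xd274e9f))) (.node (.node (.leaf 0xd170e85) (.leaf 0x11d60e95)) (.node (.leaf 0x11ee8e95) (.leaf 0x0))))) (.node (.node (.node (.node (.leaf 0x103bce97) (.leaf 0x11cc8e99)) (.node (.leaf 0x8588e9f) (.leaf 0xd3d0e9d))) (.node (.node (.leaf 0x1761ce95) (.leaf 0x106b4e9d)) (.node (.leaf 0xeffce9f) (.leaf 0xf85ce9d)))) (.node (.node (.node (.leaf 0x13b30e97) (.leaf 0x1544ce9f)) (.node (.leaf 0x10d10e95) (.leaf 0x1585ce95))) (.node (.node (.leaf 0x122a4e9d) (.leaf 0xe2d4e99)) (.node (.leaf 0x11b40e99) (.leaf 0x0)))))) (.node (.node (.node (.node (.node (.leaf 0xeba8e99) (.leaf 0x14af8e9d)) (.node (.leaf 0x14d04e99) (.leaf 0x12830e9f))) (.node (.node (.leaf 0x1180ce97) (.leaf 0x157f0e95)) (.node (.leaf 0xf498e9d) (.leaf 0xf698e99)))) (.node (.node (.node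 (.leaf 0xced4e9f) (.leaf 0x134fce97)) (.node (.leaf 0x14128e9f) (.leaf 0x10340e9f))) (.node (.node (.leaf 0xde14e9b) (.leaf 0xfa60e9d)) (.node (.leaf 0x92dce9d) (.leaf 0x0))))) (.node (.node (.node (.node (.leaf 0xdb44e9d) (.leaf 0x10688e97)) (.node (.leaf 0xce34e99) (.leaf 0x162bce99))) (.node (.node (.leaf 0x1328ce99) (.leaf 0xd708e9d)) (.node (.leaf 0x15ce4e95) (.leaf 0x0)))) (.node (.node (.node (.leaf 0x10760e85) (.leaf 0xeb08e95)) (.node (.leaf 0x15488e85) (.leaf 0x12770e85))) (.node (.node (.leaf 0x10dc8e85) (.leaf 0x145a8e9f)) (.node (.leaf 0x12524e9d) (.leaf 0x0))))))) (.node (.node (.node (.node (.node (.node (.leaf 0x16118e99) (.leaf 0xca04e9d)) (.node (.leaf 0x172cce9f) (.leaf 0xe2cce99))) (.node (.node (.leaf 0xc574e9b) (.leaf 0xcc08e99)) (.node (.leaf 0x10984e9d) (.leaf 0x16428e9d)))) (.node (.node (.node (.leaf 0x10360e95) (.leaf 0x117d0e9d)) (.node (.leaf 0xcf5ce9d)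 (.leaf 0x400ce97))) (.node (.node (.leaf 0x157f8e9d) (.leaf 0x12f58e97)) (.node (.leaf 0x10924e97) (.leaf 0x0))))) (.node (.node (.node (.node (.leaf 0x5f50e9f) (.leaf 0x856ce95)) (.node (.leaf 0xde4ce9b) (.leaf 0x1191ce95))) (.node (.node (.leaf 0x1615ce9f) (.leaf 0xc8e4e9b)) (.node (.leaf 0xac80e95) (.leaf 0x15bd0e9f)))) (.node (.node (.node (.leaf 0x10d50e9d) (.leaf 0x179d0e97)) (.node (.leaf 0xd40ce85) (.leaf 0x130d4e99))) (.node (.node (.leaf 0x92dce85) (.leaf 0x131ece9d)) (.node (.leaf 0xf3d0e95) (.leaf 0x0)))))) (.node (.node (.node (.node (.node (.leaf 0xda58e9f) (.leaf 0x11d70e9b)) (.node (.leaf 0x114b8e9b) (.leaf 0x16cc4e9f))) (.node (.node (.leaf 0xd3ace97) (.leaf 0xc4b0e9d)) (.node (.leaf 0x105e8e9d) (.leaf 0x13240e9f)))) (.node (.node (.node (.leaf 0xf780e9f) (.leaf 0x12fc8e9f)) (.node (.leaf 0x105c8e85) (.leaf 0xe7c4e95))) (.node (.node (.leaf 0x1114ce95) (.leaf 0x11ab8e99))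 (.node (.leaf 0x10ef4e9f) (.leaf 0x0))))) (.node (.node (.node (.node (.leaf 0xac80e99) (.leaf 0x10f4ce95)) (.node (.leaf 0xb854e99) (.leaf 0x12394e9f))) (.node (.node (.leaf 0x132dce9d) (.leaf 0x10de0e9b)) (.node (.leaf 0x16a40e95) (.leaf 0x0)))) (.node (.node (.node (.leaf 0x10a30e9d) (.leaf 0xb9ace97)) (.node (.leaf 0xcca0e9d) (.leaf 0x10c70e99))) (.node (.node (.leaf 0xf718e97) (.leaf 0x13580e99)) (.node (.leaf 0x10e6ce9d) (.leaf 0x0))))))))) (.node (.node (.node (.node (.node (.node (.node (.node (.leaf 0xd878e95) (.leaf 0x7568e9f)) (.node (.leaf 0xcae4e95) (.leaf 0x13798e97))) (.node (.node (.leaf 0xe2d0e95) (.leaf 0x10434e85)) (.node (.leaf 0x12ef4e99) (.leaf 0xa01ce99)))) (.node (.node (.node (.leaf 0xd3d0e9b) (.leaf 0x12cc8e9d)) (.node (.leaf 0x101e4e9d) (.leaf 0xb3c0e99))) (.node (.node (.leaf 0xac20e9f) (.leaf 0xce34e9f)) (.node (.leaf 0x15730e9f) (.leaf 0x0))))) (.node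 (.node (.node (.node (.leaf 0x14284e9f) (.leaf 0xcc4ce99)) (.node (.leaf 0x105a4e9f) (.leaf 0x88d0e99))) (.node (.node (.leaf 0x15ae0e99) (.leaf 0xed8ce99)) (.node (.leaf 0x14630e9f) (.leaf 0x172c8e99)))) (.node (.node (.node (.leaf 0x11a28e9d) (.leaf 0x12b28e95)) (.node (.leaf 0x14d0ce97) (.leaf 0xd1e0e9f))) (.node (.node (.leaf 0x8af0e97) (.leaf 0x11658e9d)) (.node (.leaf 0x11d2ce9b) (.leaf 0x0)))))) (.node (.node (.node (.node (.node (.leaf 0xd38ce9f) (.leaf 0xf1c4e9f)) (.node (.leaf 0x143f0e9d) (.leaf 0x879ce99))) (.node (.node (.leaf 0x106a0e9b) (.leaf 0x10324e99)) (.node (.leaf 0xe480e85) (.leaf 0x13460e9b)))) (.node (.node (.node (.leaf 0x158f8e97) (.leaf 0x13448e9b)) (.node (.leaf 0x14448e9b) (.leaf 0xe670e9f))) (.node (.node (.leaf 0x130d8e9f) (.leaf 0x1014ce99)) (.node (.leaf 0xec14e95) (.leaf 0x0))))) (.node (.node (.node (.node (.leaf 0x10280e99) (.leaf 0xc138e9d)) (.node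 (.leaf 0xddece95) (.leaf 0xe7b4e9d))) (.node (.node (.leaf 0xccd8e95) (.leaf 0x107f4e9b)) (.node (.leaf 0x8bcce97) (.leaf 0x8948e97)))) (.node (.node (.node (.leaf 0xe690e95) (.leaf 0x13254e97)) (.node (.leaf 0xc4a8e9b) (.leaf 0x1256ce9b))) (.node (.node (.leaf 0x11070e97) (.leaf 0x15f64e95)) (.node (.leaf 0x12508e9d) (.leaf 0x0))))))) (.node (.node (.node (.node (.node (.node (.leaf 0xfca) (.leaf 0x1350ce9d)) (.node (.leaf 0xf6b0e9d) (.leaf 0xf7d8e9d))) (.node (.node (.leaf 0xc4c0e9b) (.leaf 0xf9bce85)) (.node (.leaf 0x160d0e9b) (.leaf 0x8784e9b)))) (.node (.node (.node (.leaf 0x12294e95) (.leaf 0x188f4e9b)) (.node (.leaf 0x10b78e9f) (.leaf 0xf85ce95))) (.node (.node (.leaf 0x10428e97) (.leaf 0x16678e95)) (.node (.leaf 0x165b8e9b) (.leaf 0x0))))) (.node (.node (.node (.node (.leaf 0xf1f4e85) (.leaf 0x12a00e97)) (.node (.leaf 0xa26ce9b) (.leaf 0x120b0e9d))) (.node (.node (.leaf 0x10440e9b)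 (.leaf 0xe46ce9f)) (.node (.leaf 0xcaf4e9d) (.leaf 0x10858e9d)))) (.node (.node (.node (.leaf 0xf004e97) (.leaf 0x190d4e95)) (.node (.leaf 0x14518e85) (.leaf 0x11884e99))) (.node (.node (.leaf 0x12ac0e9f) (.leaf 0x15f7ce9f)) (.node (.leaf 0x10274e99) (.leaf 0x0)))))) (.node (.node (.node (.node (.node (.leaf 0xcd60e9f) (.leaf 0xe048e97)) (.node (.leaf 0x11b4ce97) (.leaf 0xf9b0e97))) (.node (.node (.leaf 0x13408e9d) (.leaf 0x1767ce9f)) (.node (.leaf 0x15040e97) (.leaf 0x13240e97)))) (.node (.node (.node (.leaf 0x1377ce9f) (.leaf 0x1383ce97)) (.node (.leaf 0x12174e95) (.leaf 0x138f4e95))) (.node (.node (.leaf 0xd4c4e95) (.leaf 0x105ace9f)) (.node (.leaf 0x105dce9f) (.leaf 0x0))))) (.node (.node (.node (.node (.leaf 0xf41ce9b) (.leaf 0x133d8e9f)) (.node (.leaf 0x12c30e9d) (.leaf 0x10044e85))) (.node (.node (.leaf 0x109a8e9d) (.leaf 0x156e4e95)) (.node (.leaf 0x12374e99) (.leaf 0x0))))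 (.node (.node (.node (.leaf 0xf2f0e95) (.leaf 0xb4e8e9d)) (.node (.leaf 0xe330e9d) (.leaf 0x1264ce97))) (.node (.node (.leaf 0x14e24e9d) (.leaf 0xe494e97)) (.node (.leaf 0x134f8e9f) (.leaf 0x0)))))))) (.node (.node (.node (.node (.node (.node (.node (.leaf 0x1180ce9d) (.leaf 0xe1a8e9b)) (.node (.leaf 0x103e0e99) (.leaf 0x13164e97))) (.node (.node (.leaf 0xc35ce97) (.leaf 0x8014e95)) (.node (.leaf 0x11764e9d) (.leaf 0xb858e95)))) (.node (.node (.node (.leaf 0x1114ce9d) (.leaf 0x11b20e9b)) (.node (.leaf 0x10dc8e99) (.leaf 0x122ace97))) (.node (.node (.leaf 0xcff0e85) (.leaf 0x11ab4e97)) (.node (.leaf 0x177c4e9d) (.leaf 0x0))))) (.node (.node (.node (.node (.leaf 0xe71ce97) (.leaf 0xe8c4e9d)) (.node (.leaf 0x9374e9f) (.leaf 0xea74e85))) (.node (.node (.leaf 0xd668e99) (.leaf 0xb3c0e9f)) (.node (.leaf 0x10f94e95) (.leaf 0x16fe4e9d)))) (.node (.node (.node (.leaf 0x13724e99) (.leaf 0x10740e99))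 (.node (.leaf 0xd058e97) (.leaf 0x14bfce99))) (.node (.node (.leaf 0x12918e9d) (.leaf 0x13338e97)) (.node (.leaf 0x15fb0e97) (.leaf 0x0)))))) (.node (.node (.node (.node (.node (.leaf 0x154d0e9f) (.leaf 0xc73ce9b)) (.node (.leaf 0xe140e99) (.leaf 0x12f58e99))) (.node (.node (.leaf 0x11fa8e95) (.leaf 0xeeb0e97)) (.node (.leaf 0x10564e9f) (.leaf 0x1240ce9d)))) (.node (.node (.node (.leaf 0x80c8e95) (.leaf 0x10e7ce97)) (.node (.leaf 0xc100e9f) (.leaf 0x12094e97))) (.node (.node (.leaf 0x106bce85) (.leaf 0x16f6ce9d)) (.node (.leaf 0x92c0e9d) (.leaf 0x0))))) (.node (.node (.node (.node (.leaf 0x11b3ce9d) (.leaf 0xe468e9f)) (.node (.leaf 0x7568e95) (.leaf 0x12270e9d))) (.node (.node (.leaf 0x1373ce97) (.leaf 0x15e58e97)) (.node (.leaf 0xcaf4e85) (.leaf 0x0)))) (.node (.node (.node (.leaf 0x5df0e99) (.leaf 0x11c38e9f)) (.node (.leaf 0x10740e9f) (.leaf 0xb868e99))) (.node (.node (.leaf 0x11054e97)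 (.leaf 0x177cce9d)) (.node (.leaf 0xdf88e95) (.leaf 0x0))))))) (.node (.node (.node (.node (.node (.node (.leaf 0x17a90e99) (.leaf 0xd9e8e99)) (.node (.leaf 0x159e0e97) (.leaf 0x10344e97))) (.node (.node (.leaf 0x16e64e9f) (.leaf 0x10708e9f)) (.node (.leaf 0x15718e9b) (.leaf 0xe750e85)))) (.node (.node (.node (.leaf 0xc878e9b) (.leaf 0x12e70e9f)) (.node (.leaf 0x10f60e9d) (.leaf 0xb278e9f))) (.node (.node (.leaf 0x82a8e9f) (.leaf 0x12168e95)) (.node (.leaf 0x10dc4e9d) (.leaf 0x0))))) (.node (.node (.node (.node (.leaf 0x42d0e97) (.leaf 0x141fce97)) (.node (.leaf 0x16cc0e9f) (.leaf 0x122e0e99))) (.node (.node (.leaf 0x80d0e9d) (.leaf 0x88e0e9d)) (.node (.leaf 0x125c8e99) (.leaf 0x13b08e85)))) (.node (.node (.node (.leaf 0x14d7ce9d) (.leaf 0x10598e9b)) (.node (.leaf 0x11d10e9f) (.leaf 0xf794e9b))) (.node (.node (.leaf 0xe8dce95) (.leaf 0xdd54e95)) (.node (.leaf 0xcbd0e95) (.leaf 0x0))))))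 (.node (.node (.node (.node (.node (.leaf 0xe928e97) (.leaf 0x16370e9d)) (.node (.leaf 0xf4cce9f) (.leaf 0x856ce9d))) (.node (.node (.leaf 0xcf98e9b) (.leaf 0xe7c4e9d)) (.node (.leaf 0x10984e85) (.leaf 0xc4c0e9f)))) (.node (.node (.node (.leaf 0x101e8e97) (.leaf 0xc728e9b)) (.node (.leaf 0x1218ce9d) (.leaf 0xf378e99))) (.node (.node (.leaf 0x10a30e9f) (.leaf 0xdb44e99)) (.node (.leaf 0x8948e9d) (.leaf 0x0))))) (.node (.node (.node (.node (.leaf 0xf718e9d) (.leaf 0x14cb4e97)) (.node (.leaf 0x10270e9d) (.leaf 0xeca8e97))) (.node (.node (.leaf 0x16ab8e95) (.leaf 0xe140e9d)) (.node (.leaf 0xec60e9f) (.leaf 0x0)))) (.node (.node (.node (.leaf 0xe1a8e9f) (.leaf 0xb9ace85)) (.node (.leaf 0x157e0e85) (.leaf 0x160e0e99))) (.node (.node (.leaf 0xdad4e9d) (.leaf 0x13468e95)) (.node (.leaf 0x10420e97) (.leaf 0x0))))))))))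

/-- packed table -/
noncomputable def cov6_rrl : BTree := (.node (.node (.node (.node (.node (.node (.node (.node (.node (.leaf 0xea4) (.leaf 0x10458e9b)) (.node (.leaf 0x13af0e9b) (.leaf 0x14ea8e9f))) (.node (.node (.leaf 0x1486ce9f) (.leaf 0x13b08e9b)) (.node (.leaf 0xf36ce9d) (.leaf 0x109e0e97)))) (.node (.node (.node (.leaf 0x131f8e9b) (.leaf 0xeca8e95)) (.node (.leaf 0x9324e9f) (.leaf 0x12054e97))) (.node (.node (.leaf 0xe2b0e9d) (.leaf 0x10600e9b)) (.node (.leaf 0x12098e9f) (.leaf 0x0))))) (.node (.node (.node (.node (.leaf 0x1316ce9f) (.leaf 0xf08)) (.node (.leaf 0x163d8e9f) (.leaf 0x157b8e95))) (.node (.node (.leaf 0x11a10e97) (.leaf 0x14ec4e9b)) (.node (.leaf 0xd2bce9d) (.leaf 0xb4e8e97)))) (.node (.node (.node (.leaf 0xb604e9d) (.leaf 0xec60e85)) (.node (.leaf 0x12198e9d) (.leaf 0x11934e9d))) (.node (.node (.leaf 0x14e40e97) (.leaf 0x154f4e9d)) (.node (.leaf 0x12484e97)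 (.leaf 0x0)))))) (.node (.node (.node (.node (.node (.leaf 0x14900e95) (.leaf 0x17224e9f)) (.node (.leaf 0x11a48e99) (.leaf 0x10160e95))) (.node (.node (.leaf 0xe71ce9b) (.leaf 0x10e98e9f)) (.node (.leaf 0x130cce9d) (.leaf 0x17960e97)))) (.node (.node (.node (.leaf 0x16260e97) (.leaf 0xd278e99)) (.node (.leaf 0xfb1ce95) (.leaf 0xc148e95))) (.node (.node (.leaf 0x1383ce85) (.leaf 0x12590e97)) (.node (.leaf 0xe9a8e9f) (.leaf 0x0))))) (.node (.node (.node (.node (.leaf 0xcae4e97) (.leaf 0xf874e99)) (.node (.leaf 0x106f8e9d) (.leaf 0x130e4e9d))) (.node (.node (.leaf 0x12b68e99) (.leaf 0x14910e9b)) (.node (.leaf 0x15bd0e95) (.leaf 0x171fce95)))) (.node (.node (.node (.leaf 0xe23ce95) (.leaf 0x146b8e99)) (.node (.leaf 0x16b40e9f) (.leaf 0x149f8e97))) (.node (.node (.leaf 0x11a78e9f) (.leaf 0x4510e9d)) (.node (.leaf 0x4744e97) (.leaf 0x0))))))) (.node (.node (.node (.node (.node (.node (.leaf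 0xdf88e99) (.leaf 0xde4ce97)) (.node (.leaf 0x12ea8e95) (.leaf 0xc764e95))) (.node (.node (.leaf 0x103b4e9d) (.leaf 0x4510e9f)) (.node (.leaf 0xf1bce9b) (.leaf 0x1177ce99)))) (.node (.node (.node (.leaf 0x88d0e9f) (.leaf 0x16fc0e95)) (.node (.leaf 0x15ad0e9d) (.leaf 0x15024e99))) (.node (.node (.leaf 0xd2d8e85) (.leaf 0x1113ce99)) (.node (.leaf 0x16b9ce9f) (.leaf 0x0))))) (.node (.node (.node (.node (.leaf 0x136ece97) (.leaf 0xc78ce99)) (.node (.leaf 0x15974e9b) (.leaf 0xd4ace9f))) (.node (.node (.leaf 0xd664e9d) (.leaf 0x169e8e9b)) (.node (.leaf 0x147ece9b) (.leaf 0x16ce8e85)))) (.node (.node (.node (.leaf 0xe690e9d) (.leaf 0xe330e99)) (.node (.leaf 0xe7d4e9f) (.leaf 0x11644e99))) (.node (.node (.leaf 0x10370e95) (.leaf 0x118d8e9d)) (.node (.leaf 0x14a44e9b) (.leaf 0x0)))))) (.node (.node (.node (.node (.node (.leaf 0x10640e85) (.leaf 0xd3b0e9d)) (.node (.leaf 0xaed0e95) (.leaf 0x11a48e9f)))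 (.node (.node (.leaf 0xd3ace9d) (.leaf 0x11d10e9d)) (.node (.leaf 0x14f38e9f) (.leaf 0x12b80e9f)))) (.node (.node (.node (.leaf 0x14a9ce9d) (.leaf 0x15b00e97)) (.node (.leaf 0x10858e9f) (.leaf 0x109f4e97))) (.node (.node (.leaf 0xeaf4e9b) (.leaf 0xb850e95)) (.node (.leaf 0x13410e9d) (.leaf 0x0))))) (.node (.node (.node (.node (.leaf 0xede8e9b) (.leaf 0xfa58e97)) (.node (.leaf 0x88d8e97) (.leaf 0x13330e97))) (.node (.node (.leaf 0x1383ce95) (.leaf 0x10ed0e9b)) (.node (.leaf 0x11d0ce95) (.leaf 0x0)))) (.node (.node (.node (.leaf 0x857ce9f) (.leaf 0xcd9ce95)) (.node (.leaf 0xd270e85) (.leaf 0x122a4e9b))) (.node (.node (.leaf 0xeadce99) (.leaf 0x119b8e97)) (.node (.leaf 0x17108e9d) (.leaf 0x0)))))))) (.node (.node (.node (.node (.node (.node (.node (.leaf 0x1383ce9d) (.leaf 0x121b4e9b)) (.node (.leaf 0xe750e9d) (.leaf 0x12864e9d))) (.node (.node (.leaf 0x144c4e9f) (.leaf 0xf514e95)) (.node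 (.leaf 0x11734e9d) (.leaf 0x1776ce9b)))) (.node (.node (.node (.leaf 0xe1c8e97) (.leaf 0x16ca0e9f)) (.node (.leaf 0x12fcce95) (.leaf 0x125c8e95))) (.node (.node (.leaf 0xa88ce9f) (.leaf 0x11264e97)) (.node (.leaf 0xdad4e95) (.leaf 0x0))))) (.node (.node (.node (.node (.leaf 0x15ae0e9f) (.leaf 0x13248e99)) (.node (.leaf 0x9220e97) (.leaf 0x1308ce99))) (.node (.node (.leaf 0xdf14e97) (.leaf 0x1069ce9d)) (.node (.leaf 0x12410e9f) (.leaf 0x11460e97)))) (.node (.node (.node (.leaf 0xc43ce99) (.leaf 0xd1e0e9b)) (.node (.leaf 0x136f4e97) (.leaf 0xce70e9d))) (.node (.node (.leaf 0x10de0e99) (.leaf 0x16c68e9b)) (.node (.leaf 0x89c0e97) (.leaf 0x0)))))) (.node (.node (.node (.node (.node (.leaf 0xcca0e9f) (.leaf 0xcacce9d)) (.node (.leaf 0xec14e99) (.leaf 0x11a50e9f))) (.node (.node (.leaf 0x12a60e9d) (.leaf 0x16a48e95)) (.node (.leaf 0x105c4e85) (.leaf 0xf69ce99)))) (.node (.node (.node (.leaf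 0x12cb8e95) (.leaf 0x1045ce9b)) (.node (.leaf 0x15d20e9d) (.leaf 0x1030ce9f))) (.node (.node (.leaf 0xe7cce9b) (.leaf 0x13a54e9d)) (.node (.leaf 0xd2cce9d) (.leaf 0x0))))) (.node (.node (.node (.node (.leaf 0x11b40e9d) (.leaf 0x131b4e9b)) (.node (.leaf 0xb0c0e99) (.leaf 0x40b4e9f))) (.node (.node (.leaf 0x165cce99) (.leaf 0x1486ce9b)) (.node (.leaf 0xc378e9f) (.leaf 0x0)))) (.node (.node (.node (.leaf 0x10748e85) (.leaf 0xa028e95)) (.node (.leaf 0x130a8e97) (.leaf 0x12054e85))) (.node (.node (.leaf 0xe480e99) (.leaf 0x100a8e95)) (.node (.leaf 0xa51ce9d) (.leaf 0x0))))))) (.node (.node (.node (.node (.node (.node (.leaf 0x14ad8e9f) (.leaf 0x12274e9b)) (.node (.leaf 0x11ab4e95) (.leaf 0xf1bce97))) (.node (.node (.leaf 0x1322ce9b) (.leaf 0x8ae0e9b)) (.node (.leaf 0x103e4e95) (.leaf 0x13518e99)))) (.node (.node (.node (.leaf 0x12148e95) (.leaf 0x12e6ce9f)) (.node (.leaf 0x13a2ce95) (.leaf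 0xb4e8e99))) (.node (.node (.leaf 0xe164e97) (.leaf 0x160a4e95)) (.node (.leaf 0x1451ce9b) (.leaf 0x0))))) (.node (.node (.node (.node (.leaf 0xc818e9d) (.leaf 0x8588e95)) (.node (.leaf 0x879ce9b) (.leaf 0x11b3ce9b))) (.node (.node (.leaf 0x80c4e9d) (.leaf 0x1041ce85)) (.node (.leaf 0xec1ce95) (.leaf 0xe71ce9d)))) (.node (.node (.node (.leaf 0x10050e9b) (.leaf 0x11790e9b)) (.node (.leaf 0x11418e85) (.leaf 0x12094e9f))) (.node (.node (.leaf 0x14680e9f) (.leaf 0x9164e9b)) (.node (.leaf 0x112e4e9f) (.leaf 0x0)))))) (.node (.node (.node (.node (.node (.leaf 0xdb78e9b) (.leaf 0x11d50e9b)) (.node (.leaf 0xc268e9d) (.leaf 0x15a4ce9f))) (.node (.node (.leaf 0xcacce99) (.leaf 0xead0e9b)) (.node (.leaf 0xe078e9f) (.leaf 0xf1bce9f)))) (.node (.node (.node (.leaf 0x11a54e9f) (.leaf 0x10dc8e9d)) (.node (.leaf 0x17108e85) (.leaf 0x15900e9d))) (.node (.node (.leaf 0xe038e99) (.leaf 0x400ce9d)) (.node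 (.leaf 0x10f00e9f) (.leaf 0x0))))) (.node (.node (.node (.node (.leaf 0xe418e85) (.leaf 0x17a08e9f)) (.node (.leaf 0xdf90e9f) (.leaf 0x157dce9f))) (.node (.node (.leaf 0x72e0e9d) (.leaf 0xf024e9b)) (.node (.leaf 0x12d60e95) (.leaf 0x0)))) (.node (.node (.node (.leaf 0x10274e97) (.leaf 0x879ce9f)) (.node (.leaf 0xd188e85) (.leaf 0x12c6ce9b))) (.node (.node (.leaf 0x163e8e9b) (.leaf 0xfa5ce99)) (.node (.leaf 0x14e48e9d) (.leaf 0x0))))))))) (.node (.node (.node (.node (.node (.node (.node (.node (.leaf 0x42dce9d) (.leaf 0x5338e9f)) (.node (.leaf 0x114c0e85) (.leaf 0x12c24e9f))) (.node (.node (.leaf 0x14164e9f) (.leaf 0xe7d4e9b)) (.node (.leaf 0x12128e99) (.leaf 0x8d14e99)))) (.node (.node (.node (.leaf 0xf1f4e9b) (.leaf 0xf234e99)) (.node (.leaf 0x12590e9f) (.leaf 0x166bce9d))) (.node (.node (.leaf 0x11c7ce95) (.leaf 0x10850e99)) (.node (.leaf 0x179d0e85) (.leaf 0x0))))) (.node (.node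 (.node (.node (.leaf 0x111f0e9d) (.leaf 0x11414e97)) (.node (.leaf 0x10358e95) (.leaf 0xf9b0e95))) (.node (.node (.leaf 0x1026ce9f) (.leaf 0x10ba4e99)) (.node (.leaf 0x10640e9f) (.leaf 0xf024e99)))) (.node (.node (.node (.leaf 0xcce8e9b) (.leaf 0x10158e95)) (.node (.leaf 0x12e44e9f) (.leaf 0x12c18e9d))) (.node (.node (.leaf 0xcf98e9f) (.leaf 0xed84e99)) (.node (.leaf 0xec60e9d) (.leaf 0x0)))))) (.node (.node (.node (.node (.node (.leaf 0xc870e85) (.leaf 0xcaf4e99)) (.node (.leaf 0xc3ece9d) (.leaf 0xf260e95))) (.node (.node (.leaf 0x125c8e85) (.leaf 0xebf0e9b)) (.node (.leaf 0x1268ce9f) (.leaf 0x159c0e9b)))) (.node (.node (.node (.leaf 0x1191ce97) (.leaf 0x13504e97)) (.node (.leaf 0x12aece9d) (.leaf 0x16678e9b))) (.node (.node (.leaf 0x12864e9f) (.leaf 0x10144e99)) (.node (.leaf 0xdb38e97) (.leaf 0x0))))) (.node (.node (.node (.node (.leaf 0x12098e99) (.leaf 0x88d0e97)) (.node (.leaf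 0x13964e97) (.leaf 0x10de0e9d))) (.node (.node (.leaf 0x10d84e95) (.leaf 0x11714e9d)) (.node (.leaf 0x15718e95) (.leaf 0x1205ce85)))) (.node (.node (.node (.leaf 0xb5b0e95) (.leaf 0x15d30e9f)) (.node (.leaf 0x11c58e9d) (.leaf 0x16574e9b))) (.node (.node (.leaf 0x13070e99) (.leaf 0x11b10e97)) (.node (.leaf 0x12500e9d) (.leaf 0x0))))))) (.node (.node (.node (.node (.node (.node (.leaf 0xc728e95) (.leaf 0x10a48e99)) (.node (.leaf 0x1026ce9d) (.leaf 0xb278e95))) (.node (.node (.leaf 0xc4a0e9d) (.leaf 0x10564e99)) (.node (.leaf 0xf794e97) (.leaf 0x11f1ce9f)))) (.node (.node (.node (.leaf 0x88c4e9f) (.leaf 0x155e0e99)) (.node (.leaf 0x90b8e99) (.leaf 0x15fb0e85))) (.node (.node (.leaf 0x15960e9f) (.leaf 0x1240ce9f)) (.node (.leaf 0x122d8e9d) (.leaf 0x0))))) (.node (.node (.node (.node (.leaf 0x10850e9d) (.leaf 0xe164e9b)) (.node (.leaf 0x12a34e97) (.leaf 0x12e70e99))) (.node (.node (.leaf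 0x16e30e9d) (.leaf 0x12484e9f)) (.node (.leaf 0x117a8e99) (.leaf 0x16a18e9f)))) (.node (.node (.node (.leaf 0x12ca4e97) (.leaf 0xd1e8e97)) (.node (.leaf 0x17280e9b) (.leaf 0x11ef0e99))) (.node (.node (.leaf 0x126a0e9f) (.leaf 0xb868e95)) (.node (.leaf 0x16378e85) (.leaf 0x0)))))) (.node (.node (.node (.node (.node (.leaf 0x12b30e95) (.leaf 0x12054e99)) (.node (.leaf 0x13b08e9f) (.leaf 0x130d4e95))) (.node (.node (.leaf 0x138f8e95) (.leaf 0x1510ce9f)) (.node (.leaf 0x90b8e9b) (.leaf 0x5338e9b)))) (.node (.node (.node (.leaf 0xdc48e9f) (.leaf 0xc3ece9f)) (.node (.leaf 0xf244e9f) (.leaf 0x12128e9b))) (.node (.node (.leaf 0xcdece9b) (.leaf 0x13acce99)) (.node (.leaf 0x10f14e9f) (.leaf 0x0))))) (.node (.node (.node (.node (.leaf 0x14910e99) (.leaf 0x11120e95)) (.node (.leaf 0xac20e9d) (.leaf 0x14f64e9b))) (.node (.node (.leaf 0x8890e99) (.leaf 0x1027ce9b)) (.node (.leaf 0x11b84e95) (.leaf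 0x0)))) (.node (.node (.node (.leaf 0xfa58e99) (.leaf 0x10f80e9b)) (.node (.leaf 0x12334e9d) (.leaf 0x16668e97))) (.node (.node (.leaf 0x15960e97) (.leaf 0xc35ce99)) (.node (.leaf 0x16ed4e9b) (.leaf 0x0)))))))) (.node (.node (.node (.node (.node (.node (.node (.leaf 0x16fa4e9d) (.leaf 0xe1a0e9b)) (.node (.leaf 0xc3ece99) (.leaf 0x11910e9f))) (.node (.node (.leaf 0x129bce97) (.leaf 0x8af0e9b)) (.node (.leaf 0x16114e95) (.leaf 0x134b8e95)))) (.node (.node (.node (.leaf 0x1319ce85) (.leaf 0xb854e9f)) (.node (.leaf 0x10050e99) (.leaf 0x12f9ce97))) (.node (.node (.leaf 0xde14e97) (.leaf 0xf9b0e9d)) (.node (.leaf 0xe528e9d) (.leaf 0x0))))) (.node (.node (.node (.node (.leaf 0xf36ce97) (.leaf 0x4510e95)) (.node (.leaf 0xdad4e9f) (.leaf 0x130d8e9d))) (.node (.node (.leaf 0x15e38e95) (.leaf 0x16434e97)) (.node (.leaf 0x12150e97) (.leaf 0x12fcce9d)))) (.node (.node (.node (.leaf 0x10280e9f)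 (.leaf 0x12cc8e97)) (.node (.leaf 0x1167ce85) (.leaf 0x10834e9f))) (.node (.node (.leaf 0xeae0e99) (.leaf 0xd480e97)) (.node (.leaf 0xe86ce9d) (.leaf 0x0)))))) (.node (.node (.node (.node (.node (.leaf 0xf7f0e97) (.leaf 0xec14e85)) (.node (.leaf 0x12e54e9f) (.leaf 0xd2b4e85))) (.node (.node (.leaf 0x98d0e9f) (.leaf 0x12628e95)) (.node (.leaf 0x16dace95) (.leaf 0x14c28e9f)))) (.node (.node (.node (.leaf 0x40c0e95) (.leaf 0xd51ce97)) (.node (.leaf 0xc110e9f) (.leaf 0x11428e99))) (.node (.node (.leaf 0x10324e9b) (.leaf 0x12098e97)) (.node (.leaf 0x13344e85) (.leaf 0x0))))) (.node (.node (.node (.node (.leaf 0x12f88e99) (.leaf 0x103bce95)) (.node (.leaf 0xfa0ce9d) (.leaf 0xa26ce9d))) (.node (.node (.leaf 0x1740ce9b) (.leaf 0x1104ce99)) (.node (.leaf 0xacfce95) (.leaf 0x0)))) (.node (.node (.node (.leaf 0xcff0e9f) (.leaf 0x10e10e9b)) (.node (.leaf 0xd278e85) (.leaf 0x11450e97))) (.node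 (.node (.leaf 0xca64e85) (.leaf 0x12c7ce9d)) (.node (.leaf 0xf600e95) (.leaf 0x0))))))) (.node (.node (.node (.node (.node (.node (.leaf 0x13500e95) (.leaf 0xa26ce95)) (.node (.leaf 0x12ca4e9d) (.leaf 0x12abce9b))) (.node (.node (.leaf 0x10f08e9f) (.leaf 0x10118e95)) (.node (.leaf 0x13430e99) (.leaf 0x11fa8e85)))) (.node (.node (.node (.leaf 0x128b4e9d) (.leaf 0x16e74e9f)) (.node (.leaf 0x10f6ce9d) (.leaf 0x1373ce9f))) (.node (.node (.leaf 0x10e68e97) (.leaf 0x117d4e95)) (.node (.leaf 0x134fce99) (.leaf 0x0))))) (.node (.node (.node (.node (.leaf 0x82d8e9b) (.leaf 0x137b0e9d)) (.node (.leaf 0x149ace9b) (.leaf 0x12c7ce9b))) (.node (.node (.leaf 0x1403ce95) (.leaf 0xc7f8e97)) (.node (.leaf 0x16aa4e95) (.leaf 0x13af0e85)))) (.node (.node (.node (.leaf 0xcd60e9d) (.leaf 0x14088e9d)) (.node (.leaf 0x13460e95) (.leaf 0xf36ce85))) (.node (.node (.leaf 0xdb50e9b) (.leaf 0x12068e97)) (.node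 (.leaf 0x10c20e9f) (.leaf 0x0)))))) (.node (.node (.node (.node (.node (.leaf 0x10c24e9b) (.leaf 0xdd68e9b)) (.node (.leaf 0x12a10e99) (.leaf 0xc570e9d))) (.node (.node (.leaf 0x1256ce9d) (.leaf 0x1595ce9d)) (.node (.leaf 0xe874e9f) (.leaf 0x14568e99)))) (.node (.node (.node (.leaf 0xe8cce97) (.leaf 0x11c58e99)) (.node (.leaf 0x14e44e99) (.leaf 0x145f4e9f))) (.node (.node (.leaf 0xb1c0e9d) (.leaf 0xc2a0e9d)) (.node (.leaf 0xb604e95) (.leaf 0x0))))) (.node (.node (.node (.node (.leaf 0x92c8e85) (.leaf 0x10098e95)) (.node (.leaf 0xbb3ce9d) (.leaf 0x1206ce9d))) (.node (.node (.leaf 0x12188e95) (.leaf 0xf1c4e9b)) (.node (.leaf 0x16c54e9f) (.leaf 0x0)))) (.node (.node (.node (.leaf 0x126b8e9f) (.leaf 0xf4f4e95)) (.node (.leaf 0x15804e85) (.leaf 0x101cce9d))) (.node (.node (.leaf 0x13348e99) (.leaf 0x12760e99)) (.node (.leaf 0xdb6ce99) (.leaf 0x0))))))))))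

/-- packed table -/
noncomputable def cov6_rrr : BTree := (.node (.node (.node (.node (.node (.node (.node (.node (.node (.leaf 0xe87ce97) (.leaf 0x40d8e9f)) (.node (.leaf 0x11678e95) (.leaf 0x152e8e9f))) (.node (.node (.leaf 0x101dce95) (.leaf 0x13938e9f)) (.node (.leaf 0x12394e99) (.leaf 0x11f84e95)))) (.node (.node (.node (.leaf 0xe8e0e99) (.leaf 0x1652ce9d)) (.node (.leaf 0xced4e9d) (.leaf 0xa88ce97))) (.node (.node (.leaf 0x10418e9f) (.leaf 0x8a84e85)) (.node (.leaf 0x15138e9d) (.leaf 0x0))))) (.node (.node (.node (.node (.leaf 0x13320e9b) (.leaf 0x11ac8e9d)) (.node (.leaf 0x15e54e99) (.leaf 0x15c60e9f))) (.node (.node (.leaf 0x102a4e95) (.leaf 0x12070e85)) (.node (.leaf 0x14644e9f) (.leaf 0x10f7ce99)))) (.node (.node (.node (.leaf 0x105c8e97) (.leaf 0x1657ce97)) (.node (.leaf 0xe528e95) (.leaf 0x12fc8e9d))) (.node (.node (.leaf 0xf3d0e9b) (.leaf 0x15e24e9d)) (.node (.leaf 0x14d30e9b)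 (.leaf 0x0)))))) (.node (.node (.node (.node (.node (.leaf 0x10c6ce9b) (.leaf 0x12ca4e9f)) (.node (.leaf 0xeca8e9d) (.leaf 0x1558ce9f))) (.node (.node (.leaf 0x12484e99) (.leaf 0x101e4e95)) (.node (.leaf 0xed8ce9d) (.leaf 0x10810e97)))) (.node (.node (.node (.leaf 0x12f18e9f) (.leaf 0x4f18e95)) (.node (.leaf 0xa028e9b) (.leaf 0x15b00e9d))) (.node (.node (.leaf 0x162bce9f) (.leaf 0xeaf4e9d)) (.node (.leaf 0x10e18e9b) (.leaf 0x0))))) (.node (.node (.node (.node (.leaf 0x12c6ce97) (.leaf 0x10158e9d)) (.node (.leaf 0x17328e9f) (.leaf 0x80c4e97))) (.node (.node (.leaf 0x5338e9d) (.leaf 0x12e08e9b)) (.node (.leaf 0x134fce9f) (.leaf 0x8afce9b)))) (.node (.node (.node (.leaf 0x100a4e97) (.leaf 0x89c0e9d)) (.node (.leaf 0x15724e85) (.leaf 0xf4cce97))) (.node (.node (.leaf 0x10008e95) (.leaf 0x138f4e99)) (.node (.leaf 0xf388e85) (.leaf 0x0))))))) (.node (.node (.node (.node (.node (.node (.leaf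 0x13344e99) (.leaf 0x10b78e99)) (.node (.leaf 0x16ea0e95) (.leaf 0x1404ce99))) (.node (.node (.leaf 0x10358e97) (.leaf 0x10150e95)) (.node (.leaf 0x12070e97) (.leaf 0xe164e95)))) (.node (.node (.node (.leaf 0x108d4e9f) (.leaf 0xeca8e85)) (.node (.leaf 0x17b18e95) (.leaf 0x10968e85))) (.node (.node (.leaf 0xcaf4e97) (.leaf 0x163e8e99)) (.node (.leaf 0x10d00e95) (.leaf 0x0))))) (.node (.node (.node (.node (.leaf 0x12e08e9f) (.leaf 0xd254e99)) (.node (.leaf 0x16228e97) (.leaf 0x113e8e99))) (.node (.node (.leaf 0x11b64e99) (.leaf 0x12490e9f)) (.node (.leaf 0x12608e9d) (.leaf 0xc48ce99)))) (.node (.node (.node (.leaf 0xf1c4e97) (.leaf 0x12344e99)) (.node (.leaf 0x16e30e85) (.leaf 0x8588e99))) (.node (.node (.leaf 0xe904e9d) (.leaf 0x149f8e85)) (.node (.leaf 0xf05ce99) (.leaf 0x0)))))) (.node (.node (.node (.node (.node (.leaf 0x12398e9d) (.leaf 0x13688e9f)) (.node (.leaf 0xf018e95) (.leaf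 0xe4e0e99))) (.node (.node (.leaf 0xeae4e95) (.leaf 0x16d68e99)) (.node (.leaf 0x1112ce97) (.leaf 0x132c4e95)))) (.node (.node (.node (.leaf 0xc0e0e95) (.leaf 0x12000e9d)) (.node (.leaf 0x11334e9f) (.leaf 0x109f4e85))) (.node (.node (.leaf 0xb858e9d) (.leaf 0x1657ce9f)) (.node (.leaf 0xf134e99) (.leaf 0x0))))) (.node (.node (.node (.node (.leaf 0x110a0e99) (.leaf 0x10b88e99)) (.node (.leaf 0x9374e99) (.leaf 0x12770e9f))) (.node (.node (.leaf 0xc870e99) (.leaf 0x10e5ce9b)) (.node (.leaf 0x14ff8e85) (.leaf 0x0)))) (.node (.node (.node (.leaf 0x620ce97) (.leaf 0xf378e97)) (.node (.leaf 0xc4a0e95) (.leaf 0x13510e95))) (.node (.node (.leaf 0xb850e85) (.leaf 0xe618e9b)) (.node (.leaf 0x15e88e95) (.leaf 0x0)))))))) (.node (.node (.node (.node (.node (.node (.node (.leaf 0x12350e9b) (.leaf 0xddece9f)) (.node (.leaf 0xc3f8e99) (.leaf 0xb358e85))) (.node (.node (.leaf 0x1767ce9d) (.leaf 0x10030e95))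 (.node (.leaf 0x11090e85) (.leaf 0xad00e99)))) (.node (.node (.node (.leaf 0xe1a8e97) (.leaf 0x106b4e9f)) (.node (.leaf 0x13014e99) (.leaf 0xd24ce9f))) (.node (.node (.leaf 0x10f60e9f) (.leaf 0xde14e9f)) (.node (.leaf 0xd708e9f) (.leaf 0x0))))) (.node (.node (.node (.node (.leaf 0xfb40e97) (.leaf 0xe8cce9d)) (.node (.leaf 0x11644e9f) (.leaf 0xd3d4e9d))) (.node (.node (.leaf 0xd708e99) (.leaf 0x14254e99)) (.node (.leaf 0xe860e9f) (.leaf 0xb850e9d)))) (.node (.node (.node (.leaf 0x14660e85) (.leaf 0xd270e99)) (.node (.leaf 0xc498e9b) (.leaf 0x12b20e97))) (.node (.node (.leaf 0xcc18e97) (.leaf 0x16604e99)) (.node (.leaf 0x1030ce9d) (.leaf 0x0)))))) (.node (.node (.node (.node (.node (.leaf 0xf530e99) (.leaf 0x12c18e9f)) (.node (.leaf 0x103dce9d) (.leaf 0xf024e9f))) (.node (.node (.leaf 0x13064e9d) (.leaf 0x129d4e9b)) (.node (.leaf 0x12490e99) (.leaf 0xc278e9b)))) (.node (.node (.node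 (.leaf 0x15028e9b) (.leaf 0x109e0e9f)) (.node (.leaf 0x1126ce97) (.leaf 0x166b0e99))) (.node (.node (.leaf 0xd254e9b) (.leaf 0xf780e85)) (.node (.leaf 0x112d0e9d) (.leaf 0x0))))) (.node (.node (.node (.node (.leaf 0x9b30e9d) (.leaf 0xde04e9f)) (.node (.leaf 0x9190e9f) (.leaf 0x163b0e99))) (.node (.node (.leaf 0x12c3ce95) (.leaf 0x10914e9f)) (.node (.leaf 0xe618e85) (.leaf 0x0)))) (.node (.node (.node (.leaf 0xb34ce97) (.leaf 0xe478e95)) (.node (.leaf 0x13924e97) (.leaf 0xa88ce85))) (.node (.node (.leaf 0x8bcce99) (.leaf 0x11450e9d)) (.node (.leaf 0x13344e95) (.leaf 0x0))))))) (.node (.node (.node (.node (.node (.node (.leaf 0x14900e99) (.leaf 0x13830e99)) (.node (.leaf 0x117a8e95) (.leaf 0x138f0e99))) (.node (.node (.leaf 0x72e0e97) (.leaf 0x8da0e99)) (.node (.leaf 0x14980e9d) (.leaf 0x11a70e99)))) (.node (.node (.node (.leaf 0x15804e9f) (.leaf 0x131f8e9d)) (.node (.leaf 0x14f74e9d)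 (.leaf 0x13a30e95))) (.node (.node (.leaf 0xb9b8e9f) (.leaf 0x14830e99)) (.node (.leaf 0x116e0e9d) (.leaf 0x0))))) (.node (.node (.node (.node (.leaf 0xeb0) (.leaf 0xc574e95)) (.node (.leaf 0x4510e9b) (.leaf 0xf4f0e95))) (.node (.node (.leaf 0x159c0e85) (.leaf 0x8bcce85)) (.node (.leaf 0x14d04e9f) (.leaf 0xdbc8e9f)))) (.node (.node (.node (.leaf 0x150bce95) (.leaf 0x1409ce9d)) (.node (.leaf 0x11b20e9d) (.leaf 0x122a0e9d))) (.node (.node (.leaf 0x12be4e9f) (.leaf 0x12bc4e9f)) (.node (.leaf 0x119d0e9f) (.leaf 0x0)))))) (.node (.node (.node (.node (.node (.leaf 0xd51ce9f) (.leaf 0xdd74e9b)) (.node (.leaf 0xe418e9f) (.leaf 0x11884e95))) (.node (.node (.leaf 0xcf90e9b) (.leaf 0xfa5ce9d)) (.node (.leaf 0x11e20e97) (.leaf 0xf31ce9f)))) (.node (.node (.node (.leaf 0xeaf4e95) (.leaf 0xd39ce9d)) (.node (.leaf 0xf874e9d) (.leaf 0x163d4e99))) (.node (.node (.leaf 0xd268e99) (.leaf 0x12ee4e9d))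 (.node (.leaf 0x9f0ce9d) (.leaf 0x0))))) (.node (.node (.node (.node (.leaf 0xe8bce99) (.leaf 0x10420e9d)) (.node (.leaf 0x11630e9f) (.leaf 0x150c0e95))) (.node (.node (.leaf 0x12608e9f) (.leaf 0x14604e97)) (.node (.leaf 0x16120e99) (.leaf 0x0)))) (.node (.node (.node (.leaf 0xc260e97) (.leaf 0x8784e9f)) (.node (.leaf 0x1113ce97) (.leaf 0x131b4e9f))) (.node (.node (.leaf 0x12770e95) (.leaf 0x10144e9f)) (.node (.leaf 0xce34e9d) (.leaf 0x0))))))))) (.node (.node (.node (.node (.node (.node (.node (.node (.leaf 0x13acce9d) (.leaf 0x1383ce9b)) (.node (.leaf 0x10a5ce97) (.leaf 0xf788e9d))) (.node (.node (.leaf 0x122d8e95) (.leaf 0xb8b8e85)) (.node (.leaf 0x14f38e99) (.leaf 0xf1f0e9d)))) (.node (.node (.node (.leaf 0xb858e9f) (.leaf 0xfa58e9d)) (.node (.leaf 0x17298e99) (.leaf 0x14bfce95))) (.node (.node (.leaf 0x1558ce85) (.leaf 0xd39ce9f)) (.node (.leaf 0x10160e99) (.leaf 0x0))))) (.node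 (.node (.node (.node (.leaf 0x16f5ce95) (.leaf 0x9d90e9d)) (.node (.leaf 0x14580e99) (.leaf 0x88dce99))) (.node (.node (.leaf 0x101b4e95) (.leaf 0x12598e97)) (.node (.leaf 0x10648e9f) (.leaf 0x130e4e99)))) (.node (.node (.node (.leaf 0x11a0ce9d) (.leaf 0xcce8e99)) (.node (.leaf 0x154ece9d) (.leaf 0x14394e85))) (.node (.node (.leaf 0x11d00e9d) (.leaf 0x10b78e9d)) (.node (.leaf 0x13564e99) (.leaf 0x0)))))) (.node (.node (.node (.node (.node (.leaf 0x10a30e97) (.leaf 0x14ad8e9d)) (.node (.leaf 0xc3d4e9d) (.leaf 0x13254e85))) (.node (.node (.leaf 0x12e2ce99) (.leaf 0x16b7ce97)) (.node (.leaf 0x107d0e9b) (.leaf 0x11b48e9f)))) (.node (.node (.node (.leaf 0x16b7ce9f) (.leaf 0x13500e97)) (.node (.leaf 0xc590e99) (.leaf 0x11ef0e95))) (.node (.node (.leaf 0x1263ce95) (.leaf 0x10130e99)) (.node (.leaf 0xdf14e9b) (.leaf 0x0))))) (.node (.node (.node (.node (.leaf 0x11b10e99) (.leaf 0x108b4e97))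 (.node (.leaf 0x11d64e9d) (.leaf 0x1059ce99))) (.node (.node (.leaf 0x15980e9f) (.leaf 0x130a8e99)) (.node (.leaf 0xcc08e97) (.leaf 0x5df0e85)))) (.node (.node (.node (.leaf 0x8ae0e95) (.leaf 0x105ace99)) (.node (.leaf 0x15464e85) (.leaf 0xde4ce99))) (.node (.node (.leaf 0x1451ce97) (.leaf 0x118b8e9f)) (.node (.leaf 0x12510e9d) (.leaf 0x0))))))) (.node (.node (.node (.node (.node (.node (.leaf 0x80d0e85) (.leaf 0xf2f0e9d)) (.node (.leaf 0x132e4e9f) (.leaf 0xc764e99))) (.node (.node (.leaf 0xac80e97) (.leaf 0xa26ce9f)) (.node (.leaf 0x10968e9d) (.leaf 0xc6c0e97)))) (.node (.node (.node (.leaf 0x123b8e95) (.leaf 0xed8ce95)) (.node (.leaf 0x132a0e9d) (.leaf 0x13a54e95))) (.node (.node (.leaf 0x14424e95) (.leaf 0x131d0e9d)) (.node (.leaf 0x162bce9d) (.leaf 0x0))))) (.node (.node (.node (.node (.leaf 0xe7b4e97) (.leaf 0x11c4ce99)) (.node (.leaf 0x88d0e9b) (.leaf 0x12e80e99))) (.node (.node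 (.leaf 0x177cce85) (.leaf 0xe478e9f)) (.node (.leaf 0x12d54e9d) (.leaf 0x105f0e97)))) (.node (.node (.node (.leaf 0xed84e9b) (.leaf 0x12c6ce9d)) (.node (.leaf 0x14e24e85) (.leaf 0x10e2ce97))) (.node (.node (.leaf 0x11798e9f) (.leaf 0x7360e95)) (.node (.leaf 0x1178ce99) (.leaf 0x0)))))) (.node (.node (.node (.node (.node (.leaf 0xd268e9b) (.leaf 0x8d14e97)) (.node (.leaf 0x138f8e9d) (.leaf 0x80c8e97))) (.node (.node (.leaf 0x11b3ce97) (.leaf 0xeae4e9b)) (.node (.leaf 0x144ece97) (.leaf 0xad00e9b)))) (.node (.node (.node (.leaf 0x10ad0e9b) (.leaf 0xd24ce9b)) (.node (.leaf 0x1216ce95) (.leaf 0x1090ce97))) (.node (.node (.leaf 0xeaf4e99) (.leaf 0x17214e9f)) (.node (.leaf 0x10ef8e9f) (.leaf 0x0))))) (.node (.node (.node (.node (.leaf 0xeae4e99) (.leaf 0x1595ce95)) (.node (.leaf 0x1136ce99) (.leaf 0x1105ce95))) (.node (.node (.leaf 0x172cce9d) (.leaf 0x171dce9d)) (.node (.leaf 0x120c8e9b)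 (.leaf 0x0)))) (.node (.node (.node (.leaf 0x10270e97) (.leaf 0xb4d0e9d)) (.node (.leaf 0xf1f0e85) (.leaf 0x10c60e95))) (.node (.node (.leaf 0x8014e85) (.leaf 0xc43ce85)) (.node (.leaf 0x15588e85) (.leaf 0x0)))))))) (.node (.node (.node (.node (.node (.node (.node (.leaf 0x10740e95) (.leaf 0x136d0e9d)) (.node (.leaf 0x12104e9f) (.leaf 0x13078e85))) (.node (.node (.leaf 0x10160e85) (.leaf 0xb4d0e97)) (.node (.leaf 0x12560e85) (.leaf 0x17a3ce95)))) (.node (.node (.node (.leaf 0x148c0e9f) (.leaf 0x11934e95)) (.node (.leaf 0x11fece99) (.leaf 0x117bce9d))) (.node (.node (.leaf 0xe904e85) (.leaf 0xece0e9d)) (.node (.leaf 0xcc4ce85) (.leaf 0x0))))) (.node (.node (.node (.node (.leaf 0xf1f0e97) (.leaf 0xe8dce9d)) (.node (.leaf 0x12fb0e9f) (.leaf 0xc6c0e9f))) (.node (.node (.leaf 0x15718e97) (.leaf 0x1026ce99)) (.node (.leaf 0x90b8e97) (.leaf 0xf4f0e9f)))) (.node (.node (.node (.leaf 0x101dce99)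 (.leaf 0x1242ce97)) (.node (.leaf 0xe23ce9b) (.leaf 0x13504e95))) (.node (.node (.leaf 0xe048e9b) (.leaf 0x15290e9f)) (.node (.leaf 0x12720e9d) (.leaf 0x0)))))) (.node (.node (.node (.node (.node (.leaf 0x13380e95) (.leaf 0x16fd8e99)) (.node (.leaf 0x11c08e95) (.leaf 0x159c8e9b))) (.node (.node (.leaf 0x127b0e9d) (.leaf 0x1582ce9f)) (.node (.leaf 0xc110e9b) (.leaf 0x15588e97)))) (.node (.node (.node (.leaf 0x40b4e95) (.leaf 0x1373ce99)) (.node (.leaf 0x17754e9d) (.leaf 0xcbace9d))) (.node (.node (.leaf 0x12054e9b) (.leaf 0x16218e97)) (.node (.leaf 0x164a4e9d) (.leaf 0x0))))) (.node (.node (.node (.node (.leaf 0xc260e9d) (.leaf 0x15580e95)) (.node (.leaf 0xd3ace9b) (.leaf 0x11d44e9f))) (.node (.node (.leaf 0xd4c4e9d) (.leaf 0x10820e97)) (.node (.leaf 0xe848e9f) (.leaf 0x0)))) (.node (.node (.node (.leaf 0xeae8e99) (.leaf 0x10ed0e99)) (.node (.leaf 0xd254e85) (.leaf 0xece0e97))) (.node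 (.node (.leaf 0xdc48e97) (.leaf 0x11e2ce9d)) (.node (.leaf 0x10e6ce95) (.leaf 0x0))))))) (.node (.node (.node (.node (.node (.node (.leaf 0xe418e95) (.leaf 0x13840e99)) (.node (.leaf 0x157dce99) (.leaf 0x15e38e9d))) (.node (.node (.leaf 0x139e0e95) (.leaf 0x15e98e97)) (.node (.leaf 0xede4e85) (.leaf 0x12f88e9d)))) (.node (.node (.node (.leaf 0x10874e9b) (.leaf 0x11b88e97)) (.node (.leaf 0x10f88e9d) (.leaf 0xf234e9f))) (.node (.node (.leaf 0xb9ace9f) (.leaf 0x72e0e95)) (.node (.leaf 0x116e8e9d) (.leaf 0x0))))) (.node (.node (.node (.node (.leaf 0xeb8) (.leaf 0x17650e9d)) (.node (.leaf 0x1582ce99) (.leaf 0x138f8e99))) (.node (.node (.leaf 0x40b4e9d) (.leaf 0x177bce9d)) (.node (.leaf 0x11790e9f) (.leaf 0x10264e9f)))) (.node (.node (.node (.leaf 0x10d64e9d) (.leaf 0x14520e9b)) (.node (.leaf 0x10a58e95) (.leaf 0x15d28e9f))) (.node (.node (.leaf 0x11e2ce95) (.leaf 0xe3c4e9b)) (.node (.leaf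 0xf388e95) (.leaf 0x0)))))) (.node (.node (.node (.node (.node (.leaf 0x10bf8e9b) (.leaf 0x175c4e9f)) (.node (.leaf 0x82e0e9f) (.leaf 0x10428e99))) (.node (.node (.leaf 0x12be4e99) (.leaf 0x1229ce95)) (.node (.leaf 0x101cce85) (.leaf 0x12770e99)))) (.node (.node (.node (.leaf 0xf600e9d) (.leaf 0x14680e95)) (.node (.leaf 0x1216ce9d) (.leaf 0x105f0e9f))) (.node (.node (.leaf 0xcfc4e9f) (.leaf 0x133f8e9f)) (.node (.leaf 0xf514e99) (.leaf 0x0))))) (.node (.node (.node (.node (.leaf 0x12ac4e99) (.leaf 0x10c7ce9f)) (.node (.leaf 0x10e98e9d) (.leaf 0x10c98e95))) (.node (.node (.leaf 0x13830e9d) (.leaf 0x12148e9d)) (.node (.leaf 0x138a8e9f) (.leaf 0x0)))) (.node (.node (.node (.leaf 0x17540e95) (.leaf 0x15abce97)) (.node (.leaf 0x118f0e99) (.leaf 0xe0ece99))) (.node (.node (.leaf 0x10f68e97) (.leaf 0x88dce9b)) (.node (.leaf 0x127b8e9d) (.leaf 0x0))))))))))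

/-- packed table -/
noncomputable def cov6 : BTree := (.node (.node (.node cov6_lll cov6_llr) (.node cov6_lrl cov6_lrr)) (.node (.node cov6_rll cov6_rlr) (.node cov6_rrl cov6_rrr)))

theorem cov6_ok : okCover 6 cov6 = true := by decide +kernel

/-- straight-line program -/
def slp6 : List (Nat × Nat × Nat) :=
  [(0x16c39c228708eca353251ab75bc24, 3, 1),
   (0x5046f4de932d8d514240411677458d, 1, 2),
   (0x1100972ef4942283d8a1a8e6c6994f, 4, 2),
   (0x8355533922010732d02f5b0f2b5e28, 3, 3),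
   (0x40d4bc5163b58a089d5796445a473, 6, 3),
   (0x512e248e742da517c0cb4040d75587, 5, 4),
   (0x78e8971037818b26c6a0b4d6c3a142, 8, 4),
   (0x6856e38293918b0646d7a906a121e9, 8, 5),
   (0x43055335e925c20b0d6aa1dd22ce30, 8, 6),
   (0x15c0772c83ad9114c0c19526f6954c, 12, 6),
   (0x612e710c14b451551a4182e6f495ae, 11, 7),
   (0xb1d462b9af58e7495c8c0093180515, 11, 8),
   (0xb35522b8e205e9330c2c5bd3581111, 15, 8),
   (0x889f229dcd04e97804695a99531116, 15, 9),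
   (0x1c100094d651c4923d957464bbb674, 14, 10),
   (0x41db63092f25d73a8c2ea315028232, 15, 9),
   (0x831c5929e9584838ceed01c48b52a6, 16, 8),
   (0xa46c00c2a63b58ab89c87c8ab22663, 17, 8),
   (0x89db2b094fbce804056c1b93531205, 18, 7),
   (0xa46c01c0a67b1ae9a5523a2ab20ae1, 21, 4),
   (0xa4a170d8d53b5c9009857c50322a6b, 20, 4),
   (0xb963499aa8130ee5a5506cac41bc20, 22, 22),
   (0x216c1042a83a98d1b8467ca33a2577, 23, 24),
   (0x248c1bc615535e95898575913a1c60, 24, 0),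
   (0x219039965113d2e59d566d617a3020, 27, 2),
   (0x24101b96566a9875b9f1154d3a2460, 27, 3),
   (0x996d4bc2a86a5c75b1e614a240a860, 28, 1),
   (0x9c6c3242a613d4c59d286c8b70ba80, 29, 1),
   (0x996a324ac8731af5a4e65423708a80, 30, 30),
   (0x9c6b4bcac651c495bd88740a40b460, 31, 32),
   (0xba241254c57b1ae5a5563c61318a80, 32, 0),
   (0x99a54bd61173dac59d255590408860, 34, 2),
   (0x246a1bc8a663dae59d504a2d3a0860, 35, 1)]

/-- levels -/
def levels6 : List (Nat × List Nat) :=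
  [(0, [37, 2, 3, 4, 5, 6, 7, 8, 9, 10, 11, 12, 13, 14, 15, 16, 17, 18, 19, 20, 21, 22, 23, 24]),
   (2, [37, 1, 25, 27, 28, 29, 30, 31]),
   (5, [37, 0, 32, 34, 35, 36])]

/-- stabilising facts -/
def gens6 : List Nat := [929, 933, 934, 935]

theorem chain6_ok : okChain 6 gens6 slp6 levels6 = true := by decide +kernel

theorem chain6_size : chainSize levels6 = 1152 := by decide +kernel

end CfsgLib.Spor.J4.Index
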