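import Cfsg.Agent.Lib.Spor.J4.Index.Check

/-!
Coverage and stabiliser of node 7 (generated).
-/

set_option autoImplicit false
set_option linter.all false

namespace CfsgLib.Spor.J4.Index

open CfsgLib.PresCert

/-- packed table -/
noncomputable def cov7_lll : BTree := (.node (.node (.node (.node (.node (.node (.node (.node (.node (.leaf 0xc2c4ee1) (.leaf 0x10c50ed9)) (.node (.leaf 0xa8b4ed9) (.leaf 0xf778ee1))) (.node (.node (.leaf 0x81f8ee1) (.leaf 0xc04ced9)) (.node (.leaf 0xd29cee1) (.leaf 0xe4e8ee1)))) (.node (.node (.node (.leaf 0xa7b0ee1) (.leaf 0xff0)) (.node (.leaf 0x152ecee1) (.leaf 0x96c4edb))) (.node (.node (.leaf 0x649cee1) (.leaf 0x4290ed9)) (.node (.leaf 0x81c8edb) (.leaf 0x0))))) (.node (.node (.node (.node (.leaf 0x4058edb) (.leaf 0x8854ed9)) (.node (.leaf 0x5b44ee1) (.leaf 0x122c0ee1))) (.node (.node (.leaf 0x96e0ed9) (.leaf 0x1810)) (.node (.leaf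 0xf670ed9) (.leaf 0xeaccee1)))) (.node (.node (.node (.leaf 0xa568ed9) (.leaf 0xc7f4edb)) (.node (.leaf 0xf8dcee1) (.leaf 0x8ad8ed9))) (.node (.node (.leaf 0xfac) (.leaf 0x9fa0ee1)) (.node (.leaf 0xd380ed9) (.leaf 0x0)))))) (.node (.node (.node (.node (.node (.leaf 0x869cee1) (.leaf 0xf2a0ee1)) (.node (.leaf 0xe3dced9) (.leaf 0xe0b0ee1))) (.node (.node (.leaf 0xbaecee1) (.leaf 0x143e8ee1)) (.node (.leaf 0x130d0ed9) (.leaf 0xa75cedb)))) (.node (.node (.node (.leaf 0xee00edb) (.leaf 0x4be8ee1)) (.node (.leaf 0x13198ee1) (.leaf 0xe2d8ee1))) (.node (.node (.leaf 0xe8c0ee1) (.leaf 0xdac4edb)) (.node (.leaf 0x6b78edb) (.leaf 0x0))))) (.node (.node (.node (.node (.leaf 0x4770ed9) (.leaf 0x12e3cee1)) (.node (.leaf 0xf3e4ed9) (.leaf 0x119a0ee1))) (.node (.node (.leaf 0x12f94ee1) (.leaf 0xb9e0ee1)) (.node (.leaf 0x123d4ee1) (.leaf 0xc4c8ee1)))) (.node (.node (.node (.leaf 0xaef8edb)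 (.leaf 0x42b4edb)) (.node (.leaf 0xb124edb) (.leaf 0x10c5cedb))) (.node (.node (.leaf 0x118c0ed9) (.leaf 0x90e8ee1)) (.node (.leaf 0xb058ed9) (.leaf 0x0))))))) (.node (.node (.node (.node (.node (.node (.leaf 0xc27cee1) (.leaf 0xf0a0ee1)) (.node (.leaf 0x6ac8ed9) (.leaf 0xde78ed9))) (.node (.node (.leaf 0xac4ced9) (.leaf 0x8fc4ed9)) (.node (.leaf 0x13964ee1) (.leaf 0x73cced9)))) (.node (.node (.node (.leaf 0xfd6) (.leaf 0xb6acee1)) (.node (.leaf 0x9798ee1) (.leaf 0xc658ed9))) (.node (.node (.leaf 0x12d74ee1) (.leaf 0xda1cedb)) (.node (.leaf 0xb384ee1) (.leaf 0x0))))) (.node (.node (.node (.node (.leaf 0xdc8cedb) (.leaf 0x11e40ee1)) (.node (.leaf 0xbaf4ed9) (.leaf 0x8670ed9))) (.node (.node (.leaf 0x1442) (.leaf 0x43acee1)) (.node (.leaf 0xf128edb) (.leaf 0xf068ee1)))) (.node (.node (.node (.leaf 0xaf64ed9) (.leaf 0xf694ee1)) (.node (.leaf 0x9ec0ed9) (.leaf 0x9510ee1)))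 (.node (.node (.leaf 0xebdcee1) (.leaf 0xa860ed9)) (.node (.leaf 0xf584ed9) (.leaf 0x0)))))) (.node (.node (.node (.node (.node (.leaf 0xec8cedb) (.leaf 0x11e24ee1)) (.node (.leaf 0x4be8edb) (.leaf 0x12070ee1))) (.node (.node (.leaf 0xd5a4ed9) (.leaf 0xe994ee1)) (.node (.leaf 0xb9f4edb) (.leaf 0xe5f4edb)))) (.node (.node (.node (.leaf 0x154ecee1) (.leaf 0xd1c8ee1)) (.node (.leaf 0x1397ced9) (.leaf 0x5e88edb))) (.node (.node (.leaf 0xf0f8ed9) (.leaf 0xcc78ee1)) (.node (.leaf 0xc850ed9) (.leaf 0x0))))) (.node (.node (.node (.node (.leaf 0x17970ee1) (.leaf 0xaca8ed9)) (.node (.leaf 0x93b8ee1) (.leaf 0x11c70ee1))) (.node (.node (.leaf 0xea0cee1) (.leaf 0x125d8ed9)) (.node (.leaf 0x515cee1) (.leaf 0x0)))) (.node (.node (.node (.leaf 0x4788ec1) (.leaf 0x129c0ee1)) (.node (.leaf 0x8708edb) (.leaf 0x103a))) (.node (.node (.leaf 0x12f10ee1) (.leaf 0xcb50ee1)) (.node (.leaf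 0xab44edb) (.leaf 0x0)))))))) (.node (.node (.node (.node (.node (.node (.node (.leaf 0xee64edb) (.leaf 0x9140ee1)) (.node (.leaf 0x12db4ee1) (.leaf 0x872ced9))) (.node (.node (.leaf 0x140e0ee1) (.leaf 0x49a0ee1)) (.node (.leaf 0x9758ed9) (.leaf 0xe3c8ee1)))) (.node (.node (.node (.leaf 0xee6) (.leaf 0x17738ee1)) (.node (.leaf 0xd710ee1) (.leaf 0x16338ee1))) (.node (.node (.leaf 0xebbcee1) (.leaf 0xd208ee1)) (.node (.leaf 0x13358ee1) (.leaf 0x0))))) (.node (.node (.node (.node (.leaf 0xc658ee1) (.leaf 0xc7d0edb)) (.node (.leaf 0xe560edb) (.leaf 0x122bcee1))) (.node (.node (.leaf 0x13190ee1) (.leaf 0x4278edb)) (.node (.leaf 0x16538ee1) (.leaf 0x8ec8ed9)))) (.node (.node (.node (.leaf 0x80a8edb) (.leaf 0x8fbced9)) (.node (.leaf 0x12ed4ee1) (.leaf 0xa294ee1))) (.node (.node (.leaf 0x14d3cee1) (.leaf 0x9d7ced9)) (.node (.leaf 0xd53ced9) (.leaf 0x0)))))) (.node (.node (.node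 (.node (.node (.leaf 0xc7eced9) (.leaf 0x11eb0ee1)) (.node (.leaf 0x4438ec1) (.leaf 0x42b0edb))) (.node (.node (.leaf 0x8208edb) (.leaf 0x11114ee1)) (.node (.leaf 0x8b4ced9) (.leaf 0xd5c8ee1)))) (.node (.node (.node (.leaf 0xeb6cee1) (.leaf 0x1048)) (.node (.leaf 0xf984ee1) (.leaf 0x6548edb))) (.node (.node (.leaf 0x12e90edb) (.leaf 0x14cfcee1)) (.node (.leaf 0x14ea4ee1) (.leaf 0x0))))) (.node (.node (.node (.node (.leaf 0xb1cced9) (.leaf 0x12884edb)) (.node (.leaf 0x9344edb) (.leaf 0xf114ed9))) (.node (.node (.leaf 0x11954edb) (.leaf 0xfab4ee1)) (.node (.leaf 0x4348ec1) (.leaf 0x13b44ee1)))) (.node (.node (.node (.leaf 0x13790ed9) (.leaf 0x4268edb)) (.node (.leaf 0x9b40ed9) (.leaf 0xd850ee1))) (.node (.node (.leaf 0xef3cee1) (.leaf 0x10f50ee1)) (.node (.leaf 0x11dccee1) (.leaf 0x0))))))) (.node (.node (.node (.node (.node (.node (.leaf 0x40c4ec1) (.leaf 0x10c44ed9))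 (.node (.leaf 0xfb0) (.leaf 0xb038ed9))) (.node (.node (.leaf 0xf8f0ee1) (.leaf 0x8944edb)) (.node (.leaf 0xf71cee1) (.leaf 0x15908ee1)))) (.node (.node (.node (.leaf 0x9060ed9) (.leaf 0xfd0)) (.node (.leaf 0x5130ed9) (.leaf 0x119f8ee1))) (.node (.node (.leaf 0x12d00ee1) (.leaf 0x9140ed9)) (.node (.leaf 0xe10cedb) (.leaf 0x0))))) (.node (.node (.node (.node (.leaf 0x6858edb) (.leaf 0xcd70edb)) (.node (.leaf 0xc818ed9) (.leaf 0x16370ee1))) (.node (.node (.leaf 0xefe8ee1) (.leaf 0x17a68ee1)) (.node (.leaf 0xd610edb) (.leaf 0xab2cee1)))) (.node (.node (.node (.leaf 0x4120ec1) (.leaf 0xf64cee1)) (.node (.leaf 0xb3f4ed9) (.leaf 0xb660edb))) (.node (.node (.leaf 0xe498edb) (.leaf 0x12090ee1)) (.node (.leaf 0x6a38ec1) (.leaf 0x0)))))) (.node (.node (.node (.node (.node (.leaf 0x145f8ee1) (.leaf 0x12b90ed9)) (.node (.leaf 0x93d0ed9) (.leaf 0x16340ee1))) (.node (.node (.leaf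 0x120ecee1) (.leaf 0xce2ced9)) (.node (.leaf 0xf2fcee1) (.leaf 0x118f0ee1)))) (.node (.node (.node (.leaf 0xf50cee1) (.leaf 0xd578ed9)) (.node (.leaf 0x13258ee1) (.leaf 0x13588ee1))) (.node (.node (.leaf 0x11314ee1) (.leaf 0x11074ee1)) (.node (.leaf 0x127b4edb) (.leaf 0x0))))) (.node (.node (.node (.node (.leaf 0x1748cee1) (.leaf 0x6400edb)) (.node (.leaf 0x11368ee1) (.leaf 0x11988ee1))) (.node (.node (.leaf 0xdb0ced9) (.leaf 0x9058ee1)) (.node (.leaf 0x42b4ed9) (.leaf 0x0)))) (.node (.node (.node (.leaf 0x14714ee1) (.leaf 0xe878ee1)) (.node (.leaf 0xdaf0edb) (.leaf 0x9870ee1))) (.node (.node (.leaf 0x125bcee1) (.leaf 0xcd44ee1)) (.node (.leaf 0x8bd0ed9) (.leaf 0x0))))))))) (.node (.node (.node (.node (.node (.node (.node (.node (.leaf 0x42b4ee1) (.leaf 0x9cc4ee1)) (.node (.leaf 0x1326cedb) (.leaf 0x4e34ed9))) (.node (.node (.leaf 0xdc74edb) (.leaf 0x10c48edb)) (.node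 (.leaf 0xab48ed9) (.leaf 0xe398ee1)))) (.node (.node (.node (.leaf 0xf9b0edb) (.leaf 0xc9ecee1)) (.node (.leaf 0x15304ee1) (.leaf 0x4368ec1))) (.node (.node (.leaf 0x6a28ec1) (.leaf 0x10c24ee1)) (.node (.leaf 0xb1dcedb) (.leaf 0x0))))) (.node (.node (.node (.node (.leaf 0x8688ee1) (.leaf 0x5678ed9)) (.node (.leaf 0xa56cedb) (.leaf 0xa54ced9))) (.node (.node (.leaf 0x9044ed9) (.leaf 0x10ca)) (.node (.leaf 0x4becedb) (.leaf 0xe624ed9)))) (.node (.node (.node (.leaf 0x10154ee1) (.leaf 0x9da4ed9)) (.node (.leaf 0x139c8ee1) (.leaf 0x11098edb))) (.node (.node (.leaf 0x12a60ee1) (.leaf 0xd118edb)) (.node (.leaf 0x49c8ed9) (.leaf 0x0)))))) (.node (.node (.node (.node (.node (.leaf 0x1c68) (.leaf 0xaf0ced9)) (.node (.leaf 0xeeb8edb) (.leaf 0x12050ee1))) (.node (.node (.leaf 0x67d4ec1) (.leaf 0x90d4ee1)) (.node (.leaf 0x12f30ed9) (.leaf 0xa9f0edb)))) (.node (.node (.node (.leaf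 0x6540ee1) (.leaf 0xe87ced9)) (.node (.leaf 0xf904ee1) (.leaf 0x4458ec1))) (.node (.node (.leaf 0xdb08ed9) (.leaf 0x10b9cee1)) (.node (.leaf 0xb420ed9) (.leaf 0x0))))) (.node (.node (.node (.node (.leaf 0xaa80ed9) (.leaf 0x12738edb)) (.node (.leaf 0xf3c4ed9) (.leaf 0x5ad8ee1))) (.node (.node (.leaf 0x15514ee1) (.leaf 0xb9e4ee1)) (.node (.leaf 0x125b8ee1) (.leaf 0xc9d4ee1)))) (.node (.node (.node (.leaf 0x4290ec1) (.leaf 0x84b4ee1)) (.node (.leaf 0x50d8edb) (.leaf 0x50acec1))) (.node (.node (.leaf 0x12f44ee1) (.leaf 0xe880ed9)) (.node (.leaf 0x6858ec1) (.leaf 0x0))))))) (.node (.node (.node (.node (.node (.node (.leaf 0x1026cee1) (.leaf 0xb1e0ee1)) (.node (.leaf 0xaca8ee1) (.leaf 0x8124edb))) (.node (.node (.leaf 0xc178ee1) (.leaf 0x10420ee1)) (.node (.leaf 0xe02ced9) (.leaf 0x118e0ee1)))) (.node (.node (.node (.leaf 0xdc64edb) (.leaf 0xcf68ee1)) (.node (.leaf 0x117b4ed9)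 (.leaf 0x855cedb))) (.node (.node (.leaf 0x12cfcee1) (.leaf 0xd0b0ee1)) (.node (.leaf 0xb388ee1) (.leaf 0x0))))) (.node (.node (.node (.node (.leaf 0xc01cee1) (.leaf 0xf05cee1)) (.node (.leaf 0xc234ed9) (.leaf 0x8ec4edb))) (.node (.node (.leaf 0xe3acee1) (.leaf 0x13a64ee1)) (.node (.leaf 0x172e0ee1) (.leaf 0xf048ee1)))) (.node (.node (.node (.leaf 0xb134edb) (.leaf 0xa85ced9)) (.node (.leaf 0xc818edb) (.leaf 0x154a0ee1))) (.node (.node (.leaf 0xdbecee1) (.leaf 0xf1d0ed9)) (.node (.leaf 0x1615cee1) (.leaf 0x0)))))) (.node (.node (.node (.node (.node (.leaf 0xc898ee1) (.leaf 0xaba8ed9)) (.node (.leaf 0x9050ed9) (.leaf 0x120d0ee1))) (.node (.node (.leaf 0xf4c) (.leaf 0x12998ee1)) (.node (.leaf 0xc3b0edb) (.leaf 0x11898ee1)))) (.node (.node (.node (.leaf 0xf32cee1) (.leaf 0xc340ee1)) (.node (.leaf 0x1030) (.leaf 0x4454ec1))) (.node (.node (.leaf 0x14338ee1) (.leaf 0xcffcee1))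 (.node (.leaf 0x9d7cee1) (.leaf 0x0))))) (.node (.node (.node (.node (.leaf 0xafecee1) (.leaf 0xeca4ed9)) (.node (.leaf 0xd388ee1) (.leaf 0xdc00ee1))) (.node (.node (.leaf 0xdf6ced9) (.leaf 0x148e4ee1)) (.node (.leaf 0x83e0ed9) (.leaf 0x0)))) (.node (.node (.node (.leaf 0x870ced9) (.leaf 0x8f1cee1)) (.node (.leaf 0x83fcedb) (.leaf 0x8734edb))) (.node (.node (.leaf 0xebecee1) (.leaf 0xb708ed9)) (.node (.leaf 0x643ced9) (.leaf 0x0)))))))) (.node (.node (.node (.node (.node (.node (.node (.leaf 0x10040ee1) (.leaf 0xecaced9)) (.node (.leaf 0x66c8ec1) (.leaf 0x61d8ed9))) (.node (.node (.leaf 0x100d0ee1) (.leaf 0x67b8ee1)) (.node (.leaf 0x40e4edb) (.leaf 0x15580ee1)))) (.node (.node (.node (.leaf 0xec6) (.leaf 0xb734ee1)) (.node (.leaf 0x96fcee1) (.leaf 0xda2cee1))) (.node (.node (.leaf 0xecc8ee1) (.leaf 0x8fc4ee1)) (.node (.leaf 0x13354ee1) (.leaf 0x0))))) (.node (.node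 (.node (.node (.leaf 0xf56) (.leaf 0xde60ee1)) (.node (.leaf 0x9b4cedb) (.leaf 0xf844edb))) (.node (.node (.leaf 0x1360cee1) (.leaf 0xda74ed9)) (.node (.leaf 0xa4b0ed9) (.leaf 0xf7c0ed9)))) (.node (.node (.node (.leaf 0x9068ed9) (.leaf 0x4444ed9)) (.node (.leaf 0x41d4edb) (.leaf 0x66c8ee1))) (.node (.node (.leaf 0x12830edb) (.leaf 0xc6fcedb)) (.node (.leaf 0xaba8edb) (.leaf 0x0)))))) (.node (.node (.node (.node (.node (.leaf 0x1062cee1) (.leaf 0x9ec0ee1)) (.node (.leaf 0x5b88edb) (.leaf 0x16320ee1))) (.node (.node (.leaf 0xd58ced9) (.leaf 0x56b8ed9)) (.node (.leaf 0xf344ee1) (.leaf 0x15928ee1)))) (.node (.node (.node (.leaf 0xa978ed9) (.leaf 0x8b34ee1)) (.node (.leaf 0xaf84edb) (.leaf 0xf628ee1))) (.node (.node (.leaf 0x124f4ee1) (.leaf 0x8eccedb)) (.node (.leaf 0x11f5cee1) (.leaf 0x0))))) (.node (.node (.node (.node (.leaf 0x13b38ee1) (.leaf 0xad5ced9)) (.node (.leaf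 0x11398ee1) (.leaf 0x10b54edb))) (.node (.node (.leaf 0x1207cee1) (.leaf 0xdd98ed9)) (.node (.leaf 0xe190edb) (.leaf 0x0)))) (.node (.node (.node (.leaf 0x4754ec1) (.leaf 0x6a28ee1)) (.node (.leaf 0x5b28ed9) (.leaf 0x94c0ee1))) (.node (.node (.leaf 0xcbf8ee1) (.leaf 0x8ad8ee1)) (.node (.leaf 0xdd4cee1) (.leaf 0x0))))))) (.node (.node (.node (.node (.node (.node (.leaf 0x13b00edb) (.leaf 0xf0fcee1)) (.node (.leaf 0x49a0edb) (.leaf 0xe864ed9))) (.node (.node (.leaf 0x139b8ee1) (.leaf 0xeb6ced9)) (.node (.leaf 0xed94edb) (.leaf 0x80ecedb)))) (.node (.node (.node (.leaf 0xd868ed9) (.leaf 0x46b4ed9)) (.node (.leaf 0xf138ee1) (.leaf 0x4444ec1))) (.node (.node (.leaf 0xe76cee1) (.leaf 0x8c20ee1)) (.node (.leaf 0xdf24ee1) (.leaf 0x0))))) (.node (.node (.node (.node (.leaf 0x1156) (.leaf 0xe00ced9)) (.node (.leaf 0x1c34) (.leaf 0x10c40edb))) (.node (.node (.leaf 0x12f4cee1)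 (.leaf 0x179f0ee1)) (.node (.leaf 0x65a8edb) (.leaf 0x12b60ee1)))) (.node (.node (.node (.leaf 0x11cb0ed9) (.leaf 0xcd0cee1)) (.node (.leaf 0x5818ee1) (.leaf 0x94ccedb))) (.node (.node (.leaf 0xa5e0ed9) (.leaf 0xf7b8ee1)) (.node (.leaf 0x161c0ee1) (.leaf 0x0)))))) (.node (.node (.node (.node (.node (.leaf 0x10824ee1) (.leaf 0xef60edb)) (.node (.leaf 0xdc5cee1) (.leaf 0x49a0ec1))) (.node (.node (.leaf 0x97c4ed9) (.leaf 0xe728ee1)) (.node (.leaf 0xc80ced9) (.leaf 0x446cedb)))) (.node (.node (.node (.leaf 0x81c8ee1) (.leaf 0x4f14ee1)) (.node (.leaf 0xb1d4ee1) (.leaf 0x9fb8ee1))) (.node (.node (.leaf 0x1293cee1) (.leaf 0x160c0ee1)) (.node (.leaf 0xddfcee1) (.leaf 0x0))))) (.node (.node (.node (.node (.leaf 0x6aeced9) (.leaf 0xf6f4ee1)) (.node (.leaf 0x1bba) (.leaf 0x12068ee1))) (.node (.node (.leaf 0xdd20ee1) (.leaf 0xd4b4ed9)) (.node (.leaf 0xca04ee1) (.leaf 0x0)))) (.node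 (.node (.node (.leaf 0x14724ee1) (.leaf 0xc9dcee1)) (.node (.leaf 0xd28cee1) (.leaf 0xe638ee1))) (.node (.node (.leaf 0x4460edb) (.leaf 0xca9cee1)) (.node (.leaf 0x9110ee1) (.leaf 0x0))))))))))

/-- packed table -/
noncomputable def cov7_llr : BTree := (.node (.node (.node (.node (.node (.node (.node (.node (.node (.leaf 0x102a4ee1) (.leaf 0x8da8ee1)) (.node (.leaf 0xcf98ee1) (.leaf 0x11da8edb))) (.node (.node (.leaf 0xc214ee1) (.leaf 0x1022ced9)) (.node (.leaf 0xd280ee1) (.leaf 0xdaccedb)))) (.node (.node (.node (.leaf 0xc7f0ed9) (.leaf 0x10b14ed9)) (.node (.leaf 0x11310ee1) (.leaf 0xc4d0ee1))) (.node (.node (.leaf 0xda1ced9) (.leaf 0x9760ed9)) (.node (.leaf 0x9140edb) (.leaf 0x0))))) (.node (.node (.node (.node (.leaf 0x8760ed9) (.leaf 0x10c48ed9)) (.node (.leaf 0x8b34ed9) (.leaf 0x17110ee1))) (.node (.node (.leaf 0xe86ced9) (.leaf 0xa754ee1)) (.node (.leaf 0x1345cee1)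 (.leaf 0xebd8ee1)))) (.node (.node (.node (.leaf 0x141ccee1) (.leaf 0x13854ee1)) (.node (.leaf 0xb880ee1) (.leaf 0xf70ced9))) (.node (.node (.leaf 0xa9acedb) (.leaf 0x12e2cee1)) (.node (.leaf 0x16194ee1) (.leaf 0x0)))))) (.node (.node (.node (.node (.node (.leaf 0xc6a0ee1) (.leaf 0x11e80ee1)) (.node (.leaf 0x4368edb) (.leaf 0x11ce0ed9))) (.node (.node (.leaf 0x13a8cee1) (.leaf 0x10540edb)) (.node (.leaf 0xdaf8edb) (.leaf 0xa9f0ed9)))) (.node (.node (.node (.leaf 0x1608cee1) (.leaf 0x10c54ed9)) (.node (.leaf 0x4468ed9) (.leaf 0xc548ee1))) (.node (.node (.leaf 0xed48ee1) (.leaf 0xf35cedb)) (.node (.leaf 0x75b8edb) (.leaf 0x0))))) (.node (.node (.node (.node (.leaf 0x5edcee1) (.leaf 0x1329cee1)) (.node (.leaf 0xf040ed9) (.leaf 0xedc4ed9))) (.node (.node (.leaf 0xd970ee1) (.leaf 0xb9d4ee1)) (.node (.leaf 0x122e8ee1) (.leaf 0x10ebced9)))) (.node (.node (.node (.leaf 0x4258ec1)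 (.leaf 0xf584edb)) (.node (.leaf 0x885cedb) (.leaf 0x124acee1))) (.node (.node (.leaf 0x4db0ec1) (.leaf 0xe640ed9)) (.node (.leaf 0xdf1cee1) (.leaf 0x0))))))) (.node (.node (.node (.node (.node (.node (.leaf 0x10270ee1) (.leaf 0xdd8cedb)) (.node (.leaf 0x8720edb) (.leaf 0x100fcedb))) (.node (.node (.leaf 0x86bced9) (.leaf 0xcd38ee1)) (.node (.leaf 0xe034ed9) (.leaf 0xed94ed9)))) (.node (.node (.node (.leaf 0x12e6cee1) (.leaf 0x136b4ee1)) (.node (.leaf 0x9788ee1) (.leaf 0x11cc0ee1))) (.node (.node (.leaf 0x110f8ee1) (.leaf 0xb9f4ed9)) (.node (.leaf 0xf37cee1) (.leaf 0x0))))) (.node (.node (.node (.node (.leaf 0x12d0) (.leaf 0x1307cee1)) (.node (.leaf 0x103d8ed9) (.leaf 0xa840edb))) (.node (.node (.leaf 0x12fe4ee1) (.leaf 0xa500edb)) (.node (.leaf 0xb708edb) (.leaf 0xc94cee1)))) (.node (.node (.node (.leaf 0xc11cee1) (.leaf 0xa9dced9)) (.node (.leaf 0x41d4ed9) (.leaf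 0x1397cedb))) (.node (.node (.leaf 0x16a8cee1) (.leaf 0xd868ee1)) (.node (.leaf 0x7074edb) (.leaf 0x0)))))) (.node (.node (.node (.node (.node (.leaf 0x80a4edb) (.leaf 0x9e20ee1)) (.node (.leaf 0xec44ee1) (.leaf 0xf9aced9))) (.node (.node (.leaf 0x175ecee1) (.leaf 0xc228ed9)) (.node (.leaf 0x90fcee1) (.leaf 0xc938ee1)))) (.node (.node (.node (.leaf 0x15d2cee1) (.leaf 0xcaf8ee1)) (.node (.leaf 0xe364ed9) (.leaf 0x4058ec1))) (.node (.node (.leaf 0x9078ed9) (.leaf 0x65a8ed9)) (.node (.leaf 0xc228edb) (.leaf 0x0))))) (.node (.node (.node (.node (.leaf 0x905cee1) (.leaf 0xec90ed9)) (.node (.leaf 0x9364ee1) (.leaf 0xc474ee1))) (.node (.node (.leaf 0x9564edb) (.leaf 0xd000ee1)) (.node (.leaf 0x11e94ee1) (.leaf 0x0)))) (.node (.node (.node (.leaf 0x40b4edb) (.leaf 0x169c8ee1)) (.node (.leaf 0x4348edb) (.leaf 0xc9c4ee1))) (.node (.node (.leaf 0x12fd0ed9) (.leaf 0xcb0cee1))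 (.node (.leaf 0x13260ee1) (.leaf 0x0)))))))) (.node (.node (.node (.node (.node (.node (.node (.leaf 0x4070ee1) (.leaf 0xe52ced9)) (.node (.leaf 0x6b78ec1) (.leaf 0x82e4edb))) (.node (.node (.leaf 0x80c0ee1) (.leaf 0xcd4cee1)) (.node (.leaf 0xb1a4ed9) (.leaf 0xe5ecee1)))) (.node (.node (.node (.leaf 0xf76) (.leaf 0xf72cee1)) (.node (.leaf 0x11730ee1) (.leaf 0xc390ed9))) (.node (.node (.leaf 0xe91cee1) (.leaf 0xd618ed9)) (.node (.leaf 0x4480ed9) (.leaf 0x0))))) (.node (.node (.node (.node (.leaf 0x10678ee1) (.leaf 0xe1d0ee1)) (.node (.leaf 0x5b28edb) (.leaf 0x82dced9))) (.node (.node (.leaf 0x1179ced9) (.leaf 0x1436cee1)) (.node (.leaf 0x13474ee1) (.leaf 0xa974ed9)))) (.node (.node (.node (.leaf 0xcdb4edb) (.leaf 0x446ced9)) (.node (.leaf 0x132b4ee1) (.leaf 0x166bcee1))) (.node (.node (.leaf 0xca7cee1) (.leaf 0x1041cee1)) (.node (.leaf 0xabacedb) (.leaf 0x0)))))) (.node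 (.node (.node (.node (.node (.leaf 0x1061cee1) (.leaf 0x10c4ced9)) (.node (.leaf 0x14e60ee1) (.leaf 0xca20ee1))) (.node (.node (.leaf 0xf18cee1) (.leaf 0x6368ed9)) (.node (.leaf 0x10b54ed9) (.leaf 0xcaaced9)))) (.node (.node (.node (.leaf 0xeee4ed9) (.leaf 0x10d80ee1)) (.node (.leaf 0xf274ee1) (.leaf 0x4808ec1))) (.node (.node (.leaf 0xe730ee1) (.leaf 0xfee)) (.node (.leaf 0xdf80ee1) (.leaf 0x0))))) (.node (.node (.node (.node (.leaf 0xd1f4ed9) (.leaf 0xf09cee1)) (.node (.leaf 0x1080) (.leaf 0x4438ee1))) (.node (.node (.leaf 0xb350ed9) (.leaf 0x10ec0ee1)) (.node (.leaf 0x45dcec1) (.leaf 0x0)))) (.node (.node (.node (.leaf 0x4120ed9) (.leaf 0x6a20ee1)) (.node (.leaf 0x5b48ed9) (.leaf 0x445cee1))) (.node (.node (.leaf 0xdc98ed9) (.leaf 0x11f10ed9)) (.node (.leaf 0x9dd8ee1) (.leaf 0x0))))))) (.node (.node (.node (.node (.node (.node (.leaf 0xc900edb) (.leaf 0xcf70ed9))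 (.node (.leaf 0xeee) (.leaf 0xc4c0ee1))) (.node (.node (.leaf 0x122ccee1) (.leaf 0x4460ee1)) (.node (.leaf 0xedf4edb) (.leaf 0x40c4edb)))) (.node (.node (.node (.leaf 0x84dcedb) (.leaf 0x13808ee1)) (.node (.leaf 0xb6d0ed9) (.leaf 0xb058ee1))) (.node (.node (.leaf 0x124fcee1) (.leaf 0x125a0ed9)) (.node (.leaf 0xf498ee1) (.leaf 0x0))))) (.node (.node (.node (.node (.leaf 0x103c) (.leaf 0xeee4edb)) (.node (.leaf 0xe204edb) (.leaf 0x13a24edb))) (.node (.node (.leaf 0xcb48ee1) (.leaf 0xfa04ee1)) (.node (.leaf 0x13310ee1) (.leaf 0x97c4edb)))) (.node (.node (.node (.leaf 0x146e0ee1) (.leaf 0xd1e4ee1)) (.node (.leaf 0x11834ee1) (.leaf 0x79bced9))) (.node (.node (.leaf 0xb1e4edb) (.leaf 0x42f8edb)) (.node (.leaf 0x8838ed9) (.leaf 0x0)))))) (.node (.node (.node (.node (.node (.leaf 0x45dcee1) (.leaf 0x9870edb)) (.node (.leaf 0x117ccee1) (.leaf 0xa2a8ed9))) (.node (.node (.leaf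 0xeba4ee1) (.leaf 0x49c8edb)) (.node (.leaf 0x13308ee1) (.leaf 0x4448edb)))) (.node (.node (.node (.leaf 0xdcf4ee1) (.leaf 0x10c60ed9)) (.node (.leaf 0x13054ee1) (.leaf 0xc558ee1))) (.node (.node (.leaf 0xec10ee1) (.leaf 0xdf00ed9)) (.node (.leaf 0x104c) (.leaf 0x0))))) (.node (.node (.node (.node (.leaf 0xeadced9) (.leaf 0xdbd4ed9)) (.node (.leaf 0x53e0ec1) (.leaf 0x4458ee1))) (.node (.node (.leaf 0x4444ee1) (.leaf 0xa244edb)) (.node (.leaf 0x10f44ee1) (.leaf 0x0)))) (.node (.node (.node (.leaf 0x8728ee1) (.leaf 0x4014ed9)) (.node (.leaf 0x9238ee1) (.leaf 0x16630ee1))) (.node (.node (.leaf 0x12da4ee1) (.leaf 0xcab8ee1)) (.node (.leaf 0x8bc4ed9) (.leaf 0x0))))))))) (.node (.node (.node (.node (.node (.node (.node (.node (.leaf 0x10294ee1) (.leaf 0x94bcee1)) (.node (.leaf 0xd1a0ee1) (.leaf 0x42f8ed9))) (.node (.node (.leaf 0xc1f4ee1) (.leaf 0xe844ee1)) (.node (.leaf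 0xc8fcedb) (.leaf 0xa3c0ee1)))) (.node (.node (.node (.leaf 0xe570ee1) (.leaf 0x5130ee1)) (.node (.leaf 0xd71cee1) (.leaf 0x109bcee1))) (.node (.node (.leaf 0xecc4ee1) (.leaf 0xc560ee1)) (.node (.leaf 0xaefcedb) (.leaf 0x0))))) (.node (.node (.node (.node (.leaf 0xc668ee1) (.leaf 0xab44ed9)) (.node (.leaf 0x157d4ee1) (.leaf 0x9060edb))) (.node (.node (.leaf 0x81e4ed9) (.leaf 0xab64ed9)) (.node (.leaf 0x120b4ee1) (.leaf 0xc38cee1)))) (.node (.node (.node (.leaf 0x10164ee1) (.leaf 0x10c58ed9)) (.node (.leaf 0x13254ee1) (.leaf 0xb720ed9))) (.node (.node (.leaf 0xcd8cedb) (.leaf 0x9d94ed9)) (.node (.leaf 0x4e28edb) (.leaf 0x0)))))) (.node (.node (.node (.node (.node (.leaf 0x9200ed9) (.leaf 0x9e90ee1)) (.node (.leaf 0x12d4) (.leaf 0x42e0ed9))) (.node (.node (.leaf 0x9048ed9) (.leaf 0x109fcee1)) (.node (.leaf 0x13340ee1) (.leaf 0x6a20ec1)))) (.node (.node (.node (.leaf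 0xa98cee1) (.leaf 0xb530ed9)) (.node (.leaf 0xf7a0ee1) (.leaf 0x4448ee1))) (.node (.node (.leaf 0xedb8edb) (.leaf 0x12e90ed9)) (.node (.leaf 0xba48edb) (.leaf 0x0))))) (.node (.node (.node (.node (.leaf 0xafeced9) (.leaf 0xdda0edb)) (.node (.leaf 0x5334ed9) (.leaf 0x4480edb))) (.node (.node (.leaf 0x1241cedb) (.leaf 0xfabcee1)) (.node (.leaf 0x44b0ec1) (.leaf 0xedf4ed9)))) (.node (.node (.node (.leaf 0x137a4ed9) (.leaf 0xb56cedb)) (.node (.leaf 0xed68edb) (.leaf 0xd1f4edb))) (.node (.node (.leaf 0x12f48ee1) (.leaf 0xcf28ee1)) (.node (.leaf 0x11dd4ee1) (.leaf 0x0))))))) (.node (.node (.node (.node (.node (.node (.leaf 0x10280ee1) (.leaf 0x8d68ed9)) (.node (.leaf 0xb5c4ed9) (.leaf 0x82dcedb))) (.node (.node (.leaf 0xddecee1) (.leaf 0xcdacee1)) (.node (.leaf 0xe024ed9) (.leaf 0x444cee1)))) (.node (.node (.node (.leaf 0xf48) (.leaf 0x6d50ed9)) (.node (.leaf 0xf908ee1)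 (.leaf 0x119f0ee1))) (.node (.node (.leaf 0x1246cee1) (.leaf 0x960ced9)) (.node (.leaf 0xf494ee1) (.leaf 0x0))))) (.node (.node (.node (.node (.leaf 0x112c) (.leaf 0x9180ee1)) (.node (.leaf 0xfaf0ed9) (.leaf 0x14918ee1))) (.node (.node (.leaf 0x1204cee1) (.leaf 0xc93cee1)) (.node (.leaf 0xdc80ed9) (.leaf 0x1092cee1)))) (.node (.node (.node (.leaf 0xb234ed9) (.leaf 0x4070ed9)) (.node (.leaf 0x1169cee1) (.leaf 0x443cee1))) (.node (.node (.leaf 0xea2cee1) (.leaf 0x17010ee1)) (.node (.leaf 0xc7e4edb) (.leaf 0x0)))))) (.node (.node (.node (.node (.node (.leaf 0xdaf0ed9) (.leaf 0xdeecee1)) (.node (.leaf 0x6400ec1) (.leaf 0x104a0ee1))) (.node (.node (.leaf 0x1644cee1) (.leaf 0xe784ee1)) (.node (.leaf 0xb304ee1) (.leaf 0x855cee1)))) (.node (.node (.node (.leaf 0xda5cee1) (.leaf 0x11120ee1)) (.node (.leaf 0x13980ee1) (.leaf 0xf570ee1))) (.node (.node (.leaf 0x1094) (.leaf 0x906cee1))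 (.node (.leaf 0x67b8ed9) (.leaf 0x0))))) (.node (.node (.node (.node (.leaf 0xb1ccee1) (.leaf 0xa408edb)) (.node (.leaf 0xb1e0edb) (.leaf 0xd478ed9))) (.node (.node (.leaf 0x77ecec1) (.leaf 0xd194ee1)) (.node (.leaf 0x12074ee1) (.leaf 0x0)))) (.node (.node (.node (.leaf 0x42d0ed9) (.leaf 0x50b4edb)) (.node (.leaf 0x11218ee1) (.leaf 0x14a38ee1))) (.node (.node (.leaf 0x1634cee1) (.leaf 0x14d40ee1)) (.node (.leaf 0x15144ee1) (.leaf 0x0)))))))) (.node (.node (.node (.node (.node (.node (.node (.leaf 0x1044) (.leaf 0xecbced9)) (.node (.leaf 0x5d34ec1) (.leaf 0xf14cee1))) (.node (.node (.leaf 0x4788edb) (.leaf 0x67acee1)) (.node (.leaf 0x5018ec1) (.leaf 0xf748edb)))) (.node (.node (.node (.leaf 0xf02) (.leaf 0x136b8ee1)) (.node (.leaf 0x87f8ed9) (.leaf 0xda60ee1))) (.node (.node (.leaf 0x11a14ee1) (.leaf 0x11024ee1)) (.node (.leaf 0xecc8ed9) (.leaf 0x0))))) (.node (.node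 (.node (.node (.leaf 0xea10ed9) (.leaf 0x88f0edb)) (.node (.leaf 0xd740ee1) (.leaf 0x42e0edb))) (.node (.node (.leaf 0x10e4cedb) (.leaf 0xce78edb)) (.node (.leaf 0x13478ee1) (.leaf 0x96e0edb)))) (.node (.node (.node (.leaf 0x7144ed9) (.leaf 0x443ced9)) (.node (.leaf 0x6a38ed9) (.leaf 0xa65cee1))) (.node (.node (.leaf 0xfa6) (.leaf 0x9d94edb)) (.node (.leaf 0xe12cee1) (.leaf 0x0)))))) (.node (.node (.node (.node (.node (.leaf 0x81d0edb) (.leaf 0x9b80ed9)) (.node (.leaf 0xa670ee1) (.leaf 0x109ccee1))) (.node (.node (.leaf 0x557ced9) (.leaf 0xced0ee1)) (.node (.leaf 0x91a8edb) (.leaf 0x1368ced9)))) (.node (.node (.node (.leaf 0x15020ee1) (.leaf 0x921ced9)) (.node (.leaf 0x10b84ed9) (.leaf 0xa734ed9))) (.node (.node (.leaf 0xa974ee1) (.leaf 0xcf28ed9)) (.node (.leaf 0x50f0ee1) (.leaf 0x0))))) (.node (.node (.node (.node (.leaf 0xfa6cee1) (.leaf 0x137d4ed9)) (.node (.leaf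 0xd394ee1) (.leaf 0x9468ed9))) (.node (.node (.leaf 0x125c0ee1) (.leaf 0xfad8ee1)) (.node (.leaf 0x4d18edb) (.leaf 0x0)))) (.node (.node (.node (.leaf 0x10a8) (.leaf 0x86ccedb)) (.node (.leaf 0x45dcedb) (.leaf 0x84d8ee1))) (.node (.node (.leaf 0xaf0cee1) (.leaf 0xcb68ee1)) (.node (.leaf 0x11d6cee1) (.leaf 0x0))))))) (.node (.node (.node (.node (.node (.node (.leaf 0xf38) (.leaf 0xdd20ed9)) (.node (.leaf 0x1712) (.leaf 0xdf24ed9))) (.node (.node (.leaf 0x77ecee1) (.leaf 0xcb28ee1)) (.node (.leaf 0xcaa8edb) (.leaf 0xa74cedb)))) (.node (.node (.node (.leaf 0x13730ee1) (.leaf 0xcfb4ed9)) (.node (.leaf 0x649ced9) (.leaf 0xdaf8ed9))) (.node (.node (.leaf 0x8084ed9) (.leaf 0xf680edb)) (.node (.leaf 0xe480edb) (.leaf 0x0))))) (.node (.node (.node (.node (.leaf 0x42e0ee1) (.leaf 0x11064ee1)) (.node (.leaf 0x11cb8edb) (.leaf 0x119b8ee1))) (.node (.node (.leaf 0x16f50ee1) (.leaf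 0xce10ee1)) (.node (.leaf 0xa224ee1) (.leaf 0x80cced9)))) (.node (.node (.node (.leaf 0xc700ee1) (.leaf 0xc37cee1)) (.node (.leaf 0x1182cee1) (.leaf 0xe3f0ee1))) (.node (.node (.leaf 0x6ac8ec1) (.leaf 0x90e0ee1)) (.node (.leaf 0xe1a0ee1) (.leaf 0x0)))))) (.node (.node (.node (.node (.node (.leaf 0x4808ee1) (.leaf 0xe230ee1)) (.node (.leaf 0xcd14edb) (.leaf 0x130ecee1))) (.node (.node (.leaf 0xa74ced9) (.leaf 0x671cee1)) (.node (.leaf 0xf67ced9) (.leaf 0x12ca0edb)))) (.node (.node (.node (.leaf 0x8b34edb) (.leaf 0xb978ed9)) (.node (.leaf 0x4448ed9) (.leaf 0x12f30edb))) (.node (.node (.leaf 0x11d04ee1) (.leaf 0x82e4ed9)) (.node (.leaf 0x800cedb) (.leaf 0x0))))) (.node (.node (.node (.node (.leaf 0xdd30ee1) (.leaf 0xa3b8ed9)) (.node (.leaf 0x10a4) (.leaf 0xd6c8edb))) (.node (.node (.leaf 0x61fcee1) (.leaf 0xd01cee1)) (.node (.leaf 0xa9d8ed9) (.leaf 0x0)))) (.node (.node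 (.node (.leaf 0x8718ee1) (.leaf 0x167e4ee1)) (.node (.leaf 0x112b0ee1) (.leaf 0x10350ee1))) (.node (.node (.leaf 0xeda8ee1) (.leaf 0xee30ee1)) (.node (.leaf 0xb25cee1) (.leaf 0x0))))))))))

/-- packed table -/
noncomputable def cov7_lrl : BTree := (.node (.node (.node (.node (.node (.node (.node (.node (.node (.leaf 0x67d4edb) (.leaf 0xb41cee1)) (.node (.leaf 0x5edcedb) (.leaf 0x809cedb))) (.node (.node (.leaf 0x1540) (.leaf 0xe824ee1)) (.node (.leaf 0xd284ee1) (.leaf 0xdf94ed9)))) (.node (.node (.node (.leaf 0xda28ee1) (.leaf 0x5d24ee1)) (.node (.leaf 0x1131cee1) (.leaf 0x17884ee1))) (.node (.node (.leaf 0x12cccee1) (.leaf 0xba34ee1)) (.node (.leaf 0x960cedb) (.leaf 0x0))))) (.node (.node (.node (.node (.leaf 0x47fcee1) (.leaf 0x8ae4ed9)) (.node (.leaf 0x8d88edb) (.leaf 0xea78ee1))) (.node (.node (.leaf 0xa840ed9) (.leaf 0xa734ee1)) (.node (.leaf 0xd170ed9) (.leaf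 0x11984ed9)))) (.node (.node (.node (.leaf 0x81a4ee1) (.leaf 0xf864ee1)) (.node (.leaf 0xee14ee1) (.leaf 0xe0d8ee1))) (.node (.node (.leaf 0x58f4ed9) (.leaf 0xbaa8ee1)) (.node (.leaf 0xdb8cee1) (.leaf 0x0)))))) (.node (.node (.node (.node (.node (.leaf 0x130a4edb) (.leaf 0x135dcee1)) (.node (.leaf 0xe0c8edb) (.leaf 0x8d64edb))) (.node (.node (.leaf 0xf42cee1) (.leaf 0xf004ee1)) (.node (.leaf 0x12f90ed9) (.leaf 0xa764ed9)))) (.node (.node (.node (.leaf 0xee0cee1) (.leaf 0x11a08ee1)) (.node (.leaf 0x5018edb) (.leaf 0xb8a4ee1))) (.node (.node (.leaf 0x15d1cee1) (.leaf 0xdc7cedb)) (.node (.leaf 0x53e0edb) (.leaf 0x0))))) (.node (.node (.node (.node (.leaf 0x4db0edb) (.leaf 0x15914ee1)) (.node (.leaf 0xc9c4ed9) (.leaf 0xcbf4ed9))) (.node (.node (.leaf 0x12fa4ee1) (.leaf 0xb9dcee1)) (.node (.leaf 0x84dcee1) (.leaf 0x80eced9)))) (.node (.node (.node (.leaf 0x4260ec1) (.leaf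 0x11b84ee1)) (.node (.leaf 0x7144edb) (.leaf 0x73ccec1))) (.node (.node (.leaf 0xa978ee1) (.leaf 0x90c8ee1)) (.node (.leaf 0xec58ed9) (.leaf 0x0))))))) (.node (.node (.node (.node (.node (.node (.leaf 0x4290ee1) (.leaf 0xb5c4ee1)) (.node (.leaf 0xec0ced9) (.leaf 0x12a48ee1))) (.node (.node (.leaf 0x80a4ed9) (.leaf 0x67c8ee1)) (.node (.leaf 0xe028ed9) (.leaf 0xdf48edb)))) (.node (.node (.node (.leaf 0x13914ee1) (.leaf 0xf6c0ee1)) (.node (.leaf 0x4258ed9) (.leaf 0xda74ee1))) (.node (.node (.leaf 0x1231cee1) (.leaf 0xf2fced9)) (.node (.leaf 0xf36cee1) (.leaf 0x0))))) (.node (.node (.node (.node (.leaf 0xf78) (.leaf 0x1068)) (.node (.leaf 0x13b00ed9) (.leaf 0x42b0ed9))) (.node (.node (.leaf 0x17b10ee1) (.leaf 0xb064ee1)) (.node (.leaf 0xf2d8ee1) (.leaf 0x808ced9)))) (.node (.node (.node (.leaf 0x7228ed9) (.leaf 0xf6a4ee1)) (.node (.leaf 0x53eced9) (.leaf 0xa674ee1))) (.node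 (.node (.leaf 0x10540ed9) (.leaf 0xfa7cee1)) (.node (.leaf 0xf14) (.leaf 0x0)))))) (.node (.node (.node (.node (.node (.leaf 0x86bcedb) (.leaf 0x15e34ee1)) (.node (.leaf 0x9734ed9) (.leaf 0x12a68ee1))) (.node (.node (.leaf 0x128fcee1) (.leaf 0x129a4ee1)) (.node (.leaf 0xe380ed9) (.leaf 0x9508ee1)))) (.node (.node (.node (.leaf 0x1632cee1) (.leaf 0x85ecedb)) (.node (.leaf 0xf114ee1) (.leaf 0xde78edb))) (.node (.node (.leaf 0x5dd0ee1) (.leaf 0xdc94edb)) (.node (.leaf 0x119d4ee1) (.leaf 0x0))))) (.node (.node (.node (.node (.leaf 0x119c0ed9) (.leaf 0xd990edb)) (.node (.leaf 0xa7f4ed9) (.leaf 0x429ced9))) (.node (.node (.leaf 0xabfced9) (.leaf 0xf7c0edb)) (.node (.leaf 0x1076) (.leaf 0x0)))) (.node (.node (.node (.leaf 0xfc4) (.leaf 0xa9d0ee1)) (.node (.leaf 0x44b0edb) (.leaf 0x13528ee1))) (.node (.node (.leaf 0x12f20ee1) (.leaf 0xdc84edb)) (.node (.leaf 0x4758ed9) (.leaf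 0x0)))))))) (.node (.node (.node (.node (.node (.node (.node (.leaf 0x1008) (.leaf 0xb1dcee1)) (.node (.leaf 0x6548ec1) (.leaf 0xb5c8edb))) (.node (.node (.leaf 0x40b8ee1) (.leaf 0xb1d8edb)) (.node (.leaf 0xdc8ced9) (.leaf 0x123d8ee1)))) (.node (.node (.node (.leaf 0x1644) (.leaf 0x6f78ec1)) (.node (.leaf 0xd704ee1) (.leaf 0x515ced9))) (.node (.node (.leaf 0xd854ee1) (.leaf 0xa5e0edb)) (.node (.leaf 0xf364ee1) (.leaf 0x0))))) (.node (.node (.node (.node (.leaf 0xc660ee1) (.leaf 0x161f4ee1)) (.node (.leaf 0x9b30edb) (.leaf 0xb0dcee1))) (.node (.node (.leaf 0x1034) (.leaf 0xd0b0ed9)) (.node (.leaf 0xe690ed9) (.leaf 0x6bf8ee1)))) (.node (.node (.node (.leaf 0xc14cee1) (.leaf 0xdf54ed9)) (.node (.leaf 0x1387cee1) (.leaf 0xf548ee1))) (.node (.node (.leaf 0xe6ccee1) (.leaf 0xdd8ced9)) (.node (.leaf 0xc83cedb) (.leaf 0x0)))))) (.node (.node (.node (.node (.node (.leaf 0xc644ee1)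 (.leaf 0x12c5ced9)) (.node (.leaf 0x128e0ee1) (.leaf 0xe894ee1))) (.node (.node (.leaf 0x122d0ee1) (.leaf 0xb1e4ee1)) (.node (.leaf 0xb330ee1) (.leaf 0xf8fcee1)))) (.node (.node (.node (.leaf 0xb880ed9) (.leaf 0xf28)) (.node (.leaf 0x12f70edb) (.leaf 0xa54cedb))) (.node (.node (.leaf 0xe530ee1) (.leaf 0xaef4ed9)) (.node (.leaf 0x85e8ed9) (.leaf 0x0))))) (.node (.node (.node (.node (.leaf 0xf1c) (.leaf 0xd538edb)) (.node (.leaf 0x933ced9) (.leaf 0xd940ee1))) (.node (.node (.leaf 0x9958edb) (.leaf 0x4288ed9)) (.node (.leaf 0xf7c) (.leaf 0x102a0ed9)))) (.node (.node (.node (.leaf 0x6288ed9) (.leaf 0xea34ee1)) (.node (.leaf 0x9b30ed9) (.leaf 0xa448ee1))) (.node (.node (.leaf 0x11f10edb) (.leaf 0xf600ed9)) (.node (.leaf 0x9db0ee1) (.leaf 0x0))))))) (.node (.node (.node (.node (.node (.node (.leaf 0xfafcedb) (.leaf 0xb420ee1)) (.node (.leaf 0x55b4edb) (.leaf 0xa950ee1)))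 (.node (.node (.leaf 0xc940ee1) (.leaf 0x7284ee1)) (.node (.leaf 0xb720edb) (.leaf 0xf7b4ed9)))) (.node (.node (.node (.leaf 0x80d4ed9) (.leaf 0xdd28ee1)) (.node (.leaf 0xf6cced9) (.leaf 0x11a04ee1))) (.node (.node (.leaf 0x12cf0ee1) (.leaf 0xaefced9)) (.node (.leaf 0xf4a0ee1) (.leaf 0x0))))) (.node (.node (.node (.node (.leaf 0xb1e0ed9) (.leaf 0xdc1cee1)) (.node (.leaf 0x112e8ee1) (.leaf 0xf168ed9))) (.node (.node (.leaf 0xded8edb) (.leaf 0x17b8)) (.node (.leaf 0x13328ee1) (.leaf 0xdf54edb)))) (.node (.node (.node (.leaf 0x14108ee1) (.leaf 0x163c)) (.node (.leaf 0x96a8ee1) (.leaf 0x4d18ec1))) (.node (.node (.leaf 0x64c0ed9) (.leaf 0xea84ee1)) (.node (.leaf 0x16148ee1) (.leaf 0x0)))))) (.node (.node (.node (.node (.node (.leaf 0x4468ec1) (.leaf 0xc74ced9)) (.node (.leaf 0x85eced9) (.leaf 0xa8b4ee1))) (.node (.node (.leaf 0x16d2) (.leaf 0x10e1ced9)) (.node (.leaf 0x8904ed9)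 (.leaf 0xdbdcedb)))) (.node (.node (.node (.leaf 0xe89cee1) (.leaf 0x95e8edb)) (.node (.leaf 0xa764edb) (.leaf 0x61d8ec1))) (.node (.node (.leaf 0x1269cee1) (.leaf 0x9068ee1)) (.node (.leaf 0x50b4ec1) (.leaf 0x0))))) (.node (.node (.node (.node (.leaf 0x13accee1) (.leaf 0xb660ed9)) (.node (.leaf 0x53c4ec1) (.leaf 0xb5c4edb))) (.node (.node (.leaf 0xad5cee1) (.leaf 0x17a1cee1)) (.node (.leaf 0x4f14edb) (.leaf 0x0)))) (.node (.node (.node (.leaf 0x10738ee1) (.leaf 0x1a12)) (.node (.leaf 0x1123cee1) (.leaf 0x5124ed9))) (.node (.node (.leaf 0x5130ec1) (.leaf 0x8084edb)) (.node (.leaf 0x8bcced9) (.leaf 0x0))))))))) (.node (.node (.node (.node (.node (.node (.node (.node (.leaf 0x429cee1) (.leaf 0xb53cee1)) (.node (.leaf 0x12c80ee1) (.leaf 0xce6ced9))) (.node (.node (.leaf 0x4754ed9) (.leaf 0x5678edb)) (.node (.leaf 0xa754ed9) (.leaf 0xb2acedb)))) (.node (.node (.node (.leaf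 0x9b70ee1) (.leaf 0xd4e4ee1)) (.node (.leaf 0x92f4ee1) (.leaf 0x13768ee1))) (.node (.node (.leaf 0xecb4ee1) (.leaf 0x9078ee1)) (.node (.leaf 0xb5a0edb) (.leaf 0x0))))) (.node (.node (.node (.node (.leaf 0x8670ee1) (.leaf 0xe208ee1)) (.node (.leaf 0xd7acee1) (.leaf 0xf60))) (.node (.node (.leaf 0x1247cee1) (.leaf 0xf98)) (.node (.leaf 0x8bf0edb) (.leaf 0x12be4ee1)))) (.node (.node (.node (.leaf 0x91c4edb) (.leaf 0xb7e4ee1)) (.node (.leaf 0x1383cee1) (.leaf 0xb930ed9))) (.node (.node (.leaf 0x1078) (.leaf 0x5124edb)) (.node (.leaf 0xe170ee1) (.leaf 0x0)))))) (.node (.node (.node (.node (.node (.leaf 0x130a4ed9) (.leaf 0xde84ee1)) (.node (.leaf 0xd348ee1) (.leaf 0xa954ee1))) (.node (.node (.leaf 0x68d4ed9) (.leaf 0x130e4ee1)) (.node (.leaf 0x13150ed9) (.leaf 0x9f44ed9)))) (.node (.node (.node (.leaf 0x172ecee1) (.leaf 0x5b88ec1)) (.node (.leaf 0x12e8cee1) (.leaf 0xdf48ed9)))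 (.node (.node (.leaf 0xc864edb) (.leaf 0x10bacee1)) (.node (.leaf 0xb3b8edb) (.leaf 0x0))))) (.node (.node (.node (.node (.leaf 0xb04cee1) (.leaf 0xd5e0edb)) (.node (.leaf 0x4e70edb) (.leaf 0xe8acedb))) (.node (.node (.leaf 0xa430edb) (.leaf 0xb9e8ee1)) (.node (.leaf 0xf64) (.leaf 0x14524ee1)))) (.node (.node (.node (.leaf 0x4264ec1) (.leaf 0xa238edb)) (.node (.leaf 0x9068edb) (.leaf 0x90fced9))) (.node (.node (.leaf 0x906ced9) (.leaf 0xcf6cee1)) (.node (.leaf 0x11f08ee1) (.leaf 0x0))))))) (.node (.node (.node (.node (.node (.node (.leaf 0x4260ee1) (.leaf 0x135e4ee1)) (.node (.leaf 0xfac0ed9) (.leaf 0xea44ee1))) (.node (.node (.leaf 0x81d0ed9) (.leaf 0xb320ed9)) (.node (.leaf 0xe038ed9) (.leaf 0xc6fced9)))) (.node (.node (.node (.leaf 0xd168ed9) (.leaf 0x13724ee1)) (.node (.leaf 0x7284ec1) (.leaf 0xdcd8ee1))) (.node (.node (.leaf 0x12cecee1) (.leaf 0x649cec1)) (.node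 (.leaf 0xd7a8ed9) (.leaf 0x0))))) (.node (.node (.node (.node (.leaf 0x10034ee1) (.leaf 0x50c0ec1)) (.node (.leaf 0xc900ed9) (.leaf 0x12914ee1))) (.node (.node (.leaf 0x94dcee1) (.leaf 0x9564ed9)) (.node (.leaf 0x172d4ee1) (.leaf 0x61d8edb)))) (.node (.node (.node (.leaf 0x80f8ee1) (.leaf 0xd390edb)) (.node (.leaf 0x4a80ec1) (.leaf 0x126a8ee1))) (.node (.node (.leaf 0x152dcee1) (.leaf 0x13878ee1)) (.node (.leaf 0x6a20ed9) (.leaf 0x0)))))) (.node (.node (.node (.node (.node (.leaf 0xc600ee1) (.leaf 0xabaced9)) (.node (.leaf 0x6aecee1) (.leaf 0x12a64ee1))) (.node (.node (.leaf 0x15a94ee1) (.leaf 0x9674edb)) (.node (.leaf 0xf2f8ee1) (.leaf 0xf920ee1)))) (.node (.node (.node (.leaf 0xea1cee1) (.leaf 0x1480)) (.node (.leaf 0x132b8ee1) (.leaf 0x12058ee1))) (.node (.node (.leaf 0x6c38edb) (.leaf 0xa964ed9)) (.node (.leaf 0xdd18ee1) (.leaf 0x0))))) (.node (.node (.node (.node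 (.leaf 0x13890ee1) (.leaf 0xdba0ee1)) (.node (.leaf 0xd35cee1) (.leaf 0xdc10ee1))) (.node (.node (.leaf 0xed18ee1) (.leaf 0x4470ee1)) (.node (.leaf 0x104a4ee1) (.leaf 0x0)))) (.node (.node (.node (.leaf 0x425ced9) (.leaf 0x5dbced9)) (.node (.leaf 0x921cee1) (.leaf 0x8728edb))) (.node (.node (.leaf 0x1188cee1) (.leaf 0xdc80edb)) (.node (.leaf 0xe460ed9) (.leaf 0x0)))))))) (.node (.node (.node (.node (.node (.node (.node (.leaf 0x52e0ec1) (.leaf 0xe91ced9)) (.node (.leaf 0x50d8ec1) (.leaf 0x808cedb))) (.node (.node (.leaf 0x100c8ee1) (.leaf 0xe7c4ee1)) (.node (.leaf 0xb194ed9) (.leaf 0xc6a8edb)))) (.node (.node (.node (.leaf 0xf18) (.leaf 0x11f9cedb)) (.node (.leaf 0x4348ed9) (.leaf 0x11a3cee1))) (.node (.node (.leaf 0x1270cee1) (.leaf 0x8088edb)) (.node (.leaf 0xb7bcedb) (.leaf 0x0))))) (.node (.node (.node (.node (.leaf 0xf44) (.leaf 0x8838edb)) (.node (.leaf 0xd768ee1)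 (.leaf 0x7144ec1))) (.node (.node (.leaf 0x80ccedb) (.leaf 0xc2c8ed9)) (.node (.leaf 0x4278ed9) (.leaf 0x125d8edb)))) (.node (.node (.node (.leaf 0x885ced9) (.leaf 0x4458ed9)) (.node (.leaf 0x9674ee1) (.leaf 0xa6b8ee1))) (.node (.node (.leaf 0xe57cee1) (.leaf 0xea54ee1)) (.node (.leaf 0x6288ec1) (.leaf 0x0)))))) (.node (.node (.node (.node (.node (.leaf 0x4788ed9) (.leaf 0x10c4cedb)) (.node (.leaf 0xa514ed9) (.leaf 0xa94cee1))) (.node (.node (.leaf 0x17aacee1) (.leaf 0x5d34ed9)) (.node (.leaf 0xb3bcee1) (.leaf 0xd4d0ee1)))) (.node (.node (.node (.leaf 0xe9bcee1) (.leaf 0x520ced9)) (.node (.leaf 0x1789cee1) (.leaf 0xdf38ed9))) (.node (.node (.leaf 0x4464ee1) (.leaf 0x8bd4ee1)) (.node (.leaf 0xb384ed9) (.leaf 0x0))))) (.node (.node (.node (.node (.leaf 0x1002) (.leaf 0xf12)) (.node (.leaf 0xca8ced9) (.leaf 0xdc68ee1))) (.node (.node (.leaf 0xa598ed9) (.leaf 0xd0a0ed9))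 (.node (.leaf 0xd07ced9) (.leaf 0x0)))) (.node (.node (.node (.leaf 0x4758ec1) (.leaf 0x6a38ee1)) (.node (.leaf 0x9b38ed9) (.leaf 0xd118ed9))) (.node (.node (.leaf 0x8844ed9) (.leaf 0xdc98edb)) (.node (.leaf 0xdd78ee1) (.leaf 0x0))))))) (.node (.node (.node (.node (.node (.node (.leaf 0xf26) (.leaf 0x17620ee1)) (.node (.leaf 0x429cedb) (.leaf 0xa958ee1))) (.node (.node (.leaf 0xd784ed9) (.leaf 0xf7aced9)) (.node (.leaf 0xc340ed9) (.leaf 0x40e8edb)))) (.node (.node (.node (.leaf 0xdbdced9) (.leaf 0x8520edb)) (.node (.leaf 0xf924ee1) (.leaf 0x122d4ee1))) (.node (.node (.leaf 0xdc3cee1) (.leaf 0xbb18ed9)) (.node (.leaf 0x14ff8ee1) (.leaf 0x0))))) (.node (.node (.node (.node (.leaf 0xedf0ed9) (.leaf 0xee24edb)) (.node (.leaf 0xf494ed9) (.leaf 0xda90ee1))) (.node (.node (.leaf 0x120acee1) (.leaf 0xdacced9)) (.node (.leaf 0xf324ee1) (.leaf 0x12b88ee1)))) (.node (.node (.node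 (.leaf 0x81eced9) (.leaf 0xdc2cee1)) (.node (.leaf 0xd844ee1) (.leaf 0x12434ee1))) (.node (.node (.leaf 0xdb58ed9) (.leaf 0xe8a8ee1)) (.node (.leaf 0x50f0ed9) (.leaf 0x0)))))) (.node (.node (.node (.node (.node (.leaf 0xc81cee1) (.leaf 0xa234ee1)) (.node (.leaf 0x443cedb) (.leaf 0x55b4ec1))) (.node (.node (.leaf 0xe720ed9) (.leaf 0xa6c4ed9)) (.node (.leaf 0xf678ed9) (.leaf 0x4470edb)))) (.node (.node (.node (.leaf 0x41c4ee1) (.leaf 0x11d44ee1)) (.node (.leaf 0x79bcee1) (.leaf 0x12078ee1))) (.node (.node (.leaf 0xd188ee1) (.leaf 0xa950ed9)) (.node (.leaf 0x9ca4ee1) (.leaf 0x0))))) (.node (.node (.node (.node (.leaf 0x13818edb) (.leaf 0xb708ee1)) (.node (.leaf 0x6ff8ed9) (.leaf 0x13888ee1))) (.node (.node (.leaf 0xfe4) (.leaf 0x13a20ee1)) (.node (.leaf 0x13488ed9) (.leaf 0x0)))) (.node (.node (.node (.leaf 0x8708ee1) (.leaf 0x937cedb)) (.node (.leaf 0x11294ee1) (.leaf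 0x12648ee1))) (.node (.node (.leaf 0xedc4edb) (.leaf 0x9f2ced9)) (.node (.leaf 0x10c38edb) (.leaf 0x0))))))))))

/-- packed table -/
noncomputable def cov7_lrr : BTree := (.node (.node (.node (.node (.node (.node (.node (.node (.node (.leaf 0xa7f4edb) (.leaf 0x5d34ee1)) (.node (.leaf 0x105a) (.leaf 0x8e64ed9))) (.node (.node (.leaf 0x81ecee1) (.leaf 0x16820ee1)) (.node (.leaf 0xef4) (.leaf 0xe380ee1)))) (.node (.node (.node (.leaf 0x4454ee1) (.leaf 0xf6e4ee1)) (.node (.leaf 0x11300ee1) (.leaf 0x5d3ced9))) (.node (.node (.leaf 0x16cd0ee1) (.leaf 0x49acedb)) (.node (.leaf 0xb4e0edb) (.leaf 0x0))))) (.node (.node (.node (.node (.leaf 0x10820ee1) (.leaf 0x5d84ec1)) (.node (.leaf 0xd1c8ed9) (.leaf 0x53c4ed9))) (.node (.node (.leaf 0xb6d0ee1) (.leaf 0xefa)) (.node (.leaf 0x8c00edb) (.leaf 0xebd4ee1)))) (.node (.node (.node (.leaf 0x8780ed9) (.leaf 0x11b68ee1)) (.node (.leaf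 0xb194ee1) (.leaf 0xb550ee1))) (.node (.node (.leaf 0x9e20ed9) (.leaf 0x911ced9)) (.node (.leaf 0x4e00edb) (.leaf 0x0)))))) (.node (.node (.node (.node (.node (.leaf 0xc6c4ee1) (.leaf 0xde98ee1)) (.node (.leaf 0x8e9cee1) (.leaf 0x93c8ed9))) (.node (.node (.leaf 0x137d8ed9) (.leaf 0x171c4ee1)) (.node (.leaf 0x92f4edb) (.leaf 0xa870ed9)))) (.node (.node (.node (.leaf 0xf1d0ee1) (.leaf 0x1561cee1)) (.node (.leaf 0xf158ee1) (.leaf 0x5d84edb))) (.node (.node (.leaf 0x101c) (.leaf 0xa598edb)) (.node (.leaf 0xb414ed9) (.leaf 0x0))))) (.node (.node (.node (.node (.leaf 0x905ced9) (.leaf 0x11be4ee1)) (.node (.leaf 0xd484ed9) (.leaf 0x11ac0ee1))) (.node (.node (.leaf 0xab34ee1) (.leaf 0xb9d8ee1)) (.node (.leaf 0xe844ed9) (.leaf 0x5018ed9)))) (.node (.node (.node (.leaf 0x4288ec1) (.leaf 0xb574edb)) (.node (.leaf 0xedc8edb) (.leaf 0x49aced9))) (.node (.node (.leaf 0xe87cedb)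 (.leaf 0x10f64ee1)) (.node (.leaf 0xdf04ee1) (.leaf 0x0))))))) (.node (.node (.node (.node (.node (.node (.leaf 0x1028cee1) (.leaf 0xf400ee1)) (.node (.leaf 0xec90ee1) (.leaf 0x13094ee1))) (.node (.node (.leaf 0xaeeced9) (.leaf 0xf108ee1)) (.node (.leaf 0xe030ed9) (.leaf 0xb020ee1)))) (.node (.node (.node (.leaf 0x160bcee1) (.leaf 0xb6c8ee1)) (.node (.leaf 0x81a4ed9) (.leaf 0x8920edb))) (.node (.node (.leaf 0x12d88ee1) (.leaf 0x110a8ee1)) (.node (.leaf 0xb378ee1) (.leaf 0x0))))) (.node (.node (.node (.node (.leaf 0x4014ee1) (.leaf 0xf61cee1)) (.node (.leaf 0xbb04ed9) (.leaf 0x15920ee1))) (.node (.node (.leaf 0x119e0ee1) (.leaf 0xb1a4ee1)) (.node (.leaf 0x172d0ee1) (.leaf 0x10c2cedb)))) (.node (.node (.node (.leaf 0x10104ee1) (.leaf 0xc6a8ed9)) (.node (.leaf 0x116a4ee1) (.leaf 0xe6a0ee1))) (.node (.node (.leaf 0x10ed4ee1) (.leaf 0x8068edb)) (.node (.leaf 0xb574ed9)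 (.leaf 0x0)))))) (.node (.node (.node (.node (.node (.leaf 0xc880ee1) (.leaf 0x9b7ced9)) (.node (.leaf 0xc1b4edb) (.leaf 0xd8d4ed9))) (.node (.node (.leaf 0xfb0cee1) (.leaf 0xe620ed9)) (.node (.leaf 0xe534ee1) (.leaf 0xf910ee1)))) (.node (.node (.node (.leaf 0x1653cee1) (.leaf 0x4a48ec1)) (.node (.leaf 0xc978edb) (.leaf 0x1358cee1))) (.node (.node (.leaf 0x123a0ee1) (.leaf 0x10fe8ee1)) (.node (.leaf 0x9da4ee1) (.leaf 0x0))))) (.node (.node (.node (.node (.leaf 0x125fcee1) (.leaf 0xa6dced9)) (.node (.leaf 0xe558ed9) (.leaf 0xdc08ee1))) (.node (.node (.leaf 0x12d10ee1) (.leaf 0xcabcee1)) (.node (.leaf 0x14b6cee1) (.leaf 0x0)))) (.node (.node (.node (.leaf 0x40b4ed9) (.leaf 0x9b7cedb)) (.node (.leaf 0x4564edb) (.leaf 0x872cedb))) (.node (.node (.leaf 0x9a34edb) (.leaf 0x14b30ee1)) (.node (.leaf 0x119f4ee1) (.leaf 0x0)))))))) (.node (.node (.node (.node (.node (.node (.node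 (.leaf 0x113c) (.leaf 0xecb8ed9)) (.node (.leaf 0x5ad8ec1) (.leaf 0x42b0ec1))) (.node (.node (.leaf 0x100d8ee1) (.leaf 0x116e)) (.node (.leaf 0xf078ee1) (.leaf 0x1014)))) (.node (.node (.node (.leaf 0x13b6) (.leaf 0xb73cee1)) (.node (.leaf 0x11718ee1) (.leaf 0x1004))) (.node (.node (.leaf 0xecb8ee1) (.leaf 0x8fbcee1)) (.node (.leaf 0x17360ee1) (.leaf 0x0))))) (.node (.node (.node (.node (.leaf 0xf34) (.leaf 0x4758edb)) (.node (.leaf 0x4260edb) (.leaf 0xebc4ed9))) (.node (.node (.leaf 0xf63ced9) (.leaf 0x12e48ee1)) (.node (.leaf 0x9fa0ed9) (.leaf 0xeab4ee1)))) (.node (.node (.node (.leaf 0x8bd4ed9) (.leaf 0x4440ed9)) (.node (.leaf 0x1395cee1) (.leaf 0xe6acee1))) (.node (.node (.leaf 0xe0ccee1) (.leaf 0x8068ed9)) (.node (.leaf 0x12b90edb) (.leaf 0x0)))))) (.node (.node (.node (.node (.node (.leaf 0x10634ee1) (.leaf 0xf248ed9)) (.node (.leaf 0x11b18ee1) (.leaf 0xb718ed9)))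 (.node (.node (.leaf 0x13950ee1) (.leaf 0x66c8ed9)) (.node (.leaf 0x46b4ec1) (.leaf 0x104e8ee1)))) (.node (.node (.node (.leaf 0x987ced9) (.leaf 0x9bc0ee1)) (.node (.leaf 0xa73cedb) (.leaf 0x7614ee1))) (.node (.node (.leaf 0x11a00ee1) (.leaf 0x10bdcee1)) (.node (.leaf 0x9f78ee1) (.leaf 0x0))))) (.node (.node (.node (.node (.leaf 0x13610ee1) (.leaf 0x50aced9)) (.node (.leaf 0xa7d0ed9) (.leaf 0xcb64edb))) (.node (.node (.leaf 0xf35ced9) (.leaf 0xfac4ee1)) (.node (.leaf 0xa78ced9) (.leaf 0x0)))) (.node (.node (.node (.leaf 0x1b9c) (.leaf 0xea30ee1)) (.node (.leaf 0x4260ed9) (.leaf 0x12e20ee1))) (.node (.node (.leaf 0x15efcee1) (.leaf 0x906cedb)) (.node (.leaf 0x11db4ee1) (.leaf 0x0))))))) (.node (.node (.node (.node (.node (.node (.leaf 0xc234edb) (.leaf 0x8ec4ed9)) (.node (.leaf 0xecc) (.leaf 0x7238ee1))) (.node (.node (.leaf 0xf290ee1) (.leaf 0xf044ee1)) (.node (.leaf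 0x7780edb) (.leaf 0x80c0edb)))) (.node (.node (.node (.leaf 0x73ccedb) (.leaf 0x136f0edb)) (.node (.leaf 0xb720ee1) (.leaf 0xb590ed9))) (.node (.node (.leaf 0x12d34ee1) (.leaf 0x94f8edb)) (.node (.leaf 0x9f2cedb) (.leaf 0x0))))) (.node (.node (.node (.node (.leaf 0x4db0ed9) (.leaf 0xa018ed9)) (.node (.leaf 0xd2e4ee1) (.leaf 0x9058edb))) (.node (.node (.leaf 0x55a0ec1) (.leaf 0x139fcee1)) (.node (.leaf 0xfba) (.leaf 0xb4dcedb)))) (.node (.node (.node (.leaf 0xae54ed9) (.leaf 0xdbd4ee1)) (.node (.leaf 0xd828ee1) (.leaf 0x16410ee1))) (.node (.node (.leaf 0xe198ed9) (.leaf 0xd560ee1)) (.node (.leaf 0xa1c4ee1) (.leaf 0x0)))))) (.node (.node (.node (.node (.node (.leaf 0x10604ee1) (.leaf 0x1060)) (.node (.leaf 0x5dd0ed9) (.leaf 0x429cec1))) (.node (.node (.leaf 0xd78ced9) (.leaf 0x4e28ed9)) (.node (.leaf 0xf684ed9) (.leaf 0x4444edb)))) (.node (.node (.node (.leaf 0xfb14ee1)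 (.leaf 0xd53cee1)) (.node (.leaf 0xb75cee1) (.leaf 0x104e0ee1))) (.node (.node (.leaf 0x120fcee1) (.leaf 0xf438ee1)) (.node (.leaf 0x67c8ed9) (.leaf 0x0))))) (.node (.node (.node (.node (.leaf 0xfaf0ee1) (.leaf 0xf65ced9)) (.node (.leaf 0x93e8ee1) (.leaf 0x6ff8ee1))) (.node (.node (.leaf 0xaa40ee1) (.leaf 0xb1d4edb)) (.node (.leaf 0x126a4ee1) (.leaf 0x0)))) (.node (.node (.node (.leaf 0x8734ee1) (.leaf 0xc01ced9)) (.node (.leaf 0xd220ee1) (.leaf 0xe640ee1))) (.node (.node (.leaf 0x47fced9) (.leaf 0xca94ee1)) (.node (.leaf 0xcbc8ed9) (.leaf 0x0))))))))) (.node (.node (.node (.node (.node (.node (.node (.node (.leaf 0x102bcee1) (.leaf 0xb520ee1)) (.node (.leaf 0x12c88ee1) (.leaf 0x7264ed9))) (.node (.node (.leaf 0x40e8ee1) (.leaf 0xb058edb)) (.node (.leaf 0x9f78ed9) (.leaf 0x123d0ee1)))) (.node (.node (.node (.leaf 0xf8a) (.leaf 0x11b9cee1)) (.node (.leaf 0x9724ee1)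 (.leaf 0xb590edb))) (.node (.node (.leaf 0xda4cee1) (.leaf 0xed0)) (.node (.leaf 0x6540ec1) (.leaf 0x0))))) (.node (.node (.node (.node (.leaf 0xc680ee1) (.leaf 0x61d8ee1)) (.node (.leaf 0x41d4ec1) (.leaf 0x109c))) (.node (.node (.leaf 0x10c2ced9) (.leaf 0x18cc)) (.node (.leaf 0x8ef0ee1) (.leaf 0xc554edb)))) (.node (.node (.node (.leaf 0x1015cee1) (.leaf 0xa138ed9)) (.node (.leaf 0x1391cee1) (.leaf 0x93c8edb))) (.node (.node (.leaf 0xa1ecee1) (.leaf 0x5d84ed9)) (.node (.leaf 0xd874ed9) (.leaf 0x0)))))) (.node (.node (.node (.node (.node (.leaf 0xcd74ed9) (.leaf 0x5e88ee1)) (.node (.leaf 0x445cedb) (.leaf 0x905cedb))) (.node (.node (.leaf 0xa8d0ed9) (.leaf 0x12de4ee1)) (.node (.leaf 0xcb64ed9) (.leaf 0xc9f0ee1)))) (.node (.node (.node (.leaf 0xf62cee1) (.leaf 0x10394ed9)) (.node (.leaf 0xb1d8ee1) (.leaf 0x53c4edb))) (.node (.node (.leaf 0x8944ed9) (.leaf 0xedb8ed9))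 (.node (.leaf 0xb40ced9) (.leaf 0x0))))) (.node (.node (.node (.node (.leaf 0x118c0edb) (.leaf 0x10518edb)) (.node (.leaf 0x5334ee1) (.leaf 0x9958ee1))) (.node (.node (.leaf 0x12fa8ee1) (.leaf 0x10d28ee1)) (.node (.leaf 0x4564ec1) (.leaf 0xee00ed9)))) (.node (.node (.node (.leaf 0xf78ced9) (.leaf 0xe9e8ee1)) (.node (.leaf 0x9b50ed9) (.leaf 0x136f0ed9))) (.node (.node (.leaf 0xe4bced9) (.leaf 0x14f48ee1)) (.node (.leaf 0x9db8ee1) (.leaf 0x0))))))) (.node (.node (.node (.node (.node (.node (.leaf 0xf3e) (.leaf 0x11098ed9)) (.node (.leaf 0xaefcee1) (.leaf 0x94a8ee1))) (.node (.node (.leaf 0x1306cee1) (.leaf 0xb1e8ee1)) (.node (.leaf 0xe020ed9) (.leaf 0x102a0edb)))) (.node (.node (.node (.leaf 0xb9d0ee1) (.leaf 0x985cee1)) (.node (.leaf 0xebc0edb) (.leaf 0x119fcee1))) (.node (.node (.leaf 0x104f8ee1) (.leaf 0xb5a0ed9)) (.node (.leaf 0xf4a4ee1) (.leaf 0x0))))) (.node (.node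 (.node (.node (.leaf 0xe0a0ed9) (.leaf 0x4368ed9)) (.node (.leaf 0xf654ed9) (.leaf 0xdc64ed9))) (.node (.node (.leaf 0x8920ed9) (.leaf 0xfa50ee1)) (.node (.leaf 0xcf08edb) (.leaf 0x10c58edb)))) (.node (.node (.node (.leaf 0xf7fced9) (.leaf 0x5d24edb)) (.node (.leaf 0xfaa) (.leaf 0xe3f0ed9))) (.node (.node (.leaf 0xdcccee1) (.leaf 0xb414ee1)) (.node (.leaf 0x16168ee1) (.leaf 0x0)))))) (.node (.node (.node (.node (.node (.leaf 0x85e4ee1) (.leaf 0x10224ed9)) (.node (.leaf 0x10c38ed9) (.leaf 0x137d8edb))) (.node (.node (.leaf 0xf338edb) (.leaf 0xd874edb)) (.node (.leaf 0xc390edb) (.leaf 0xe86cedb)))) (.node (.node (.node (.leaf 0xfb2cee1) (.leaf 0xeeb8ed9)) (.node (.leaf 0x1785cee1) (.leaf 0xfe8))) (.node (.node (.leaf 0x12520ee1) (.leaf 0x9060ee1)) (.node (.leaf 0x67aced9) (.leaf 0x0))))) (.node (.node (.node (.node (.leaf 0x1394cee1) (.leaf 0x4480ec1)) (.node (.leaf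 0x6858ed9) (.leaf 0x6bf8ec1))) (.node (.node (.leaf 0xdfbcedb) (.leaf 0x9e64ed9)) (.node (.leaf 0x53e0ed9) (.leaf 0x0)))) (.node (.node (.node (.leaf 0x4744ed9) (.leaf 0x14fc)) (.node (.leaf 0x11240ee1) (.leaf 0xb5c8ed9))) (.node (.node (.leaf 0xb714ed9) (.leaf 0x10d20ee1)) (.node (.leaf 0x77ecedb) (.leaf 0x0)))))))) (.node (.node (.node (.node (.node (.node (.node (.leaf 0x425cee1) (.leaf 0xd854ed9)) (.node (.leaf 0x6c38ec1) (.leaf 0xa724edb))) (.node (.node (.leaf 0x10180ee1) (.leaf 0x8fc4edb)) (.node (.leaf 0x171b8ee1) (.leaf 0xf3d4ed9)))) (.node (.node (.node (.leaf 0x17690ee1) (.leaf 0xf6c4ee1)) (.node (.leaf 0x83fced9) (.leaf 0xf43cedb))) (.node (.node (.leaf 0xb3d0ed9) (.leaf 0x15034ee1)) (.node (.leaf 0xf374ee1) (.leaf 0x0))))) (.node (.node (.node (.node (.leaf 0xf5c) (.leaf 0xce38edb)) (.node (.leaf 0x5b44edb) (.leaf 0xc6aced9))) (.node (.node (.leaf 0xf748ed9)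 (.leaf 0x8d5cedb)) (.node (.leaf 0xe504ee1) (.leaf 0xc514ee1)))) (.node (.node (.node (.leaf 0xed68ed9) (.leaf 0x4470ed9)) (.node (.leaf 0x1110) (.leaf 0xa64cee1))) (.node (.node (.leaf 0xa66cee1) (.leaf 0xb514ee1)) (.node (.leaf 0xa114ee1) (.leaf 0x0)))))) (.node (.node (.node (.node (.node (.leaf 0xaf2cedb) (.leaf 0x11e38ee1)) (.node (.leaf 0xd5acedb) (.leaf 0x114c8ee1))) (.node (.node (.leaf 0xabfcee1) (.leaf 0x6c38ed9)) (.node (.leaf 0x125f8ee1) (.leaf 0x446cee1)))) (.node (.node (.node (.leaf 0x4458edb) (.leaf 0x118b4ee1)) (.node (.leaf 0x8bb0ed9) (.leaf 0x9044edb))) (.node (.node (.leaf 0x93d0edb) (.leaf 0x9070edb)) (.node (.leaf 0x9870ed9) (.leaf 0x0))))) (.node (.node (.node (.node (.leaf 0xa2a8edb) (.leaf 0x135fcee1)) (.node (.leaf 0x113bcee1) (.leaf 0x49a0ed9))) (.node (.node (.leaf 0x12d0cee1) (.leaf 0xf68)) (.node (.leaf 0x12344ee1) (.leaf 0x0)))) (.node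 (.node (.node (.leaf 0x9e68edb) (.leaf 0x126d8ed9)) (.node (.leaf 0x87f8edb) (.leaf 0xa860edb))) (.node (.node (.leaf 0xef1cee1) (.leaf 0x1020)) (.node (.leaf 0x4264ed9) (.leaf 0x0))))))) (.node (.node (.node (.node (.node (.node (.leaf 0x7458ec1) (.leaf 0x174e4ee1)) (.node (.leaf 0xd04ced9) (.leaf 0xb1f4ee1))) (.node (.node (.leaf 0xa724ed9) (.leaf 0xb224ee1)) (.node (.leaf 0x10b2ced9) (.leaf 0xa75ced9)))) (.node (.node (.node (.leaf 0xf66cedb) (.leaf 0x177f8ee1)) (.node (.leaf 0x7780ee1) (.leaf 0x16e34ee1))) (.node (.node (.leaf 0x12d38ee1) (.leaf 0xf67cedb)) (.node (.leaf 0x10954ee1) (.leaf 0x0))))) (.node (.node (.node (.node (.leaf 0x1136) (.leaf 0x1757cee1)) (.node (.leaf 0x13790edb) (.leaf 0x8c00ed9))) (.node (.node (.leaf 0xb5f8edb) (.leaf 0x11104ee1)) (.node (.leaf 0x9070ee1) (.leaf 0x80c0ed9)))) (.node (.node (.node (.leaf 0xee58ed9) (.leaf 0x15924ee1)) (.node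 (.leaf 0xd820ee1) (.leaf 0x5d24ed9))) (.node (.node (.leaf 0x9080ed9) (.leaf 0x50c0ee1)) (.node (.leaf 0x8748ed9) (.leaf 0x0)))))) (.node (.node (.node (.node (.node (.leaf 0x4454edb) (.leaf 0x8768edb)) (.node (.leaf 0xea90ee1) (.leaf 0xcd7ced9))) (.node (.node (.leaf 0xd6b4ed9) (.leaf 0xe72cee1)) (.node (.leaf 0xdac4ed9) (.leaf 0x12ae8ee1)))) (.node (.node (.node (.leaf 0x12580ed9) (.leaf 0xc86cedb)) (.node (.leaf 0xf230ee1) (.leaf 0x4468ee1))) (.node (.node (.leaf 0x11e14ed9) (.leaf 0x114b8ee1)) (.node (.leaf 0xdde4ee1) (.leaf 0x0))))) (.node (.node (.node (.node (.leaf 0xec34ee1) (.leaf 0xf6fcee1)) (.node (.leaf 0x53c4ee1) (.leaf 0xadd4ee1))) (.node (.node (.leaf 0x9a34ed9) (.leaf 0x1066)) (.node (.leaf 0x12554ee1) (.leaf 0x0)))) (.node (.node (.node (.leaf 0x5b48ec1) (.leaf 0xd380edb)) (.node (.leaf 0x112a8ee1) (.leaf 0x11f9ced9))) (.node (.node (.leaf 0x13104edb)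 (.leaf 0x1070)) (.node (.leaf 0xb540ee1) (.leaf 0x0))))))))))

/-- packed table -/
noncomputable def cov7_rll : BTree := (.node (.node (.node (.node (.node (.node (.node (.node (.node (.leaf 0x102b8ee1) (.leaf 0xb3fcee1)) (.node (.leaf 0xec6cee1) (.leaf 0xad5cedb))) (.node (.node (.leaf 0x8200ee1) (.leaf 0x8854edb)) (.node (.leaf 0x15288ee1) (.leaf 0x164d8ee1)))) (.node (.node (.node (.leaf 0x79bcedb) (.leaf 0xb6c8edb)) (.node (.leaf 0x11320ee1) (.leaf 0x138a8ee1))) (.node (.node (.leaf 0xece8ee1) (.leaf 0x13a38ee1)) (.node (.leaf 0x91bcedb) (.leaf 0x0))))) (.node (.node (.node (.node (.leaf 0x1082cee1) (.leaf 0xa218ee1)) (.node (.leaf 0xe5dcee1) (.leaf 0xcd70ed9))) (.node (.node (.leaf 0xa17ced9) (.leaf 0xe718ee1)) (.node (.leaf 0xdc7ced9) (.leaf 0xaca8edb)))) (.node (.node (.node (.leaf 0xdc9cedb) (.leaf 0x13868ee1)) (.node (.leaf 0x10980ee1) (.leaf 0x12348ee1)))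 (.node (.node (.leaf 0x9e0ced9) (.leaf 0xfa88ee1)) (.node (.leaf 0x10024edb) (.leaf 0x0)))))) (.node (.node (.node (.node (.node (.leaf 0xe8f4ed9) (.leaf 0xdd38ee1)) (.node (.leaf 0xd96ced9) (.leaf 0xe8c4ee1))) (.node (.node (.leaf 0x7458ed9) (.leaf 0xede8ee1)) (.node (.leaf 0xa668ee1) (.leaf 0xa760edb)))) (.node (.node (.node (.leaf 0x12e7cedb) (.leaf 0x9fdced9)) (.node (.leaf 0xe5a4ee1) (.leaf 0x9d70edb))) (.node (.node (.leaf 0x16d30ee1) (.leaf 0xf688edb)) (.node (.leaf 0xd74ced9) (.leaf 0x0))))) (.node (.node (.node (.node (.leaf 0x51fcedb) (.leaf 0x118a4ee1)) (.node (.leaf 0x1058ced9) (.leaf 0x4beced9))) (.node (.node (.leaf 0xca18edb) (.leaf 0x90c4ee1)) (.node (.leaf 0x1051cee1) (.leaf 0x40c4ed9)))) (.node (.node (.node (.leaf 0xc6e4ee1) (.leaf 0xf0f8edb)) (.node (.leaf 0xb268edb) (.leaf 0x4070edb))) (.node (.node (.leaf 0xe8dcee1) (.leaf 0x50d8ee1)) (.node (.leaf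 0x8e9cedb) (.leaf 0x0))))))) (.node (.node (.node (.node (.node (.node (.leaf 0x4288ee1) (.leaf 0x9a68ee1)) (.node (.leaf 0xda84ee1) (.leaf 0x13164ee1))) (.node (.node (.leaf 0xc7e8ed9) (.leaf 0xe7a4ee1)) (.node (.leaf 0xd0b8ed9) (.leaf 0x1005cedb)))) (.node (.node (.node (.leaf 0x9c38edb) (.leaf 0x115c4ee1)) (.node (.leaf 0x8708ed9) (.leaf 0x11a54ee1))) (.node (.node (.leaf 0x12d7cee1) (.leaf 0x5018ee1)) (.node (.leaf 0x8970ee1) (.leaf 0x0))))) (.node (.node (.node (.node (.leaf 0xc8fced9) (.leaf 0x15e58ee1)) (.node (.leaf 0xbaeced9) (.leaf 0x102a))) (.node (.node (.leaf 0x8d9cedb) (.leaf 0x9d7cedb)) (.node (.leaf 0x91a8ed9) (.leaf 0xf008ee1)))) (.node (.node (.node (.leaf 0xedc8ed9) (.leaf 0x4b44edb)) (.node (.leaf 0x10a0) (.leaf 0xa678ee1))) (.node (.node (.leaf 0x12b7cee1) (.leaf 0x10c50edb)) (.node (.leaf 0xa114ed9) (.leaf 0x0)))))) (.node (.node (.node (.node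 (.node (.leaf 0xc20cedb) (.leaf 0x86cced9)) (.node (.leaf 0xa500ed9) (.leaf 0x128e8ee1))) (.node (.node (.leaf 0x10c28ed9) (.leaf 0xc850edb)) (.node (.leaf 0xdf94ee1) (.leaf 0xa60cedb)))) (.node (.node (.node (.leaf 0x134f0ee1) (.leaf 0xdd48ee1)) (.node (.leaf 0xcd2cee1) (.leaf 0xb5c8ee1))) (.node (.node (.leaf 0xd234ee1) (.leaf 0xc930ed9)) (.node (.leaf 0x1050) (.leaf 0x0))))) (.node (.node (.node (.node (.leaf 0xd9b0ed9) (.leaf 0xf828ee1)) (.node (.leaf 0xd3b0ee1) (.leaf 0x55b4ed9))) (.node (.node (.leaf 0xcf24ee1) (.leaf 0xcef8ee1)) (.node (.leaf 0xe774ed9) (.leaf 0x0)))) (.node (.node (.node (.leaf 0x1040) (.leaf 0x9b80edb)) (.node (.leaf 0x948cee1) (.leaf 0x13444ee1))) (.node (.node (.leaf 0xdbccee1) (.leaf 0x643cec1)) (.node (.leaf 0x11d14ee1) (.leaf 0x0)))))))) (.node (.node (.node (.node (.node (.node (.node (.leaf 0x11cb0edb) (.leaf 0xb19cee1)) (.node (.leaf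 0x5e88ec1) (.leaf 0xb320edb))) (.node (.node (.leaf 0x40e4ee1) (.leaf 0x8e9ced9)) (.node (.leaf 0x9a68ed9) (.leaf 0xa3b8ee1)))) (.node (.node (.node (.leaf 0xf90) (.leaf 0x43aced9)) (.node (.leaf 0x9708ee1) (.leaf 0xf3d4edb))) (.node (.node (.leaf 0xecacee1) (.leaf 0x8d88ed9)) (.node (.leaf 0xa684ee1) (.leaf 0x0))))) (.node (.node (.node (.node (.leaf 0x865cee1) (.leaf 0x55b4ee1)) (.node (.leaf 0xd748ee1) (.leaf 0x130e0ee1))) (.node (.node (.leaf 0x4d18ed9) (.leaf 0x8124ed9)) (.node (.leaf 0x1347cee1) (.leaf 0x12bf4ee1)))) (.node (.node (.node (.leaf 0xa4c4edb) (.leaf 0x11b2cee1)) (.node (.leaf 0x12334ee1) (.leaf 0xc68ced9))) (.node (.node (.leaf 0xda6cee1) (.leaf 0x8928ed9)) (.node (.leaf 0xabb4edb) (.leaf 0x0)))))) (.node (.node (.node (.node (.node (.leaf 0x80a8ed9) (.leaf 0x9ea8ee1)) (.node (.leaf 0x10c3ced9) (.leaf 0xf04))) (.node (.node (.leaf 0x73ccee1) (.leaf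 0x132c8ee1)) (.node (.leaf 0xc9e4ee1) (.leaf 0xf900ee1)))) (.node (.node (.node (.leaf 0xc9f4ee1) (.leaf 0x11588edb)) (.node (.leaf 0xa1e4ee1) (.leaf 0x8688ed9))) (.node (.node (.leaf 0xaef4edb) (.leaf 0xccf0ee1)) (.node (.leaf 0xe1a8ed9) (.leaf 0x0))))) (.node (.node (.node (.node (.leaf 0xbb18ee1) (.leaf 0xe948edb)) (.node (.leaf 0x4e70ee1) (.leaf 0xb7bced9))) (.node (.node (.leaf 0xfc0) (.leaf 0x4450ee1)) (.node (.leaf 0x1600) (.leaf 0xf7b4edb)))) (.node (.node (.node (.leaf 0x1098) (.leaf 0x6a14ee1)) (.node (.leaf 0xd248ee1) (.leaf 0x16468ee1))) (.node (.node (.leaf 0xe190ed9) (.leaf 0xded8ed9)) (.node (.leaf 0x5dbcee1) (.leaf 0x0))))))) (.node (.node (.node (.node (.node (.node (.leaf 0x10d0) (.leaf 0x1152cee1)) (.node (.leaf 0x4440edb) (.leaf 0x12a74ee1))) (.node (.node (.leaf 0xebd0ee1) (.leaf 0x8d64ed9)) (.node (.leaf 0xc318ed9) (.leaf 0x138c8ee1)))) (.node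 (.node (.node (.leaf 0xab48ee1) (.leaf 0x5b28ee1)) (.node (.leaf 0x10da4ee1) (.leaf 0x119e4ee1))) (.node (.node (.leaf 0x12a70ee1) (.leaf 0x81c8ed9)) (.node (.leaf 0x4450ec1) (.leaf 0x0))))) (.node (.node (.node (.node (.leaf 0xb020ed9) (.leaf 0x5818ed9)) (.node (.leaf 0x112b8ee1) (.leaf 0xd000ed9))) (.node (.node (.leaf 0xef54ee1) (.leaf 0x1113cee1)) (.node (.leaf 0xa654ee1) (.leaf 0x8fbcedb)))) (.node (.node (.node (.leaf 0xa4e0ed9) (.leaf 0x50d0ec1)) (.node (.leaf 0x56b8ee1) (.leaf 0xa408ed9))) (.node (.node (.leaf 0x49c8ee1) (.leaf 0x68d4ee1)) (.node (.leaf 0x15bc4ee1) (.leaf 0x0)))))) (.node (.node (.node (.node (.node (.leaf 0xff8) (.leaf 0x5edcec1)) (.node (.leaf 0x5b48ee1) (.leaf 0x137d4edb))) (.node (.node (.leaf 0x8734ed9) (.leaf 0xe770ee1)) (.node (.leaf 0xf71ced9) (.leaf 0x118b8ee1)))) (.node (.node (.node (.leaf 0xf74cee1) (.leaf 0xa8b4edb)) (.node (.leaf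 0xe3e8ed9) (.leaf 0x49acec1))) (.node (.node (.leaf 0xd840ee1) (.leaf 0x9048ee1)) (.node (.leaf 0x67b8edb) (.leaf 0x0))))) (.node (.node (.node (.node (.leaf 0x11e7cee1) (.leaf 0xe3e8edb)) (.node (.leaf 0x1a00) (.leaf 0x8720ed9))) (.node (.node (.leaf 0x643cee1) (.leaf 0x94a8ed9)) (.node (.leaf 0x1311cedb) (.leaf 0x0)))) (.node (.node (.node (.leaf 0x1471cee1) (.leaf 0x9dc8edb)) (.node (.leaf 0x520cee1) (.leaf 0xce6cedb))) (.node (.node (.leaf 0x7858ec1) (.leaf 0x10c34edb)) (.node (.leaf 0xcbb4ed9) (.leaf 0x0))))))))) (.node (.node (.node (.node (.node (.node (.node (.node (.leaf 0xc2c8ee1) (.leaf 0xb5a0ee1)) (.node (.leaf 0xd4d8ed9) (.leaf 0xa018edb))) (.node (.node (.leaf 0xd470ed9) (.leaf 0x8ae4edb)) (.node (.leaf 0xea10edb) (.leaf 0x12388ee1)))) (.node (.node (.node (.leaf 0x17a98ee1) (.leaf 0xf6e0ee1)) (.node (.leaf 0x152f8ee1) (.leaf 0xa1eced9))) (.node (.node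 (.leaf 0xda38ed9) (.leaf 0xcd90ed9)) (.node (.leaf 0xafbcedb) (.leaf 0x0))))) (.node (.node (.node (.node (.leaf 0xc68cee1) (.leaf 0x41c4ed9)) (.node (.leaf 0x12580edb) (.leaf 0x50acedb))) (.node (.node (.leaf 0x8bf0ed9) (.leaf 0xa740ee1)) (.node (.leaf 0x13450ee1) (.leaf 0xebc4ee1)))) (.node (.node (.node (.leaf 0xcd74edb) (.leaf 0x9a8cee1)) (.node (.leaf 0x12274ee1) (.leaf 0x13568ee1))) (.node (.node (.leaf 0x11154ee1) (.leaf 0xa968ee1)) (.node (.leaf 0xce2cedb) (.leaf 0x0)))))) (.node (.node (.node (.node (.node (.leaf 0x46b4ee1) (.leaf 0x50d0edb)) (.node (.leaf 0x16ea) (.leaf 0x7228ec1))) (.node (.node (.leaf 0x128bced9) (.leaf 0x13204ee1)) (.node (.leaf 0x1320ced9) (.leaf 0xaa80edb)))) (.node (.node (.node (.leaf 0x1368cedb) (.leaf 0xa18ced9)) (.node (.leaf 0x10494ee1) (.leaf 0xf7a8ee1))) (.node (.node (.leaf 0xefc8ee1) (.leaf 0xb350edb)) (.node (.leaf 0xfda)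 (.leaf 0x0))))) (.node (.node (.node (.node (.leaf 0xebccee1) (.leaf 0xe8b8edb)) (.node (.leaf 0x9344ed9) (.leaf 0xaec4ed9))) (.node (.node (.leaf 0x10c40ed9) (.leaf 0x9138ee1)) (.node (.leaf 0x11244ed9) (.leaf 0x104acee1)))) (.node (.node (.node (.leaf 0x13794ed9) (.leaf 0x6a00ee1)) (.node (.leaf 0x4aecedb) (.leaf 0xf0b8edb))) (.node (.node (.leaf 0x9958ed9) (.leaf 0xcff4ed9)) (.node (.leaf 0xb1f4ed9) (.leaf 0x0))))))) (.node (.node (.node (.node (.node (.node (.leaf 0x4258ee1) (.leaf 0x15b3cee1)) (.node (.leaf 0x6bf8edb) (.leaf 0xe8f4ee1))) (.node (.node (.leaf 0xc608ed9) (.leaf 0xee44ee1)) (.node (.leaf 0xe048ed9) (.leaf 0x4e34edb)))) (.node (.node (.node (.leaf 0xcd1ced9) (.leaf 0xf728ee1)) (.node (.leaf 0x8ae4ee1) (.leaf 0x8718ed9))) (.node (.node (.leaf 0x1297cee1) (.leaf 0x9080ee1)) (.node (.leaf 0x4014edb) (.leaf 0x0))))) (.node (.node (.node (.node (.leaf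 0xe558edb) (.leaf 0x133dcee1)) (.node (.leaf 0xc4c8ed9) (.leaf 0xea94ee1))) (.node (.node (.leaf 0x12fd4ee1) (.leaf 0x8f2cee1)) (.node (.leaf 0x9078edb) (.leaf 0xa1ecedb)))) (.node (.node (.node (.leaf 0x14128ee1) (.leaf 0xd07cedb)) (.node (.leaf 0xf654edb) (.leaf 0x8050edb))) (.node (.node (.leaf 0x12830ed9) (.leaf 0xb754ee1)) (.node (.leaf 0x15ab4ee1) (.leaf 0x0)))))) (.node (.node (.node (.node (.node (.leaf 0x5b44ec1) (.leaf 0xeb8ced9)) (.node (.leaf 0x11934ed9) (.leaf 0x77eced9))) (.node (.node (.leaf 0xb9ccee1) (.leaf 0xee40ed9)) (.node (.leaf 0x9050ee1) (.leaf 0xf928ee1)))) (.node (.node (.node (.leaf 0xf82cee1) (.leaf 0xb1ccedb)) (.node (.leaf 0x91b0ee1) (.leaf 0x12328ee1))) (.node (.node (.leaf 0xec28edb) (.leaf 0xcf08ed9)) (.node (.leaf 0x61fcec1) (.leaf 0x0))))) (.node (.node (.node (.node (.leaf 0x7458edb) (.leaf 0xd96cedb)) (.node (.leaf 0x9bc0ed9) (.leaf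 0xdc30ee1))) (.node (.node (.leaf 0x151a4ee1) (.leaf 0xa1c4edb)) (.node (.leaf 0x103b4ee1) (.leaf 0x0)))) (.node (.node (.node (.leaf 0xf0a) (.leaf 0x9dc8ed9)) (.node (.leaf 0xecc4ed9) (.leaf 0xf3e4ee1))) (.node (.node (.leaf 0xec68ee1) (.leaf 0xf128ed9)) (.node (.leaf 0xa444ed9) (.leaf 0x0)))))))) (.node (.node (.node (.node (.node (.node (.node (.leaf 0xaef8ed9) (.leaf 0xebbced9)) (.node (.leaf 0xd428ed9) (.leaf 0x643cedb))) (.node (.node (.leaf 0x80d4ee1) (.leaf 0xa7a8ee1)) (.node (.leaf 0x83a4ee1) (.leaf 0xa9dcedb)))) (.node (.node (.node (.leaf 0xf20) (.leaf 0x11cf0ee1)) (.node (.leaf 0x9790ee1) (.leaf 0x9a20ee1))) (.node (.node (.leaf 0x12d84ee1) (.leaf 0x10f94ee1)) (.node (.leaf 0xa598ee1) (.leaf 0x0))))) (.node (.node (.node (.node (.leaf 0xfb4) (.leaf 0x1192cee1)) (.node (.leaf 0x9b38edb) (.leaf 0x107c))) (.node (.node (.leaf 0xc7f4ed9) (.leaf 0xec60edb))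 (.node (.leaf 0x13480ee1) (.leaf 0xd0a0edb)))) (.node (.node (.node (.leaf 0x4aeced9) (.leaf 0x4438ed9)) (.node (.leaf 0x5678ee1) (.leaf 0x126b4ee1))) (.node (.node (.leaf 0x5d3cee1) (.leaf 0xa960ee1)) (.node (.leaf 0x4f14ed9) (.leaf 0x0)))))) (.node (.node (.node (.node (.node (.leaf 0xe614ed9) (.leaf 0x1311ced9)) (.node (.leaf 0xa7bcee1) (.leaf 0xf7b8ed9))) (.node (.node (.leaf 0x55a0ed9) (.leaf 0x5ad8ed9)) (.node (.leaf 0xe39ced9) (.leaf 0xcab8ed9)))) (.node (.node (.node (.leaf 0xf50) (.leaf 0xd210ed9)) (.node (.leaf 0x43acec1) (.leaf 0x160b8ee1))) (.node (.node (.leaf 0x6aecec1) (.leaf 0x10bb8ee1)) (.node (.leaf 0x12ee0ed9) (.leaf 0x0))))) (.node (.node (.node (.node (.leaf 0x1189cee1) (.leaf 0x9564ee1)) (.node (.leaf 0x67d4ed9) (.leaf 0x8b4cedb))) (.node (.node (.leaf 0xaf84ee1) (.leaf 0x6a28ed9)) (.node (.leaf 0xe404ee1) (.leaf 0x0)))) (.node (.node (.node (.leaf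 0x86c0ed9) (.leaf 0x6a18ee1)) (.node (.leaf 0xd264ee1) (.leaf 0xb448ee1))) (.node (.node (.leaf 0xd618edb) (.leaf 0x4aecee1)) (.node (.leaf 0xda0cee1) (.leaf 0x0))))))) (.node (.node (.node (.node (.node (.node (.leaf 0xf70) (.leaf 0x119bcee1)) (.node (.leaf 0x520cedb) (.leaf 0xf0e8ed9))) (.node (.node (.leaf 0x10c60edb) (.leaf 0x132c4ee1)) (.node (.leaf 0x111b4ee1) (.leaf 0x9860ee1)))) (.node (.node (.node (.leaf 0x16510ee1) (.leaf 0x1551cee1)) (.node (.leaf 0xacd4ed9) (.leaf 0x10c44edb))) (.node (.node (.leaf 0x12d2cee1) (.leaf 0x5edced9)) (.node (.leaf 0xf670edb) (.leaf 0x0))))) (.node (.node (.node (.node (.leaf 0x42f8ec1) (.leaf 0x9b38ee1)) (.node (.leaf 0xa960ed9) (.leaf 0x11ab0ee1))) (.node (.node (.leaf 0x68d4ec1) (.leaf 0xf9ecee1)) (.node (.leaf 0xe5c4ee1) (.leaf 0x16b80ee1)))) (.node (.node (.node (.leaf 0xa6b0ed9) (.leaf 0x159ccee1)) (.node (.leaf 0x11848ee1)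 (.leaf 0x94a8edb))) (.node (.node (.leaf 0x5dd0ec1) (.leaf 0xa964ee1)) (.node (.leaf 0xc220ed9) (.leaf 0x0)))))) (.node (.node (.node (.node (.node (.leaf 0x4454ed9) (.leaf 0x55a0edb)) (.node (.leaf 0xb6b0ed9) (.leaf 0x58f4ec1))) (.node (.node (.leaf 0xa214ed9) (.leaf 0x671cedb)) (.node (.leaf 0xf688ed9) (.leaf 0x4450edb)))) (.node (.node (.node (.leaf 0x4a48edb) (.leaf 0xb7c8ed9)) (.node (.leaf 0xa954ed9) (.leaf 0xec60ed9))) (.node (.node (.leaf 0x16a5cee1) (.leaf 0xf0c8ed9)) (.node (.leaf 0x937ced9) (.leaf 0x0))))) (.node (.node (.node (.node (.leaf 0x13870ee1) (.leaf 0xb704ee1)) (.node (.leaf 0x93d4ee1) (.leaf 0x8728ed9))) (.node (.node (.leaf 0xed60ee1) (.leaf 0xd4a4ed9)) (.node (.leaf 0xe948ed9) (.leaf 0x0)))) (.node (.node (.node (.leaf 0x872cee1) (.leaf 0x10024ed9)) (.node (.leaf 0xd298ee1) (.leaf 0x4a80edb))) (.node (.node (.leaf 0x7284edb) (.leaf 0xd7a8edb))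 (.node (.leaf 0x13488edb) (.leaf 0x0))))))))))

/-- packed table -/
noncomputable def cov7_rlr : BTree := (.node (.node (.node (.node (.node (.node (.node (.node (.node (.leaf 0x171a) (.leaf 0x9d00ee1)) (.node (.leaf 0x94f8ed9) (.leaf 0x11910ee1))) (.node (.node (.leaf 0x81f0ed9) (.leaf 0x12800ee1)) (.node (.leaf 0xe084edb) (.leaf 0x1637cee1)))) (.node (.node (.node (.leaf 0xb8d4ee1) (.leaf 0xdc0cee1)) (.node (.leaf 0x152fcee1) (.leaf 0x41c4ec1))) (.node (.node (.leaf 0xe88cee1) (.leaf 0xfa40ee1)) (.node (.leaf 0xb19cedb) (.leaf 0x0))))) (.node (.node (.node (.node (.leaf 0x8418edb) (.leaf 0x557cee1)) (.node (.leaf 0x117c0ee1) (.leaf 0xd8c8ee1))) (.node (.node (.leaf 0x133b0ee1) (.leaf 0x11fa)) (.node (.leaf 0xd1a0ed9) (.leaf 0x8404ee1)))) (.node (.node (.node (.leaf 0xa56ced9) (.leaf 0x9b30ee1)) (.node (.leaf 0x1110cee1) (.leaf 0x102c))) (.node (.node (.leaf 0x8914ee1)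 (.leaf 0x84dced9)) (.node (.leaf 0xe184ee1) (.leaf 0x0)))))) (.node (.node (.node (.node (.node (.leaf 0x10694ee1) (.leaf 0x671ced9)) (.node (.leaf 0xee24ed9) (.leaf 0x9c38ed9))) (.node (.node (.leaf 0x64c0edb) (.leaf 0xcadcedb)) (.node (.leaf 0x10248ed9) (.leaf 0xe364edb)))) (.node (.node (.node (.leaf 0x80acedb) (.leaf 0x4be8ec1)) (.node (.leaf 0x12228ed9) (.leaf 0x6ff8ec1))) (.node (.node (.leaf 0xafbcee1) (.leaf 0xcb88ee1)) (.node (.leaf 0xf424ed9) (.leaf 0x0))))) (.node (.node (.node (.node (.leaf 0xf630ed9) (.leaf 0x15b34ee1)) (.node (.leaf 0xd754ed9) (.leaf 0x9ae0ee1))) (.node (.node (.leaf 0xefa0ee1) (.leaf 0x848cee1)) (.node (.leaf 0x911cee1) (.leaf 0xa650ed9)))) (.node (.node (.node (.leaf 0x11cb8ed9) (.leaf 0xa9e4ee1)) (.node (.leaf 0xaf64edb) (.leaf 0x64c0ee1))) (.node (.node (.leaf 0x1024) (.leaf 0x948ced9)) (.node (.leaf 0xb378ed9) (.leaf 0x0))))))) (.node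 (.node (.node (.node (.node (.node (.leaf 0x10284ee1) (.leaf 0x114f4ee1)) (.node (.leaf 0xa8c8edb) (.leaf 0xc100ed9))) (.node (.node (.leaf 0xc19cee1) (.leaf 0x8a5ced9)) (.node (.leaf 0xe040ed9) (.leaf 0x12e60ee1)))) (.node (.node (.node (.leaf 0xf338ed9) (.leaf 0x15b24ee1)) (.node (.leaf 0x45dced9) (.leaf 0x96a8ed9))) (.node (.node (.leaf 0x12c24ee1) (.leaf 0x11088ee1)) (.node (.leaf 0x8e08ee1) (.leaf 0x0))))) (.node (.node (.node (.node (.leaf 0xf898ed9) (.leaf 0x6540edb)) (.node (.leaf 0xfaf8ed9) (.leaf 0x15570ee1))) (.node (.node (.leaf 0x96a8edb) (.leaf 0x8ad8edb)) (.node (.leaf 0x12228edb) (.leaf 0x8964ed9)))) (.node (.node (.node (.leaf 0xf7fcedb) (.leaf 0x118ccee1)) (.node (.leaf 0x50c0ed9) (.leaf 0xb978edb))) (.node (.node (.leaf 0x4becec1) (.leaf 0xf4d8ee1)) (.node (.leaf 0xc1b4ed9) (.leaf 0x0)))))) (.node (.node (.node (.node (.node (.leaf 0xac4cedb) (.leaf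 0x126d8edb)) (.node (.leaf 0xa528ed9) (.leaf 0x4070ec1))) (.node (.node (.leaf 0x11588ed9) (.leaf 0xae38ed9)) (.node (.leaf 0xf3c8ee1) (.leaf 0xf918ee1)))) (.node (.node (.node (.leaf 0x175f0ee1) (.leaf 0x1195cee1)) (.node (.leaf 0x109b8ee1) (.leaf 0xf4d8ed9))) (.node (.node (.leaf 0x119c4ee1) (.leaf 0x8fc8ee1)) (.node (.leaf 0x5d84ee1) (.leaf 0x0))))) (.node (.node (.node (.node (.leaf 0xf630ee1) (.leaf 0x12ca0ed9)) (.node (.leaf 0xb288ed9) (.leaf 0xdc28ee1))) (.node (.node (.leaf 0x104bcee1) (.leaf 0x10f8cee1)) (.node (.leaf 0xcc1cee1) (.leaf 0x0)))) (.node (.node (.node (.leaf 0x425cedb) (.leaf 0x129b8ee1)) (.node (.leaf 0x947cee1) (.leaf 0xf040ee1))) (.node (.node (.leaf 0xcff4edb) (.leaf 0xd9b0edb)) (.node (.leaf 0xa448ed9) (.leaf 0x0)))))))) (.node (.node (.node (.node (.node (.node (.node (.leaf 0x14044ee1) (.leaf 0xecb4ed9)) (.node (.leaf 0xedbcee1) (.leaf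 0xebc0ed9))) (.node (.node (.leaf 0x40c4ee1) (.leaf 0xec58edb)) (.node (.leaf 0xb19ced9) (.leaf 0xd390ed9)))) (.node (.node (.node (.leaf 0xf0e) (.leaf 0x11894ee1)) (.node (.leaf 0xd714ee1) (.leaf 0xda18ee1))) (.node (.node (.leaf 0xd1dcee1) (.leaf 0x8facee1)) (.node (.leaf 0x445cec1) (.leaf 0x0))))) (.node (.node (.node (.node (.leaf 0xc67cee1) (.leaf 0x9ee8ed9)) (.node (.leaf 0x8710edb) (.leaf 0xe034edb))) (.node (.node (.leaf 0xe088edb) (.leaf 0x96c4ed9)) (.node (.leaf 0xe360ed9) (.leaf 0xc9e0ee1)))) (.node (.node (.node (.leaf 0x47a4ed9) (.leaf 0x4460ed9)) (.node (.leaf 0x12574ee1) (.leaf 0xa6b0ee1))) (.node (.node (.leaf 0x1591cee1) (.leaf 0x4048ed9)) (.node (.leaf 0xd4d4ee1) (.leaf 0x0)))))) (.node (.node (.node (.node (.node (.leaf 0xe2e4ed9) (.leaf 0x119c0edb)) (.node (.leaf 0xf764ed9) (.leaf 0x7074ee1))) (.node (.node (.leaf 0xe8c4ed9) (.leaf 0x6548ed9)) (.node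 (.leaf 0xd168ee1) (.leaf 0x10a10ee1)))) (.node (.node (.node (.leaf 0x8d64ee1) (.leaf 0xe774edb)) (.node (.leaf 0x6f78edb) (.leaf 0x104fcee1))) (.node (.node (.leaf 0x13104ed9) (.leaf 0x10bc0ee1)) (.node (.leaf 0xdbfcee1) (.leaf 0x0))))) (.node (.node (.node (.node (.leaf 0x119ecee1) (.leaf 0xa430ed9)) (.node (.leaf 0xd3acee1) (.leaf 0xcf24ed9))) (.node (.node (.leaf 0xeaa8ee1) (.leaf 0x13ac8ee1)) (.node (.leaf 0x16164ee1) (.leaf 0x0)))) (.node (.node (.node (.leaf 0x1912) (.leaf 0x4268ed9)) (.node (.leaf 0x8710ed9) (.leaf 0x515cedb))) (.node (.node (.leaf 0xef14ee1) (.leaf 0x947ced9)) (.node (.leaf 0x9dc8ee1) (.leaf 0x0))))))) (.node (.node (.node (.node (.node (.node (.leaf 0x40b8ec1) (.leaf 0x9b40ee1)) (.node (.leaf 0x5818edb) (.leaf 0x1088))) (.node (.node (.leaf 0xfa70ee1) (.leaf 0x179a)) (.node (.leaf 0x8904ee1) (.leaf 0x40b8edb)))) (.node (.node (.node (.leaf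 0x1205cee1) (.leaf 0xda58ee1)) (.node (.leaf 0xace4ed9) (.leaf 0xb038ee1))) (.node (.node (.leaf 0x12d08ee1) (.leaf 0x4becee1)) (.node (.leaf 0xe5c8ee1) (.leaf 0x0))))) (.node (.node (.node (.node (.leaf 0x51fced9) (.leaf 0xf0c8edb)) (.node (.leaf 0x50c0edb) (.leaf 0x1241ced9))) (.node (.node (.leaf 0xef58ee1) (.leaf 0x17a08ee1)) (.node (.leaf 0x12324ee1) (.leaf 0x6b78ee1)))) (.node (.node (.node (.leaf 0x106f4ee1) (.leaf 0xdcecee1)) (.node (.leaf 0x11824ee1) (.leaf 0xd4a4edb))) (.node (.node (.leaf 0xf764edb) (.leaf 0xe02cedb)) (.node (.leaf 0xca18ed9) (.leaf 0x0)))))) (.node (.node (.node (.node (.node (.leaf 0x1152) (.leaf 0xac84edb)) (.node (.leaf 0xa18cee1) (.leaf 0x47fcec1))) (.node (.node (.leaf 0xa60ced9) (.leaf 0x16778ee1)) (.node (.leaf 0xf674ed9) (.leaf 0x4464edb)))) (.node (.node (.node (.leaf 0xe5ccee1) (.leaf 0xd8ecee1)) (.node (.leaf 0x12064ee1) (.leaf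 0x1042cee1))) (.node (.node (.leaf 0x12b4cee1) (.leaf 0x4048edb)) (.node (.leaf 0xcaccedb) (.leaf 0x0))))) (.node (.node (.node (.node (.leaf 0x12600ee1) (.leaf 0xe3dcedb)) (.node (.leaf 0x6ff8edb) (.leaf 0xae38ee1))) (.node (.node (.leaf 0x4aecec1) (.leaf 0x94cced9)) (.node (.leaf 0xb6c8ed9) (.leaf 0x0)))) (.node (.node (.node (.leaf 0x14730ee1) (.leaf 0xffe)) (.node (.leaf 0x10c30edb) (.leaf 0xe620ee1))) (.node (.node (.leaf 0x12d8cee1) (.leaf 0xe10ced9)) (.node (.leaf 0x10be0ed9) (.leaf 0x0))))))))) (.node (.node (.node (.node (.node (.node (.node (.node (.leaf 0xca8cedb) (.leaf 0xb4e0ee1)) (.node (.leaf 0x125a0edb) (.leaf 0x118a0ee1))) (.node (.node (.leaf 0x40b4ee1) (.leaf 0x12854ee1)) (.node (.leaf 0xdd58edb) (.leaf 0xe3b0ee1)))) (.node (.node (.node (.leaf 0xf974ee1) (.leaf 0xe624edb)) (.node (.leaf 0xd728ee1) (.leaf 0x52e0edb))) (.node (.node (.leaf 0xecb0ee1)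 (.leaf 0x8d9ced9)) (.node (.leaf 0x121a4ee1) (.leaf 0x0))))) (.node (.node (.node (.node (.leaf 0x866cee1) (.leaf 0x4264edb)) (.node (.leaf 0x9494ed9) (.leaf 0x70d4ee1))) (.node (.node (.leaf 0x133f0ee1) (.leaf 0x9a8ced9)) (.node (.leaf 0x7458ee1) (.leaf 0x6d50edb)))) (.node (.node (.node (.leaf 0xe0d4edb) (.leaf 0x95fcee1)) (.node (.leaf 0x124dcee1) (.leaf 0x11ce0edb))) (.node (.node (.leaf 0xf86) (.leaf 0x11da8ed9)) (.node (.leaf 0x10e1cedb) (.leaf 0x0)))))) (.node (.node (.node (.node (.node (.leaf 0xcdb4ed9) (.leaf 0xdcdcee1)) (.node (.leaf 0xb750ed9) (.leaf 0x4048ec1))) (.node (.node (.leaf 0xa8c8ed9) (.leaf 0xf024ee1)) (.node (.leaf 0xcd1cee1) (.leaf 0xc9b4ee1)))) (.node (.node (.node (.leaf 0xd094ee1) (.leaf 0xa358ed9)) (.node (.leaf 0xce18ee1) (.leaf 0x17634ee1))) (.node (.node (.leaf 0x16fc4ee1) (.leaf 0xd784edb)) (.node (.leaf 0xed4) (.leaf 0x0))))) (.node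 (.node (.node (.node (.leaf 0x12a4cee1) (.leaf 0xe048edb)) (.node (.leaf 0xf9c) (.leaf 0x11938ee1))) (.node (.node (.leaf 0x65a8ec1) (.leaf 0x6a18edb)) (.node (.leaf 0x11270ed9) (.leaf 0x12f90edb)))) (.node (.node (.node (.leaf 0x4278ec1) (.leaf 0x7074ed9)) (.node (.leaf 0x5b44ed9) (.leaf 0x4b44ec1))) (.node (.node (.leaf 0x115bcee1) (.leaf 0x10f38ee1)) (.node (.leaf 0x9dc4ee1) (.leaf 0x0))))))) (.node (.node (.node (.node (.node (.node (.leaf 0xfc8) (.leaf 0xc3a0ed9)) (.node (.leaf 0xef2) (.leaf 0x11890ee1))) (.node (.node (.leaf 0xfad0ee1) (.leaf 0x79bcec1)) (.node (.leaf 0xc5e0ed9) (.leaf 0xf4d0ed9)))) (.node (.node (.node (.leaf 0x50d0ed9) (.leaf 0x9554ee1)) (.node (.leaf 0x83e0ee1) (.leaf 0x119dcee1))) (.node (.node (.leaf 0x12d04ee1) (.leaf 0x9c54ed9)) (.node (.leaf 0x8848edb) (.leaf 0x0))))) (.node (.node (.node (.node (.leaf 0xff6) (.leaf 0x15be8ee1)) (.node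 (.leaf 0x92d4ee1) (.leaf 0xe024edb))) (.node (.node (.leaf 0xce04ee1) (.leaf 0xb4dced9)) (.node (.leaf 0x12fdced9) (.leaf 0xa138edb)))) (.node (.node (.node (.leaf 0xfdc) (.leaf 0xefa0ed9)) (.node (.leaf 0x9694ee1) (.leaf 0xf65cedb))) (.node (.node (.leaf 0x90dcee1) (.leaf 0xb518ee1)) (.node (.leaf 0x12158ee1) (.leaf 0x0)))))) (.node (.node (.node (.node (.node (.leaf 0x85ecee1) (.leaf 0x11884ee1)) (.node (.leaf 0xd9a4edb) (.leaf 0x118b0ee1))) (.node (.node (.leaf 0xa760ed9) (.leaf 0x4e00ed9)) (.node (.leaf 0xca24ee1) (.leaf 0x13150edb)))) (.node (.node (.node (.leaf 0xe62cee1) (.leaf 0x9d10ee1)) (.node (.leaf 0xf5a) (.leaf 0x109e8ee1))) (.node (.node (.leaf 0x9b50ee1) (.leaf 0xd794edb)) (.node (.leaf 0xcacced9) (.leaf 0x0))))) (.node (.node (.node (.node (.leaf 0xd9a4ed9) (.leaf 0x119e8ee1)) (.node (.leaf 0xf898edb) (.leaf 0xfac0edb))) (.node (.node (.leaf 0xa9dcee1)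 (.leaf 0x5124ee1)) (.node (.leaf 0x9750ed9) (.leaf 0x0)))) (.node (.node (.node (.leaf 0x4788ee1) (.leaf 0xe880ee1)) (.node (.leaf 0xd210ee1) (.leaf 0xb060ee1))) (.node (.node (.leaf 0xb734ed9) (.leaf 0x10d30ee1)) (.node (.leaf 0xf600ee1) (.leaf 0x0)))))))) (.node (.node (.node (.node (.node (.node (.node (.leaf 0xc064ee1) (.leaf 0xda4ced9)) (.node (.leaf 0xdc94ed9) (.leaf 0x107a))) (.node (.node (.leaf 0xec8ced9) (.leaf 0xa79cee1)) (.node (.leaf 0x8ec8ee1) (.leaf 0xee80ee1)))) (.node (.node (.node (.leaf 0x9c54edb) (.leaf 0xdcb4ee1)) (.node (.leaf 0xd7a0ee1) (.leaf 0xdb0cedb))) (.node (.node (.leaf 0x1240cee1) (.leaf 0xd014ee1)) (.node (.leaf 0x8fd8ee1) (.leaf 0x0))))) (.node (.node (.node (.node (.leaf 0xe084ed9) (.leaf 0xd0b8edb)) (.node (.leaf 0x9b50edb) (.leaf 0x8cf4ed9))) (.node (.node (.leaf 0x1635cee1) (.leaf 0xf844ed9)) (.node (.leaf 0x8ecced9) (.leaf 0xca00ee1))))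 (.node (.node (.node (.leaf 0xb268ed9) (.leaf 0x4450ed9)) (.node (.leaf 0x5678ec1) (.leaf 0xa650ee1))) (.node (.node (.leaf 0xd83cee1) (.leaf 0x98d8ee1)) (.node (.leaf 0x11a48ee1) (.leaf 0x0)))))) (.node (.node (.node (.node (.node (.leaf 0xc89cee1) (.leaf 0x9e18ee1)) (.node (.leaf 0xe3fcee1) (.leaf 0x118e8ee1))) (.node (.node (.leaf 0xf8ecee1) (.leaf 0x6b78ed9)) (.node (.leaf 0xf3c4ee1) (.leaf 0x8298edb)))) (.node (.node (.node (.leaf 0x170ccee1) (.leaf 0xc5e0edb)) (.node (.leaf 0x16544ee1) (.leaf 0x49acee1))) (.node (.node (.leaf 0x9b4cee1) (.leaf 0xc4c0ed9)) (.node (.leaf 0x8768ed9) (.leaf 0x0))))) (.node (.node (.node (.node (.leaf 0x11108ee1) (.leaf 0xdcfcee1)) (.node (.leaf 0x1138cee1) (.leaf 0x9694ed9))) (.node (.node (.leaf 0x12f88ee1) (.leaf 0x14504ee1)) (.node (.leaf 0x15fe4ee1) (.leaf 0x0)))) (.node (.node (.node (.leaf 0x10b0) (.leaf 0xa9b4ee1)) (.node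 (.leaf 0x40f0edb) (.leaf 0x16e5cee1))) (.node (.node (.leaf 0xe044edb) (.leaf 0x10b3cee1)) (.node (.leaf 0x15d64ee1) (.leaf 0x0))))))) (.node (.node (.node (.node (.node (.node (.leaf 0x106b8ee1) (.leaf 0x1559cee1)) (.node (.leaf 0x41c4edb) (.leaf 0x131f8ee1))) (.node (.node (.leaf 0xdc14ee1) (.leaf 0x80f8ed9)) (.node (.leaf 0xeea) (.leaf 0xb930ee1)))) (.node (.node (.node (.leaf 0xe09cedb) (.leaf 0xe480ed9)) (.node (.leaf 0xece0ed9) (.leaf 0xdb14ed9))) (.node (.node (.leaf 0x4480ee1) (.leaf 0xd58cedb)) (.node (.leaf 0xa65ced9) (.leaf 0x0))))) (.node (.node (.node (.node (.leaf 0xb030ed9) (.leaf 0x1359cee1)) (.node (.leaf 0x5818ec1) (.leaf 0xd9c8ee1))) (.node (.node (.leaf 0x11b60ee1) (.leaf 0x10ef4ee1)) (.node (.leaf 0x90a4ee1) (.leaf 0x40e8ed9)))) (.node (.node (.node (.leaf 0xee64ed9) (.leaf 0xd5e4ee1)) (.node (.leaf 0xd81cee1) (.leaf 0xb8b0edb))) (.node (.node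 (.leaf 0xeca4edb) (.leaf 0x50d0ee1)) (.node (.leaf 0xa78cedb) (.leaf 0x0)))))) (.node (.node (.node (.node (.node (.leaf 0x8418ed9) (.leaf 0x1054cedb)) (.node (.leaf 0x9fdcee1) (.leaf 0x42b4ec1))) (.node (.node (.leaf 0x8208ed9) (.leaf 0x12710ee1)) (.node (.leaf 0xce78ed9) (.leaf 0x6d50ec1)))) (.node (.node (.node (.leaf 0xe560ed9) (.leaf 0x993cee1)) (.node (.leaf 0x10b5cee1) (.leaf 0xca08ee1))) (.node (.node (.leaf 0xdbb4ee1) (.leaf 0x94f0ee1)) (.node (.leaf 0x15e04ee1) (.leaf 0x0))))) (.node (.node (.node (.node (.leaf 0x10ebcedb) (.leaf 0x17700ee1)) (.node (.leaf 0x93c8ee1) (.leaf 0x52e0ed9))) (.node (.node (.leaf 0xace4ee1) (.leaf 0xf0b8ed9)) (.node (.leaf 0xd194ed9) (.leaf 0x0)))) (.node (.node (.node (.leaf 0x8720ee1) (.leaf 0x67d4ee1)) (.node (.leaf 0x112a4ee1) (.leaf 0x124f0ee1))) (.node (.node (.leaf 0xad90ee1) (.leaf 0x11598ee1)) (.node (.leaf 0xb580ee1)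 (.leaf 0x0))))))))))

/-- packed table -/
noncomputable def cov7_rrl : BTree := (.node (.node (.node (.node (.node (.node (.node (.node (.node (.leaf 0x42b0ee1) (.leaf 0xb1e4ed9)) (.node (.leaf 0x94dced9) (.leaf 0x10e4ced9))) (.node (.node (.leaf 0x81e4ee1) (.leaf 0x8970ed9)) (.node (.leaf 0x1127cee1) (.leaf 0x12390ee1)))) (.node (.node (.node (.leaf 0xf578ee1) (.leaf 0xcb0ced9)) (.node (.leaf 0x1530cee1) (.leaf 0x4368ee1))) (.node (.node (.leaf 0x158fcee1) (.leaf 0xb3b8ed9)) (.node (.leaf 0x94bcedb) (.leaf 0x0))))) (.node (.node (.node (.node (.leaf 0x87f8ee1) (.leaf 0x1022cedb)) (.node (.leaf 0xfbe) (.leaf 0xc930ee1))) (.node (.node (.leaf 0x165d0ee1) (.leaf 0x993ced9)) (.node (.leaf 0xac84ed9) (.leaf 0x10b2cedb)))) (.node (.node (.node (.leaf 0x41d4ee1) (.leaf 0x7858ee1)) (.node (.leaf 0x444cec1) (.leaf 0xeadcedb))) (.node (.node (.leaf 0x1263cee1) (.leaf 0xa2b8ed9))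 (.node (.leaf 0x4d18ee1) (.leaf 0x0)))))) (.node (.node (.node (.node (.node (.leaf 0xc6b0ee1) (.leaf 0x9044ee1)) (.node (.leaf 0xee14ed9) (.leaf 0x95f0ed9))) (.node (.node (.leaf 0xe460edb) (.leaf 0xbad4edb)) (.node (.leaf 0x11030ed9) (.leaf 0xa8d0edb)))) (.node (.node (.node (.leaf 0xe03cedb) (.leaf 0x104a8ee1)) (.node (.leaf 0xdf14ee1) (.leaf 0xa668ed9))) (.node (.node (.leaf 0xb530edb) (.leaf 0xe01cedb)) (.node (.leaf 0x12704ee1) (.leaf 0x0))))) (.node (.node (.node (.node (.leaf 0x1330cee1) (.leaf 0x172bcee1)) (.node (.leaf 0x13794edb) (.leaf 0xd02ced9))) (.node (.node (.leaf 0x9058ed9) (.leaf 0x8578ee1)) (.node (.leaf 0xa2b8ee1) (.leaf 0x8bb0edb)))) (.node (.node (.node (.leaf 0x425cec1) (.leaf 0xca20ed9)) (.node (.leaf 0x40dcedb) (.leaf 0xa4b0ee1))) (.node (.node (.leaf 0xd738ed9) (.leaf 0x6a00ed9)) (.node (.leaf 0xf4d4ed9) (.leaf 0x0))))))) (.node (.node (.node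 (.node (.node (.node (.leaf 0x4268ee1) (.leaf 0x10240edb)) (.node (.leaf 0xc86ced9) (.leaf 0x100fced9))) (.node (.node (.leaf 0xc20ced9) (.leaf 0x8fc8edb)) (.node (.leaf 0xe044ed9) (.leaf 0x14984ee1)))) (.node (.node (.node (.leaf 0x4438edb) (.leaf 0x11100ee1)) (.node (.leaf 0x44b0ed9) (.leaf 0x1179cedb))) (.node (.node (.leaf 0x12d70ee1) (.leaf 0x83fcee1)) (.node (.leaf 0xa2c4ee1) (.leaf 0x0))))) (.node (.node (.node (.node (.leaf 0xc4c4ed9) (.leaf 0xf13cee1)) (.node (.leaf 0x8a2ced9) (.leaf 0x9510ed9))) (.node (.node (.leaf 0xa7d0ee1) (.leaf 0x10c3cedb)) (.node (.leaf 0x6a18ed9) (.leaf 0xdd78ed9)))) (.node (.node (.node (.leaf 0xb124ed9) (.leaf 0x10a64ee1)) (.node (.leaf 0x9238edb) (.leaf 0xe690ee1))) (.node (.node (.leaf 0x1206cee1) (.leaf 0xedb0ed9)) (.node (.leaf 0xe120ee1) (.leaf 0x0)))))) (.node (.node (.node (.node (.node (.leaf 0xc7e8edb) (.leaf 0x5b88ed9))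 (.node (.leaf 0x51fcec1) (.leaf 0x987cedb))) (.node (.node (.leaf 0xd5aced9) (.leaf 0x68d4edb)) (.node (.leaf 0x133b4ee1) (.leaf 0xc320ee1)))) (.node (.node (.node (.leaf 0xf78cee1) (.leaf 0xb5f8ed9)) (.node (.leaf 0xa664ee1) (.leaf 0xf618ed9))) (.node (.node (.leaf 0xa78cee1) (.leaf 0xd610ed9)) (.node (.leaf 0x8928ee1) (.leaf 0x0))))) (.node (.node (.node (.node (.leaf 0x8ef0edb) (.leaf 0x13810ee1)) (.node (.leaf 0xe0a0edb) (.leaf 0xdc18ee1))) (.node (.node (.leaf 0xed24ee1) (.leaf 0x8bb0ee1)) (.node (.leaf 0x8020edb) (.leaf 0x0)))) (.node (.node (.node (.leaf 0x870cedb) (.leaf 0x4f14ec1)) (.node (.leaf 0x9468ee1) (.leaf 0x92f4ed9))) (.node (.node (.leaf 0xea98edb) (.leaf 0x14b1cee1)) (.node (.leaf 0xf1fcee1) (.leaf 0x0)))))))) (.node (.node (.node (.node (.node (.node (.node (.leaf 0xa218ed9) (.leaf 0xe22ced9)) (.node (.leaf 0x9070ed9) (.leaf 0x649cedb))) (.node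 (.node (.leaf 0x140bcee1) (.leaf 0xe848ee1)) (.node (.leaf 0x15dc0ee1) (.leaf 0xe5f0ee1)))) (.node (.node (.node (.leaf 0x1326) (.leaf 0x11fb4edb)) (.node (.leaf 0xd72cee1) (.leaf 0x14924ee1))) (.node (.node (.leaf 0xecbcee1) (.leaf 0x44b0ee1)) (.node (.leaf 0xa214edb) (.leaf 0x0))))) (.node (.node (.node (.node (.leaf 0x8664ee1) (.leaf 0x121e0ee1)) (.node (.leaf 0x9760ee1) (.leaf 0x12e94edb))) (.node (.node (.leaf 0x8298ed9) (.leaf 0xece0edb)) (.node (.leaf 0x91bced9) (.leaf 0x10a58ee1)))) (.node (.node (.node (.leaf 0x9200edb) (.leaf 0x444ced9)) (.node (.leaf 0x111f0ee1) (.leaf 0xa3b8edb))) (.node (.node (.leaf 0xec0cee1) (.leaf 0x109f8ee1)) (.node (.leaf 0x10224edb) (.leaf 0x0)))))) (.node (.node (.node (.node (.node (.leaf 0xa4c4ed9) (.leaf 0x11e9cee1)) (.node (.leaf 0x16910ee1) (.leaf 0xa5aced9))) (.node (.node (.leaf 0xb1e8edb) (.leaf 0x5e88ed9)) (.node (.leaf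 0x12054ee1) (.leaf 0xcaa8ed9)))) (.node (.node (.node (.leaf 0xf7acee1) (.leaf 0x4e00ec1)) (.node (.leaf 0x90ccee1) (.leaf 0x103d0ee1))) (.node (.node (.leaf 0xb1f4edb) (.leaf 0x109d8ee1)) (.node (.leaf 0xb060ed9) (.leaf 0x0))))) (.node (.node (.node (.node (.leaf 0x11e1cee1) (.leaf 0x11f68edb)) (.node (.leaf 0x1084) (.leaf 0x9c50ee1))) (.node (.node (.leaf 0x6f78ee1) (.leaf 0xd24cedb)) (.node (.leaf 0x40f0ec1) (.leaf 0x0)))) (.node (.node (.node (.leaf 0x9e68ed9) (.leaf 0x4440ee1)) (.node (.leaf 0x9b4ced9) (.leaf 0xa66ced9))) (.node (.node (.leaf 0xe58cee1) (.leaf 0xe4bcedb)) (.node (.leaf 0x8ee4ee1) (.leaf 0x0))))))) (.node (.node (.node (.node (.node (.node (.leaf 0x40e4ec1) (.leaf 0xb40cedb)) (.node (.leaf 0x557cedb) (.leaf 0x130d0edb))) (.node (.node (.leaf 0x133ecee1) (.leaf 0xf9b0ed9)) (.node (.leaf 0xc344ed9) (.leaf 0xca68ee1)))) (.node (.node (.node (.leaf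 0xd5a4edb) (.leaf 0x99acee1)) (.node (.leaf 0x6548ee1) (.leaf 0xae54ee1))) (.node (.node (.leaf 0x11ce4ee1) (.leaf 0xd4d8edb)) (.node (.leaf 0x9e0cedb) (.leaf 0x0))))) (.node (.node (.node (.node (.leaf 0xc018ee1) (.leaf 0xc244edb)) (.node (.leaf 0xf4cced9) (.leaf 0x10384ee1))) (.node (.node (.leaf 0xa85cee1) (.leaf 0xb2aced9)) (.node (.leaf 0x8a5cee1) (.leaf 0xf63cedb)))) (.node (.node (.node (.leaf 0x515cec1) (.leaf 0xb6f8ed9)) (.node (.leaf 0xd838ee1) (.leaf 0xb1d4ed9))) (.node (.node (.leaf 0x49c8ec1) (.leaf 0xadccee1)) (.node (.leaf 0xce38ed9) (.leaf 0x0)))))) (.node (.node (.node (.node (.node (.leaf 0x10c30ed9) (.leaf 0x12240ee1)) (.node (.leaf 0xa700ee1) (.leaf 0x520cec1))) (.node (.node (.leaf 0xdf1ced9) (.leaf 0x9160ee1)) (.node (.leaf 0x10394edb) (.leaf 0x4468edb)))) (.node (.node (.node (.leaf 0xf28cee1) (.leaf 0xa678ed9)) (.node (.leaf 0x6aecedb) (.leaf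 0x1033cee1))) (.node (.node (.leaf 0x163ccee1) (.leaf 0x7264edb)) (.node (.leaf 0xe7a4ed9) (.leaf 0x0))))) (.node (.node (.node (.node (.leaf 0x8fe4ee1) (.leaf 0x11244edb)) (.node (.leaf 0x93d0ee1) (.leaf 0xfe0))) (.node (.node (.leaf 0x6d50ee1) (.leaf 0xacd4edb)) (.node (.leaf 0xb714edb) (.leaf 0x0)))) (.node (.node (.node (.leaf 0x14740ee1) (.leaf 0xe7e8ee1)) (.node (.leaf 0xd498ed9) (.leaf 0xf1c8ed9))) (.node (.node (.leaf 0x1613cee1) (.leaf 0x14a50ee1)) (.node (.leaf 0x12ea0ee1) (.leaf 0x0))))))))) (.node (.node (.node (.node (.node (.node (.node (.node (.leaf 0x82c0ee1) (.leaf 0x960cee1)) (.node (.leaf 0x8fc8ed9) (.leaf 0xaf84ed9))) (.node (.node (.leaf 0xdc74ed9) (.leaf 0x14f90ee1)) (.node (.leaf 0xc4c4edb) (.leaf 0xa670ed9)))) (.node (.node (.node (.leaf 0xf9acedb) (.leaf 0x136d4ee1)) (.node (.leaf 0x9720ee1) (.leaf 0xb194edb))) (.node (.node (.leaf 0xe22cee1)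 (.leaf 0xca84ee1)) (.node (.leaf 0xb53cedb) (.leaf 0x0))))) (.node (.node (.node (.node (.leaf 0xc674ee1) (.leaf 0x9cc4ed9)) (.node (.leaf 0x117a4ee1) (.leaf 0x15900ee1))) (.node (.node (.leaf 0x40b8ed9) (.leaf 0xa9b4ed9)) (.node (.leaf 0x8c20edb) (.leaf 0x10314ee1)))) (.node (.node (.node (.leaf 0xe614edb) (.leaf 0xa674ed9)) (.node (.leaf 0x10f74ee1) (.leaf 0x9048edb))) (.node (.node (.leaf 0xa54cee1) (.leaf 0xdd18ed9)) (.node (.leaf 0x10ee8ee1) (.leaf 0x0)))))) (.node (.node (.node (.node (.node (.leaf 0x8780edb) (.leaf 0xa6c4edb)) (.node (.leaf 0x11318ee1) (.leaf 0xc96cee1))) (.node (.node (.leaf 0xf1c8edb) (.leaf 0x10550ee1)) (.node (.leaf 0xeb8cedb) (.leaf 0xf8f8ee1)))) (.node (.node (.node (.leaf 0x137ccee1) (.leaf 0xb53ced9)) (.node (.leaf 0xc24ced9) (.leaf 0xc484ee1))) (.node (.node (.leaf 0x9c50ed9) (.leaf 0xdb08edb)) (.node (.leaf 0x12dacedb) (.leaf 0x0)))))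 (.node (.node (.node (.node (.leaf 0x1590cee1) (.leaf 0x10248edb)) (.node (.leaf 0x9330ee1) (.leaf 0xa664ed9))) (.node (.node (.leaf 0xcd90ee1) (.leaf 0x4a80ed9)) (.node (.leaf 0xd24ced9) (.leaf 0xa64ced9)))) (.node (.node (.node (.leaf 0x4268ec1) (.leaf 0xa94ced9)) (.node (.leaf 0xaf04edb) (.leaf 0x8520ed9))) (.node (.node (.leaf 0x6a28edb) (.leaf 0x4564ee1)) (.node (.leaf 0x50b4ee1) (.leaf 0x0))))))) (.node (.node (.node (.node (.node (.node (.leaf 0x4278ee1) (.leaf 0xc7d8ed9)) (.node (.leaf 0x100c) (.leaf 0x12e94ed9))) (.node (.node (.leaf 0x1346cee1) (.leaf 0x8e94ee1)) (.node (.leaf 0xcd14ed9) (.leaf 0x10500ee1)))) (.node (.node (.node (.leaf 0xe5f4ed9) (.leaf 0xc554ed9)) (.node (.leaf 0x123c4ee1) (.leaf 0x10960ee1))) (.node (.node (.leaf 0x11cacee1) (.leaf 0xb4e0ed9)) (.node (.leaf 0xc80cedb) (.leaf 0x0))))) (.node (.node (.node (.node (.leaf 0x8008ee1) (.leaf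 0x151b8ee1)) (.node (.leaf 0xfafced9) (.leaf 0x4a80ee1))) (.node (.node (.leaf 0x855ced9) (.leaf 0x12e7ced9)) (.node (.leaf 0x12564ee1) (.leaf 0x12f70ed9)))) (.node (.node (.node (.leaf 0xb134ed9) (.leaf 0xb8b0ed9)) (.node (.leaf 0xf4ccedb) (.leaf 0x6400ed9))) (.node (.node (.leaf 0x12bb0edb) (.leaf 0xee70ee1)) (.node (.leaf 0x14388ee1) (.leaf 0x0)))))) (.node (.node (.node (.node (.node (.leaf 0xc5f0ee1) (.leaf 0xabb4ed9)) (.node (.leaf 0x12be0ee1) (.leaf 0xab2ced9))) (.node (.node (.leaf 0x1012) (.leaf 0x64c0ec1)) (.node (.leaf 0x43acedb) (.leaf 0x8920ee1)))) (.node (.node (.node (.leaf 0xf10cee1) (.leaf 0x75b8ed9)) (.node (.leaf 0xa514ee1) (.leaf 0xc8f8ee1))) (.node (.node (.leaf 0x895ced9) (.leaf 0xd04cee1)) (.node (.leaf 0x8a1ced9) (.leaf 0x0))))) (.node (.node (.node (.node (.leaf 0xec8) (.leaf 0x8848ed9)) (.node (.leaf 0xb388ed9) (.leaf 0xd980ee1))) (.node (.node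 (.leaf 0xdc84ed9) (.leaf 0x50f0ec1)) (.node (.leaf 0x15fe8ee1) (.leaf 0x0)))) (.node (.node (.node (.leaf 0x8780ee1) (.leaf 0x1af4)) (.node (.leaf 0xa224ed9) (.leaf 0xb1e8ed9))) (.node (.node (.leaf 0x6a00edb) (.leaf 0x108e8ee1)) (.node (.leaf 0xd184ee1) (.leaf 0x0)))))))) (.node (.node (.node (.node (.node (.node (.node (.leaf 0xe184ed9) (.leaf 0xecc0ed9)) (.node (.leaf 0x56b8ec1) (.leaf 0xe720edb))) (.node (.node (.leaf 0x80ccee1) (.leaf 0x8a1cee1)) (.node (.leaf 0x11fa8ee1) (.leaf 0xc330ee1)))) (.node (.node (.node (.leaf 0xefe) (.leaf 0xf678edb)) (.node (.leaf 0x40f0ed9) (.leaf 0xd78cedb))) (.node (.node (.leaf 0xed78ee1) (.leaf 0xb304ed9)) (.node (.leaf 0xddacee1) (.leaf 0x0))))) (.node (.node (.node (.node (.leaf 0xdd58ed9) (.leaf 0xc220edb)) (.node (.leaf 0x9b40edb) (.leaf 0xc318ee1))) (.node (.node (.leaf 0x95ccee1) (.leaf 0xd09cee1)) (.node (.leaf 0xb420edb)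 (.leaf 0x80aced9)))) (.node (.node (.node (.leaf 0x40dced9) (.leaf 0x445ced9)) (.node (.leaf 0x9670ee1) (.leaf 0xa660ee1))) (.node (.node (.leaf 0xabacee1) (.leaf 0xc978ed9)) (.node (.leaf 0xa238ed9) (.leaf 0x0)))))) (.node (.node (.node (.node (.node (.leaf 0xc608edb) (.leaf 0x11964ee1)) (.node (.leaf 0xdc24ee1) (.leaf 0xc378ee1))) (.node (.node (.leaf 0x8cf4edb) (.leaf 0xa968ed9)) (.node (.leaf 0xb3b8ee1) (.leaf 0x143f4ee1)))) (.node (.node (.node (.leaf 0x17a0cee1) (.leaf 0x4a48ee1)) (.node (.leaf 0x11178ee1) (.leaf 0x75b8ee1))) (.node (.node (.leaf 0xe90cee1) (.leaf 0x1099cee1)) (.node (.leaf 0xef60ed9) (.leaf 0x0))))) (.node (.node (.node (.node (.leaf 0x10240ed9) (.leaf 0x14e88ee1)) (.node (.leaf 0xd3a4ee1) (.leaf 0x84b4ed9))) (.node (.node (.leaf 0x11934edb) (.leaf 0x8e94ed9)) (.node (.leaf 0xa17cedb) (.leaf 0x0)))) (.node (.node (.node (.leaf 0x9f88ed9) (.leaf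 0x8a44ed9)) (.node (.leaf 0x81a4edb) (.leaf 0x10a78ee1))) (.node (.node (.leaf 0x8088ed9) (.leaf 0x10b58ee1)) (.node (.leaf 0x8964ee1) (.leaf 0x0))))))) (.node (.node (.node (.node (.node (.node (.leaf 0x40e8ec1) (.leaf 0xc24cedb)) (.node (.leaf 0x113b4ee1) (.leaf 0xcd7cedb))) (.node (.node (.leaf 0x127b4ed9) (.leaf 0x14f7cee1)) (.node (.leaf 0x8310ed9) (.leaf 0xa73ced9)))) (.node (.node (.node (.leaf 0xf370ee1) (.leaf 0xb750edb)) (.node (.leaf 0x11030edb) (.leaf 0x14a70ee1))) (.node (.node (.leaf 0x1261cee1) (.leaf 0xd904edb)) (.node (.leaf 0xb6aced9) (.leaf 0x0))))) (.node (.node (.node (.node (.leaf 0x82dcee1) (.leaf 0x10fecee1)) (.node (.leaf 0x11974edb) (.leaf 0x128bcedb))) (.node (.node (.leaf 0xede) (.leaf 0x178c)) (.node (.leaf 0xe254ee1) (.leaf 0x40e4ed9)))) (.node (.node (.node (.leaf 0xa218edb) (.leaf 0x14994ee1)) (.node (.leaf 0x11830ee1) (.leaf 0xe9e8ed9)))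 (.node (.node (.leaf 0xdaa4ee1) (.leaf 0x4348ee1)) (.node (.leaf 0x88f0ed9) (.leaf 0x0)))))) (.node (.node (.node (.node (.node (.leaf 0x4058ed9) (.leaf 0x5124ec1)) (.node (.leaf 0x1098cee1) (.leaf 0x130f0ee1))) (.node (.node (.leaf 0xa244ed9) (.leaf 0x10a54ee1)) (.node (.leaf 0xf66ced9) (.leaf 0xa6dcedb)))) (.node (.node (.node (.leaf 0x75b8ec1) (.leaf 0x8050ed9)) (.node (.leaf 0xa124ee1) (.leaf 0x10b84edb))) (.node (.node (.leaf 0x10f0cee1) (.leaf 0x12dd0ee1)) (.node (.leaf 0x8028edb) (.leaf 0x0))))) (.node (.node (.node (.node (.leaf 0xf1acee1) (.leaf 0x136ecee1)) (.node (.leaf 0x1090) (.leaf 0xd6b4edb))) (.node (.node (.leaf 0xf6e) (.leaf 0x8844edb)) (.node (.leaf 0xb448ed9) (.leaf 0x0)))) (.node (.node (.node (.leaf 0x8710ee1) (.leaf 0x8020ed9)) (.node (.leaf 0x112acee1) (.leaf 0x1054))) (.node (.node (.leaf 0xe8b8ed9) (.leaf 0x7780ed9)) (.node (.leaf 0xb23cee1)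 (.leaf 0x0))))))))))

/-- packed table -/
noncomputable def cov7_rrr : BTree := (.node (.node (.node (.node (.node (.node (.node (.node (.node (.leaf 0x9ddced9) (.leaf 0x9c54ee1)) (.node (.leaf 0x94f0ed9) (.leaf 0x10be0edb))) (.node (.node (.leaf 0x8fd8ed9) (.leaf 0x90f4ee1)) (.node (.leaf 0xac00ed9) (.leaf 0x16394ee1)))) (.node (.node (.node (.leaf 0xd6c8ed9) (.leaf 0xf6ccee1)) (.node (.leaf 0x11308ee1) (.leaf 0x5d34edb))) (.node (.node (.leaf 0x9050edb) (.leaf 0xda38edb)) (.node (.leaf 0xb520edb) (.leaf 0x0))))) (.node (.node (.node (.node (.leaf 0x47a4edb) (.leaf 0x16210ee1)) (.node (.leaf 0x4a48ed9) (.leaf 0x6540ed9))) (.node (.node (.leaf 0x50b4ed9) (.leaf 0xa658ed9)) (.node (.leaf 0xa444ee1) (.leaf 0x10b14edb)))) (.node (.node (.node (.leaf 0xe2e4edb) (.leaf 0xc864ed9)) (.node (.leaf 0x10c54edb) (.leaf 0x8bccedb))) (.node (.node (.leaf 0xe00cee1) (.leaf 0x120f0ee1))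 (.node (.leaf 0xe09ced9) (.leaf 0x0)))))) (.node (.node (.node (.node (.node (.leaf 0x946ced9) (.leaf 0xde6cee1)) (.node (.leaf 0x5d3cec1) (.leaf 0xf220ee1))) (.node (.node (.leaf 0xad90ed9) (.leaf 0xb520ed9)) (.node (.leaf 0x12daced9) (.leaf 0xe030edb)))) (.node (.node (.node (.leaf 0xe0c8ed9) (.leaf 0x10f18ee1)) (.node (.leaf 0x11fb4ed9) (.leaf 0x11fd8ee1))) (.node (.node (.leaf 0x91b0ed9) (.leaf 0x11954ed9)) (.node (.leaf 0x11608edb) (.leaf 0x0))))) (.node (.node (.node (.node (.leaf 0x9cbcee1) (.leaf 0xd428edb)) (.node (.leaf 0xf4a4ed9) (.leaf 0x11ab8ee1))) (.node (.node (.leaf 0x13a24ed9) (.leaf 0x91e8ee1)) (.node (.leaf 0xe5e4ee1) (.leaf 0xca4cee1)))) (.node (.node (.node (.leaf 0x11974ed9) (.leaf 0xf32)) (.node (.leaf 0x8bd4edb) (.leaf 0x8ef0ed9))) (.node (.node (.leaf 0x7858edb) (.leaf 0xb734edb)) (.node (.leaf 0xb1d8ed9) (.leaf 0x0))))))) (.node (.node (.node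 (.node (.node (.node (.leaf 0x4264ee1) (.leaf 0x8eccee1)) (.node (.leaf 0xa448edb) (.leaf 0x80f8edb))) (.node (.node (.leaf 0xaf2ced9) (.leaf 0xa654ed9)) (.node (.leaf 0xe03ced9) (.leaf 0x10c28edb)))) (.node (.node (.node (.leaf 0xfa94ee1) (.leaf 0x105e)) (.node (.leaf 0xdd68ee1) (.leaf 0x11ca8ee1))) (.node (.node (.leaf 0x12cf4ee1) (.leaf 0xd090ee1)) (.node (.leaf 0xa568ee1) (.leaf 0x0))))) (.node (.node (.node (.node (.leaf 0xf2c) (.leaf 0x1701cee1)) (.node (.leaf 0x866ced9) (.leaf 0xd538ed9))) (.node (.node (.leaf 0x8718edb) (.leaf 0x13a5cee1)) (.node (.leaf 0xe354ee1) (.leaf 0x9d70ed9)))) (.node (.node (.node (.leaf 0x70d4ec1) (.leaf 0xd748ed9)) (.node (.leaf 0xe204ed9) (.leaf 0x12698ee1))) (.node (.node (.leaf 0x4e34ec1) (.leaf 0x10518ed9)) (.node (.leaf 0xc7e4ed9) (.leaf 0x0)))))) (.node (.node (.node (.node (.node (.leaf 0xaeecedb) (.leaf 0xc83ced9)) (.node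 (.leaf 0xe7ecee1) (.leaf 0x446cec1))) (.node (.node (.leaf 0xd794ed9) (.leaf 0xb414edb)) (.node (.leaf 0xe1d4ee1) (.leaf 0x11590ee1)))) (.node (.node (.node (.leaf 0x179b4ee1) (.leaf 0xc91cee1)) (.node (.leaf 0x1097cedb) (.leaf 0xd5e0ed9))) (.node (.node (.leaf 0x6ac8ee1) (.leaf 0x10fdcee1)) (.node (.leaf 0x9674ed9) (.leaf 0x0))))) (.node (.node (.node (.node (.leaf 0x13b30ee1) (.leaf 0xa9aced9)) (.node (.leaf 0xd358ee1) (.leaf 0xdc20ee1))) (.node (.node (.leaf 0xf02ced9) (.leaf 0x8310edb)) (.node (.leaf 0xd4b4edb) (.leaf 0x0)))) (.node (.node (.node (.leaf 0x8654ed9) (.leaf 0x67b8ec1)) (.node (.leaf 0xd478ee1) (.leaf 0xd918ee1))) (.node (.node (.leaf 0x12c50ee1) (.leaf 0x14b24ee1)) (.node (.leaf 0xee40ee1) (.leaf 0x0)))))))) (.node (.node (.node (.node (.node (.node (.node (.leaf 0xc04cee1) (.leaf 0xecb0ed9)) (.node (.leaf 0x6368ec1) (.leaf 0x8bc4edb))) (.node (.node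 (.leaf 0x40dcee1) (.leaf 0x7858ed9)) (.node (.leaf 0x4290edb) (.leaf 0x117b4edb)))) (.node (.node (.node (.leaf 0xf8c) (.leaf 0xd134ee1)) (.node (.leaf 0xd700ee1) (.leaf 0xc3b0ed9))) (.node (.node (.leaf 0xe52cee1) (.leaf 0xcfb4ee1)) (.node (.leaf 0xa514edb) (.leaf 0x0))))) (.node (.node (.node (.node (.leaf 0xfa4) (.leaf 0x50f0edb)) (.node (.leaf 0x5b48edb) (.leaf 0x6368edb))) (.node (.node (.leaf 0x7284ed9) (.leaf 0x11268edb)) (.node (.leaf 0xa660ed9) (.leaf 0xdd98edb)))) (.node (.node (.node (.leaf 0x50d8ed9) (.leaf 0x4464ed9)) (.node (.leaf 0x9238ed9) (.leaf 0xa6c4ee1))) (.node (.node (.leaf 0xe96cee1) (.leaf 0x1005ced9)) (.node (.leaf 0xe270ee1) (.leaf 0x0)))))) (.node (.node (.node (.node (.node (.leaf 0xe0d4ed9) (.leaf 0x12c5cedb)) (.node (.leaf 0xfa2) (.leaf 0x13080ee1))) (.node (.node (.leaf 0x6c38ee1) (.leaf 0x16e84ee1)) (.node (.leaf 0xcb68ed9) (.leaf 0xe020edb))))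 (.node (.node (.node (.leaf 0x6a18ec1) (.leaf 0x90e4ee1)) (.node (.leaf 0x104ccee1) (.leaf 0xdfc8ee1))) (.node (.node (.leaf 0x6400ee1) (.leaf 0x7780ec1)) (.node (.leaf 0x1054ced9) (.leaf 0x0))))) (.node (.node (.node (.node (.leaf 0x16aacee1) (.leaf 0x13818ed9)) (.node (.leaf 0x9ddcedb) (.leaf 0x9c38ee1))) (.node (.node (.leaf 0xf34ced9) (.leaf 0xcb90ee1)) (.node (.leaf 0xcfb8ee1) (.leaf 0x0)))) (.node (.node (.node (.leaf 0xdd74ed9) (.leaf 0x4e00ee1)) (.node (.leaf 0x9250ee1) (.leaf 0x5130edb))) (.node (.node (.leaf 0x12f24ee1) (.leaf 0x10ac8ee1)) (.node (.leaf 0xc7d0ed9) (.leaf 0x0))))))) (.node (.node (.node (.node (.node (.node (.leaf 0xebe) (.leaf 0x10f3cee1)) (.node (.leaf 0x58f4edb) (.leaf 0x6a14ec1))) (.node (.node (.leaf 0xdb6cee1) (.leaf 0x895cedb)) (.node (.leaf 0xdfa4ee1) (.leaf 0x80d4edb)))) (.node (.node (.node (.leaf 0x5d24ec1) (.leaf 0xe040edb)) (.node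 (.leaf 0x61fced9) (.leaf 0x6368ee1))) (.node (.node (.leaf 0xd1dced9) (.leaf 0x10c10ee1)) (.node (.leaf 0xb56ced9) (.leaf 0x0))))) (.node (.node (.node (.node (.leaf 0x42e0ec1) (.leaf 0xf168edb)) (.node (.leaf 0x11e14edb) (.leaf 0x11a80ee1))) (.node (.node (.leaf 0xab64ee1) (.leaf 0xb9f4ee1)) (.node (.leaf 0x14d54ee1) (.leaf 0x12b68ee1)))) (.node (.node (.node (.leaf 0xc6ecee1) (.leaf 0x50acee1)) (.node (.leaf 0x11814ee1) (.leaf 0x158f8ee1))) (.node (.node (.leaf 0xf220ed9) (.leaf 0xf798ee1)) (.node (.leaf 0x1b48) (.leaf 0x0)))))) (.node (.node (.node (.node (.node (.leaf 0x105f4ee1) (.leaf 0x12ee0edb)) (.node (.leaf 0xafbced9) (.leaf 0x4440ec1))) (.node (.node (.leaf 0x8028ed9) (.leaf 0x6a00ec1)) (.node (.leaf 0xd904ed9) (.leaf 0x444cedb)))) (.node (.node (.node (.leaf 0x165c) (.leaf 0xa528edb)) (.node (.leaf 0xec28ed9) (.leaf 0xcf70edb))) (.node (.node (.leaf 0x1633cee1)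 (.leaf 0x12060ee1)) (.node (.leaf 0x7264ec1) (.leaf 0x0))))) (.node (.node (.node (.node (.leaf 0x1700cee1) (.leaf 0xb6f8ee1)) (.node (.leaf 0x53e0ee1) (.leaf 0xcbc8edb))) (.node (.node (.leaf 0xf43ced9) (.leaf 0x94c0ed9)) (.node (.leaf 0x8a44ee1) (.leaf 0x0)))) (.node (.node (.node (.leaf 0x1473cee1) (.leaf 0x800ced9)) (.node (.leaf 0x15290ee1) (.leaf 0x15548ee1))) (.node (.node (.leaf 0xe8aced9) (.leaf 0xcaacee1)) (.node (.leaf 0x4be8ed9) (.leaf 0x0))))))))) (.node (.node (.node (.node (.node (.node (.node (.node (.leaf 0x1006cee1) (.leaf 0x91bcee1)) (.node (.leaf 0x12c1cee1) (.leaf 0x5ad8edb))) (.node (.node (.leaf 0x80ecee1) (.leaf 0xf4d4edb)) (.node (.leaf 0x9488ed9) (.leaf 0xe028edb)))) (.node (.node (.node (.leaf 0xf40) (.leaf 0x101a)) (.node (.leaf 0x970cee1) (.leaf 0xa2a8ee1))) (.node (.node (.leaf 0xecc0ee1) (.leaf 0xcd8ced9)) (.node (.leaf 0x91b0edb) (.leaf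 0x0))))) (.node (.node (.node (.node (.leaf 0x10684ee1) (.leaf 0x161dcee1)) (.node (.leaf 0xdc9ced9) (.leaf 0x66c8edb))) (.node (.node (.leaf 0x128ccee1) (.leaf 0x10ba0ee1)) (.node (.leaf 0xcbf4edb) (.leaf 0xac18ee1)))) (.node (.node (.node (.leaf 0xc7ecedb) (.leaf 0xe498ed9)) (.node (.leaf 0x1050cee1) (.leaf 0xa358ee1))) (.node (.node (.leaf 0xe99cee1) (.leaf 0xdda0ed9)) (.node (.leaf 0x10b04ee1) (.leaf 0x0)))))) (.node (.node (.node (.node (.node (.leaf 0x91c4ed9) (.leaf 0x12fdcedb)) (.node (.leaf 0xf760ed9) (.leaf 0x8bd0edb))) (.node (.node (.leaf 0x8e94edb) (.leaf 0xd768ed9)) (.node (.leaf 0x4b44ed9) (.leaf 0xd558ee1)))) (.node (.node (.node (.leaf 0xf90cee1) (.leaf 0x1320cedb)) (.node (.leaf 0xa1c4ed9) (.leaf 0x4448ec1))) (.node (.node (.leaf 0x11608ed9) (.leaf 0x10cdcee1)) (.node (.leaf 0x1b2c) (.leaf 0x0))))) (.node (.node (.node (.node (.leaf 0xd8d4edb) (.leaf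 0x11270edb)) (.node (.leaf 0x4e70ed9) (.leaf 0x15950ee1))) (.node (.node (.leaf 0xe01ced9) (.leaf 0x17ab8ee1)) (.node (.leaf 0x11268ed9) (.leaf 0xf4d0edb)))) (.node (.node (.node (.leaf 0x1058cedb) (.leaf 0x4b44ee1)) (.node (.leaf 0xd26cee1) (.leaf 0x46b4edb))) (.node (.node (.leaf 0xc7d8edb) (.leaf 0x8664ed9)) (.node (.leaf 0x148ecee1) (.leaf 0x0))))))) (.node (.node (.node (.node (.node (.node (.leaf 0x103d8edb) (.leaf 0x1097ced9)) (.node (.leaf 0x47fcedb) (.leaf 0xc674ed9))) (.node (.node (.leaf 0xdc4cee1) (.leaf 0xd02cee1)) (.node (.leaf 0x16154ee1) (.leaf 0x118d0ee1)))) (.node (.node (.node (.leaf 0xf34cedb) (.leaf 0xb718ee1)) (.node (.leaf 0x4460ec1) (.leaf 0x119d8ee1))) (.node (.node (.leaf 0x12cf8ee1) (.leaf 0xb1dced9)) (.node (.leaf 0x61fcedb) (.leaf 0x0))))) (.node (.node (.node (.node (.leaf 0xdca0edb) (.leaf 0xf0e8edb)) (.node (.leaf 0x112d0ee1) (.leaf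 0x12884ed9))) (.node (.node (.leaf 0x95e8ed9) (.leaf 0x13a60ee1)) (.node (.leaf 0x90bcee1) (.leaf 0x9da4edb)))) (.node (.node (.node (.leaf 0x40f0ee1) (.leaf 0x10c5ced9)) (.node (.leaf 0x14df8ee1) (.leaf 0x11888ee1))) (.node (.node (.leaf 0xe39cee1) (.leaf 0x12330ee1)) (.node (.leaf 0x16150ee1) (.leaf 0x0)))))) (.node (.node (.node (.node (.node (.leaf 0xc614ee1) (.leaf 0x12bb0ed9)) (.node (.leaf 0x4464ec1) (.leaf 0x122dcee1))) (.node (.node (.leaf 0xedb0edb) (.leaf 0x8e08ed9)) (.node (.leaf 0xc3a0edb) (.leaf 0x106c)))) (.node (.node (.node (.leaf 0xca30ee1) (.leaf 0xea98ed9)) (.node (.leaf 0xe208ed9) (.leaf 0x11fc4ee1))) (.node (.node (.leaf 0xebb8ee1) (.leaf 0xb3d0edb)) (.node (.leaf 0x1356) (.leaf 0x0))))) (.node (.node (.node (.node (.leaf 0xeb9cee1) (.leaf 0x10410ee1)) (.node (.leaf 0xdca0ed9) (.leaf 0x6ac8edb))) (.node (.node (.leaf 0xdc04ee1) (.leaf 0x94bced9))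 (.node (.leaf 0xe588ee1) (.leaf 0x0)))) (.node (.node (.node (.leaf 0x870cee1) (.leaf 0x5dd0edb)) (.node (.leaf 0x15224ee1) (.leaf 0x55a0ee1))) (.node (.node (.leaf 0x4014ec1) (.leaf 0x443cec1)) (.node (.leaf 0xb21cee1) (.leaf 0x0)))))))) (.node (.node (.node (.node (.node (.node (.node (.leaf 0x10274ee1) (.leaf 0xdf6cedb)) (.node (.leaf 0xa9acee1) (.leaf 0xcbb4edb))) (.node (.node (.leaf 0xc194ee1) (.leaf 0x91d8ee1)) (.node (.leaf 0x65a8ee1) (.leaf 0xe038edb)))) (.node (.node (.node (.leaf 0xe80cee1) (.leaf 0xc7f0edb)) (.node (.leaf 0x4564ed9) (.leaf 0xdfbced9))) (.node (.node (.leaf 0x118c4ee1) (.leaf 0x9008ee1)) (.node (.leaf 0xa658ee1) (.leaf 0x0))))) (.node (.node (.node (.node (.leaf 0xa2c4ed9) (.leaf 0xd1d4edb)) (.node (.leaf 0xfb08ed9) (.leaf 0xdfc0ee1))) (.node (.node (.leaf 0xba48ed9) (.leaf 0x1090cee1)) (.node (.leaf 0x11ed4ee1) (.leaf 0x809ced9)))) (.node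 (.node (.node (.leaf 0xaf04ed9) (.leaf 0x1108cee1)) (.node (.leaf 0xd680ee1) (.leaf 0x95f0ee1))) (.node (.node (.leaf 0xe4ecee1) (.leaf 0xe360ee1)) (.node (.leaf 0xe088ed9) (.leaf 0x0)))))) (.node (.node (.node (.node (.node (.leaf 0x10874ee1) (.leaf 0x58f4ee1)) (.node (.leaf 0x118acee1) (.leaf 0x122e0ee1))) (.node (.node (.leaf 0xf02cee1) (.leaf 0xf674edb)) (.node (.leaf 0xc934ee1) (.leaf 0xd578ee1)))) (.node (.node (.node (.leaf 0x17b34ee1) (.leaf 0x85e8edb)) (.node (.leaf 0xf94) (.leaf 0x12738ed9))) (.node (.node (.leaf 0xa5acee1) (.leaf 0xc660ed9)) (.node (.leaf 0x557cec1) (.leaf 0x0))))) (.node (.node (.node (.node (.leaf 0xb21ced9) (.leaf 0x11984edb)) (.node (.leaf 0x4e34ee1) (.leaf 0x865ced9))) (.node (.node (.leaf 0x16d1cee1) (.leaf 0xf760edb)) (.node (.leaf 0x4e28ec1) (.leaf 0x0)))) (.node (.node (.node (.leaf 0x6288edb) (.leaf 0x104f4ee1)) (.node (.leaf 0x4258edb)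 (.leaf 0x118a8ee1))) (.node (.node (.leaf 0x11f68ed9) (.leaf 0x14b40ee1)) (.node (.leaf 0x15d5cee1) (.leaf 0x0))))))) (.node (.node (.node (.node (.node (.node (.leaf 0xc6acee1) (.leaf 0xd740ed9)) (.node (.leaf 0x6bf8ed9) (.leaf 0x8d68edb))) (.node (.node (.leaf 0xac00ee1) (.leaf 0xeaa8ed9)) (.node (.leaf 0x1326ced9) (.leaf 0xa744ed9)))) (.node (.node (.node (.leaf 0xf70cedb) (.leaf 0xd170edb)) (.node (.leaf 0x14f00ee1) (.leaf 0x15fd4ee1))) (.node (.node (.leaf 0x10c34ed9) (.leaf 0xf684edb)) (.node (.leaf 0xbad4ed9) (.leaf 0x0))))) (.node (.node (.node (.node (.leaf 0x10ac) (.leaf 0x16e9cee1)) (.node (.leaf 0x137a4edb) (.leaf 0x8c20ed9))) (.node (.node (.leaf 0x12f68ee1) (.leaf 0x8fe0ee1)) (.node (.leaf 0x123a4ee1) (.leaf 0x8a2cee1)))) (.node (.node (.node (.leaf 0x86ccee1) (.leaf 0x10edcee1)) (.node (.leaf 0x7228edb) (.leaf 0xa958ed9))) (.node (.node (.leaf 0x115dcee1)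 (.leaf 0x4470ec1)) (.node (.leaf 0x12fd0edb) (.leaf 0x0)))))) (.node (.node (.node (.node (.node (.leaf 0xc814ee1) (.leaf 0xfcc)) (.node (.leaf 0x108c) (.leaf 0x8d5ced9))) (.node (.node (.leaf 0xc244ed9) (.leaf 0x11198ee1)) (.node (.leaf 0xf680ed9) (.leaf 0xd990ed9)))) (.node (.node (.node (.leaf 0x101b0ee1) (.leaf 0xc344edb)) (.node (.leaf 0x4288edb) (.leaf 0xcadced9))) (.node (.node (.leaf 0xd1d4ed9) (.leaf 0xdfd0ee1)) (.node (.leaf 0x9364ed9) (.leaf 0x0))))) (.node (.node (.node (.node (.leaf 0x5b28ec1) (.leaf 0xb6b0edb)) (.node (.leaf 0x152f0ee1) (.leaf 0x56b8edb))) (.node (.node (.leaf 0xecd8ee1) (.leaf 0x6f78ed9)) (.node (.leaf 0x9cc4edb) (.leaf 0x0)))) (.node (.node (.node (.leaf 0xf80) (.leaf 0xd00cee1)) (.node (.leaf 0x112a0ee1) (.leaf 0xa4e0ee1))) (.node (.node (.leaf 0xaec4edb) (.leaf 0x16000ee1)) (.node (.leaf 0xb03cee1) (.leaf 0x0))))))))))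

/-- packed table -/
noncomputable def cov7 : BTree := (.node (.node (.node cov7_lll cov7_llr) (.node cov7_lrl cov7_lrr)) (.node (.node cov7_rll cov7_rlr) (.node cov7_rrl cov7_rrr)))

theorem cov7_ok : okCover 7 cov7 = true := by decide +kernel

/-- straight-line program -/
def slp7 : List (Nat × Nat × Nat) :=
  [(0xbc254055167894c0b531394c41b973, 1, 1),
   (0x3962f12206bac046cc76a56496054e, 1, 2),
   (0x7c4a751a08b866470076a564c4ac4d, 3, 1),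
   (0xa56d70c2327894c03528398a323a6b, 4, 1),
   (0x3990f746c5b866450070a4aa962da2, 4, 1),
   (0xa4a175d9157b9ac9a931394c320801, 6, 0),
   (0x25aa39c8b04a8475b9e662237a3420, 6, 8)]

/-- levels -/
def levels7 : List (Nat × List Nat) :=
  [(0, [10, 1, 3, 4, 5, 6, 7, 8]),
   (5, [10, 0, 2, 9])]

/-- stabilising facts -/
def gens7 : List Nat := [944, 950, 952]

theorem chain7_ok : okChain 7 gens7 slp7 levels7 = true := by decide +kernel

theorem chain7_size : chainSize levels7 = 32 := by decide +kernel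

end CfsgLib.Spor.J4.Index
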