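import Cfsg.Agent.Lib.Spor.J4.Index.Check

/-!
Coverage and stabiliser of node 8 (generated).
-/

set_option autoImplicit false
set_option linter.all false

namespace CfsgLib.Spor.J4.Index

open CfsgLib.PresCert

/-- packed table -/
noncomputable def cov8_lll : BTree := (.node (.node (.node (.node (.node (.node (.node (.node (.node (.leaf 0x80310dd) (.leaf 0x127cd0b9)) (.node (.leaf 0x77cd0dd) (.leaf 0x11f350dd))) (.node (.node (.leaf 0x154450f1) (.leaf 0x160150b9)) (.node (.leaf 0xf8a90f1) (.leaf 0xb6410dd)))) (.node (.node (.node (.leaf 0x134a90dd) (.leaf 0x14e750b9)) (.node (.leaf 0x11b450b9) (.leaf 0xf3fd0dd))) (.node (.node (.leaf 0x178bd0dd) (.leaf 0x5a690f1)) (.node (.leaf 0xd3950f1) (.leaf 0x0))))) (.node (.node (.node (.node (.leaf 0x157e10f1) (.leaf 0xe3a10f1)) (.node (.leaf 0x12ea90b9) (.leaf 0x111010b9))) (.node (.node (.leaf 0x114910f1) (.leaf 0xf5dd0dd)) (.node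 (.leaf 0xdcf50dd) (.leaf 0xf4110b9)))) (.node (.node (.node (.leaf 0x185fd0f1) (.leaf 0x110910dd)) (.node (.leaf 0x12b390dd) (.leaf 0xdd6d0dd))) (.node (.node (.leaf 0xe1c50b9) (.leaf 0xedfd0dd)) (.node (.leaf 0x1bac) (.leaf 0x0)))))) (.node (.node (.node (.node (.node (.leaf 0xe1bd0f1) (.leaf 0xd7950bb)) (.node (.leaf 0xd5350b9) (.leaf 0xcf4d0f1))) (.node (.node (.leaf 0x163890b9) (.leaf 0xb7b90f1)) (.node (.leaf 0x1772d0f1) (.leaf 0xcb010b9)))) (.node (.node (.node (.leaf 0x115a50f1) (.leaf 0x124dd0bb)) (.node (.leaf 0x57f90bb) (.leaf 0x1062d0b9))) (.node (.node (.leaf 0x137710dd) (.leaf 0x1134d0bb)) (.node (.leaf 0x8a9d0f1) (.leaf 0x0))))) (.node (.node (.node (.node (.leaf 0x138910b9) (.leaf 0xa7210bb)) (.node (.leaf 0xc7310dd) (.leaf 0xd5050dd))) (.node (.node (.leaf 0x9f210f1) (.leaf 0x173350bb)) (.node (.leaf 0x15ff10f1) (.leaf 0x10ced0dd)))) (.node (.node (.node (.leaf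 0x112d50dd) (.leaf 0xdb8d0dd)) (.node (.leaf 0x130c90b9) (.leaf 0xf53d0dd))) (.node (.node (.leaf 0x57050f1) (.leaf 0x992d0bb)) (.node (.leaf 0x10b2d0f1) (.leaf 0x0))))))) (.node (.node (.node (.node (.node (.node (.leaf 0x156e50dd) (.leaf 0x108b90b9)) (.node (.leaf 0xfa250b9) (.leaf 0x14d4))) (.node (.node (.leaf 0xcc090f1) (.leaf 0xcf790bb)) (.node (.leaf 0x10de90f1) (.leaf 0x136010bb)))) (.node (.node (.node (.leaf 0xf1f50f1) (.leaf 0x9f8d0dd)) (.node (.leaf 0xc8a10dd) (.leaf 0x1036d0dd))) (.node (.node (.leaf 0x1322d0dd) (.leaf 0x92e10bb)) (.node (.leaf 0x124210dd) (.leaf 0x0))))) (.node (.node (.node (.node (.leaf 0x10e150b9) (.leaf 0x10f690f1)) (.node (.leaf 0x1127d0dd) (.leaf 0x129910dd))) (.node (.node (.leaf 0x1b6fd0f1) (.leaf 0xc2cd0b9)) (.node (.leaf 0xf7850f1) (.leaf 0x13a7d0b9)))) (.node (.node (.node (.leaf 0x11ba90f1) (.leaf 0x1a8d90f1)) (.node (.leaf 0x109890b9)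 (.leaf 0xb1210b9))) (.node (.node (.leaf 0xc3250f1) (.leaf 0xecdd0b9)) (.node (.leaf 0xb7b90dd) (.leaf 0x0)))))) (.node (.node (.node (.node (.node (.leaf 0x174a50f1) (.leaf 0x40c10f1)) (.node (.leaf 0xaa910dd) (.leaf 0x81350f1))) (.node (.node (.leaf 0x1186d0bb) (.leaf 0x129910f1)) (.node (.leaf 0x1760d0dd) (.leaf 0xd3090f1)))) (.node (.node (.node (.leaf 0x157310f1) (.leaf 0x129e50b9)) (.node (.leaf 0x11ea10f1) (.leaf 0x170350b9))) (.node (.node (.leaf 0x9bf10b9) (.leaf 0xf64d0b9)) (.node (.leaf 0x13af90dd) (.leaf 0x0))))) (.node (.node (.node (.node (.leaf 0xe8f90f1) (.leaf 0x148f90bb)) (.node (.leaf 0xad0d0b9) (.leaf 0x10a0d0dd))) (.node (.node (.leaf 0xc6790b9) (.leaf 0x15e410dd)) (.node (.leaf 0x139950f1) (.leaf 0x0)))) (.node (.node (.node (.leaf 0xe1710b9) (.leaf 0x109850b9)) (.node (.leaf 0x119510f1) (.leaf 0xf3f10bb))) (.node (.node (.leaf 0x8fb90bb) (.leaf 0x76510bb))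 (.node (.leaf 0x178bd0b9) (.leaf 0x0)))))))) (.node (.node (.node (.node (.node (.node (.node (.leaf 0x40bd0b9) (.leaf 0x156390f1)) (.node (.leaf 0xb6b90bb) (.leaf 0x157710b9))) (.node (.node (.leaf 0x108650dd) (.leaf 0x119d50f1)) (.node (.leaf 0xc2610dd) (.leaf 0x1724d0f1)))) (.node (.node (.node (.leaf 0xae790f1) (.leaf 0x73050bb)) (.node (.leaf 0xab250f1) (.leaf 0x145890f1))) (.node (.node (.leaf 0x647d0b9) (.leaf 0x10e2d0f1)) (.node (.leaf 0xeed90dd) (.leaf 0x0))))) (.node (.node (.node (.node (.leaf 0x124210f1) (.leaf 0xc78d0b9)) (.node (.leaf 0x131290f1) (.leaf 0xe63d0f1))) (.node (.node (.leaf 0x94dd0f1) (.leaf 0x105ad0f1)) (.node (.leaf 0xdbc90bb) (.leaf 0x1138)))) (.node (.node (.node (.leaf 0x146190f1) (.leaf 0xd1810bb)) (.node (.leaf 0xd0ad0b9) (.leaf 0x5e010b9))) (.node (.node (.leaf 0x121e10b9) (.leaf 0x1a9350f1)) (.node (.leaf 0x127010b9) (.leaf 0x0)))))) (.node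 (.node (.node (.node (.node (.leaf 0xafa90b9) (.leaf 0x62550bb)) (.node (.leaf 0x105ad0bb) (.leaf 0x15df10dd))) (.node (.node (.leaf 0x150bd0dd) (.leaf 0x106510b9)) (.node (.leaf 0x12bfd0dd) (.leaf 0x14b190dd)))) (.node (.node (.node (.leaf 0xb3610f1) (.leaf 0x8d050b9)) (.node (.leaf 0xf6c90bb) (.leaf 0x8abd0f1))) (.node (.node (.leaf 0x166c90f1) (.leaf 0x12f6d0b9)) (.node (.leaf 0xd1590dd) (.leaf 0x0))))) (.node (.node (.node (.node (.leaf 0xe9250f1) (.leaf 0x12ccd0b9)) (.node (.leaf 0x113290dd) (.leaf 0x14f450f1))) (.node (.node (.leaf 0x11f350f1) (.leaf 0x15ff50dd)) (.node (.leaf 0x10f510f1) (.leaf 0xfa3d0f1)))) (.node (.node (.node (.leaf 0xde090f1) (.leaf 0xf0690dd)) (.node (.leaf 0xc15d0dd) (.leaf 0x170e50f1))) (.node (.node (.leaf 0x120c50dd) (.leaf 0x12a2d0b9)) (.node (.leaf 0x8b750f1) (.leaf 0x0))))))) (.node (.node (.node (.node (.node (.node (.leaf 0x1108) (.leaf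 0x134f10f1)) (.node (.leaf 0x113d50b9) (.leaf 0x109c90b9))) (.node (.node (.leaf 0x16b050dd) (.leaf 0x150cd0bb)) (.node (.leaf 0xec210dd) (.leaf 0x12aed0f1)))) (.node (.node (.node (.leaf 0xd5350f1) (.leaf 0x110d90f1)) (.node (.leaf 0x9cc10b9) (.leaf 0x135710f1))) (.node (.node (.leaf 0x173f50f1) (.leaf 0x107ad0f1)) (.node (.leaf 0x549d0b9) (.leaf 0x0))))) (.node (.node (.node (.node (.leaf 0x72ed0b9) (.leaf 0x12aed0b9)) (.node (.leaf 0x106e90dd) (.leaf 0x129a10dd))) (.node (.node (.leaf 0xfb150b9) (.leaf 0xd17d0f1)) (.node (.leaf 0xd3b50b9) (.leaf 0xf5d90b9)))) (.node (.node (.node (.leaf 0xe5410f1) (.leaf 0xdf910dd)) (.node (.leaf 0xc0690dd) (.leaf 0x1323d0dd))) (.node (.node (.leaf 0x160150f1) (.leaf 0x12a7d0f1)) (.node (.leaf 0xe3510b9) (.leaf 0x0)))))) (.node (.node (.node (.node (.node (.leaf 0xdd250bb) (.leaf 0xf2c50dd)) (.node (.leaf 0xc4510f1) (.leaf 0x9b790f1))) (.node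 (.node (.leaf 0x14ad50f1) (.leaf 0xd2890f1)) (.node (.leaf 0xb9690f1) (.leaf 0x8bf10dd)))) (.node (.node (.node (.leaf 0xea110f1) (.leaf 0x11ebd0bb)) (.node (.leaf 0x1145d0b9) (.leaf 0x175b10f1))) (.node (.node (.leaf 0xa18d0b9) (.leaf 0x105690dd)) (.node (.leaf 0x10fc50dd) (.leaf 0x0))))) (.node (.node (.node (.node (.leaf 0x16c8d0dd) (.leaf 0xa2590f1)) (.node (.leaf 0x11c250f1) (.leaf 0x107350b9))) (.node (.node (.leaf 0x12e0d0dd) (.leaf 0x11ea90b9)) (.node (.leaf 0x803d0b9) (.leaf 0x0)))) (.node (.node (.node (.leaf 0x109790bb) (.leaf 0xd6b90f1)) (.node (.leaf 0x119850f1) (.leaf 0x105510f1))) (.node (.node (.leaf 0x10f550b9) (.leaf 0x16a290b9)) (.node (.leaf 0xe6610dd) (.leaf 0x0))))))))) (.node (.node (.node (.node (.node (.node (.node (.node (.leaf 0x400d0f1) (.leaf 0x127b10b9)) (.node (.leaf 0x82ed0f1) (.leaf 0x1252d0b9))) (.node (.node (.leaf 0xb0110f1) (.leaf 0x123690f1))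 (.node (.leaf 0x16bd50f1) (.leaf 0x87110b9)))) (.node (.node (.node (.leaf 0x112510f1) (.leaf 0xd6c50b9)) (.node (.leaf 0x125dd0b9) (.leaf 0x1301d0dd))) (.node (.node (.leaf 0x107510b9) (.leaf 0x839d0b9)) (.node (.leaf 0x92a50bb) (.leaf 0x0))))) (.node (.node (.node (.node (.leaf 0xf28d0bb) (.leaf 0xe34d0b9)) (.node (.leaf 0x14e5d0f1) (.leaf 0x12d690f1))) (.node (.node (.leaf 0xd5150f1) (.leaf 0xf5610dd)) (.node (.leaf 0xe1c90bb) (.leaf 0xa8f10bb)))) (.node (.node (.node (.leaf 0xca510b9) (.leaf 0x151690bb)) (.node (.leaf 0x4b710bb) (.leaf 0x132990b9))) (.node (.node (.leaf 0xc3110b9) (.leaf 0xd1b90bb)) (.node (.leaf 0x135fd0f1) (.leaf 0x0)))))) (.node (.node (.node (.node (.node (.leaf 0xe1b10f1) (.leaf 0xd9590b9)) (.node (.leaf 0xec550b9) (.leaf 0x76510dd))) (.node (.node (.leaf 0xdefd0dd) (.leaf 0xc5d50f1)) (.node (.leaf 0x1770d0f1) (.leaf 0x129e50dd)))) (.node (.node (.node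 (.leaf 0x1106) (.leaf 0x11e290bb)) (.node (.leaf 0xeaa50dd) (.leaf 0xc5d90bb))) (.node (.node (.leaf 0x166bd0f1) (.leaf 0x104650b9)) (.node (.leaf 0x132110f1) (.leaf 0x0))))) (.node (.node (.node (.node (.leaf 0x164450dd) (.leaf 0xc9150b9)) (.node (.leaf 0x12c990b9) (.leaf 0x149490dd))) (.node (.node (.leaf 0x15f150f1) (.leaf 0x114310f1)) (.node (.leaf 0x162c10f1) (.leaf 0xcc990bb)))) (.node (.node (.node (.leaf 0x112ed0dd) (.leaf 0x4bb50f1)) (.node (.leaf 0x1572d0dd) (.leaf 0xd9cd0dd))) (.node (.node (.leaf 0xe5d90dd) (.leaf 0x119650bb)) (.node (.leaf 0x5e010dd) (.leaf 0x0))))))) (.node (.node (.node (.node (.node (.node (.leaf 0x1011d0b9) (.leaf 0xde5d0bb)) (.node (.leaf 0xba450b9) (.leaf 0x16fad0f1))) (.node (.node (.leaf 0xb0510b9) (.leaf 0x1097d0b9)) (.node (.leaf 0x1a6a10f1) (.leaf 0xc6050b9)))) (.node (.node (.node (.leaf 0xf5390b9) (.leaf 0x110e50f1)) (.node (.leaf 0xe5650dd)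 (.leaf 0x179f10f1))) (.node (.node (.leaf 0x134d90f1) (.leaf 0x83c50dd)) (.node (.leaf 0xc0490b9) (.leaf 0x0))))) (.node (.node (.node (.node (.leaf 0x114c) (.leaf 0xdf890f1)) (.node (.leaf 0x129b10f1) (.leaf 0xe9d10dd))) (.node (.node (.leaf 0xf25d0f1) (.leaf 0xaad10dd)) (.node (.leaf 0xcded0b9) (.leaf 0xa6910f1)))) (.node (.node (.node (.leaf 0x608d0f1) (.leaf 0x15db50dd)) (.node (.leaf 0x80590dd) (.leaf 0xd9cd0f1))) (.node (.node (.leaf 0x160550f1) (.leaf 0x129310f1)) (.node (.leaf 0xe2910b9) (.leaf 0x0)))))) (.node (.node (.node (.node (.node (.leaf 0xd78d0dd) (.leaf 0xe6790dd)) (.node (.leaf 0x173a90b9) (.leaf 0x10f210f1))) (.node (.node (.leaf 0xd9dd0f1) (.leaf 0xc6fd0bb)) (.node (.leaf 0xaf4d0b9) (.leaf 0x8c410dd)))) (.node (.node (.node (.leaf 0xaefd0b9) (.leaf 0x140b10f1)) (.node (.leaf 0x101bd0f1) (.leaf 0x114910b9))) (.node (.node (.leaf 0x11a390dd) (.leaf 0xebed0b9))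 (.node (.leaf 0xc37d0bb) (.leaf 0x0))))) (.node (.node (.node (.node (.leaf 0xec750dd) (.leaf 0x8ef90dd)) (.node (.leaf 0x11c190f1) (.leaf 0x4eb50bb))) (.node (.node (.leaf 0x86590b9) (.leaf 0xcdd50b9)) (.node (.leaf 0xc2610b9) (.leaf 0x0)))) (.node (.node (.node (.leaf 0xc78d0dd) (.leaf 0x116a50f1)) (.node (.leaf 0x199550f1) (.leaf 0x647d0bb))) (.node (.node (.leaf 0xcf590b9) (.leaf 0xd5c50dd)) (.node (.leaf 0xa7550b9) (.leaf 0x0)))))))) (.node (.node (.node (.node (.node (.node (.node (.leaf 0x40c90b9) (.leaf 0xd06d0b9)) (.node (.leaf 0x77390bb) (.leaf 0x101a90f1))) (.node (.node (.leaf 0x129610f1) (.leaf 0x133e90dd)) (.node (.leaf 0xebed0dd) (.leaf 0x4b710dd)))) (.node (.node (.node (.leaf 0x156890f1) (.leaf 0xd7390b9)) (.node (.leaf 0x9bc50b9) (.leaf 0xb4690f1))) (.node (.node (.leaf 0x80cd0bb) (.leaf 0xdb890f1)) (.node (.leaf 0xf3ad0bb) (.leaf 0x0))))) (.node (.node (.node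 (.node (.leaf 0xb7ed0b9) (.leaf 0x122d90b9)) (.node (.leaf 0xc6250dd) (.leaf 0xb67d0b9))) (.node (.node (.leaf 0x44f50bb) (.leaf 0x9be90dd)) (.node (.leaf 0x94d90b9) (.leaf 0xdd790dd)))) (.node (.node (.node (.leaf 0x115250f1) (.leaf 0xa75d0bb)) (.node (.leaf 0xb0450f1) (.leaf 0x132410dd))) (.node (.node (.leaf 0xce9d0dd) (.leaf 0x115690f1)) (.node (.leaf 0x178b90b9) (.leaf 0x0)))))) (.node (.node (.node (.node (.node (.leaf 0xb1210f1) (.leaf 0x12c2d0f1)) (.node (.leaf 0x125dd0dd) (.leaf 0xb65d0dd))) (.node (.node (.leaf 0xa1810bb) (.leaf 0xc7f90b9)) (.node (.leaf 0x11f6d0dd) (.leaf 0x8c690dd)))) (.node (.node (.node (.leaf 0x12da50dd) (.leaf 0x129f90b9)) (.node (.leaf 0x908d0b9) (.leaf 0xba690f1))) (.node (.node (.leaf 0xdb7d0b9) (.leaf 0x44f50dd)) (.node (.leaf 0x647d0f1) (.leaf 0x0))))) (.node (.node (.node (.node (.leaf 0xce4d0f1) (.leaf 0xa7690bb)) (.node (.leaf 0x113890f1)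 (.leaf 0x46f90bb))) (.node (.node (.leaf 0x11f3d0f1) (.leaf 0x1ab710f1)) (.node (.leaf 0x109c90dd) (.leaf 0x0)))) (.node (.node (.node (.leaf 0x134e50b9) (.leaf 0xceb10f1)) (.node (.leaf 0xb0f10b9) (.leaf 0xc5290f1))) (.node (.node (.leaf 0x83bd0b9) (.leaf 0x41d10f1)) (.node (.leaf 0x12f910f1) (.leaf 0x0))))))) (.node (.node (.node (.node (.node (.node (.leaf 0x1102) (.leaf 0x111150b9)) (.node (.leaf 0x94d90f1) (.leaf 0x9dbd0dd))) (.node (.node (.leaf 0x9f2d0dd) (.leaf 0x1053d0f1)) (.node (.leaf 0x170210f1) (.leaf 0xde490dd)))) (.node (.node (.node (.leaf 0xf3ad0f1) (.leaf 0x124f10f1)) (.node (.leaf 0xb2f10dd) (.leaf 0x134e50dd))) (.node (.node (.leaf 0xf9590dd) (.leaf 0xc38d0b9)) (.node (.leaf 0xe5510dd) (.leaf 0x0))))) (.node (.node (.node (.node (.leaf 0x49f50bb) (.leaf 0x131790bb)) (.node (.leaf 0x46f90dd) (.leaf 0xee090b9))) (.node (.node (.leaf 0x75750dd) (.leaf 0xf9610f1))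 (.node (.leaf 0x15ad90f1) (.leaf 0xec4d0bb)))) (.node (.node (.node (.leaf 0x11dd50f1) (.leaf 0x168c50f1)) (.node (.leaf 0x163050b9) (.leaf 0xf5410dd))) (.node (.node (.leaf 0x143f90f1) (.leaf 0x117b10b9)) (.node (.leaf 0x134090f1) (.leaf 0x0)))))) (.node (.node (.node (.node (.node (.leaf 0x163dd0f1) (.leaf 0xe1f90f1)) (.node (.leaf 0x113e90b9) (.leaf 0x118d50f1))) (.node (.node (.leaf 0xe5690dd) (.leaf 0x91b50f1)) (.node (.leaf 0xa1850bb) (.leaf 0x14d090f1)))) (.node (.node (.node (.leaf 0x145f50f1) (.leaf 0x15aa90bb)) (.node (.leaf 0xc4310bb) (.leaf 0xde5d0dd))) (.node (.node (.leaf 0xe16d0b9) (.leaf 0x10f390f1)) (.node (.leaf 0x112d90b9) (.leaf 0x0))))) (.node (.node (.node (.node (.leaf 0x118550bb) (.leaf 0x156e50b9)) (.node (.leaf 0x118590bb) (.leaf 0x12ffd0dd))) (.node (.node (.leaf 0x179d10f1) (.leaf 0x11db90b9)) (.node (.leaf 0x54cd0b9) (.leaf 0x0)))) (.node (.node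 (.node (.leaf 0xe6790f1) (.leaf 0x11ca10dd)) (.node (.leaf 0x109710bb) (.leaf 0x137d10f1))) (.node (.node (.leaf 0xc2c50f1) (.leaf 0x1856)) (.node (.leaf 0x136e90f1) (.leaf 0x0))))))))))

/-- packed table -/
noncomputable def cov8_llr : BTree := (.node (.node (.node (.node (.node (.node (.node (.node (.node (.leaf 0x400d0bb) (.leaf 0x127e50b9)) (.node (.leaf 0x83050f1) (.leaf 0x48590bb))) (.node (.node (.leaf 0x134cd0bb) (.leaf 0xd6a10bb)) (.node (.leaf 0xb6a50f1) (.leaf 0xdb7d0bb)))) (.node (.node (.node (.leaf 0x155c10f1) (.leaf 0xd6bd0b9)) (.node (.leaf 0x1098d0b9) (.leaf 0x8ce50dd))) (.node (.node (.leaf 0x9fa50dd) (.leaf 0x11b2d0dd)) (.node (.leaf 0x8e350f1) (.leaf 0x0))))) (.node (.node (.node (.node (.leaf 0x163f10f1) (.leaf 0x163890f1)) (.node (.leaf 0xd6b90b9) (.leaf 0xf1ed0dd))) (.node (.node (.leaf 0x118ad0f1) (.leaf 0xb2e50bb)) (.node (.leaf 0x128690f1) (.leaf 0xcf3d0b9))))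 (.node (.node (.node (.leaf 0x10ad10b9) (.leaf 0x16cbd0b9)) (.node (.leaf 0xc4310b9) (.leaf 0x8fb90f1))) (.node (.node (.leaf 0x134a90f1) (.leaf 0x10cd90f1)) (.node (.leaf 0xc3a90bb) (.leaf 0x0)))))) (.node (.node (.node (.node (.node (.leaf 0xda7d0f1) (.leaf 0xd6050f1)) (.node (.leaf 0x1541d0b9) (.leaf 0xb0f10dd))) (.node (.node (.leaf 0x70810bb) (.leaf 0xf7a50bb)) (.node (.leaf 0x12e010f1) (.leaf 0x161150dd)))) (.node (.node (.node (.leaf 0x1342d0f1) (.leaf 0x14bc10f1)) (.node (.leaf 0xb6bd0bb) (.leaf 0x49f50f1))) (.node (.node (.leaf 0xbb290b9) (.leaf 0xc4850dd)) (.node (.leaf 0x9f8d0f1) (.leaf 0x0))))) (.node (.node (.node (.node (.leaf 0xb4690dd) (.leaf 0xdf110dd)) (.node (.leaf 0x147250dd) (.leaf 0x149310dd))) (.node (.node (.leaf 0x11f290f1) (.leaf 0x154390f1)) (.node (.leaf 0x10e0d0b9) (.leaf 0x8b390b9)))) (.node (.node (.node (.leaf 0x5e010f1) (.leaf 0xdfc50bb)) (.node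 (.leaf 0x1570d0dd) (.leaf 0xf1050dd))) (.node (.node (.leaf 0x4eed0b9) (.leaf 0x62550b9)) (.node (.leaf 0x8b390f1) (.leaf 0x0))))))) (.node (.node (.node (.node (.node (.node (.leaf 0x156d90dd) (.leaf 0x148050f1)) (.node (.leaf 0xd0a10f1) (.leaf 0xc8bd0b9))) (.node (.node (.leaf 0x14c210f1) (.leaf 0x1308d0f1)) (.node (.leaf 0x149b50b9) (.leaf 0xc2bd0b9)))) (.node (.node (.node (.leaf 0xed090bb) (.leaf 0xe5d90b9)) (.node (.leaf 0xd6610b9) (.leaf 0x1040d0dd))) (.node (.node (.leaf 0x10e550dd) (.leaf 0x11ba10f1)) (.node (.leaf 0x129310dd) (.leaf 0x0))))) (.node (.node (.node (.node (.leaf 0xf2b10b9) (.leaf 0xaab90b9)) (.node (.leaf 0x169ad0f1) (.leaf 0xe6e50b9))) (.node (.node (.leaf 0xf03d0f1) (.leaf 0x45990f1)) (.node (.leaf 0x41d10b9) (.leaf 0xa4510f1)))) (.node (.node (.node (.leaf 0x8b790b9) (.leaf 0x67590bb)) (.node (.leaf 0xf1050f1) (.leaf 0x46890f1))) (.node (.node (.leaf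 0x11a010bb) (.leaf 0x109fd0f1)) (.node (.leaf 0x70810b9) (.leaf 0x0)))))) (.node (.node (.node (.node (.node (.leaf 0x114850f1) (.leaf 0x80d50f1)) (.node (.leaf 0xe62d0b9) (.leaf 0xdd150f1))) (.node (.node (.leaf 0x12a210bb) (.leaf 0xd6bd0bb)) (.node (.leaf 0x10e510dd) (.leaf 0xdac50dd)))) (.node (.node (.node (.leaf 0x109c90bb) (.leaf 0xa8dd0f1)) (.node (.leaf 0x12aa90dd) (.leaf 0x1724d0dd))) (.node (.node (.leaf 0x115190f1) (.leaf 0x118610f1)) (.node (.leaf 0x1b4310f1) (.leaf 0x0))))) (.node (.node (.node (.node (.leaf 0xc5710dd) (.leaf 0xe0b90dd)) (.node (.leaf 0xd16d0bb) (.leaf 0x8b790dd))) (.node (.node (.leaf 0x106bd0bb) (.leaf 0x1b8d10f1)) (.node (.leaf 0xc5a10b9) (.leaf 0x0)))) (.node (.node (.node (.leaf 0x12d9d0f1) (.leaf 0x1717d0dd)) (.node (.leaf 0x154250b9) (.leaf 0x10ae90dd))) (.node (.node (.leaf 0xd9ed0f1) (.leaf 0xc8850bb)) (.node (.leaf 0xa75d0b9) (.leaf 0x0))))))))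 (.node (.node (.node (.node (.node (.node (.node (.leaf 0x40e10b9) (.leaf 0xd1550b9)) (.node (.leaf 0x94ed0dd) (.leaf 0x549d0f1))) (.node (.node (.leaf 0x48190f1) (.leaf 0x11a010f1)) (.node (.leaf 0xe5bd0dd) (.leaf 0x88690f1)))) (.node (.node (.node (.leaf 0xab8d0bb) (.leaf 0x57590b9)) (.node (.leaf 0x103150b9) (.leaf 0xeaf10bb))) (.node (.node (.leaf 0x14c0) (.leaf 0xccd10f1)) (.node (.leaf 0xd5350bb) (.leaf 0x0))))) (.node (.node (.node (.node (.leaf 0xe62d0bb) (.leaf 0x8a290b9)) (.node (.leaf 0xdd790bb) (.leaf 0xb2dd0b9))) (.node (.node (.leaf 0xb3b10dd) (.leaf 0x10f9d0f1)) (.node (.leaf 0xec050f1) (.leaf 0x8a610f1)))) (.node (.node (.node (.leaf 0xcab10b9) (.leaf 0x147e50f1)) (.node (.leaf 0x8d850bb) (.leaf 0x1546))) (.node (.node (.leaf 0xe1f90b9) (.leaf 0x15ffd0b9)) (.node (.leaf 0xf7c50dd) (.leaf 0x0)))))) (.node (.node (.node (.node (.node (.leaf 0x79c50b9) (.leaf 0xd96d0b9))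 (.node (.leaf 0x5d3d0f1) (.leaf 0xcc3d0bb))) (.node (.node (.leaf 0x10a190b9) (.leaf 0xeab50dd)) (.node (.leaf 0xe1310bb) (.leaf 0x124590f1)))) (.node (.node (.node (.leaf 0xf3bd0b9) (.leaf 0x9b4d0f1)) (.node (.leaf 0x1334d0dd) (.leaf 0x17a590f1))) (.node (.node (.leaf 0x135710b9) (.leaf 0x129550f1)) (.node (.leaf 0xe8cd0f1) (.leaf 0x0))))) (.node (.node (.node (.node (.leaf 0x124d10f1) (.leaf 0xafc50f1)) (.node (.leaf 0xd1290f1) (.leaf 0xcc9d0dd))) (.node (.node (.leaf 0x166650dd) (.leaf 0x123110bb)) (.node (.leaf 0x170c10f1) (.leaf 0x0)))) (.node (.node (.node (.leaf 0xefbd0f1) (.leaf 0x136290dd)) (.node (.leaf 0x118510bb) (.leaf 0x8b790f1))) (.node (.node (.leaf 0xe9710b9) (.leaf 0xc9cd0dd)) (.node (.leaf 0xecd50b9) (.leaf 0x0))))))) (.node (.node (.node (.node (.node (.node (.leaf 0x10c0) (.leaf 0x12fd50f1)) (.node (.leaf 0x1706d0dd) (.leaf 0x10cf90dd))) (.node (.node (.leaf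 0x123b10b9) (.leaf 0x13a010b9)) (.node (.leaf 0x127010f1) (.leaf 0x168050dd)))) (.node (.node (.node (.leaf 0x1541d0f1) (.leaf 0xcc3d0b9)) (.node (.leaf 0xd18d0f1) (.leaf 0xd0f10f1))) (.node (.node (.leaf 0xb6910bb) (.leaf 0xc3950b9)) (.node (.leaf 0x135d50dd) (.leaf 0x0))))) (.node (.node (.node (.node (.leaf 0xb5110bb) (.leaf 0xe4690f1)) (.node (.leaf 0xa8bd0b9) (.leaf 0x132d50f1))) (.node (.node (.leaf 0xef7d0f1) (.leaf 0x4c710b9)) (.node (.leaf 0xed3d0bb) (.leaf 0x121190b9)))) (.node (.node (.node (.leaf 0x150b50f1) (.leaf 0x4d490f1)) (.node (.leaf 0x147e50b9) (.leaf 0x10e0))) (.node (.node (.leaf 0x1127d0bb) (.leaf 0x54b50f1)) (.node (.leaf 0x12d5d0f1) (.leaf 0x0)))))) (.node (.node (.node (.node (.node (.leaf 0x1808) (.leaf 0x14e450bb)) (.node (.leaf 0x116490b9) (.leaf 0xcbdd0dd))) (.node (.node (.leaf 0xaf5d0dd) (.leaf 0xa0e90b9)) (.node (.leaf 0xcb490b9) (.leaf 0x133d50b9))))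 (.node (.node (.node (.leaf 0xd0f50bb) (.leaf 0x134fd0f1)) (.node (.leaf 0x11f5d0f1) (.leaf 0x10d650f1))) (.node (.node (.leaf 0xcd190b9) (.leaf 0x72f90b9)) (.node (.leaf 0x8f190dd) (.leaf 0x0))))) (.node (.node (.node (.node (.leaf 0x15e410b9) (.leaf 0x88dd0bb)) (.node (.leaf 0xdc3d0f1) (.leaf 0x10ca90dd))) (.node (.node (.leaf 0x8cb90dd) (.leaf 0xe6f10bb)) (.node (.leaf 0x45210bb) (.leaf 0x0)))) (.node (.node (.node (.leaf 0xd4150dd) (.leaf 0xca4d0dd)) (.node (.leaf 0x159890f1) (.leaf 0xef7d0b9))) (.node (.node (.leaf 0x82c90f1) (.leaf 0x95010f1)) (.node (.leaf 0x7a890f1) (.leaf 0x0))))))))) (.node (.node (.node (.node (.node (.node (.node (.node (.leaf 0x400d0b9) (.leaf 0x127c50b9)) (.node (.leaf 0xdba50dd) (.leaf 0xf5790bb))) (.node (.node (.leaf 0xb84d0f1) (.leaf 0xd9f90f1)) (.node (.leaf 0x12bc50f1) (.leaf 0x156310f1)))) (.node (.node (.node (.leaf 0x9bcd0f1) (.leaf 0x102310f1))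 (.node (.leaf 0xca590b9) (.leaf 0x1572d0b9))) (.node (.node (.leaf 0x125790dd) (.leaf 0xcfd10dd)) (.node (.leaf 0x129550b9) (.leaf 0x0))))) (.node (.node (.node (.node (.leaf 0xdcf50bb) (.leaf 0xe6750dd)) (.node (.leaf 0x119d50bb) (.leaf 0xdc950f1))) (.node (.node (.leaf 0x804d0f1) (.leaf 0x105490f1)) (.node (.leaf 0x10f1d0f1) (.leaf 0xd03d0dd)))) (.node (.node (.node (.leaf 0x10ac10b9) (.leaf 0x151610bb)) (.node (.leaf 0x113f50b9) (.leaf 0x82c10b9))) (.node (.node (.leaf 0x111910f1) (.leaf 0x160550bb)) (.node (.leaf 0xd5650f1) (.leaf 0x0)))))) (.node (.node (.node (.node (.node (.leaf 0x173e10f1) (.leaf 0x9e910dd)) (.node (.leaf 0x115a50b9) (.leaf 0xf0b10dd))) (.node (.node (.leaf 0x124150b9) (.leaf 0xd6c50bb)) (.node (.leaf 0x4eb50b9) (.leaf 0xe1450dd)))) (.node (.node (.node (.leaf 0x129a10f1) (.leaf 0x155f10dd)) (.node (.leaf 0x101750f1) (.leaf 0xcbb10f1))) (.node (.node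 (.leaf 0x132310dd) (.leaf 0x104e10dd)) (.node (.leaf 0x11a4) (.leaf 0x0))))) (.node (.node (.node (.node (.leaf 0xdd6d0b9) (.leaf 0x108290f1)) (.node (.leaf 0xd3490f1) (.leaf 0x1096d0dd))) (.node (.node (.leaf 0x8dbd0bb) (.leaf 0x103350f1)) (.node (.leaf 0x109210f1) (.leaf 0xc2b90b9)))) (.node (.node (.node (.leaf 0xa0750b9) (.leaf 0xdd110dd)) (.node (.leaf 0x106d90b9) (.leaf 0x8be90dd))) (.node (.node (.leaf 0xfa910b9) (.leaf 0xf7510bb)) (.node (.leaf 0x8b650f1) (.leaf 0x0))))))) (.node (.node (.node (.node (.node (.node (.leaf 0x101090b9) (.leaf 0xe65d0dd)) (.node (.leaf 0xde810bb) (.leaf 0x94c50f1))) (.node (.node (.leaf 0xef010dd) (.leaf 0xc6350b9)) (.node (.leaf 0x163410f1) (.leaf 0x14ba50f1)))) (.node (.node (.node (.leaf 0x1740d0f1) (.leaf 0x15fc90dd)) (.node (.leaf 0xe6250dd) (.leaf 0x89e90f1))) (.node (.node (.leaf 0x12f310f1) (.leaf 0x179750bb)) (.node (.leaf 0x104250f1)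 (.leaf 0x0))))) (.node (.node (.node (.node (.leaf 0x50950b9) (.leaf 0xeaa50b9)) (.node (.leaf 0x12c990bb) (.leaf 0x94f50f1))) (.node (.node (.leaf 0x81510f1) (.leaf 0x124550f1)) (.node (.leaf 0xe9790b9) (.leaf 0x164650f1)))) (.node (.node (.node (.leaf 0x1069d0dd) (.leaf 0x160090b9)) (.node (.leaf 0x805d0dd) (.leaf 0xcb850f1))) (.node (.node (.leaf 0x8ecd0b9) (.leaf 0x1186d0f1)) (.node (.leaf 0x110910b9) (.leaf 0x0)))))) (.node (.node (.node (.node (.node (.leaf 0xd7f10b9) (.leaf 0xaa990dd)) (.node (.leaf 0x113010f1) (.leaf 0x10ba90dd))) (.node (.node (.leaf 0xaf610dd) (.leaf 0xf5610b9)) (.node (.leaf 0x124290dd) (.leaf 0xc2b90bb)))) (.node (.node (.node (.leaf 0x109e10bb) (.leaf 0x10e3d0dd)) (.node (.leaf 0xdfbd0f1) (.leaf 0x135710dd))) (.node (.node (.leaf 0x8f110dd) (.leaf 0xc5950dd)) (.node (.leaf 0x12e810dd) (.leaf 0x0))))) (.node (.node (.node (.node (.leaf 0xecdd0bb)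 (.leaf 0xe54d0b9)) (.node (.leaf 0xd2890bb) (.leaf 0x4c510bb))) (.node (.node (.leaf 0xb6910dd) (.leaf 0x14b190b9)) (.node (.leaf 0xc30d0b9) (.leaf 0x0)))) (.node (.node (.node (.leaf 0xd4c10f1) (.leaf 0xd6b10f1)) (.node (.leaf 0xd9710f1) (.leaf 0x8c2d0bb))) (.node (.node (.leaf 0xde1d0f1) (.leaf 0x133550b9)) (.node (.leaf 0xce8d0dd) (.leaf 0x0)))))))) (.node (.node (.node (.node (.node (.node (.node (.leaf 0x80d50b9) (.leaf 0xe3c50bb)) (.node (.leaf 0x9d2d0dd) (.leaf 0xafa90f1))) (.node (.node (.leaf 0x16a890b9) (.leaf 0x136250dd)) (.node (.leaf 0xe34d0dd) (.leaf 0xef2d0b9)))) (.node (.node (.node (.leaf 0x6cfd0dd) (.leaf 0xa4410dd)) (.node (.leaf 0xd0f50b9) (.leaf 0xeab50bb))) (.node (.node (.leaf 0x19fe) (.leaf 0xc3950dd)) (.node (.leaf 0x1724d0b9) (.leaf 0x0))))) (.node (.node (.node (.node (.leaf 0x11f3d0b9) (.leaf 0xcf6d0f1)) (.node (.leaf 0xdd6d0bb) (.leaf 0xf2510dd)))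 (.node (.node (.leaf 0xede90f1) (.leaf 0x104ad0b9)) (.node (.leaf 0x1127d0b9) (.leaf 0xba6d0bb)))) (.node (.node (.node (.leaf 0x4cf50f1) (.leaf 0xb67d0bb)) (.node (.leaf 0xd66d0dd) (.leaf 0xf6890f1))) (.node (.node (.leaf 0x6cfd0b9) (.leaf 0x48590b9)) (.node (.leaf 0x11cdd0f1) (.leaf 0x0)))))) (.node (.node (.node (.node (.node (.leaf 0x114790bb) (.leaf 0x80d90f1)) (.node (.leaf 0xa6d10dd) (.leaf 0x4c710bb))) (.node (.node (.leaf 0xca4d0f1) (.leaf 0x9b790dd)) (.node (.leaf 0xaf110b9) (.leaf 0xda490dd)))) (.node (.node (.node (.leaf 0xb6410b9) (.leaf 0x13a7d0f1)) (.node (.leaf 0xb6a50b9) (.leaf 0xf03d0b9))) (.node (.node (.leaf 0xd2390f1) (.leaf 0x128b90f1)) (.node (.leaf 0x76d10f1) (.leaf 0x0))))) (.node (.node (.node (.node (.leaf 0x9d890b9) (.leaf 0x129990dd)) (.node (.leaf 0xab8d0b9) (.leaf 0xc9d90dd))) (.node (.node (.leaf 0x1158) (.leaf 0x15ff10dd)) (.node (.leaf 0x15ccd0dd)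 (.leaf 0x0)))) (.node (.node (.node (.leaf 0xcc1d0bb) (.leaf 0x160010b9)) (.node (.leaf 0x12a050b9) (.leaf 0xe8a50b9))) (.node (.node (.leaf 0xf3fd0b9) (.leaf 0x16f9d0bb)) (.node (.leaf 0x17a810f1) (.leaf 0x0))))))) (.node (.node (.node (.node (.node (.node (.leaf 0x1011d0dd) (.leaf 0x127610bb)) (.node (.leaf 0xae750b9) (.leaf 0x73050b9))) (.node (.node (.leaf 0xf0710bb) (.leaf 0x70810f1)) (.node (.leaf 0x138550f1) (.leaf 0x158d10b9)))) (.node (.node (.node (.leaf 0x133cd0f1) (.leaf 0xe3c10bb)) (.node (.leaf 0x72f90dd) (.leaf 0xfaf10bb))) (.node (.node (.leaf 0xfa790b9) (.leaf 0x44790b9)) (.node (.leaf 0x139a50b9) (.leaf 0x0))))) (.node (.node (.node (.node (.leaf 0xd00d0f1) (.leaf 0xe2450bb)) (.node (.leaf 0x107190dd) (.leaf 0x57050b9))) (.node (.node (.leaf 0xb1710dd) (.leaf 0x9bd90dd)) (.node (.leaf 0x105b50b9) (.leaf 0x908d0dd)))) (.node (.node (.node (.leaf 0x15db50f1)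 (.leaf 0x9a450dd)) (.node (.leaf 0x156810b9) (.leaf 0xd6510f1))) (.node (.node (.leaf 0x144090f1) (.leaf 0x9d450f1)) (.node (.leaf 0xf64d0bb) (.leaf 0x0)))))) (.node (.node (.node (.node (.node (.leaf 0x164050f1) (.leaf 0x76510b9)) (.node (.leaf 0x12d5d0b9) (.leaf 0xad490f1))) (.node (.node (.leaf 0xe6590dd) (.leaf 0x1165d0bb)) (.node (.leaf 0xa1950bb) (.leaf 0x1341d0b9)))) (.node (.node (.node (.leaf 0x10ae90b9) (.leaf 0x11eb50f1)) (.node (.leaf 0x1145d0bb) (.leaf 0xd06d0dd))) (.node (.node (.leaf 0xa1850b9) (.leaf 0x54b90f1)) (.node (.leaf 0x112bd0b9) (.leaf 0x0))))) (.node (.node (.node (.node (.leaf 0x179e90f1) (.leaf 0x1096d0bb)) (.node (.leaf 0xc4850bb) (.leaf 0x8a950dd))) (.node (.node (.leaf 0x47590b9) (.leaf 0x839d0dd)) (.node (.leaf 0x45990b9) (.leaf 0x0)))) (.node (.node (.node (.leaf 0xe6710f1) (.leaf 0xf1890dd)) (.node (.leaf 0x81950b9) (.leaf 0x9a790dd))) (.node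 (.node (.leaf 0x692d0dd) (.leaf 0x133d50dd)) (.node (.leaf 0x127ed0b9) (.leaf 0x0))))))))))

/-- packed table -/
noncomputable def cov8_lrl : BTree := (.node (.node (.node (.node (.node (.node (.node (.node (.node (.leaf 0x1926) (.leaf 0x127d90b9)) (.node (.leaf 0x82e10f1) (.leaf 0x122350dd))) (.node (.node (.leaf 0xfa5d0f1) (.leaf 0x1242d0dd)) (.node (.leaf 0x57f90dd) (.leaf 0xec750f1)))) (.node (.node (.node (.leaf 0x131790b9) (.leaf 0x1098d0bb)) (.node (.leaf 0x160090f1) (.leaf 0xf76d0b9))) (.node (.node (.leaf 0xad490bb) (.leaf 0x15a710f1)) (.node (.leaf 0x93a50f1) (.leaf 0x0))))) (.node (.node (.node (.node (.leaf 0x192450f1) (.leaf 0x12be50dd)) (.node (.leaf 0xe9490bb) (.leaf 0x11c5d0bb))) (.node (.node (.leaf 0xc4410bb) (.leaf 0x9fa50f1)) (.node (.leaf 0xa18d0bb) (.leaf 0xa8bd0bb)))) (.node (.node (.node (.leaf 0x14add0b9) (.leaf 0xe2910dd)) (.node (.leaf 0x953d0bb) (.leaf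 0xe1910dd))) (.node (.node (.leaf 0xda7d0b9) (.leaf 0x9cc10f1)) (.node (.leaf 0x92e10b9) (.leaf 0x0)))))) (.node (.node (.node (.node (.node (.leaf 0xc3110f1) (.leaf 0xec190bb)) (.node (.leaf 0x10fbd0f1) (.leaf 0xd7390bb))) (.node (.node (.leaf 0x9a910f1) (.leaf 0xc3250b9)) (.node (.leaf 0x1603d0f1) (.leaf 0xd88d0bb)))) (.node (.node (.node (.leaf 0x150c10b9) (.leaf 0x148f90f1)) (.node (.leaf 0xf1110f1) (.leaf 0x80510b9))) (.node (.node (.leaf 0x12e0d0bb) (.leaf 0xacf10f1)) (.node (.leaf 0xdbb90dd) (.leaf 0x0))))) (.node (.node (.node (.node (.leaf 0x692d0bb) (.leaf 0x12acd0f1)) (.node (.leaf 0x9dbd0bb) (.leaf 0xf2b10bb))) (.node (.node (.leaf 0x11f1d0f1) (.leaf 0x134a90b9)) (.node (.leaf 0x14bc90f1) (.leaf 0x40e10bb)))) (.node (.node (.node (.leaf 0x11de50f1) (.leaf 0xceb10dd)) (.node (.leaf 0x120950f1) (.leaf 0x9e850b9))) (.node (.node (.leaf 0x1040d0b9) (.leaf 0x11e950b9))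 (.node (.leaf 0x10b1d0f1) (.leaf 0x0))))))) (.node (.node (.node (.node (.node (.node (.leaf 0x101110b9) (.leaf 0x12ae10dd)) (.node (.leaf 0xb00d0dd) (.leaf 0xeca10bb))) (.node (.node (.leaf 0xcc110f1) (.leaf 0xf6490bb)) (.node (.leaf 0x1252d0dd) (.leaf 0x127b90dd)))) (.node (.node (.node (.leaf 0x11d090b9) (.leaf 0x10e190b9)) (.node (.leaf 0x108890dd) (.leaf 0xc34d0dd))) (.node (.node (.leaf 0x1379d0dd) (.leaf 0x103890dd)) (.node (.leaf 0xf25d0b9) (.leaf 0x0))))) (.node (.node (.node (.node (.leaf 0xfaed0b9) (.leaf 0x40d10bb)) (.node (.leaf 0x92a50dd) (.leaf 0xc0550b9))) (.node (.node (.leaf 0xe16d0dd) (.leaf 0x103450b9)) (.node (.leaf 0x4eed0bb) (.leaf 0x1180)))) (.node (.node (.node (.leaf 0x10c6) (.leaf 0x15ffd0f1)) (.node (.leaf 0x113390b9) (.leaf 0xa1f10dd))) (.node (.node (.leaf 0xf1c10b9) (.leaf 0x154690f1)) (.node (.leaf 0x103810b9) (.leaf 0x0)))))) (.node (.node (.node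 (.node (.node (.leaf 0xeedd0f1) (.leaf 0x40c90f1)) (.node (.leaf 0x11b450dd) (.leaf 0x80410b9))) (.node (.node (.leaf 0xf8a50f1) (.leaf 0x10e3d0f1)) (.node (.leaf 0x12f0d0b9) (.leaf 0x1199d0dd)))) (.node (.node (.node (.leaf 0x1301d0b9) (.leaf 0xea090b9)) (.node (.leaf 0x12f6d0dd) (.leaf 0xea090bb))) (.node (.node (.leaf 0x10b4d0f1) (.leaf 0x103b10f1)) (.node (.leaf 0x75750f1) (.leaf 0x0))))) (.node (.node (.node (.node (.leaf 0xfb110f1) (.leaf 0x139710b9)) (.node (.leaf 0xec590bb) (.leaf 0xc0450b9))) (.node (.node (.leaf 0x104190f1) (.leaf 0x1ab790f1)) (.node (.leaf 0xb7ed0bb) (.leaf 0x0)))) (.node (.node (.node (.leaf 0x12e210f1) (.leaf 0x132a50f1)) (.node (.leaf 0x6fe10bb) (.leaf 0x10e010f1))) (.node (.node (.leaf 0x11f3d0dd) (.leaf 0x10e510b9)) (.node (.leaf 0x8ae10bb) (.leaf 0x0)))))))) (.node (.node (.node (.node (.node (.node (.node (.leaf 0x80ed0b9) (.leaf 0x111d90b9))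 (.node (.leaf 0xe53d0dd) (.leaf 0x125890b9))) (.node (.node (.leaf 0x88690dd) (.leaf 0x11a050f1)) (.node (.leaf 0x106210b9) (.leaf 0xdf910f1)))) (.node (.node (.node (.leaf 0xecf90dd) (.leaf 0x141690b9)) (.node (.leaf 0xd0890bb) (.leaf 0xe1710dd))) (.node (.node (.leaf 0x4c510f1) (.leaf 0x40c90bb)) (.node (.leaf 0x113c90f1) (.leaf 0x0))))) (.node (.node (.node (.node (.leaf 0xf74d0bb) (.leaf 0x123b10f1)) (.node (.leaf 0x1062d0dd) (.leaf 0xac490f1))) (.node (.node (.leaf 0xd5bd0b9) (.leaf 0x108b90f1)) (.node (.leaf 0x99310b9) (.leaf 0x16ca90bb)))) (.node (.node (.node (.leaf 0xc6350f1) (.leaf 0xd1950bb)) (.node (.leaf 0xc37d0b9) (.leaf 0xb6450f1))) (.node (.node (.leaf 0xa1f10b9) (.leaf 0x1ab410f1)) (.node (.leaf 0xb6410f1) (.leaf 0x0)))))) (.node (.node (.node (.node (.node (.leaf 0x112a) (.leaf 0x10e510f1)) (.node (.leaf 0xf36d0b9) (.leaf 0x125a50bb))) (.node (.node (.leaf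 0x124110b9) (.leaf 0xa1890dd)) (.node (.leaf 0x117990f1) (.leaf 0xe7450dd)))) (.node (.node (.node (.leaf 0xd5650b9) (.leaf 0x119c90f1)) (.node (.leaf 0xd17d0bb) (.leaf 0x83bd0f1))) (.node (.node (.leaf 0x1264) (.leaf 0x44b50dd)) (.node (.leaf 0xaf110f1) (.leaf 0x0))))) (.node (.node (.node (.node (.leaf 0xe4a50f1) (.leaf 0xcdf50f1)) (.node (.leaf 0x8e710dd) (.leaf 0x109790dd))) (.node (.node (.leaf 0x8dbd0b9) (.leaf 0x10bd90f1)) (.node (.leaf 0x119ad0b9) (.leaf 0x80610b9)))) (.node (.node (.node (.leaf 0x174e10f1) (.leaf 0xc2790b9)) (.node (.leaf 0x975d0f1) (.leaf 0x9dbd0b9))) (.node (.node (.leaf 0x84710bb) (.leaf 0xde090b9)) (.node (.leaf 0xe0650b9) (.leaf 0x0))))))) (.node (.node (.node (.node (.node (.node (.leaf 0x10be) (.leaf 0x154210f1)) (.node (.leaf 0x1026d0b9) (.leaf 0xc9ad0b9))) (.node (.node (.leaf 0x1a4490f1) (.leaf 0x1238d0dd)) (.node (.leaf 0x12ccd0dd) (.leaf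 0x162ad0f1)))) (.node (.node (.node (.leaf 0x1b38d0f1) (.leaf 0x150c50f1)) (.node (.leaf 0x10da50bb) (.leaf 0xdfc50f1))) (.node (.node (.leaf 0xf52d0b9) (.leaf 0x151890f1)) (.node (.leaf 0xf0290f1) (.leaf 0x0))))) (.node (.node (.node (.node (.leaf 0x692d0b9) (.leaf 0x116490dd)) (.node (.leaf 0x126f50f1) (.leaf 0x1272d0dd))) (.node (.node (.leaf 0x134e50f1) (.leaf 0xcef50dd)) (.node (.leaf 0xc30d0f1) (.leaf 0xebb90bb)))) (.node (.node (.node (.leaf 0xc6a90dd) (.leaf 0x122bd0dd)) (.node (.leaf 0xc0550dd) (.leaf 0xa1950dd))) (.node (.node (.leaf 0x19ee) (.leaf 0x167810f1)) (.node (.leaf 0xebf10bb) (.leaf 0x0)))))) (.node (.node (.node (.node (.node (.leaf 0x87690f1) (.leaf 0xa2890dd)) (.node (.leaf 0xe8ed0f1) (.leaf 0x152690f1))) (.node (.node (.leaf 0xdb950f1) (.leaf 0x152a90f1)) (.node (.leaf 0xe5910b9) (.leaf 0xcd190dd)))) (.node (.node (.node (.leaf 0xd6610bb) (.leaf 0x139f50f1))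 (.node (.leaf 0x122f10f1) (.leaf 0x161dd0dd))) (.node (.node (.leaf 0xa1950b9) (.leaf 0x14f2d0b9)) (.node (.leaf 0x153210b9) (.leaf 0x0))))) (.node (.node (.node (.node (.leaf 0x1ab810f1) (.leaf 0x129590dd)) (.node (.leaf 0xebdd0b9) (.leaf 0xec190b9))) (.node (.node (.leaf 0x106bd0b9) (.leaf 0x136250b9)) (.node (.leaf 0xac490dd) (.leaf 0x0)))) (.node (.node (.node (.leaf 0xd5110f1) (.leaf 0xcdf90f1)) (.node (.leaf 0x119750f1) (.leaf 0x80b90bb))) (.node (.node (.leaf 0x72ed0dd) (.leaf 0xe34d0bb)) (.node (.leaf 0x127090f1) (.leaf 0x0))))))))) (.node (.node (.node (.node (.node (.node (.node (.node (.leaf 0x40090f1) (.leaf 0x127c90b9)) (.node (.leaf 0xcfd50bb) (.leaf 0x80d90bb))) (.node (.node (.leaf 0xf8950b9) (.leaf 0x162d50f1)) (.node (.leaf 0x16bc10f1) (.leaf 0x137e50dd)))) (.node (.node (.node (.leaf 0x104fd0f1) (.leaf 0xd6a10b9)) (.node (.leaf 0x91fd0b9) (.leaf 0x107810f1)))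 (.node (.node (.leaf 0x76d10b9) (.leaf 0xf9bd0bb)) (.node (.leaf 0xf2b50dd) (.leaf 0x0))))) (.node (.node (.node (.node (.leaf 0xf32d0bb) (.leaf 0xe3a90f1)) (.node (.leaf 0x110d90b9) (.leaf 0xad610f1))) (.node (.node (.leaf 0x6fe10dd) (.leaf 0x122290b9)) (.node (.leaf 0x128750f1) (.leaf 0xfa210f1)))) (.node (.node (.node (.leaf 0x1125d0dd) (.leaf 0xc1a50bb)) (.node (.leaf 0x1624d0f1) (.leaf 0xdfe50f1))) (.node (.node (.leaf 0x136250f1) (.leaf 0x11e450dd)) (.node (.leaf 0xf7650dd) (.leaf 0x0)))))) (.node (.node (.node (.node (.node (.leaf 0xe19d0f1) (.leaf 0x1315d0dd)) (.node (.leaf 0xb2190bb) (.leaf 0xe5d90bb))) (.node (.node (.leaf 0x112110b9) (.leaf 0x111910b9)) (.node (.leaf 0x11fad0f1) (.leaf 0x127a90dd)))) (.node (.node (.node (.leaf 0xaf5d0b9) (.leaf 0x10b290bb)) (.node (.leaf 0x10ca90f1) (.leaf 0x1279d0dd))) (.node (.node (.leaf 0x166d50f1) (.leaf 0xab8d0f1)) (.node (.leaf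 0xc8d90f1) (.leaf 0x0))))) (.node (.node (.node (.node (.leaf 0x11f690f1) (.leaf 0x1b5990f1)) (.node (.leaf 0xed090b9) (.leaf 0x1493d0dd))) (.node (.node (.leaf 0xf75d0dd) (.leaf 0x162610dd)) (.node (.leaf 0x123110f1) (.leaf 0x4bb50dd)))) (.node (.node (.node (.leaf 0x112fd0dd) (.leaf 0x9fd10b9)) (.node (.leaf 0xedf90bb) (.leaf 0x154250f1))) (.node (.node (.leaf 0xf39d0b9) (.leaf 0xd4950f1)) (.node (.leaf 0xebed0bb) (.leaf 0x0))))))) (.node (.node (.node (.node (.node (.node (.leaf 0xcdc50dd) (.leaf 0xec150bb)) (.node (.leaf 0xb1ad0dd) (.leaf 0x12b390f1))) (.node (.node (.leaf 0xcc250f1) (.leaf 0xb1ad0f1)) (.node (.leaf 0x139b90f1) (.leaf 0xa1850dd)))) (.node (.node (.node (.leaf 0x6cfd0bb) (.leaf 0x150b90f1)) (.node (.leaf 0xcdb10f1) (.leaf 0xea1d0b9))) (.node (.node (.leaf 0xf3910b9) (.leaf 0x103e90dd)) (.node (.leaf 0x165710dd) (.leaf 0x0))))) (.node (.node (.node (.node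 (.leaf 0x8ff10f1) (.leaf 0x11ab10f1)) (.node (.leaf 0x125a50b9) (.leaf 0x127090b9))) (.node (.node (.leaf 0x119b50dd) (.leaf 0xef750f1)) (.node (.leaf 0x131790dd) (.leaf 0xdfa10f1)))) (.node (.node (.node (.leaf 0x8bd50bb) (.leaf 0x805d0b9)) (.node (.leaf 0xc0450dd) (.leaf 0xc0710b9))) (.node (.node (.leaf 0x6c7d0b9) (.leaf 0xec5d0b9)) (.node (.leaf 0xdf310b9) (.leaf 0x0)))))) (.node (.node (.node (.node (.node (.leaf 0xdcb90bb) (.leaf 0xf0290dd)) (.node (.leaf 0x160210f1) (.leaf 0x127c10dd))) (.node (.node (.leaf 0x4eed0f1) (.leaf 0x129990f1)) (.node (.leaf 0x10da50f1) (.leaf 0xdd110b9)))) (.node (.node (.node (.leaf 0x134c90dd) (.leaf 0xcf950dd)) (.node (.leaf 0x18d5d0f1) (.leaf 0x137d10dd))) (.node (.node (.leaf 0x111a) (.leaf 0x10fa10b9)) (.node (.leaf 0x103750bb) (.leaf 0x0))))) (.node (.node (.node (.node (.leaf 0xa8bd0dd) (.leaf 0x9e910b9)) (.node (.leaf 0xebad0b9) (.leaf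 0x11ca50b9))) (.node (.node (.leaf 0xc6750b9) (.leaf 0xcbad0f1)) (.node (.leaf 0xcc9d0b9) (.leaf 0x0)))) (.node (.node (.node (.leaf 0xdf990b9) (.leaf 0xd6bd0f1)) (.node (.leaf 0x975d0b9) (.leaf 0x128fd0b9))) (.node (.node (.leaf 0x8c490dd) (.leaf 0x41490b9)) (.node (.leaf 0xcfb50dd) (.leaf 0x0)))))))) (.node (.node (.node (.node (.node (.node (.node (.leaf 0x80d90b9) (.leaf 0x160010dd)) (.node (.leaf 0x632d0dd) (.leaf 0xa3790bb))) (.node (.node (.leaf 0x76750b9) (.leaf 0xf4610bb)) (.node (.leaf 0x10cc90f1) (.leaf 0x1309d0dd)))) (.node (.node (.node (.leaf 0xacf10dd) (.leaf 0x8abd0bb)) (.node (.leaf 0x109e10b9) (.leaf 0x40bd0bb))) (.node (.node (.leaf 0x75750b9) (.leaf 0xd4990f1)) (.node (.leaf 0xc1390b9) (.leaf 0x0))))) (.node (.node (.node (.node (.leaf 0x12dad0f1) (.leaf 0xcf8d0f1)) (.node (.leaf 0x106210dd) (.leaf 0xba4d0b9))) (.node (.node (.leaf 0x165f90dd) (.leaf 0x80590b9))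 (.node (.leaf 0x1148) (.leaf 0x40dd0bb)))) (.node (.node (.node (.leaf 0x1066d0dd) (.leaf 0x1335d0bb)) (.node (.leaf 0x10a3d0f1) (.leaf 0xa6d10bb))) (.node (.node (.leaf 0xd5b50b9) (.leaf 0x12b3d0f1)) (.node (.leaf 0xd1810f1) (.leaf 0x0)))))) (.node (.node (.node (.node (.node (.leaf 0x117550f1) (.leaf 0x877d0bb)) (.node (.leaf 0x1098d0dd) (.leaf 0xe5bd0bb))) (.node (.node (.leaf 0xf1890f1) (.leaf 0x122d90dd)) (.node (.leaf 0xd7d50f1) (.leaf 0x40c50bb)))) (.node (.node (.node (.leaf 0xd1b90b9) (.leaf 0x8c690b9)) (.node (.leaf 0xcdc90b9) (.leaf 0xe9d90bb))) (.node (.node (.leaf 0xe8a50bb) (.leaf 0xfa510b9)) (.node (.leaf 0x11ab10dd) (.leaf 0x0))))) (.node (.node (.node (.node (.leaf 0xd4050f1) (.leaf 0xc3710b9)) (.node (.leaf 0xb4d50bb) (.leaf 0x12bfd0b9))) (.node (.node (.leaf 0xf5490b9) (.leaf 0x188b50f1)) (.node (.leaf 0xc8e10f1) (.leaf 0x0)))) (.node (.node (.node (.leaf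 0x47590dd) (.leaf 0x67590f1)) (.node (.leaf 0xc6250b9) (.leaf 0xcdc10f1))) (.node (.node (.leaf 0xfaed0dd) (.leaf 0xcded0f1)) (.node (.leaf 0xcc7d0b9) (.leaf 0x0))))))) (.node (.node (.node (.node (.node (.node (.leaf 0x10b6) (.leaf 0x4c510b9)) (.node (.leaf 0x11e510bb) (.leaf 0x125dd0bb))) (.node (.node (.leaf 0x166b90f1) (.leaf 0x1228d0f1)) (.node (.leaf 0x138d90b9) (.leaf 0x12da10f1)))) (.node (.node (.node (.leaf 0x1956d0f1) (.leaf 0x124f90f1)) (.node (.leaf 0xdcf90b9) (.leaf 0x107190b9))) (.node (.node (.leaf 0x13ae10f1) (.leaf 0xf0e10bb)) (.node (.leaf 0xd4410b9) (.leaf 0x0))))) (.node (.node (.node (.node (.leaf 0xd01d0f1) (.leaf 0xaad10b9)) (.node (.leaf 0xf85d0f1) (.leaf 0x91fd0bb))) (.node (.node (.leaf 0xcf3d0f1) (.leaf 0x144090b9)) (.node (.leaf 0xcab10bb) (.leaf 0xe2510dd)))) (.node (.node (.node (.leaf 0xea610bb) (.leaf 0x101750bb)) (.node (.leaf 0x127f10f1) (.leaf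 0xe7650dd))) (.node (.node (.leaf 0x40c50f1) (.leaf 0x125b90bb)) (.node (.leaf 0xd4190f1) (.leaf 0x0)))))) (.node (.node (.node (.node (.node (.leaf 0x1a3e10f1) (.leaf 0xfa850dd)) (.node (.leaf 0x133e90b9) (.leaf 0x112610f1))) (.node (.node (.leaf 0x44b50bb) (.leaf 0x109050f1)) (.node (.leaf 0xa1890bb) (.leaf 0x10b4d0b9)))) (.node (.node (.node (.leaf 0x105dd0f1) (.leaf 0x179d50f1)) (.node (.leaf 0x4b710b9) (.leaf 0x41490f1))) (.node (.node (.leaf 0xe1750b9) (.leaf 0x8fb90b9)) (.node (.leaf 0xab250bb) (.leaf 0x0))))) (.node (.node (.node (.node (.leaf 0xf7c50f1) (.leaf 0x1425d0b9)) (.node (.leaf 0xe06d0b9) (.leaf 0xf74d0b9))) (.node (.node (.leaf 0x46890bb) (.leaf 0x127090bb)) (.node (.leaf 0x45990bb) (.leaf 0x0)))) (.node (.node (.node (.leaf 0xd12d0dd) (.leaf 0xf8a50dd)) (.node (.leaf 0x149e50bb) (.leaf 0x10e0d0f1))) (.node (.node (.leaf 0x42a10f1) (.leaf 0xf8a90bb)) (.node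 (.leaf 0xa3790f1) (.leaf 0x0))))))))))

/-- packed table -/
noncomputable def cov8_lrr : BTree := (.node (.node (.node (.node (.node (.node (.node (.node (.node (.leaf 0x40090dd) (.leaf 0x151e90f1)) (.node (.leaf 0x8ff10b9) (.leaf 0x134190dd))) (.node (.node (.leaf 0x1c84) (.leaf 0xcdf10b9)) (.node (.leaf 0x16bc90f1) (.leaf 0x1267d0f1)))) (.node (.node (.node (.leaf 0xea590bb) (.leaf 0x102210f1)) (.node (.leaf 0x9fdd0b9) (.leaf 0xc2590f1))) (.node (.node (.leaf 0x188990f1) (.leaf 0x9a450f1)) (.node (.leaf 0xf2550dd) (.leaf 0x0))))) (.node (.node (.node (.node (.leaf 0x163ed0f1) (.leaf 0x133550bb)) (.node (.leaf 0x131690f1) (.leaf 0x44450f1))) (.node (.node (.leaf 0xd69d0b9) (.leaf 0x124350dd)) (.node (.leaf 0xe1c50bb) (.leaf 0xc63d0b9)))) (.node (.node (.node (.leaf 0x10a910b9) (.leaf 0x11ea90f1)) (.node (.leaf 0x1180d0bb) (.leaf 0x132a10b9))) (.node (.node (.leaf 0xe19d0b9)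 (.leaf 0xd12d0f1)) (.node (.leaf 0x103910bb) (.leaf 0x0)))))) (.node (.node (.node (.node (.node (.leaf 0xe1c90f1) (.leaf 0xe6ed0f1)) (.node (.leaf 0x91510dd) (.leaf 0xf5390dd))) (.node (.node (.leaf 0xaf110dd) (.leaf 0x8a9d0bb)) (.node (.leaf 0x1419d0f1) (.leaf 0x11db90dd)))) (.node (.node (.node (.leaf 0xe06d0bb) (.leaf 0x119f50bb)) (.node (.leaf 0xc9090b9) (.leaf 0xae710dd))) (.node (.node (.leaf 0x80b90f1) (.leaf 0x1046d0b9)) (.node (.leaf 0xb1710f1) (.leaf 0x0))))) (.node (.node (.node (.node (.leaf 0x134510dd) (.leaf 0x165950f1)) (.node (.leaf 0x169ad0b9) (.leaf 0x127cd0bb))) (.node (.node (.leaf 0x11f250f1) (.leaf 0x114590f1)) (.node (.leaf 0x113650b9) (.leaf 0x11a0d0dd)))) (.node (.node (.node (.leaf 0xea610b9) (.leaf 0xe6f10b9)) (.node (.leaf 0x94c50bb) (.leaf 0x9e850bb))) (.node (.node (.leaf 0x5e2d0bb) (.leaf 0xc9090dd)) (.node (.leaf 0x10b290f1) (.leaf 0x0)))))))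 (.node (.node (.node (.node (.node (.node (.leaf 0x101290b9) (.leaf 0x10e050b9)) (.node (.leaf 0xd0a90f1) (.leaf 0x132350dd))) (.node (.node (.leaf 0x154690dd) (.leaf 0xec050dd)) (.node (.leaf 0x16bbd0dd) (.leaf 0x118dd0f1)))) (.node (.node (.node (.leaf 0xcf490f1) (.leaf 0x103a10f1)) (.node (.leaf 0xaefd0bb) (.leaf 0x1042d0dd))) (.node (.node (.leaf 0xa17d0dd) (.leaf 0xf80d0f1)) (.node (.leaf 0xf2550b9) (.leaf 0x0))))) (.node (.node (.node (.node (.leaf 0xb7ad0b9) (.leaf 0x13a610f1)) (.node (.leaf 0x90690b9) (.leaf 0xeadd0f1))) (.node (.node (.leaf 0x1b5810f1) (.leaf 0x40b50bb)) (.node (.leaf 0xb0b90dd) (.leaf 0xfaa10b9)))) (.node (.node (.node (.leaf 0x1ab750f1) (.leaf 0xf7090b9)) (.node (.leaf 0x80510dd) (.leaf 0xd5650bb))) (.node (.node (.leaf 0xe5510bb) (.leaf 0xefdd0b9)) (.node (.leaf 0xf7190dd) (.leaf 0x0)))))) (.node (.node (.node (.node (.node (.leaf 0x133c50f1) (.leaf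 0x40dd0f1)) (.node (.leaf 0x125890dd) (.leaf 0x1228d0b9))) (.node (.node (.leaf 0x12a7d0bb) (.leaf 0xef950bb)) (.node (.leaf 0x10f6) (.leaf 0xdd010b9)))) (.node (.node (.node (.leaf 0x10f8) (.leaf 0x13ad90f1)) (.node (.leaf 0x94e50b9) (.leaf 0x176190dd))) (.node (.node (.leaf 0x15b610bb) (.leaf 0x138d90f1)) (.node (.leaf 0xe9190dd) (.leaf 0x0))))) (.node (.node (.node (.node (.leaf 0x96210f1) (.leaf 0x122210f1)) (.node (.leaf 0x93a50dd) (.leaf 0xfaf10f1))) (.node (.node (.leaf 0xf52d0dd) (.leaf 0x10a190dd)) (.node (.leaf 0x8e350b9) (.leaf 0x0)))) (.node (.node (.node (.leaf 0x173a90f1) (.leaf 0x11e310dd)) (.node (.leaf 0xc1790dd) (.leaf 0xec350f1))) (.node (.node (.leaf 0xf7f10f1) (.leaf 0x123210f1)) (.node (.leaf 0xa7690b9) (.leaf 0x0)))))))) (.node (.node (.node (.node (.node (.node (.node (.leaf 0x40c50b9) (.leaf 0x1b5910f1)) (.node (.leaf 0xfb350dd) (.leaf 0xc4690bb))) (.node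 (.node (.leaf 0x1120) (.leaf 0x806d0b9)) (.node (.leaf 0xec550dd) (.leaf 0xde0d0bb)))) (.node (.node (.node (.leaf 0xed1d0bb) (.leaf 0xd7490b9)) (.node (.leaf 0xc9ad0bb) (.leaf 0xeadd0bb))) (.node (.node (.leaf 0xb1b50dd) (.leaf 0x84a90f1)) (.node (.leaf 0xae750bb) (.leaf 0x0))))) (.node (.node (.node (.node (.leaf 0x983d0dd) (.leaf 0x41490bb)) (.node (.leaf 0x105c90f1) (.leaf 0xadc50b9))) (.node (.node (.leaf 0xb77d0f1) (.leaf 0x8ce50f1)) (.node (.leaf 0xebf10f1) (.leaf 0x130c90dd)))) (.node (.node (.node (.leaf 0x4bb50b9) (.leaf 0xadc50bb)) (.node (.leaf 0x122b10f1) (.leaf 0x1178))) (.node (.node (.leaf 0x10f310f1) (.leaf 0x11aa10f1)) (.node (.leaf 0x1301d0f1) (.leaf 0x0)))))) (.node (.node (.node (.node (.node (.leaf 0x11bb10f1) (.leaf 0x130dd0dd)) (.node (.leaf 0x911d0f1) (.leaf 0xf1110b9))) (.node (.node (.leaf 0x15ea50dd) (.leaf 0xc9150f1)) (.node (.leaf 0x97890f1) (.leaf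 0x8bd50f1)))) (.node (.node (.node (.leaf 0x173c10f1) (.leaf 0xc0690b9)) (.node (.leaf 0x16dc10f1) (.leaf 0x1113d0f1))) (.node (.node (.leaf 0x105d10dd) (.leaf 0x120510f1)) (.node (.leaf 0x103450bb) (.leaf 0x0))))) (.node (.node (.node (.node (.leaf 0x10d9d0f1) (.leaf 0xc8e50f1)) (.node (.leaf 0xd3710f1) (.leaf 0xd5610dd))) (.node (.node (.leaf 0x11f550f1) (.leaf 0x10de50f1)) (.node (.leaf 0x14f890f1) (.leaf 0x0)))) (.node (.node (.node (.leaf 0x1534) (.leaf 0x1160)) (.node (.leaf 0x1baa) (.leaf 0xc2610f1))) (.node (.node (.leaf 0x8b050f1) (.leaf 0xdaa50f1)) (.node (.leaf 0x136990dd) (.leaf 0x0))))))) (.node (.node (.node (.node (.node (.node (.leaf 0x40dd0dd) (.leaf 0x143b50f1)) (.node (.leaf 0xc35d0b9) (.leaf 0x132390dd))) (.node (.node (.leaf 0xa3d50b9) (.leaf 0x15ffd0dd)) (.node (.leaf 0x179750f1) (.leaf 0xd88d0b9)))) (.node (.node (.node (.leaf 0x1b3ed0f1) (.leaf 0x108f10f1))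 (.node (.leaf 0x4ec90b9) (.leaf 0xf9590b9))) (.node (.node (.leaf 0xec4d0dd) (.leaf 0x12a2d0f1)) (.node (.leaf 0x127b10dd) (.leaf 0x0))))) (.node (.node (.node (.node (.leaf 0x13b310b9) (.leaf 0xeadd0b9)) (.node (.leaf 0xf9bd0f1) (.leaf 0x54b90dd))) (.node (.node (.leaf 0x1244d0dd) (.leaf 0xe4a50dd)) (.node (.leaf 0x103750b9) (.leaf 0xf25d0dd)))) (.node (.node (.node (.leaf 0xddd10f1) (.leaf 0x10e0d0dd)) (.node (.leaf 0x127d90f1) (.leaf 0xd58d0b9))) (.node (.node (.leaf 0x1733d0f1) (.leaf 0x84cd0f1)) (.node (.leaf 0x103310f1) (.leaf 0x0)))))) (.node (.node (.node (.node (.node (.leaf 0x157c50dd) (.leaf 0xfb450dd)) (.node (.leaf 0xd6c50f1) (.leaf 0xcf490dd))) (.node (.node (.leaf 0x86a10b9) (.leaf 0xa1990dd)) (.node (.leaf 0xa17d0bb) (.leaf 0x145910f1)))) (.node (.node (.node (.leaf 0x9d890dd) (.leaf 0xb7a10f1)) (.node (.leaf 0xa8f10dd) (.leaf 0x8d050dd))) (.node (.node (.leaf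 0xa17d0b9) (.leaf 0xda990f1)) (.node (.leaf 0xc6cd0f1) (.leaf 0x0))))) (.node (.node (.node (.node (.leaf 0x11e450b9) (.leaf 0xc8e50bb)) (.node (.leaf 0x113e90dd) (.leaf 0xd3250b9))) (.node (.node (.leaf 0xc6790bb) (.leaf 0x152810bb)) (.node (.leaf 0x4c5d0b9) (.leaf 0x0)))) (.node (.node (.node (.leaf 0xe6750f1) (.leaf 0xfb490dd)) (.node (.leaf 0x12c850bb) (.leaf 0x11b2d0f1))) (.node (.node (.leaf 0x49f50dd) (.leaf 0x98090f1)) (.node (.leaf 0xea390f1) (.leaf 0x0))))))))) (.node (.node (.node (.node (.node (.node (.node (.node (.leaf 0x80250f1) (.leaf 0x16a190f1)) (.node (.leaf 0xcfd10b9) (.leaf 0xd0f50f1))) (.node (.node (.leaf 0xae710b9) (.leaf 0xd9e90f1)) (.node (.leaf 0x1026d0dd) (.leaf 0xf2690f1)))) (.node (.node (.node (.leaf 0xf1f50b9) (.leaf 0x1024d0f1)) (.node (.leaf 0x113c90b9) (.leaf 0x632d0f1))) (.node (.node (.leaf 0xeaa10bb) (.leaf 0x124610f1)) (.node (.leaf 0x113d50f1)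 (.leaf 0x0))))) (.node (.node (.node (.node (.leaf 0x124350f1) (.leaf 0x13b410dd)) (.node (.leaf 0x9d890bb) (.leaf 0xd1550f1))) (.node (.node (.leaf 0x101b10f1) (.leaf 0xa3790b9)) (.node (.leaf 0xda7d0bb) (.leaf 0xfb450f1)))) (.node (.node (.node (.leaf 0x1062d0f1) (.leaf 0x151750bb)) (.node (.leaf 0x124150dd) (.leaf 0xb2190dd))) (.node (.node (.leaf 0x121cd0b9) (.leaf 0x1a0690f1)) (.node (.leaf 0x7a410dd) (.leaf 0x0)))))) (.node (.node (.node (.node (.node (.leaf 0x91250b9) (.leaf 0x151ed0f1)) (.node (.leaf 0x133cd0b9) (.leaf 0x119b90dd))) (.node (.node (.leaf 0x166550dd) (.leaf 0xe9050dd)) (.node (.leaf 0x1655d0b9) (.leaf 0xdc7d0dd)))) (.node (.node (.node (.leaf 0xc9d10f1) (.leaf 0x134590f1)) (.node (.leaf 0xf6ad0bb) (.leaf 0x84710f1))) (.node (.node (.leaf 0x152490f1) (.leaf 0x104c10dd)) (.node (.leaf 0x832d0b9) (.leaf 0x0))))) (.node (.node (.node (.node (.leaf 0x129510f1)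 (.leaf 0x15aa90f1)) (.node (.leaf 0xd3350dd) (.leaf 0x165550f1))) (.node (.node (.leaf 0x7b0d0b9) (.leaf 0xdf110b9)) (.node (.leaf 0x10d610b9) (.leaf 0x10fa10f1)))) (.node (.node (.node (.leaf 0x113050dd) (.leaf 0x9fdd0bb)) (.node (.leaf 0x81350dd) (.leaf 0x1150))) (.node (.node (.leaf 0xd5050b9) (.leaf 0x111010f1)) (.node (.leaf 0x139950dd) (.leaf 0x0))))))) (.node (.node (.node (.node (.node (.node (.leaf 0x40c90dd) (.leaf 0x88dd0f1)) (.node (.leaf 0x1279d0b9) (.leaf 0x57050bb))) (.node (.node (.leaf 0xe3c10b9) (.leaf 0xf76d0bb)) (.node (.leaf 0x1222d0dd) (.leaf 0x118e50f1)))) (.node (.node (.node (.leaf 0x194550f1) (.leaf 0x10fa50dd)) (.node (.leaf 0x1198) (.leaf 0x122210b9))) (.node (.node (.leaf 0x4cf50b9) (.leaf 0x1233d0f1)) (.node (.leaf 0x89110f1) (.leaf 0x0))))) (.node (.node (.node (.node (.leaf 0x82c90dd) (.leaf 0xeaa10b9)) (.node (.leaf 0xe2450f1) (.leaf 0x12da10b9)))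 (.node (.node (.leaf 0x11d350f1) (.leaf 0x79c50f1)) (.node (.leaf 0xf1810bb) (.leaf 0xf5dd0b9)))) (.node (.node (.node (.leaf 0x106c50dd) (.leaf 0x123b10dd)) (.node (.leaf 0x80410dd) (.leaf 0x77390dd))) (.node (.node (.leaf 0x179ed0f1) (.leaf 0x154110f1)) (.node (.leaf 0xcdcd0b9) (.leaf 0x0)))))) (.node (.node (.node (.node (.node (.leaf 0x12c850f1) (.leaf 0xb6450dd)) (.node (.leaf 0xa0750dd) (.leaf 0x111150f1))) (.node (.node (.leaf 0xcb490dd) (.leaf 0x152810f1)) (.node (.leaf 0xd4a50b9) (.leaf 0xec210b9)))) (.node (.node (.node (.leaf 0xc1c90b9) (.leaf 0xe2e90f1)) (.node (.leaf 0xc5d50b9) (.leaf 0x124f90b9))) (.node (.node (.leaf 0xaf5d0bb) (.leaf 0x105750dd)) (.node (.leaf 0xc6fd0f1) (.leaf 0x0))))) (.node (.node (.node (.node (.leaf 0x1abb10f1) (.leaf 0x14e390f1)) (.node (.leaf 0xc4750f1) (.leaf 0xade50bb))) (.node (.node (.leaf 0xe5410dd) (.leaf 0x8ee90dd)) (.node (.leaf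 0x8e710b9) (.leaf 0x0)))) (.node (.node (.node (.leaf 0x113290b9) (.leaf 0xd6990f1)) (.node (.leaf 0x102890b9) (.leaf 0x50450bb))) (.node (.node (.leaf 0x4ec90dd) (.leaf 0xf0a50f1)) (.node (.leaf 0xac010bb) (.leaf 0x0)))))))) (.node (.node (.node (.node (.node (.node (.node (.leaf 0x1425d0dd) (.leaf 0x12bfd0bb)) (.node (.leaf 0xde810b9) (.leaf 0x14fad0dd))) (.node (.node (.leaf 0x10c0d0f1) (.leaf 0xefdd0bb)) (.node (.leaf 0xec590dd) (.leaf 0xec4d0b9)))) (.node (.node (.node (.leaf 0x1140) (.leaf 0x160010f1)) (.node (.leaf 0xc8750dd) (.leaf 0x134710f1))) (.node (.node (.leaf 0x166690dd) (.leaf 0x10d610f1)) (.node (.leaf 0x15ff10b9) (.leaf 0x0))))) (.node (.node (.node (.node (.leaf 0xac010b9) (.leaf 0x10f7d0f1)) (.node (.leaf 0x9d710bb) (.leaf 0x1308d0dd))) (.node (.node (.leaf 0xfa710f1) (.leaf 0xe3c10dd)) (.node (.leaf 0x6c7d0bb) (.leaf 0x86b50f1)))) (.node (.node (.node (.leaf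 0x86590dd) (.leaf 0x80ed0bb)) (.node (.leaf 0xf4110bb) (.leaf 0x76590dd))) (.node (.node (.leaf 0xd58d0f1) (.leaf 0x44790bb)) (.node (.leaf 0x124910b9) (.leaf 0x0)))))) (.node (.node (.node (.node (.node (.leaf 0x9a910b9) (.leaf 0x40d10f1)) (.node (.leaf 0x11c5d0dd) (.leaf 0xd9a10f1))) (.node (.node (.leaf 0xfb490f1) (.leaf 0xaf4d0f1)) (.node (.leaf 0xdefd0b9) (.leaf 0x10ca50dd)))) (.node (.node (.node (.leaf 0x161050f1) (.leaf 0xf03d0bb)) (.node (.leaf 0x80d50bb) (.leaf 0x9cc10dd))) (.node (.node (.leaf 0xc4690f1) (.leaf 0xd4290f1)) (.node (.leaf 0xb3b10f1) (.leaf 0x0))))) (.node (.node (.node (.node (.leaf 0x168950f1) (.leaf 0x67590dd)) (.node (.leaf 0xd3690f1) (.leaf 0x104ad0f1))) (.node (.node (.leaf 0x46890b9) (.leaf 0x162c10dd)) (.node (.leaf 0x4e7d0bb) (.leaf 0x0)))) (.node (.node (.node (.leaf 0x10cc) (.leaf 0xe3d10dd)) (.node (.leaf 0x117550bb) (.leaf 0x15dc50dd)))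 (.node (.node (.leaf 0xa2890f1) (.leaf 0xd5990dd)) (.node (.leaf 0x9fa50b9) (.leaf 0x0))))))) (.node (.node (.node (.node (.node (.node (.leaf 0x101090dd) (.leaf 0x119fd0bb)) (.node (.leaf 0x115390f1) (.leaf 0xf5350dd))) (.node (.node (.leaf 0x12f0d0dd) (.leaf 0x8c410b9)) (.node (.leaf 0x102510f1) (.leaf 0x1adc90f1)))) (.node (.node (.node (.leaf 0x44450dd) (.leaf 0xe5bd0b9)) (.node (.leaf 0xe0e50dd) (.leaf 0x14cfd0f1))) (.node (.node (.leaf 0xf7310bb) (.leaf 0x84f90f1)) (.node (.leaf 0xa4410f1) (.leaf 0x0))))) (.node (.node (.node (.node (.leaf 0xb7ad0bb) (.leaf 0x15ff50f1)) (.node (.leaf 0x107350dd) (.leaf 0x11a0))) (.node (.node (.leaf 0x1b0fd0f1) (.leaf 0xce4d0dd)) (.node (.leaf 0x149b50f1) (.leaf 0xcab50bb)))) (.node (.node (.node (.leaf 0x1450) (.leaf 0x132a10bb)) (.node (.leaf 0x167810b9) (.leaf 0x102890f1))) (.node (.node (.leaf 0x41d10bb) (.leaf 0xd9590bb)) (.node (.leaf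 0x103e50f1) (.leaf 0x0)))))) (.node (.node (.node (.node (.node (.leaf 0x164090f1) (.leaf 0xa2590dd)) (.node (.leaf 0x103310b9) (.leaf 0x111210b9))) (.node (.node (.leaf 0xc7fd0bb) (.leaf 0xf9c10f1)) (.node (.leaf 0xa1990bb) (.leaf 0x171490dd)))) (.node (.node (.node (.leaf 0x146110f1) (.leaf 0x11f1d0b9)) (.node (.leaf 0xc9b10f1) (.leaf 0x138790b9))) (.node (.node (.leaf 0x806d0dd) (.leaf 0x9a890dd)) (.node (.leaf 0xc70d0f1) (.leaf 0x0))))) (.node (.node (.node (.node (.leaf 0x11e510b9) (.leaf 0x156d90b9)) (.node (.leaf 0x9bed0b9) (.leaf 0xe53d0f1))) (.node (.node (.leaf 0x877d0b9) (.leaf 0x163890dd)) (.node (.leaf 0x10c8) (.leaf 0x0)))) (.node (.node (.node (.leaf 0xb4350b9) (.leaf 0xe8590dd)) (.node (.leaf 0x1184) (.leaf 0x129a50dd))) (.node (.node (.leaf 0xd02d0b9) (.leaf 0xd3490b9)) (.node (.leaf 0x127f90b9) (.leaf 0x0))))))))))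

/-- packed table -/
noncomputable def cov8_rll : BTree := (.node (.node (.node (.node (.node (.node (.node (.node (.node (.leaf 0x40090b9) (.leaf 0x127d10b9)) (.node (.leaf 0xb2cd0dd) (.leaf 0xc6fd0b9))) (.node (.node (.leaf 0x137750b9) (.leaf 0x11f250b9)) (.node (.leaf 0xf7050f1) (.leaf 0x11b450bb)))) (.node (.node (.node (.leaf 0x176190b9) (.leaf 0x109890bb)) (.node (.leaf 0x8c550b9) (.leaf 0xc3a90f1))) (.node (.node (.leaf 0xfaa10bb) (.leaf 0xad610bb)) (.node (.leaf 0xd3990f1) (.leaf 0x0))))) (.node (.node (.node (.node (.leaf 0x163e50f1) (.leaf 0x134090dd)) (.node (.leaf 0x116110b9) (.leaf 0xfa510dd))) (.node (.node (.leaf 0x10e090dd) (.leaf 0xfa3d0dd)) (.node (.leaf 0xea1d0dd) (.leaf 0xd0890b9)))) (.node (.node (.node (.leaf 0x8ae10b9) (.leaf 0xe3510dd)) (.node (.leaf 0x9d450bb) (.leaf 0x10ddd0f1))) (.node (.node (.leaf 0xe1b10b9) (.leaf 0xea110dd)) (.node (.leaf 0xcf8d0bb)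 (.leaf 0x0)))))) (.node (.node (.node (.node (.node (.leaf 0x101290dd) (.leaf 0x107350bb)) (.node (.leaf 0x1740d0b9) (.leaf 0x975d0bb))) (.node (.node (.leaf 0xcbf90dd) (.leaf 0xb9b50f1)) (.node (.leaf 0x1366d0f1) (.leaf 0x14f2d0dd)))) (.node (.node (.node (.leaf 0x1334d0f1) (.leaf 0x14e450f1)) (.node (.leaf 0xb0f10f1) (.leaf 0xfaed0bb))) (.node (.node (.leaf 0x608d0b9) (.leaf 0xc4510dd)) (.node (.leaf 0x9b4d0dd) (.leaf 0x0))))) (.node (.node (.node (.node (.leaf 0x77cd0bb) (.leaf 0x109690b9)) (.node (.leaf 0xddd10bb) (.leaf 0x19e0))) (.node (.node (.leaf 0x7a410bb) (.leaf 0x1145d0f1)) (.node (.leaf 0x10ced0b9) (.leaf 0x122010dd)))) (.node (.node (.node (.leaf 0xaa910bb) (.leaf 0xcdd50f1)) (.node (.leaf 0x1170) (.leaf 0xb6a50dd))) (.node (.node (.leaf 0x10e090b9) (.leaf 0x148d10dd)) (.node (.leaf 0x12e210dd) (.leaf 0x0))))))) (.node (.node (.node (.node (.node (.node (.leaf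 0x101190b9) (.leaf 0xc3710dd)) (.node (.leaf 0x54b50dd) (.leaf 0x108fd0b9))) (.node (.node (.leaf 0x8bed0f1) (.leaf 0xec5d0bb)) (.node (.leaf 0x12e810f1) (.leaf 0x135ed0bb)))) (.node (.node (.node (.leaf 0xb6350f1) (.leaf 0xd2d10f1)) (.node (.leaf 0xc8850dd) (.leaf 0xc35d0dd))) (.node (.node (.leaf 0xcc990f1) (.leaf 0xc3990dd)) (.node (.leaf 0xf2690b9) (.leaf 0x0))))) (.node (.node (.node (.node (.leaf 0x169690f1) (.leaf 0x13a610bb)) (.node (.leaf 0x152a90dd) (.leaf 0x138110dd))) (.node (.node (.leaf 0xf3bd0dd) (.leaf 0xc82d0f1)) (.node (.leaf 0x178290f1) (.leaf 0x81450b9)))) (.node (.node (.node (.leaf 0xcbb10bb) (.leaf 0x12db10bb)) (.node (.leaf 0xf4b10bb) (.leaf 0xd1710f1))) (.node (.node (.leaf 0x1601d0f1) (.leaf 0x1120d0f1)) (.node (.leaf 0x70810dd) (.leaf 0x0)))))) (.node (.node (.node (.node (.node (.leaf 0x157790dd) (.leaf 0x40b50f1)) (.node (.leaf 0x9fdd0dd) (.leaf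 0x1165d0f1))) (.node (.node (.leaf 0xf5090f1) (.leaf 0x129a50f1)) (.node (.leaf 0xf76d0dd) (.leaf 0x10e190f1)))) (.node (.node (.node (.leaf 0x130050f1) (.leaf 0x179e50f1)) (.node (.leaf 0x155f50dd) (.leaf 0x1623d0dd))) (.node (.node (.leaf 0x41d10dd) (.leaf 0x112710f1)) (.node (.leaf 0x134450dd) (.leaf 0x0))))) (.node (.node (.node (.node (.leaf 0x5e2d0b9) (.leaf 0x1220d0f1)) (.node (.leaf 0xcf250b9) (.leaf 0xd7a90b9))) (.node (.node (.leaf 0x868d0b9) (.leaf 0x1ab650f1)) (.node (.leaf 0x12a2d0dd) (.leaf 0x0)))) (.node (.node (.node (.leaf 0xf5150bb) (.leaf 0x10cc50f1)) (.node (.leaf 0x159410f1) (.leaf 0x8a950bb))) (.node (.node (.leaf 0x10e150dd) (.leaf 0xce4d0b9)) (.node (.leaf 0x12f0d0bb) (.leaf 0x0)))))))) (.node (.node (.node (.node (.node (.node (.node (.leaf 0x80e50b9) (.leaf 0x10a1d0b9)) (.node (.leaf 0x1166) (.leaf 0x75750bb))) (.node (.node (.leaf 0x1041d0f1) (.leaf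 0x119f50f1)) (.node (.leaf 0x142750dd) (.leaf 0x168050f1)))) (.node (.node (.node (.leaf 0x1168) (.leaf 0x12aed0bb)) (.node (.leaf 0x1083d0b9) (.leaf 0xca510bb))) (.node (.node (.leaf 0xcc590f1) (.leaf 0x111d90dd)) (.node (.leaf 0x113f50f1) (.leaf 0x0))))) (.node (.node (.node (.node (.leaf 0x112110f1) (.leaf 0x8b390dd)) (.node (.leaf 0x156e90b9) (.leaf 0xdb7d0f1))) (.node (.node (.leaf 0x10e050dd) (.leaf 0x14e410f1)) (.node (.leaf 0x5a690bb) (.leaf 0x50450b9)))) (.node (.node (.node (.leaf 0x106210f1) (.leaf 0x12e9d0b9)) (.node (.leaf 0xf39d0dd) (.leaf 0x40c10bb))) (.node (.node (.leaf 0x103750dd) (.leaf 0x165950bb)) (.node (.leaf 0xd1b90f1) (.leaf 0x0)))))) (.node (.node (.node (.node (.node (.leaf 0x57590dd) (.leaf 0xba4d0f1)) (.node (.leaf 0xe06d0dd) (.leaf 0x162e10f1))) (.node (.node (.leaf 0x173190dd) (.leaf 0xcc250b9)) (.node (.leaf 0x11c850dd) (.leaf 0xe1750dd)))) (.node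 (.node (.node (.leaf 0x1351d0f1) (.leaf 0x15c390dd)) (.node (.leaf 0xe3d10f1) (.leaf 0xd1950f1))) (.node (.node (.leaf 0x166c50f1) (.leaf 0xf4b10b9)) (.node (.leaf 0x62550dd) (.leaf 0x0))))) (.node (.node (.node (.node (.leaf 0xe5690f1) (.leaf 0x176190f1)) (.node (.leaf 0x84f90b9) (.leaf 0x162b50f1))) (.node (.node (.leaf 0x11f490f1) (.leaf 0xcba10f1)) (.node (.leaf 0xcd810f1) (.leaf 0x81510b9)))) (.node (.node (.node (.leaf 0xcbfd0bb) (.leaf 0xa75d0f1)) (.node (.leaf 0xc1610dd) (.leaf 0x122bd0f1))) (.node (.node (.leaf 0x10e190dd) (.leaf 0x953d0dd)) (.node (.leaf 0x132450dd) (.leaf 0x0))))))) (.node (.node (.node (.node (.node (.node (.leaf 0x10d2) (.leaf 0xd6990bb)) (.node (.leaf 0x11f350b9) (.leaf 0x109c50b9))) (.node (.node (.leaf 0x111ad0f1) (.leaf 0x11c4d0bb)) (.node (.leaf 0x120a10f1) (.leaf 0x165810f1)))) (.node (.node (.node (.leaf 0xebad0bb) (.leaf 0xcdd50dd)) (.node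 (.leaf 0x4eed0dd) (.leaf 0x105b50dd))) (.node (.node (.leaf 0xf7510dd) (.leaf 0x83c50b9)) (.node (.leaf 0x1076d0f1) (.leaf 0x0))))) (.node (.node (.node (.node (.leaf 0x82950dd) (.leaf 0xc5d90f1)) (.node (.leaf 0xf2590f1) (.leaf 0x80e50bb))) (.node (.node (.leaf 0x16e1d0f1) (.leaf 0xf9a10f1)) (.node (.leaf 0xb1210bb) (.leaf 0xcdf10f1)))) (.node (.node (.node (.leaf 0xcb850b9) (.leaf 0x123210dd)) (.node (.leaf 0x80610dd) (.leaf 0xef450f1))) (.node (.node (.leaf 0x11da50f1) (.leaf 0x156810f1)) (.node (.leaf 0x10e2d0dd) (.leaf 0x0)))))) (.node (.node (.node (.node (.node (.leaf 0xd4150f1) (.leaf 0xba690dd)) (.node (.leaf 0xcdf50dd) (.leaf 0x122d90f1))) (.node (.node (.leaf 0xc1790f1) (.leaf 0xf8950dd)) (.node (.leaf 0xb0b90f1) (.leaf 0x111e)))) (.node (.node (.node (.leaf 0xdf990dd) (.leaf 0x127f10bb)) (.node (.leaf 0x953d0b9) (.leaf 0x15a710b9))) (.node (.node (.leaf 0xa1810b9)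 (.leaf 0x45990dd)) (.node (.leaf 0x135650bb) (.leaf 0x0))))) (.node (.node (.node (.node (.leaf 0x7b0d0f1) (.leaf 0x9a910dd)) (.node (.leaf 0x113c90dd) (.leaf 0xd7950b9))) (.node (.node (.leaf 0x178ad0dd) (.leaf 0xe6e50bb)) (.node (.leaf 0x59990b9) (.leaf 0x0)))) (.node (.node (.node (.leaf 0xd4050dd) (.leaf 0xd6a10f1)) (.node (.leaf 0x119650f1) (.leaf 0x8b650b9))) (.node (.node (.leaf 0xcf610b9) (.leaf 0x47590bb)) (.node (.leaf 0xa6910dd) (.leaf 0x0))))))))) (.node (.node (.node (.node (.node (.node (.node (.node (.leaf 0x40090bb) (.leaf 0x127c10b9)) (.node (.leaf 0x82dd0f1) (.leaf 0x1341d0dd))) (.node (.node (.leaf 0xc7f90dd) (.leaf 0x164650b9)) (.node (.leaf 0x16be10f1) (.leaf 0x1aca50f1)))) (.node (.node (.node (.leaf 0xcdf50b9) (.leaf 0xcdf90b9)) (.node (.leaf 0x12b1d0b9) (.leaf 0xc1a50f1))) (.node (.node (.leaf 0x87690b9) (.leaf 0x160490f1)) (.node (.leaf 0xe7750b9) (.leaf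 0x0))))) (.node (.node (.node (.node (.leaf 0x1242d0f1) (.leaf 0xdd490dd)) (.node (.leaf 0xdd190bb) (.leaf 0xd15d0b9))) (.node (.node (.leaf 0x94dd0dd) (.leaf 0xdf790f1)) (.node (.leaf 0xe1bd0bb) (.leaf 0xba450dd)))) (.node (.node (.node (.leaf 0x8abd0b9) (.leaf 0xb2dd0f1)) (.node (.leaf 0x1305d0f1) (.leaf 0xf28d0b9))) (.node (.node (.leaf 0x139a50f1) (.leaf 0x151d10f1)) (.node (.leaf 0xf5490dd) (.leaf 0x0)))))) (.node (.node (.node (.node (.node (.leaf 0xdbc90f1) (.leaf 0x1349d0bb)) (.node (.leaf 0x61ed0dd) (.leaf 0x183f50f1))) (.node (.node (.leaf 0xe1b90bb) (.leaf 0xaab90dd)) (.node (.leaf 0x1768d0f1) (.leaf 0x119ad0dd)))) (.node (.node (.node (.leaf 0xf36d0f1) (.leaf 0x151690f1)) (.node (.leaf 0xcb850dd) (.leaf 0x121cd0dd))) (.node (.node (.leaf 0x126c10f1) (.leaf 0x1444d0b9)) (.node (.leaf 0xa3d50dd) (.leaf 0x0))))) (.node (.node (.node (.node (.leaf 0x9d610b9) (.leaf 0x127d50bb))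 (.node (.leaf 0x8e710f1) (.leaf 0x149290dd))) (.node (.node (.leaf 0xe0650dd) (.leaf 0x4e7d0dd)) (.node (.leaf 0x16f410f1) (.leaf 0x86590f1)))) (.node (.node (.node (.leaf 0x130050b9) (.leaf 0x127190f1)) (.node (.leaf 0x117990bb) (.leaf 0x130f50bb))) (.node (.node (.leaf 0x84710b9) (.leaf 0x1568d0f1)) (.node (.leaf 0xcd810dd) (.leaf 0x0))))))) (.node (.node (.node (.node (.node (.node (.leaf 0x14e750dd) (.leaf 0x10f9d0b9)) (.node (.leaf 0x5d310dd) (.leaf 0x88dd0b9))) (.node (.node (.leaf 0xcbf90f1) (.leaf 0x8d050f1)) (.node (.leaf 0xf2bd0f1) (.leaf 0x80650b9)))) (.node (.node (.node (.leaf 0x10a090f1) (.leaf 0x8c490b9)) (.node (.leaf 0x8f110f1) (.leaf 0x12b1d0bb))) (.node (.node (.leaf 0xf3910bb) (.leaf 0x143f90dd)) (.node (.leaf 0xc7310f1) (.leaf 0x0))))) (.node (.node (.node (.node (.leaf 0x90010f1) (.leaf 0xf7a50f1)) (.node (.leaf 0x44f50f1) (.leaf 0xe6ed0b9))) (.node (.node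 (.leaf 0x12ffd0f1) (.leaf 0xb6bd0f1)) (.node (.leaf 0x8f110b9) (.leaf 0xfa8d0bb)))) (.node (.node (.node (.leaf 0x14bc10bb) (.leaf 0x173350f1)) (.node (.leaf 0xc0710dd) (.leaf 0x6fe10b9))) (.node (.node (.leaf 0x104650bb) (.leaf 0x107a50f1)) (.node (.leaf 0x127d90bb) (.leaf 0x0)))))) (.node (.node (.node (.node (.node (.leaf 0x97cd0dd) (.leaf 0xd5790dd)) (.node (.leaf 0x12a3d0f1) (.leaf 0x151610f1))) (.node (.node (.leaf 0xe5910dd) (.leaf 0xec6d0bb)) (.node (.leaf 0x139090f1) (.leaf 0xdcf50b9)))) (.node (.node (.node (.leaf 0x122350f1) (.leaf 0xd9a10dd)) (.node (.leaf 0xdb990dd) (.leaf 0x13a110dd))) (.node (.node (.leaf 0xdaa50dd) (.leaf 0xe0f50bb)) (.node (.leaf 0xc35d0bb) (.leaf 0x0))))) (.node (.node (.node (.node (.leaf 0x10f990dd) (.leaf 0xc9190bb)) (.node (.leaf 0x5d3d0b9) (.leaf 0x143d90f1))) (.node (.node (.leaf 0x1066d0b9) (.leaf 0xcc7d0bb)) (.node (.leaf 0x82950b9)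 (.leaf 0x0)))) (.node (.node (.node (.leaf 0xd6b10bb) (.leaf 0x116ad0f1)) (.node (.leaf 0x1598d0f1) (.leaf 0x9d610dd))) (.node (.node (.leaf 0xe6f10f1) (.leaf 0x115e50dd)) (.node (.leaf 0x67590b9) (.leaf 0x0)))))))) (.node (.node (.node (.node (.node (.node (.node (.leaf 0x40d10b9) (.leaf 0x92e10f1)) (.node (.leaf 0xfa250bb) (.leaf 0x105690f1))) (.node (.node (.leaf 0xd6750b9) (.leaf 0x139a50dd)) (.node (.leaf 0xd0110dd) (.leaf 0x1307d0dd)))) (.node (.node (.node (.leaf 0xdbb90f1) (.leaf 0x117550b9)) (.node (.leaf 0xf0690f1) (.leaf 0xc3250dd))) (.node (.node (.leaf 0x166f90dd) (.leaf 0xd2790f1)) (.node (.leaf 0xec550bb) (.leaf 0x0))))) (.node (.node (.node (.node (.leaf 0xd6090f1) (.leaf 0x14f850f1)) (.node (.leaf 0x10e210b9) (.leaf 0xcdcd0f1))) (.node (.node (.leaf 0x133c50dd) (.leaf 0xca310b9)) (.node (.leaf 0xec150f1) (.leaf 0x90690bb)))) (.node (.node (.node (.leaf 0x14bc90b9)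 (.leaf 0x11f250bb)) (.node (.leaf 0x173310bb) (.leaf 0x136d90dd))) (.node (.node (.leaf 0x12f6d0bb) (.leaf 0x15ff50b9)) (.node (.leaf 0x103e90bb) (.leaf 0x0)))))) (.node (.node (.node (.node (.node (.leaf 0xd7490dd) (.leaf 0xef450bb)) (.node (.leaf 0xf2490bb) (.leaf 0xe2910f1))) (.node (.node (.leaf 0x103350bb) (.leaf 0xb00d0f1)) (.node (.leaf 0xfb110dd) (.leaf 0x10de10f1)))) (.node (.node (.node (.leaf 0xe9710bb) (.leaf 0xb2e50f1)) (.node (.leaf 0xb3610dd) (.leaf 0xf80d0dd))) (.node (.node (.leaf 0xc2bd0bb) (.leaf 0x45210dd)) (.node (.leaf 0xf7b10f1) (.leaf 0x0))))) (.node (.node (.node (.node (.leaf 0xeaa10f1) (.leaf 0xf89d0f1)) (.node (.leaf 0xed1d0b9) (.leaf 0x17ad10f1))) (.node (.node (.leaf 0x7a410b9) (.leaf 0x149b50dd)) (.node (.leaf 0x1230d0f1) (.leaf 0x0)))) (.node (.node (.node (.leaf 0x107510dd) (.leaf 0xa4510b9)) (.node (.leaf 0x81510dd) (.leaf 0x83850f1))) (.node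 (.node (.leaf 0x1342d0dd) (.leaf 0x10d9d0b9)) (.node (.leaf 0x103450dd) (.leaf 0x0))))))) (.node (.node (.node (.node (.node (.node (.leaf 0x40d10dd) (.leaf 0xade50b9)) (.node (.leaf 0xd5c50b9) (.leaf 0x133c50b9))) (.node (.node (.leaf 0xaefd0dd) (.leaf 0x151750f1)) (.node (.leaf 0xdb950dd) (.leaf 0x12da50f1)))) (.node (.node (.node (.leaf 0x61ed0bb) (.leaf 0xdfbd0b9)) (.node (.leaf 0x73050dd) (.leaf 0xf9610b9))) (.node (.node (.leaf 0x608d0bb) (.leaf 0x103890b9)) (.node (.leaf 0x104650dd) (.leaf 0x0))))) (.node (.node (.node (.node (.leaf 0x110310f1) (.leaf 0x12acd0b9)) (.node (.leaf 0x10f990b9) (.leaf 0x549d0dd))) (.node (.node (.leaf 0xda950dd) (.leaf 0xe8f90dd)) (.node (.leaf 0x115d50bb) (.leaf 0x173690f1)))) (.node (.node (.node (.leaf 0x112b90dd) (.leaf 0x94d90dd)) (.node (.leaf 0x127d50f1) (.leaf 0x1681d0f1))) (.node (.node (.leaf 0x146dd0f1) (.leaf 0x105ed0b9)) (.node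 (.leaf 0x12ea90f1) (.leaf 0x0)))))) (.node (.node (.node (.node (.node (.leaf 0x147c10f1) (.leaf 0x11c690dd)) (.node (.leaf 0xe6710dd) (.leaf 0xde350dd))) (.node (.node (.leaf 0x109710dd) (.leaf 0xef950f1)) (.node (.leaf 0xe62d0dd) (.leaf 0x122350b9)))) (.node (.node (.node (.leaf 0x13a390bb) (.leaf 0xcaf10bb)) (.node (.leaf 0xd6550bb) (.leaf 0x10e150f1))) (.node (.node (.leaf 0xc34d0b9) (.leaf 0x4ec90f1)) (.node (.leaf 0xd2d10b9) (.leaf 0x0))))) (.node (.node (.node (.node (.leaf 0xde5d0b9) (.leaf 0x1097d0bb)) (.node (.leaf 0x983d0b9) (.leaf 0x11f5d0dd))) (.node (.node (.leaf 0x1069d0b9) (.leaf 0xe6ed0bb)) (.node (.leaf 0x10e2d0b9) (.leaf 0x0)))) (.node (.node (.node (.leaf 0x109790b9) (.leaf 0xea690dd)) (.node (.leaf 0x98090b9) (.leaf 0xddd10b9))) (.node (.node (.leaf 0x50950dd) (.leaf 0x121210b9)) (.node (.leaf 0x8ecd0dd) (.leaf 0x0))))))))))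

/-- packed table -/
noncomputable def cov8_rlr : BTree := (.node (.node (.node (.node (.node (.node (.node (.node (.node (.leaf 0x1c70) (.leaf 0x127e90b9)) (.node (.leaf 0xcfdd0b9) (.leaf 0x10c6d0dd))) (.node (.node (.leaf 0xf5190f1) (.leaf 0x137750dd)) (.node (.leaf 0xc2790dd) (.leaf 0xf7490dd)))) (.node (.node (.node (.leaf 0x11ce90f1) (.leaf 0xd6990b9)) (.node (.leaf 0x97cd0b9) (.leaf 0xb0110dd))) (.node (.node (.leaf 0x138a10dd) (.leaf 0xa1790dd)) (.node (.leaf 0xf2290b9) (.leaf 0x0))))) (.node (.node (.node (.node (.leaf 0x1a3fd0f1) (.leaf 0x8b750dd)) (.node (.leaf 0x14f090f1) (.leaf 0xcc090dd))) (.node (.node (.leaf 0x1162d0b9) (.leaf 0xf7490f1)) (.node (.leaf 0x128850f1) (.leaf 0xe8ed0bb)))) (.node (.node (.node (.leaf 0x186090f1) (.leaf 0xcdcd0dd)) (.node (.leaf 0x1568d0b9) (.leaf 0xd15d0f1))) (.node (.node (.leaf 0xe1c90b9) (.leaf 0x111450bb)) (.node (.leaf 0x10e890f1)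 (.leaf 0x0)))))) (.node (.node (.node (.node (.node (.leaf 0x101250dd) (.leaf 0x129fd0bb)) (.node (.leaf 0xf3ad0b9) (.leaf 0x153210f1))) (.node (.node (.leaf 0x9bcd0dd) (.leaf 0xf7190f1)) (.node (.leaf 0x12e9d0f1) (.leaf 0x14b910dd)))) (.node (.node (.node (.leaf 0x1548d0f1) (.leaf 0x152f90f1)) (.node (.leaf 0x8a290bb) (.leaf 0xae790dd))) (.node (.node (.leaf 0x166b50f1) (.leaf 0x12a0d0f1)) (.node (.leaf 0x832d0bb) (.leaf 0x0))))) (.node (.node (.node (.node (.leaf 0xdd790b9) (.leaf 0xcdd90dd)) (.node (.leaf 0x87110dd) (.leaf 0x127d10bb))) (.node (.node (.leaf 0x11ce10f1) (.leaf 0x146550f1)) (.node (.leaf 0x137dd0b9) (.leaf 0x80410f1)))) (.node (.node (.node (.leaf 0xd31d0dd) (.leaf 0xdfbd0bb)) (.node (.leaf 0x122010b9) (.leaf 0xd5710f1))) (.node (.node (.leaf 0x1154d0f1) (.leaf 0x119850bb)) (.node (.leaf 0x10f510dd) (.leaf 0x0))))))) (.node (.node (.node (.node (.node (.node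 (.leaf 0x101210b9) (.leaf 0xd9c10dd)) (.node (.leaf 0x1194) (.leaf 0x130d50dd))) (.node (.node (.leaf 0x12a250b9) (.leaf 0x10c450b9)) (.node (.leaf 0xf0e10f1) (.leaf 0x885d0f1)))) (.node (.node (.node (.leaf 0xcf250dd) (.leaf 0xcdc90dd)) (.node (.leaf 0x960d0bb) (.leaf 0x1084d0f1))) (.node (.node (.leaf 0xe9250bb) (.leaf 0x154010f1)) (.node (.leaf 0x9be10dd) (.leaf 0x0))))) (.node (.node (.node (.node (.leaf 0x77cd0b9) (.leaf 0xce6d0f1)) (.node (.leaf 0xf5d90bb) (.leaf 0x11c610dd))) (.node (.node (.leaf 0x4da90f1) (.leaf 0x121e10dd)) (.node (.leaf 0xa8dd0b9) (.leaf 0xcba10dd)))) (.node (.node (.node (.leaf 0x86b50dd) (.leaf 0x129f50f1)) (.node (.leaf 0x80650dd) (.leaf 0x18d0d0f1))) (.node (.node (.leaf 0xd2550f1) (.leaf 0xd9c10b9)) (.node (.leaf 0xe1310b9) (.leaf 0x0)))))) (.node (.node (.node (.node (.node (.leaf 0x6fe10f1) (.leaf 0x40e10f1)) (.node (.leaf 0xa18d0dd) (.leaf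 0x1347d0bb))) (.node (.node (.leaf 0x116450bb) (.leaf 0x10ca50f1)) (.node (.leaf 0xcbf90b9) (.leaf 0xdd050b9)))) (.node (.node (.node (.leaf 0xa0750f1) (.leaf 0x109690dd)) (.node (.leaf 0x10ad10dd) (.leaf 0x152a90b9))) (.node (.node (.leaf 0xd4fd0dd) (.leaf 0xc5290dd)) (.node (.leaf 0xda950f1) (.leaf 0x0))))) (.node (.node (.node (.node (.leaf 0x8dbd0f1) (.leaf 0xe21d0f1)) (.node (.leaf 0xa57d0b9) (.leaf 0xd6510dd))) (.node (.node (.leaf 0x4cf50dd) (.leaf 0x10e690f1)) (.node (.leaf 0x83850b9) (.leaf 0x0)))) (.node (.node (.node (.leaf 0x13a7d0bb) (.leaf 0x137150dd)) (.node (.leaf 0x99310f1) (.leaf 0x123bd0bb))) (.node (.node (.leaf 0xb77d0bb) (.leaf 0x8bed0dd)) (.node (.leaf 0x127610b9) (.leaf 0x0)))))))) (.node (.node (.node (.node (.node (.node (.node (.leaf 0x80b90b9) (.leaf 0x109850dd)) (.node (.leaf 0xe8a90b9) (.leaf 0x152b50f1))) (.node (.node (.leaf 0xf4150bb) (.leaf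 0xd9e10f1)) (.node (.leaf 0xd88d0dd) (.leaf 0xde3d0bb)))) (.node (.node (.node (.leaf 0xb4d50b9) (.leaf 0xcc3d0dd)) (.node (.leaf 0x15c390b9) (.leaf 0x15f650f1))) (.node (.node (.leaf 0x4c5d0f1) (.leaf 0x84e50f1)) (.node (.leaf 0xf89d0dd) (.leaf 0x0))))) (.node (.node (.node (.node (.leaf 0xfb150bb) (.leaf 0x1190)) (.node (.leaf 0x9d610bb) (.leaf 0xad650b9))) (.node (.node (.leaf 0x1272d0f1) (.leaf 0x108150b9)) (.node (.leaf 0x103150f1) (.leaf 0x1355d0f1)))) (.node (.node (.node (.leaf 0x10bb90b9) (.leaf 0x127ed0bb)) (.node (.leaf 0xb3a10dd) (.leaf 0xc8490f1))) (.node (.node (.leaf 0xef7d0bb) (.leaf 0x128190f1)) (.node (.leaf 0x119d10dd) (.leaf 0x0)))))) (.node (.node (.node (.node (.node (.leaf 0x117690dd) (.leaf 0x159890b9)) (.node (.leaf 0x9bed0dd) (.leaf 0x1315d0f1))) (.node (.node (.leaf 0x124290b9) (.leaf 0xc2590b9)) (.node (.leaf 0x16b050b9) (.leaf 0x11c6d0dd)))) (.node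 (.node (.node (.leaf 0x10e890b9) (.leaf 0x10e010dd)) (.node (.leaf 0x121010f1) (.leaf 0xc6a90f1))) (.node (.node (.leaf 0x127e50bb) (.leaf 0x132250f1)) (.node (.leaf 0xfafd0f1) (.leaf 0x0))))) (.node (.node (.node (.node (.leaf 0x145b10dd) (.leaf 0xd4c10dd)) (.node (.leaf 0x1135d0f1) (.leaf 0xd5710dd))) (.node (.node (.leaf 0x15f390f1) (.leaf 0x10e210f1)) (.node (.leaf 0x1260d0f1) (.leaf 0x0)))) (.node (.node (.node (.leaf 0x147610dd) (.leaf 0x7a890dd)) (.node (.leaf 0xc1410dd) (.leaf 0xcc9d0f1))) (.node (.node (.leaf 0xd6550b9) (.leaf 0x16af50f1)) (.node (.leaf 0xf1c10dd) (.leaf 0x0))))))) (.node (.node (.node (.node (.node (.node (.leaf 0x40e10dd) (.leaf 0x10f290b9)) (.node (.leaf 0xfa710dd) (.leaf 0xf7050b9))) (.node (.node (.leaf 0xe3510bb) (.leaf 0x1084d0b9)) (.node (.leaf 0xcf610dd) (.leaf 0x16d8d0f1)))) (.node (.node (.node (.leaf 0xc15d0f1) (.leaf 0xaab90bb)) (.node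 (.leaf 0xcf810f1) (.leaf 0x44790f1))) (.node (.node (.leaf 0xfb250b9) (.leaf 0x92dd0f1)) (.node (.leaf 0xd5d90bb) (.leaf 0x0))))) (.node (.node (.node (.node (.leaf 0x110150f1) (.leaf 0x12ae10b9)) (.node (.leaf 0xec750b9) (.leaf 0xcdb10bb))) (.node (.node (.leaf 0x11ab10b9) (.leaf 0x124d10dd)) (.node (.leaf 0xfa910dd) (.leaf 0x151e10f1)))) (.node (.node (.node (.leaf 0x112d90dd) (.leaf 0x10d610dd)) (.node (.leaf 0x127ed0f1) (.leaf 0x12bb50f1))) (.node (.node (.leaf 0xd15d0dd) (.leaf 0xdc090dd)) (.node (.leaf 0xf2e90f1) (.leaf 0x0)))))) (.node (.node (.node (.node (.node (.leaf 0x118710f1) (.leaf 0x115090dd)) (.node (.leaf 0x12e810b9) (.leaf 0xcb310dd))) (.node (.node (.leaf 0xf50d0b9) (.leaf 0x97cd0bb)) (.node (.leaf 0xfb150dd) (.leaf 0x124d10b9)))) (.node (.node (.node (.leaf 0x960d0b9) (.leaf 0x10bf50dd)) (.node (.leaf 0xc1410f1) (.leaf 0xd3710b9))) (.node (.node (.leaf 0xa1790b9)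 (.leaf 0x57f90f1)) (.node (.leaf 0xd31d0b9) (.leaf 0x0))))) (.node (.node (.node (.node (.leaf 0x95e90f1) (.leaf 0x62550f1)) (.node (.leaf 0xd3e50dd) (.leaf 0xf7510b9))) (.node (.node (.leaf 0x608d0dd) (.leaf 0x129550dd)) (.node (.leaf 0x4d490b9) (.leaf 0x0)))) (.node (.node (.node (.leaf 0xe6610f1) (.leaf 0xe6a90dd)) (.node (.leaf 0x87690bb) (.leaf 0x10ced0f1))) (.node (.node (.leaf 0x829d0f1) (.leaf 0xf7050bb)) (.node (.leaf 0x172a90f1) (.leaf 0x0))))))))) (.node (.node (.node (.node (.node (.node (.node (.node (.leaf 0x40150dd) (.leaf 0x168090f1)) (.node (.leaf 0x90010bb) (.leaf 0x109e10f1))) (.node (.node (.leaf 0xf5190bb) (.leaf 0xd9d90f1)) (.node (.leaf 0x101ad0f1) (.leaf 0xf2610f1)))) (.node (.node (.node (.leaf 0xdde90dd) (.leaf 0xd6b10b9)) (.node (.leaf 0x114590dd) (.leaf 0x48590f1))) (.node (.node (.leaf 0x170350dd) (.leaf 0xb9b50bb)) (.node (.leaf 0x113e90f1) (.leaf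 0x0))))) (.node (.node (.node (.node (.leaf 0x124150f1) (.leaf 0xc8850b9)) (.node (.leaf 0x130c90f1) (.leaf 0xe54d0f1))) (.node (.node (.leaf 0x94dd0b9) (.leaf 0xf7090f1)) (.node (.leaf 0xe1b10bb) (.leaf 0x1857d0f1)))) (.node (.node (.node (.leaf 0x8a950b9) (.leaf 0xd1850bb)) (.node (.leaf 0xec810f1) (.leaf 0x44450bb))) (.node (.node (.leaf 0x61ed0b9) (.leaf 0x18d6d0f1)) (.node (.leaf 0x83bd0bb) (.leaf 0x0)))))) (.node (.node (.node (.node (.node (.leaf 0x79c50bb) (.leaf 0xfaad0f1)) (.node (.leaf 0x1666d0dd) (.leaf 0x120710f1))) (.node (.node (.leaf 0x1242d0b9) (.leaf 0x160090dd)) (.node (.leaf 0xd6050dd) (.leaf 0x14add0dd)))) (.node (.node (.node (.leaf 0xf8210f1) (.leaf 0xca590dd)) (.node (.leaf 0x9bd10dd) (.leaf 0x91250f1))) (.node (.node (.leaf 0x119e50bb) (.leaf 0x132050f1)) (.node (.leaf 0xe2e90dd) (.leaf 0x0))))) (.node (.node (.node (.node (.leaf 0xf4610dd) (.leaf 0xf2b50f1))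 (.node (.leaf 0xacf10b9) (.leaf 0x1097d0dd))) (.node (.node (.leaf 0x95e90b9) (.leaf 0xdf410b9)) (.node (.leaf 0x1729d0f1) (.leaf 0xba450f1)))) (.node (.node (.node (.leaf 0xdb8d0f1) (.leaf 0xcc110b9)) (.node (.leaf 0x124550bb) (.leaf 0x130d50f1))) (.node (.node (.leaf 0x11f550bb) (.leaf 0x115190dd)) (.node (.leaf 0xf75d0b9) (.leaf 0x0))))))) (.node (.node (.node (.node (.node (.node (.leaf 0x10e8) (.leaf 0x134510f1)) (.node (.leaf 0x112fd0b9) (.leaf 0x10c450dd))) (.node (.node (.leaf 0x1655d0dd) (.leaf 0x143ed0f1)) (.node (.leaf 0xecc50dd) (.leaf 0x15b490f1)))) (.node (.node (.node (.leaf 0x112e) (.leaf 0x150cd0f1)) (.node (.leaf 0x117c) (.leaf 0xf5790f1))) (.node (.node (.leaf 0x13a950b9) (.leaf 0x9f210bb)) (.node (.leaf 0x12d9d0bb) (.leaf 0x0))))) (.node (.node (.node (.node (.leaf 0xc2a50dd) (.leaf 0x10e210dd)) (.node (.leaf 0x11ca50bb) (.leaf 0xad610b9))) (.node (.node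 (.leaf 0x9bdd0dd) (.leaf 0xb1b50f1)) (.node (.leaf 0xdacd0f1) (.leaf 0x11f690b9)))) (.node (.node (.node (.leaf 0x4bb50bb) (.leaf 0x124110dd)) (.node (.leaf 0xc0750dd) (.leaf 0xe3a10bb))) (.node (.node (.leaf 0x115c) (.leaf 0x12a210f1)) (.node (.leaf 0xf2490dd) (.leaf 0x0)))))) (.node (.node (.node (.node (.node (.leaf 0x174c50f1) (.leaf 0xcc610dd)) (.node (.leaf 0x549d0bb) (.leaf 0x4da90bb))) (.node (.node (.leaf 0x118e50b9) (.leaf 0x152b10f1)) (.node (.leaf 0xcc590bb) (.leaf 0x50450dd)))) (.node (.node (.node (.leaf 0xefbd0b9) (.leaf 0x17ab50f1)) (.node (.leaf 0xafa90dd) (.leaf 0x11c890dd))) (.node (.node (.leaf 0xcded0dd) (.leaf 0x105650dd)) (.node (.leaf 0x113010b9) (.leaf 0x0))))) (.node (.node (.node (.node (.leaf 0x11e310b9) (.leaf 0x11ec10b9)) (.node (.leaf 0x8e350dd) (.leaf 0x160790f1))) (.node (.node (.leaf 0x1582) (.leaf 0xfaad0b9)) (.node (.leaf 0xc5290b9) (.leaf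 0x0)))) (.node (.node (.node (.leaf 0x129b10b9) (.leaf 0x116a90f1)) (.node (.leaf 0x159910f1) (.leaf 0xc8750bb))) (.node (.node (.leaf 0xba6d0f1) (.leaf 0xc9b10bb)) (.node (.leaf 0x12a250bb) (.leaf 0x0)))))))) (.node (.node (.node (.node (.node (.node (.node (.leaf 0x80cd0b9) (.leaf 0x46f90b9)) (.node (.leaf 0x90690f1) (.leaf 0x16f9d0f1))) (.node (.node (.leaf 0x8bf10f1) (.leaf 0xf5610bb)) (.node (.leaf 0x12cd10f1) (.leaf 0x107ad0b9)))) (.node (.node (.node (.leaf 0xad0d0dd) (.leaf 0xfa090f1)) (.node (.leaf 0xc3710f1) (.leaf 0x1347d0f1))) (.node (.node (.leaf 0x178c10dd) (.leaf 0xab250b9)) (.node (.leaf 0x168050b9) (.leaf 0x0))))) (.node (.node (.node (.node (.leaf 0x11e510f1) (.leaf 0x15c310dd)) (.node (.leaf 0x106510dd) (.leaf 0x11c510dd))) (.node (.node (.leaf 0xde350f1) (.leaf 0x109d50b9)) (.node (.leaf 0xc38d0f1) (.leaf 0x11c8d0dd)))) (.node (.node (.node (.leaf 0x8bd50b9)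 (.leaf 0xba4d0bb)) (.node (.leaf 0x885d0b9) (.leaf 0x118c))) (.node (.node (.leaf 0x127cd0f1) (.leaf 0x44b50f1)) (.node (.leaf 0x103810dd) (.leaf 0x0)))))) (.node (.node (.node (.node (.node (.leaf 0xd7950dd) (.leaf 0x80ed0f1)) (.node (.leaf 0x12b1d0dd) (.leaf 0x15f650bb))) (.node (.node (.leaf 0x11eb50bb) (.leaf 0x15cfd0dd)) (.node (.leaf 0xe8ed0b9) (.leaf 0x11ca50dd)))) (.node (.node (.node (.leaf 0xea610f1) (.leaf 0x11c010dd)) (.node (.leaf 0x9bd90b9) (.leaf 0x1114))) (.node (.node (.leaf 0xcdf10dd) (.leaf 0x105190f1)) (.node (.leaf 0xdf890dd) (.leaf 0x0))))) (.node (.node (.node (.node (.leaf 0xdb9d0f1) (.leaf 0x13ab90f1)) (.node (.leaf 0x113850dd) (.leaf 0x1086d0f1))) (.node (.node (.leaf 0x7b0d0bb) (.leaf 0x14bc90dd)) (.node (.leaf 0x154010b9) (.leaf 0x0)))) (.node (.node (.node (.leaf 0xf89d0b9) (.leaf 0xad650f1)) (.node (.leaf 0xeedd0bb) (.leaf 0xc7fd0b9))) (.node (.node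 (.leaf 0x12d690b9) (.leaf 0x8c290dd)) (.node (.leaf 0x137b50f1) (.leaf 0x0))))))) (.node (.node (.node (.node (.node (.node (.leaf 0x101190dd) (.leaf 0x8b650dd)) (.node (.leaf 0xa57d0dd) (.leaf 0xf0710dd))) (.node (.node (.leaf 0xca2d0f1) (.leaf 0x126990dd)) (.node (.leaf 0x16e7d0f1) (.leaf 0x11ea90dd)))) (.node (.node (.node (.leaf 0x1146) (.leaf 0x11ced0dd)) (.node (.leaf 0x4ec90bb) (.leaf 0x111450f1))) (.node (.node (.leaf 0x1c30) (.leaf 0x104390dd)) (.node (.leaf 0x80510f1) (.leaf 0x0))))) (.node (.node (.node (.node (.leaf 0xd0350f1) (.leaf 0x160250f1)) (.node (.leaf 0x109b90f1) (.leaf 0x95010dd))) (.node (.node (.leaf 0x176210f1) (.leaf 0x10d9d0dd)) (.node (.leaf 0x137e50b9) (.leaf 0xd16d0f1)))) (.node (.node (.node (.leaf 0x173c10b9) (.leaf 0xdf310bb)) (.node (.leaf 0x127d10f1) (.leaf 0x19f810f1))) (.node (.node (.leaf 0xa8dd0bb) (.leaf 0x10a0d0f1)) (.node (.leaf 0x173490f1)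 (.leaf 0x0)))))) (.node (.node (.node (.node (.node (.leaf 0x1a3f90f1) (.leaf 0xce6d0bb)) (.node (.leaf 0xd4190b9) (.leaf 0xb6350dd))) (.node (.node (.leaf 0x1154) (.leaf 0xdfc50b9)) (.node (.leaf 0xf74d0dd) (.leaf 0xe4a50b9)))) (.node (.node (.node (.leaf 0x112110dd) (.leaf 0x15ec50f1)) (.node (.leaf 0x10e690b9) (.leaf 0x11c990dd))) (.node (.node (.leaf 0xa1990b9) (.leaf 0xd7190f1)) (.node (.leaf 0x107190f1) (.leaf 0x0))))) (.node (.node (.node (.node (.leaf 0x169ad0dd) (.leaf 0xcdc50b9)) (.node (.leaf 0xd3f90dd) (.leaf 0x137710b9))) (.node (.node (.leaf 0xf9610bb) (.leaf 0xda610f1)) (.node (.leaf 0x40e90bb) (.leaf 0x0)))) (.node (.node (.node (.leaf 0xe6590f1) (.leaf 0x136a90dd)) (.node (.leaf 0xe2510b9) (.leaf 0x12c1d0f1))) (.node (.node (.leaf 0xc2bd0f1) (.leaf 0x10b4d0dd)) (.node (.leaf 0x127f10b9) (.leaf 0x0))))))))))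

/-- packed table -/
noncomputable def cov8_rrl : BTree := (.node (.node (.node (.node (.node (.node (.node (.node (.node (.leaf 0x119c) (.leaf 0x169290f1)) (.node (.leaf 0x8fd90bb) (.leaf 0x632d0bb))) (.node (.node (.leaf 0x76750f1) (.leaf 0xc6750f1)) (.node (.leaf 0xd8110dd) (.leaf 0x9b4d0b9)))) (.node (.node (.node (.leaf 0xc9ad0f1) (.leaf 0x102490f1)) (.node (.leaf 0xf7c90f1) (.leaf 0x11c4d0b9))) (.node (.node (.leaf 0xcc7d0dd) (.leaf 0x104e10b9)) (.node (.leaf 0xd3b50f1) (.leaf 0x0))))) (.node (.node (.node (.node (.leaf 0x1a4010f1) (.leaf 0xf2690dd)) (.node (.leaf 0xc6050dd) (.leaf 0xdc110bb))) (.node (.node (.leaf 0xd5b50bb) (.leaf 0xc4690b9)) (.node (.leaf 0xc3110bb) (.leaf 0xfa250f1)))) (.node (.node (.node (.leaf 0xc6050f1) (.leaf 0xdf310dd)) (.node (.leaf 0x47590f1) (.leaf 0x132a50b9))) (.node (.node (.leaf 0xe1bd0b9) (.leaf 0xc6910f1)) (.node (.leaf 0x96210dd) (.leaf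 0x0)))))) (.node (.node (.node (.node (.node (.leaf 0x101010dd) (.leaf 0xd93d0b9)) (.node (.leaf 0x131fd0bb) (.leaf 0xc0710f1))) (.node (.node (.leaf 0x12f1d0dd) (.leaf 0xdd010dd)) (.node (.leaf 0x140ad0f1) (.leaf 0x10fe10dd)))) (.node (.node (.node (.leaf 0x11c050dd) (.leaf 0x10cc50bb)) (.node (.leaf 0x151b10b9) (.leaf 0x80590f1))) (.node (.node (.leaf 0x178ad0b9) (.leaf 0x44450b9)) (.node (.leaf 0xcdc90f1) (.leaf 0x0))))) (.node (.node (.node (.node (.leaf 0x9d710b9) (.leaf 0xdf410dd)) (.node (.leaf 0x137bd0f1) (.leaf 0x127f90bb))) (.node (.node (.leaf 0x1950d0f1) (.leaf 0x110550dd)) (.node (.leaf 0x15e410f1) (.leaf 0x1132)))) (.node (.node (.node (.leaf 0xaa910b9) (.leaf 0xe7390f1)) (.node (.leaf 0x118e50bb) (.leaf 0x132350b9))) (.node (.node (.leaf 0x118550f1) (.leaf 0xdbbd0f1)) (.node (.leaf 0xcb310f1) (.leaf 0x0))))))) (.node (.node (.node (.node (.node (.node (.leaf 0x156d50dd)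 (.leaf 0x113e)) (.node (.leaf 0x77390b9) (.leaf 0xe54d0bb))) (.node (.node (.leaf 0xcbfd0f1) (.leaf 0x10e990f1)) (.node (.leaf 0x8f190f1) (.leaf 0xe1f90bb)))) (.node (.node (.node (.leaf 0x133d90b9) (.leaf 0xce490dd)) (.node (.leaf 0x11c010b9) (.leaf 0xc3fd0dd))) (.node (.node (.leaf 0x132990dd) (.leaf 0x113010bb)) (.node (.leaf 0xdf910b9) (.leaf 0x0))))) (.node (.node (.node (.node (.leaf 0x1113d0bb) (.leaf 0xeab50b9)) (.node (.leaf 0xe9d50f1) (.leaf 0x80650f1))) (.node (.node (.leaf 0x13b1d0dd) (.leaf 0x105250b9)) (.node (.leaf 0x137e50f1) (.leaf 0x8ecd0f1)))) (.node (.node (.node (.leaf 0x46890dd) (.leaf 0x119750dd)) (.node (.leaf 0x115d50b9) (.leaf 0x1323d0b9))) (.node (.node (.leaf 0x81450f1) (.leaf 0x120c50f1)) (.node (.leaf 0x15e890f1) (.leaf 0x0)))))) (.node (.node (.node (.node (.node (.leaf 0xdcb90b9) (.leaf 0x40e90f1)) (.node (.leaf 0x91fd0dd) (.leaf 0x118510f1)))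 (.node (.node (.leaf 0xdbc10f1) (.leaf 0xc2c50bb)) (.node (.leaf 0x12f1d0b9) (.leaf 0x11a1d0dd)))) (.node (.node (.node (.leaf 0xd78d0b9) (.leaf 0xd5110dd)) (.node (.leaf 0xaf810dd) (.leaf 0x10dad0bb))) (.node (.node (.leaf 0x192850f1) (.leaf 0x105490dd)) (.node (.leaf 0x1244d0f1) (.leaf 0x0))))) (.node (.node (.node (.node (.leaf 0x9e390b9) (.leaf 0xc9150bb)) (.node (.leaf 0x11c290f1) (.leaf 0x156310dd))) (.node (.node (.leaf 0x106c10bb) (.leaf 0x44790dd)) (.node (.leaf 0x8ea90b9) (.leaf 0x0)))) (.node (.node (.node (.leaf 0xa8f10b9) (.leaf 0x12f190bb)) (.node (.leaf 0x992d0f1) (.leaf 0xe9010b9))) (.node (.node (.leaf 0xb7ed0dd) (.leaf 0x155c10dd)) (.node (.leaf 0x57590bb) (.leaf 0x0)))))))) (.node (.node (.node (.node (.node (.node (.node (.leaf 0x40b50b9) (.leaf 0x16fb10b9)) (.node (.leaf 0xd0410f1) (.leaf 0x11a190dd))) (.node (.node (.leaf 0xf4150b9) (.leaf 0xd9f10f1)) (.node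 (.leaf 0x10b690f1) (.leaf 0x76750dd)))) (.node (.node (.node (.leaf 0x11d090f1) (.leaf 0xd7650b9)) (.node (.leaf 0x10e010b9) (.leaf 0xc30d0dd))) (.node (.node (.leaf 0xcc610f1) (.leaf 0x8be90f1)) (.node (.leaf 0xd3e50f1) (.leaf 0x0))))) (.node (.node (.node (.node (.leaf 0xea1d0bb) (.leaf 0x132a50dd)) (.node (.leaf 0x10dad0f1) (.leaf 0x1335d0b9))) (.node (.node (.leaf 0x804d0b9) (.leaf 0x140850f1)) (.node (.leaf 0x16c110f1) (.leaf 0x59990dd)))) (.node (.node (.node (.leaf 0xc6250f1) (.leaf 0xb2dd0bb)) (.node (.leaf 0x45210f1) (.leaf 0x9bd50f1))) (.node (.node (.leaf 0x8c2d0b9) (.leaf 0x11bad0f1)) (.node (.leaf 0x143ed0bb) (.leaf 0x0)))))) (.node (.node (.node (.node (.node (.leaf 0xd7610dd) (.leaf 0x119750b9)) (.node (.leaf 0x168ad0dd) (.leaf 0xf5350b9))) (.node (.node (.leaf 0x163250dd) (.leaf 0x1af8d0f1)) (.node (.leaf 0x1388d0dd) (.leaf 0x829d0b9)))) (.node (.node (.node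 (.leaf 0x122ed0dd) (.leaf 0x9bc50dd)) (.node (.leaf 0xc8bd0dd) (.leaf 0xfa650f1))) (.node (.node (.leaf 0x119fd0f1) (.leaf 0x1321d0f1)) (.node (.leaf 0x131510f1) (.leaf 0x0))))) (.node (.node (.node (.node (.leaf 0x80cd0f1) (.leaf 0x961d0f1)) (.node (.leaf 0xd3350f1) (.leaf 0xd1550bb))) (.node (.node (.leaf 0xf7650b9) (.leaf 0xecc50f1)) (.node (.leaf 0x4e7d0b9) (.leaf 0x0)))) (.node (.node (.node (.leaf 0x10c0d0bb) (.leaf 0x10b810f1)) (.node (.leaf 0xc1390dd) (.leaf 0x803d0f1))) (.node (.node (.leaf 0xb65d0b9) (.leaf 0x4da90b9)) (.node (.leaf 0xcb490f1) (.leaf 0x0))))))) (.node (.node (.node (.node (.node (.node (.leaf 0x40bd0dd) (.leaf 0x104c10b9)) (.node (.leaf 0x11c4d0dd) (.leaf 0x77390f1))) (.node (.node (.leaf 0xd7f10f1) (.leaf 0x8c490bb)) (.node (.leaf 0x111cd0f1) (.leaf 0xe13d0f1)))) (.node (.node (.node (.leaf 0x5d3d0bb) (.leaf 0xf1110bb)) (.node (.leaf 0x18fc) (.leaf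 0xc8390f1))) (.node (.node (.leaf 0x13ac10f1) (.leaf 0xe9710f1)) (.node (.leaf 0x105690b9) (.leaf 0x0))))) (.node (.node (.node (.node (.leaf 0x8fd90f1) (.leaf 0x110d90dd)) (.node (.leaf 0x106d90dd) (.leaf 0x42a10b9))) (.node (.node (.leaf 0x116b50f1) (.leaf 0xf4610b9)) (.node (.leaf 0xb5e90bb) (.leaf 0xd0ad0dd)))) (.node (.node (.node (.leaf 0x92dd0dd) (.leaf 0x111010dd)) (.node (.leaf 0x168a10b9) (.leaf 0x169410f1))) (.node (.node (.leaf 0x5a690b9) (.leaf 0x94ed0f1)) (.node (.leaf 0x116110f1) (.leaf 0x0)))))) (.node (.node (.node (.node (.node (.leaf 0x135050f1) (.leaf 0xd5b50f1)) (.node (.leaf 0xde090dd) (.leaf 0xd0350dd))) (.node (.node (.leaf 0xb2f10b9) (.leaf 0xe1450b9)) (.node (.leaf 0xaf610b9) (.leaf 0x15da90f1)))) (.node (.node (.node (.leaf 0xf53d0b9) (.leaf 0xc0750f1)) (.node (.leaf 0xa1410f1) (.leaf 0x11a350dd))) (.node (.node (.leaf 0xa1890b9) (.leaf 0x5d310f1))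 (.node (.leaf 0xf2bd0dd) (.leaf 0x0))))) (.node (.node (.node (.node (.leaf 0xde490b9) (.leaf 0xc8e10bb)) (.node (.leaf 0x11c650f1) (.leaf 0xdc110b9))) (.node (.node (.leaf 0xf5d90f1) (.leaf 0x11a210dd)) (.node (.leaf 0x59990bb) (.leaf 0x0)))) (.node (.node (.node (.leaf 0xe65d0f1) (.leaf 0xf5090dd)) (.node (.leaf 0x59990f1) (.leaf 0x110c))) (.node (.node (.leaf 0xd0190b9) (.leaf 0x1215d0f1)) (.node (.leaf 0xa7210b9) (.leaf 0x0))))))))) (.node (.node (.node (.node (.node (.node (.node (.node (.leaf 0x80310b9) (.leaf 0x15c810f1)) (.node (.leaf 0x8fd90b9) (.leaf 0x11b910f1))) (.node (.node (.leaf 0xb4350bb) (.leaf 0xda090f1)) (.node (.leaf 0x12be50f1) (.leaf 0xc0490f1)))) (.node (.node (.node (.leaf 0xf2b50b9) (.leaf 0xd6950b9)) (.node (.leaf 0x16b090f1) (.leaf 0xc2590bb))) (.node (.node (.leaf 0x79c50dd) (.leaf 0xf9c10bb)) (.node (.leaf 0x964d0bb) (.leaf 0x0))))) (.node (.node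 (.node (.node (.leaf 0xca310bb) (.leaf 0xc3d50b9)) (.node (.leaf 0x15ad90b9) (.leaf 0xeaf10f1))) (.node (.node (.leaf 0x81950bb) (.leaf 0xc5950b9)) (.node (.leaf 0x128810f1) (.leaf 0x11a410dd)))) (.node (.node (.node (.leaf 0xcab50b9) (.leaf 0x80610f1)) (.node (.leaf 0xd8110b9) (.leaf 0x42a10bb))) (.node (.node (.leaf 0xdbc90b9) (.leaf 0x1733d0bb)) (.node (.leaf 0x10fe) (.leaf 0x0)))))) (.node (.node (.node (.node (.node (.leaf 0x141690dd) (.leaf 0x136b50dd)) (.node (.leaf 0x964d0b9) (.leaf 0x159490dd))) (.node (.node (.leaf 0x165c50dd) (.leaf 0x1134)) (.node (.leaf 0x7b0d0dd) (.leaf 0xe7750dd)))) (.node (.node (.node (.leaf 0x151890bb) (.leaf 0xdd050f1)) (.node (.leaf 0x10f290f1) (.leaf 0x868d0f1))) (.node (.node (.leaf 0x152f10f1) (.leaf 0x131fd0f1)) (.node (.leaf 0x54b50b9) (.leaf 0x0))))) (.node (.node (.node (.node (.leaf 0x4c710dd) (.leaf 0x1922)) (.node (.leaf 0x113310dd)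 (.leaf 0x806d0f1))) (.node (.node (.leaf 0xf7650bb) (.leaf 0x1036d0f1)) (.node (.leaf 0xf7f10b9) (.leaf 0xc0550f1)))) (.node (.node (.node (.leaf 0x15de10f1) (.leaf 0xdfe50bb)) (.node (.leaf 0x125a50f1) (.leaf 0x132390b9))) (.node (.node (.leaf 0x135650f1) (.leaf 0xb6b90f1)) (.node (.leaf 0x4b710f1) (.leaf 0x0))))))) (.node (.node (.node (.node (.node (.node (.leaf 0x101010b9) (.leaf 0x109c50dd)) (.node (.leaf 0x908d0f1) (.leaf 0x128b10f1))) (.node (.node (.leaf 0x1abf90f1) (.leaf 0x113d50bb)) (.node (.leaf 0xd66d0b9) (.leaf 0x106bd0f1)))) (.node (.node (.node (.leaf 0xf5150b9) (.leaf 0x150c10f1)) (.node (.leaf 0xf2510f1) (.leaf 0xc5a10dd))) (.node (.node (.leaf 0x13a010f1) (.leaf 0x11bb50f1)) (.node (.leaf 0xc4550dd) (.leaf 0x0))))) (.node (.node (.node (.node (.leaf 0xc2cd0dd) (.leaf 0x12aa90b9)) (.node (.leaf 0x129cd0f1) (.leaf 0x173690b9))) (.node (.node (.leaf 0xf3fd0f1)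 (.leaf 0xcfa90f1)) (.node (.leaf 0x12f190f1) (.leaf 0xb5e90b9)))) (.node (.node (.node (.leaf 0x8cb90f1) (.leaf 0xe64d0dd)) (.node (.leaf 0xc0490dd) (.leaf 0x9bd10f1))) (.node (.node (.leaf 0x173dd0f1) (.leaf 0x168a10f1)) (.node (.leaf 0xe5fd0f1) (.leaf 0x0)))))) (.node (.node (.node (.node (.node (.leaf 0xe0b90b9) (.leaf 0xf7c90dd)) (.node (.leaf 0xe3a90dd) (.leaf 0x632d0b9))) (.node (.node (.leaf 0xaf4d0dd) (.leaf 0x135650b9)) (.node (.leaf 0xec6d0f1) (.leaf 0xcf590dd)))) (.node (.node (.node (.leaf 0xf4b10dd) (.leaf 0x11cdd0dd)) (.node (.leaf 0x76d10bb) (.leaf 0x10f710dd))) (.node (.node (.leaf 0xe9790dd) (.leaf 0xf75d0bb)) (.node (.leaf 0xc7050f1) (.leaf 0x0))))) (.node (.node (.node (.node (.leaf 0xec810dd) (.leaf 0xe2510f1)) (.node (.leaf 0x11c150f1) (.leaf 0x8a610dd))) (.node (.node (.leaf 0x86a10bb) (.leaf 0xa57d0f1)) (.node (.leaf 0xcdc10b9) (.leaf 0x0)))) (.node (.node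 (.node (.leaf 0xc5410b9) (.leaf 0x116c10f1)) (.node (.leaf 0x118050b9) (.leaf 0x692d0f1))) (.node (.node (.leaf 0x139710f1) (.leaf 0x10f550dd)) (.node (.leaf 0xe7450b9) (.leaf 0x0)))))))) (.node (.node (.node (.node (.node (.node (.node (.leaf 0x40c10b9) (.leaf 0x9bed0f1)) (.node (.leaf 0x90610f1) (.leaf 0x139710bb))) (.node (.node (.leaf 0xf5190b9) (.leaf 0x10ac10dd)) (.node (.leaf 0xec5d0dd) (.leaf 0x140990f1)))) (.node (.node (.node (.leaf 0xec590b9) (.leaf 0x12ced0f1)) (.node (.leaf 0x12fc90f1) (.leaf 0x134850f1))) (.node (.node (.leaf 0xda950b9) (.leaf 0x83850dd)) (.node (.leaf 0xf2590b9) (.leaf 0x0))))) (.node (.node (.node (.node (.leaf 0xfa8d0b9) (.leaf 0xf2290dd)) (.node (.leaf 0xc6350dd) (.leaf 0x11a250dd))) (.node (.node (.leaf 0x152e50f1) (.leaf 0x138110f1)) (.node (.leaf 0x16c0d0f1) (.leaf 0x5a690dd)))) (.node (.node (.node (.leaf 0xf3910f1) (.leaf 0x113f50bb))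 (.node (.leaf 0xadc50f1) (.leaf 0xe63d0bb))) (.node (.node (.leaf 0x9d710dd) (.leaf 0x1065d0f1)) (.node (.leaf 0x122290bb) (.leaf 0x0)))))) (.node (.node (.node (.node (.node (.leaf 0x173e50f1) (.leaf 0x80e50f1)) (.node (.leaf 0x964d0dd) (.leaf 0xcf950f1))) (.node (.node (.leaf 0xea690f1) (.leaf 0x111150dd)) (.node (.leaf 0x8d850f1) (.leaf 0xb0cd0b9)))) (.node (.node (.node (.leaf 0x12c290dd) (.leaf 0x10a910dd)) (.node (.leaf 0x15c450b9) (.leaf 0xf1f10dd))) (.node (.node (.leaf 0x160150dd) (.leaf 0x11da10f1)) (.node (.leaf 0x9bdd0f1) (.leaf 0x0))))) (.node (.node (.node (.node (.leaf 0xd6b90bb) (.leaf 0x111490dd)) (.node (.leaf 0x118790bb) (.leaf 0x89e90dd))) (.node (.node (.leaf 0x151b10dd) (.leaf 0xcfdd0dd)) (.node (.leaf 0xf7f10bb) (.leaf 0x0)))) (.node (.node (.node (.leaf 0xcc110bb) (.leaf 0x172090f1)) (.node (.leaf 0x114850bb) (.leaf 0x9bc50f1))) (.node (.node (.leaf 0xba6d0b9)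 (.leaf 0xdb990f1)) (.node (.leaf 0xf9c10b9) (.leaf 0x0))))))) (.node (.node (.node (.node (.node (.node (.leaf 0x40e90dd) (.leaf 0x14aed0dd)) (.node (.leaf 0xd3810f1) (.leaf 0xf5410b9))) (.node (.node (.leaf 0x112ed0b9) (.leaf 0x89110dd)) (.node (.leaf 0xef010f1) (.leaf 0xd93d0dd)))) (.node (.node (.node (.leaf 0x156310b9) (.leaf 0x145010b9)) (.node (.leaf 0x5d310b9) (.leaf 0xd96d0dd))) (.node (.node (.leaf 0xf7310b9) (.leaf 0xd3250bb)) (.node (.leaf 0xce490f1) (.leaf 0x0))))) (.node (.node (.node (.node (.leaf 0x50950bb) (.leaf 0xe2150bb)) (.node (.leaf 0xe2150f1) (.leaf 0x1188))) (.node (.node (.leaf 0x132a10f1) (.leaf 0xdb9d0dd)) (.node (.leaf 0x137d10b9) (.leaf 0xb3a10f1)))) (.node (.node (.node (.leaf 0xd2d10dd) (.leaf 0x99310dd)) (.node (.leaf 0x127e50f1) (.leaf 0x126050bb))) (.node (.node (.leaf 0x1112) (.leaf 0x159410bb)) (.node (.leaf 0x116490f1) (.leaf 0x0)))))) (.node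 (.node (.node (.node (.node (.leaf 0x123f50f1) (.leaf 0x15d6)) (.node (.leaf 0x134090b9) (.leaf 0x911d0b9))) (.node (.node (.leaf 0x133850dd) (.leaf 0x119950dd)) (.node (.leaf 0xa1790bb) (.leaf 0x134190b9)))) (.node (.node (.node (.leaf 0xcaf10b9) (.leaf 0x11eb90f1)) (.node (.leaf 0x111c90b9) (.leaf 0xd9590dd))) (.node (.node (.leaf 0x8ee90b9) (.leaf 0x9d2d0f1)) (.node (.leaf 0x150e90dd) (.leaf 0x0))))) (.node (.node (.node (.node (.leaf 0x12c990dd) (.leaf 0x109690bb)) (.node (.leaf 0xdc590f1) (.leaf 0x150c10dd))) (.node (.node (.leaf 0x47790b9) (.leaf 0x9a790f1)) (.node (.leaf 0x45210b9) (.leaf 0x0)))) (.node (.node (.node (.leaf 0xcdc10dd) (.leaf 0xdbc10dd)) (.node (.leaf 0x12a650b9) (.leaf 0x6c7d0f1))) (.node (.node (.leaf 0xb7ad0dd) (.leaf 0xdba50f1)) (.node (.leaf 0x15cf10f1) (.leaf 0x0))))))))))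

/-- packed table -/
noncomputable def cov8_rrr : BTree := (.node (.node (.node (.node (.node (.node (.node (.node (.node (.leaf 0x11a8) (.leaf 0x127b90b9)) (.node (.leaf 0x8ff10bb) (.leaf 0xe5510b9))) (.node (.node (.leaf 0xd6750f1) (.leaf 0x10e690dd)) (.node (.leaf 0x134850bb) (.leaf 0xeca10f1)))) (.node (.node (.node (.leaf 0xc8210bb) (.leaf 0x102550f1)) (.node (.leaf 0x11c5d0b9) (.leaf 0xca510f1))) (.node (.node (.leaf 0x91b50dd) (.leaf 0xc38d0dd)) (.node (.leaf 0x120510b9) (.leaf 0x0))))) (.node (.node (.node (.node (.leaf 0xf50d0bb) (.leaf 0xb5e90dd)) (.node (.leaf 0x170e90f1) (.leaf 0xd12d0b9))) (.node (.node (.leaf 0xd69d0f1) (.leaf 0x805d0f1)) (.node (.leaf 0xe19d0bb) (.leaf 0xf7090dd)))) (.node (.node (.node (.leaf 0x146310f1) (.leaf 0x151790bb)) (.node (.leaf 0x47790bb) (.leaf 0x15e650f1))) (.node (.node (.leaf 0x10ac10f1) (.leaf 0x1322d0b9)) (.node (.leaf 0x839d0bb)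 (.leaf 0x0)))))) (.node (.node (.node (.node (.node (.leaf 0xe1c50f1) (.leaf 0x11f6d0f1)) (.node (.leaf 0x5d3d0dd) (.leaf 0xd5790f1))) (.node (.node (.leaf 0x12a790f1) (.leaf 0x143f90b9)) (.node (.leaf 0x160cd0f1) (.leaf 0x11c0d0dd)))) (.node (.node (.node (.leaf 0xc4dd0f1) (.leaf 0x15b610f1)) (.node (.leaf 0x12f490dd) (.leaf 0xc70d0b9))) (.node (.node (.leaf 0x166d90f1) (.leaf 0x84a90dd)) (.node (.leaf 0x93a50b9) (.leaf 0x0))))) (.node (.node (.node (.node (.leaf 0xcef50f1) (.leaf 0x115e10f1)) (.node (.leaf 0xb8610f1) (.leaf 0x1495d0dd))) (.node (.node (.leaf 0xf2590dd) (.leaf 0xd4610f1)) (.node (.leaf 0x1655d0f1) (.leaf 0xc0750b9)))) (.node (.node (.node (.leaf 0xdde90f1) (.leaf 0x127350f1)) (.node (.leaf 0x170c10b9) (.leaf 0xcc250dd))) (.node (.node (.leaf 0xf39d0bb) (.leaf 0xd6550f1)) (.node (.leaf 0xe0f50b9) (.leaf 0x0))))))) (.node (.node (.node (.node (.node (.node (.leaf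 0x101250b9) (.leaf 0x105750b9)) (.node (.leaf 0x133590bb) (.leaf 0xde0d0f1))) (.node (.node (.leaf 0x1147d0dd) (.leaf 0xc0690f1)) (.node (.leaf 0x118610bb) (.leaf 0xad490b9)))) (.node (.node (.node (.leaf 0x10d790b9) (.leaf 0x158d10dd)) (.node (.leaf 0x1164) (.leaf 0xc4310dd))) (.node (.node (.leaf 0xb6910b9) (.leaf 0xc3d50dd)) (.node (.leaf 0x155c10b9) (.leaf 0x0))))) (.node (.node (.node (.node (.leaf 0x49f50b9) (.leaf 0x136010f1)) (.node (.leaf 0xe9d90f1) (.leaf 0x11f1d0dd))) (.node (.node (.leaf 0x647d0dd) (.leaf 0x163050f1)) (.node (.leaf 0x11e290f1) (.leaf 0xd1850f1)))) (.node (.node (.node (.leaf 0xf7310f1) (.leaf 0x105490b9)) (.node (.leaf 0x804d0dd) (.leaf 0xf0a50dd))) (.node (.node (.leaf 0x94e50f1) (.leaf 0xf2490b9)) (.node (.leaf 0x115b90f1) (.leaf 0x0)))))) (.node (.node (.node (.node (.node (.leaf 0x129590b9) (.leaf 0xbb090dd)) (.node (.leaf 0x125590dd) (.leaf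 0x154690b9))) (.node (.node (.leaf 0x129510bb) (.leaf 0xd3b50bb)) (.node (.leaf 0xe3c50f1) (.leaf 0x11ce10bb)))) (.node (.node (.node (.leaf 0x1307d0b9) (.leaf 0x134010f1)) (.node (.leaf 0x12f850dd) (.leaf 0x124610b9))) (.node (.node (.leaf 0xcc590b9) (.leaf 0xc5410dd)) (.node (.leaf 0x12ba50f1) (.leaf 0x0))))) (.node (.node (.node (.node (.leaf 0x7a410f1) (.leaf 0x121fd0f1)) (.node (.leaf 0xdc2d0f1) (.leaf 0xbb090f1))) (.node (.node (.leaf 0x160bd0dd) (.leaf 0xf94d0f1)) (.node (.leaf 0x8c290b9) (.leaf 0x0)))) (.node (.node (.node (.leaf 0x107a50dd) (.leaf 0xd6950f1)) (.node (.leaf 0xd93d0f1) (.leaf 0xcf3d0bb))) (.node (.node (.leaf 0xcf790b9) (.leaf 0x115d50dd)) (.node (.leaf 0xcd110f1) (.leaf 0x0)))))))) (.node (.node (.node (.node (.node (.node (.node (.leaf 0x40dd0b9) (.leaf 0xcbdd0f1)) (.node (.leaf 0x82b10b9) (.leaf 0xc5950bb))) (.node (.node (.leaf 0x48590dd) (.leaf 0xd9c10bb))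 (.node (.leaf 0x105cd0f1) (.leaf 0x9f2d0bb)))) (.node (.node (.node (.leaf 0x147b90f1) (.leaf 0x10e790dd)) (.node (.leaf 0xd4610dd) (.leaf 0xf1810b9))) (.node (.node (.leaf 0x10d6) (.leaf 0x9bf50f1)) (.node (.leaf 0xd3f90f1) (.leaf 0x0))))) (.node (.node (.node (.node (.leaf 0x127e90f1) (.leaf 0x10f550f1)) (.node (.leaf 0xdd390b9) (.leaf 0xb6bd0b9))) (.node (.node (.leaf 0x149350dd) (.leaf 0x15b390dd)) (.node (.leaf 0xc0450f1) (.leaf 0x885d0bb)))) (.node (.node (.node (.leaf 0xc9d90b9) (.leaf 0xad650bb)) (.node (.leaf 0xd6610dd) (.leaf 0x76510f1))) (.node (.node (.leaf 0x121d90b9) (.leaf 0x12ba10f1)) (.node (.leaf 0x9be90f1) (.leaf 0x0)))))) (.node (.node (.node (.node (.node (.leaf 0x91250bb) (.leaf 0xd8110bb)) (.node (.leaf 0x92a50b9) (.leaf 0xf0710b9))) (.node (.node (.leaf 0x124210b9) (.leaf 0x11a050bb)) (.node (.leaf 0xfaad0dd) (.leaf 0x11bfd0dd)))) (.node (.node (.node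 (.leaf 0xe13d0dd) (.leaf 0x129fd0b9)) (.node (.leaf 0x14be50f1) (.leaf 0xd4150b9))) (.node (.node (.leaf 0x164650dd) (.leaf 0xf6ad0b9)) (.node (.leaf 0xf3f10f1) (.leaf 0x0))))) (.node (.node (.node (.node (.leaf 0xa0e90f1) (.leaf 0xe1690f1)) (.node (.leaf 0xed290b9) (.leaf 0xd5750dd))) (.node (.node (.leaf 0x135e10bb) (.leaf 0x144890dd)) (.node (.leaf 0xcdb90f1) (.leaf 0x0)))) (.node (.node (.node (.leaf 0x1076d0dd) (.leaf 0x5bf90dd)) (.node (.leaf 0x41490dd) (.leaf 0x8ea90f1))) (.node (.node (.leaf 0xcfa90bb) (.leaf 0x5e2d0f1)) (.node (.leaf 0xef950b9) (.leaf 0x0))))))) (.node (.node (.node (.node (.node (.node (.leaf 0x10d8) (.leaf 0xd5c50f1)) (.node (.leaf 0x11b6d0dd) (.leaf 0xf0a50b9))) (.node (.node (.leaf 0x4eb50dd) (.leaf 0x4da90dd)) (.node (.leaf 0xecdd0dd) (.leaf 0x118dd0bb)))) (.node (.node (.node (.leaf 0x91510bb) (.leaf 0xdc110dd)) (.node (.leaf 0x57f90b9) (.leaf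 0x151d50f1))) (.node (.node (.leaf 0x133d50f1) (.leaf 0x9bf10f1)) (.node (.leaf 0xf9a10bb) (.leaf 0x0))))) (.node (.node (.node (.node (.leaf 0x72ed0bb) (.leaf 0xe9190f1)) (.node (.leaf 0x5e010bb) (.leaf 0x54cd0dd))) (.node (.node (.leaf 0x1335d0f1) (.leaf 0xa0e90dd)) (.node (.leaf 0xdcf90dd) (.leaf 0x15db50b9)))) (.node (.node (.node (.leaf 0x112bd0dd) (.leaf 0x152f90bb)) (.node (.leaf 0x154110b9) (.leaf 0x12af90f1))) (.node (.node (.leaf 0x1369d0f1) (.leaf 0xa1410dd)) (.node (.leaf 0x1409d0f1) (.leaf 0x0)))))) (.node (.node (.node (.node (.node (.leaf 0x12a790bb) (.leaf 0x12ffd0b9)) (.node (.leaf 0x103e50b9) (.leaf 0xe1690dd))) (.node (.node (.leaf 0x133890dd) (.leaf 0x105250dd)) (.node (.leaf 0x8ee90bb) (.leaf 0x15f850f1)))) (.node (.node (.node (.leaf 0xe9790bb) (.leaf 0xd5750f1)) (.node (.leaf 0x160ad0f1) (.leaf 0x8ae10f1))) (.node (.node (.leaf 0xe1910b9) (.leaf 0x1014d0f1))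 (.node (.leaf 0x178b90dd) (.leaf 0x0))))) (.node (.node (.node (.node (.leaf 0x135e10f1) (.leaf 0x109850bb)) (.node (.leaf 0x113d10dd) (.leaf 0x130050dd))) (.node (.node (.leaf 0x868d0bb) (.leaf 0x983d0f1)) (.node (.leaf 0x4c5d0bb) (.leaf 0x0)))) (.node (.node (.node (.leaf 0xe64d0f1) (.leaf 0x132890dd)) (.node (.leaf 0xd7f10dd) (.leaf 0xed3d0b9))) (.node (.node (.leaf 0x82950f1) (.leaf 0xaa990f1)) (.node (.leaf 0x5bf90f1) (.leaf 0x0))))))))) (.node (.node (.node (.node (.node (.node (.node (.node (.leaf 0x40e90b9) (.leaf 0x127a90b9)) (.node (.leaf 0x83090f1) (.leaf 0xb0450dd))) (.node (.node (.leaf 0xc8390dd) (.leaf 0x119e50f1)) (.node (.leaf 0x44f50b9) (.leaf 0xf2550f1)))) (.node (.node (.node (.leaf 0x133d90f1) (.leaf 0x1320d0f1)) (.node (.leaf 0xd4410dd) (.leaf 0x10f510b9))) (.node (.node (.leaf 0x8c290f1) (.leaf 0x139ad0bb)) (.node (.leaf 0x84cd0dd) (.leaf 0x0))))) (.node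 (.node (.node (.node (.leaf 0x124110f1) (.leaf 0x11f5d0b9)) (.node (.leaf 0x14ed10f1) (.leaf 0xcab50f1))) (.node (.node (.leaf 0xefdd0dd) (.leaf 0xc4550b9)) (.node (.leaf 0x111650f1) (.leaf 0x8bf10b9)))) (.node (.node (.node (.leaf 0x8a9d0b9) (.leaf 0x9bd50dd)) (.node (.leaf 0x10cd90bb) (.leaf 0xf8210dd))) (.node (.node (.leaf 0xef750bb) (.leaf 0x173490bb)) (.node (.leaf 0x95e90dd) (.leaf 0x0)))))) (.node (.node (.node (.node (.node (.leaf 0x175a90f1) (.leaf 0xb8610bb)) (.node (.leaf 0xebdd0dd) (.leaf 0x19e610f1))) (.node (.node (.leaf 0x124350b9) (.leaf 0x16cbd0f1)) (.node (.leaf 0x9f2d0b9) (.leaf 0x15c450dd)))) (.node (.node (.node (.leaf 0xdd050bb) (.leaf 0xb1ad0b9)) (.node (.leaf 0x4eb50f1) (.leaf 0x877d0f1))) (.node (.node (.leaf 0x166cd0f1) (.leaf 0x84e50dd)) (.node (.leaf 0x116c) (.leaf 0x0))))) (.node (.node (.node (.node (.leaf 0x134590dd) (.leaf 0xf1c10bb)) (.node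 (.leaf 0xd3250dd) (.leaf 0x109890dd))) (.node (.node (.leaf 0xecb50dd) (.leaf 0xcdd90b9)) (.node (.leaf 0x139ad0f1) (.leaf 0x10dd10f1)))) (.node (.node (.node (.leaf 0xc9d10bb) (.leaf 0x115b10dd)) (.node (.leaf 0x162c10b9) (.leaf 0x10f690bb))) (.node (.node (.leaf 0xb7a10dd) (.leaf 0xf6c90f1)) (.node (.leaf 0xf9bd0b9) (.leaf 0x0))))))) (.node (.node (.node (.node (.node (.node (.leaf 0x10e6) (.leaf 0x10ca90b9)) (.node (.leaf 0x127e90bb) (.leaf 0xebb90f1))) (.node (.node (.leaf 0x8ef90f1) (.leaf 0x4e7d0f1)) (.node (.leaf 0x12ce10dd) (.leaf 0x129fd0f1)))) (.node (.node (.node (.leaf 0x104810dd) (.leaf 0x121190dd)) (.node (.leaf 0x132e10dd) (.leaf 0xc5d50dd))) (.node (.node (.leaf 0x138790f1) (.leaf 0x103e90b9)) (.node (.leaf 0x140a10f1) (.leaf 0x0))))) (.node (.node (.node (.node (.leaf 0x829d0dd) (.leaf 0xeaf10b9)) (.node (.leaf 0xec6d0b9) (.leaf 0x9e390bb))) (.node (.node (.leaf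 0x76d10dd) (.leaf 0x11f690dd)) (.node (.leaf 0x15ae50f1) (.leaf 0xfa5d0dd)))) (.node (.node (.node (.leaf 0xc6910dd) (.leaf 0x120510dd)) (.node (.leaf 0x803d0dd) (.leaf 0x4c5d0dd))) (.node (.node (.leaf 0x16ca90f1) (.leaf 0x116450f1)) (.node (.leaf 0xf1810dd) (.leaf 0x0)))))) (.node (.node (.node (.node (.node (.leaf 0xd7a90dd) (.leaf 0x9bf50dd)) (.node (.leaf 0xdfe90dd) (.leaf 0x123210b9))) (.node (.node (.leaf 0x9a890f1) (.leaf 0xd2990f1)) (.node (.leaf 0x10ae50f1) (.leaf 0x8b050dd)))) (.node (.node (.node (.leaf 0x15d590f1) (.leaf 0x95ad0f1)) (.node (.leaf 0x8a290f1) (.leaf 0x154210b9))) (.node (.node (.leaf 0x5e2d0dd) (.leaf 0x1b8f10f1)) (.node (.leaf 0x46f90f1) (.leaf 0x0))))) (.node (.node (.node (.node (.leaf 0x6c7d0dd) (.leaf 0xdcb90dd)) (.node (.leaf 0xdc210f1) (.leaf 0x9e390f1))) (.node (.node (.leaf 0x17b010f1) (.leaf 0x127010bb)) (.node (.leaf 0x8bed0b9) (.leaf 0x0))))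 (.node (.node (.node (.leaf 0xc70d0dd) (.leaf 0x116c90f1)) (.node (.leaf 0x118710bb) (.leaf 0xcf590bb))) (.node (.node (.leaf 0xfa510bb) (.leaf 0x961d0dd)) (.node (.leaf 0xa4510dd) (.leaf 0x0)))))))) (.node (.node (.node (.node (.node (.node (.node (.leaf 0x156e90dd) (.leaf 0xe21d0bb)) (.node (.leaf 0xf96d0dd) (.leaf 0xde3d0f1))) (.node (.node (.leaf 0x10bf50f1) (.leaf 0x111910dd)) (.node (.leaf 0x130ed0f1) (.leaf 0x15c1d0dd)))) (.node (.node (.node (.leaf 0xed290dd) (.leaf 0x1176)) (.node (.leaf 0xefbd0bb) (.leaf 0xc37d0dd))) (.node (.node (.leaf 0x8c690f1) (.leaf 0x10ec)) (.node (.leaf 0xb67d0f1) (.leaf 0x0))))) (.node (.node (.node (.node (.leaf 0x152290f1) (.leaf 0xcf610f1)) (.node (.leaf 0xe9d10f1) (.leaf 0xd3fd0b9))) (.node (.node (.leaf 0x1696d0f1) (.leaf 0xcf790dd)) (.node (.leaf 0xb9690dd) (.leaf 0xdf790dd)))) (.node (.node (.node (.leaf 0x10bcd0b9) (.leaf 0xf7490b9))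 (.node (.leaf 0xf2c50f1) (.leaf 0x4d490dd))) (.node (.node (.leaf 0x1126) (.leaf 0x132450b9)) (.node (.leaf 0xb9b50b9) (.leaf 0x0)))))) (.node (.node (.node (.node (.node (.leaf 0x12c9d0f1) (.leaf 0x40bd0f1)) (.node (.leaf 0x8c550dd) (.leaf 0x122bd0b9))) (.node (.node (.leaf 0xe6a90f1) (.leaf 0xd3490bb)) (.node (.leaf 0xd7a90f1) (.leaf 0x151790f1)))) (.node (.node (.node (.leaf 0x142750b9) (.leaf 0x44b50b9)) (.node (.leaf 0x1637d0f1) (.leaf 0x12a050bb))) (.node (.node (.leaf 0x130f50f1) (.leaf 0xe9490f1)) (.node (.leaf 0xe4690dd) (.leaf 0x0))))) (.node (.node (.node (.node (.leaf 0x9bd90f1) (.leaf 0x1315d0b9)) (.node (.leaf 0x110ed0dd) (.leaf 0x109fd0dd))) (.node (.node (.leaf 0x173d10f1) (.leaf 0x151310dd)) (.node (.leaf 0x9bf10dd) (.leaf 0x0)))) (.node (.node (.node (.leaf 0x47790dd) (.leaf 0x14cfd0b9)) (.node (.leaf 0xc5a10f1) (.leaf 0x4c510dd))) (.node (.node (.leaf 0xdfe50b9)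 (.leaf 0x95ad0dd)) (.node (.leaf 0x16a890f1) (.leaf 0x0))))))) (.node (.node (.node (.node (.node (.node (.leaf 0xe1b90f1) (.leaf 0x1260d0bb)) (.node (.leaf 0x132050bb) (.leaf 0x178c10b9))) (.node (.node (.leaf 0xc8750b9) (.leaf 0xe1310f1)) (.node (.leaf 0x1609d0f1) (.leaf 0x12db10f1)))) (.node (.node (.node (.leaf 0xebdd0bb) (.leaf 0x1133d0bb)) (.node (.leaf 0x8f010b9) (.leaf 0xd4050b9))) (.node (.node (.leaf 0x12e0d0b9) (.leaf 0x15fc)) (.node (.leaf 0x139950b9) (.leaf 0x0))))) (.node (.node (.node (.node (.leaf 0xb2cd0b9) (.leaf 0xdfcd0dd)) (.node (.leaf 0xe0f50f1) (.leaf 0x94f50dd))) (.node (.node (.leaf 0xcdd90f1) (.leaf 0x1053d0dd)) (.node (.leaf 0x11b2d0b9) (.leaf 0x8c550bb)))) (.node (.node (.node (.leaf 0x8ea90dd) (.leaf 0xec210f1)) (.node (.leaf 0x157010dd) (.leaf 0x14fad0b9))) (.node (.node (.leaf 0x112bd0f1) (.leaf 0x47790f1)) (.node (.leaf 0xb8610b9) (.leaf 0x0))))))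 (.node (.node (.node (.node (.node (.leaf 0x1a3e90f1) (.leaf 0xc3990b9)) (.node (.leaf 0x54cd0f1) (.leaf 0xf6ad0dd))) (.node (.node (.leaf 0xd6950bb) (.leaf 0xdbbd0dd)) (.node (.leaf 0xf28d0dd) (.leaf 0x1349d0f1)))) (.node (.node (.node (.leaf 0x14aed0b9) (.leaf 0x82c90b9)) (.node (.leaf 0x105b50f1) (.leaf 0xc5410bb))) (.node (.node (.leaf 0x133e90f1) (.leaf 0x9be10f1)) (.node (.leaf 0x138550dd) (.leaf 0x0))))) (.node (.node (.node (.node (.leaf 0xb4390b9) (.leaf 0x156d50b9)) (.node (.leaf 0xa6d10b9) (.leaf 0xb77d0b9))) (.node (.node (.leaf 0xae750dd) (.leaf 0xda490f1)) (.node (.leaf 0xf36d0bb) (.leaf 0x0)))) (.node (.node (.node (.leaf 0xae710f1) (.leaf 0x178050f1)) (.node (.leaf 0xd69d0bb) (.leaf 0x16c890f1))) (.node (.node (.leaf 0xd0110b9) (.leaf 0xef750b9)) (.node (.leaf 0x127d50b9) (.leaf 0x0))))))))))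

/-- packed table -/
noncomputable def cov8 : BTree := (.node (.node (.node cov8_lll cov8_llr) (.node cov8_lrl cov8_lrr)) (.node (.node cov8_rll cov8_rlr) (.node cov8_rrl cov8_rrr)))

theorem cov8_ok : okCover 8 cov8 = true := by decide +kernel

/-- straight-line program -/
def slp8 : List (Nat × Nat × Nat) :=
  [(0x2da9584a337b9a1301281aee23918a, 2, 2),
   (0x846a6bbd33b35c7a11120acac02843, 3, 2),
   (0x5be13ac654b35c32890965cca080e4, 4, 1),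
   (0xaca65359147b9a1801311dd671114c, 5, 1),
   (0x5caf3aa5e6439a328ad16428150087, 4, 1),
   (0x2a0d5bbd33935caa02361ae0221d81, 5, 4),
   (0x344b0a3d2bb35cab851224ea219d80, 7, 0),
   (0x33ef05a2d5935cc98629216833880a, 7, 8),
   (0x2d8d5ba5f38b9a7a0e4802e0c0a844, 10, 0),
   (0x5bcb3322d4935c18322915ea719140, 11, 0),
   (0x34af0ad90b7b9a02853124e8238d8a, 11, 9),
   (0x2c4d59bd37b35c258d120520a0b0e4, 13, 0),
   (0x5c8b3a59067b9aabb131142a419c20, 14, 0),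
   (0xa3e17aa2cb935c02aa293ccc220d81, 13, 2),
   (0xbbeb484653b35c1329093aca219180, 15, 0),
   (0x2bd75ba2d0935c7a0e2901a6162882, 16, 17),
   (0x5daf3325f58b9a183248116833900a, 18, 0),
   (0x5a213a46554b5cabb1f6114c321c01, 17, 0),
   (0x9c6abba2d04b5caa31f2118a419c20, 19, 0)]

/-- levels -/
def levels8 : List (Nat × List Nat) :=
  [(0, [22, 0, 1, 3, 4, 5, 6, 7]),
   (6, [22, 2, 9, 12, 15, 17]),
   (2, [22, 21])]

/-- stabilising facts -/
def gens8 : List Nat := [1070, 1079, 1084]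

theorem chain8_ok : okChain 8 gens8 slp8 levels8 = true := by decide +kernel

theorem chain8_size : chainSize levels8 = 96 := by decide +kernel

end CfsgLib.Spor.J4.Index
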