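import Cfsg.Agent.Lib.Spor.J4.Index.Check

/-!
Coverage and stabiliser of node 9 (generated).
-/

set_option autoImplicit false
set_option linter.all false

namespace CfsgLib.Spor.J4.Index

open CfsgLib.PresCert

/-- packed table -/
noncomputable def cov9_lll : BTree := (.node (.node (.node (.node (.node (.node (.node (.node (.node (.leaf 0x8fc9241) (.leaf 0x60311d3)) (.node (.leaf 0x19da) (.leaf 0x717d1d1))) (.node (.node (.leaf 0x51b5251) (.leaf 0x78011d3)) (.node (.leaf 0xd485251) (.leaf 0x1220)))) (.node (.node (.node (.leaf 0x8a71251) (.leaf 0xb415241)) (.node (.leaf 0x43fd241) (.leaf 0x1494))) (.node (.node (.leaf 0x41051d1) (.leaf 0x85b1241)) (.node (.leaf 0x8fe5251) (.leaf 0x0))))) (.node (.node (.node (.node (.leaf 0x9cdd251) (.leaf 0x1430)) (.node (.leaf 0x1238) (.leaf 0x74bd251))) (.node (.node (.leaf 0xd959241) (.leaf 0x6f19251)) (.node (.leaf 0x59fd241) (.leaf 0xad05241)))) (.node (.node (.node (.leaf 0x9185251)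 (.leaf 0x95cd241)) (.node (.leaf 0xc2b9241) (.leaf 0xf225251))) (.node (.node (.leaf 0x8941241) (.leaf 0xeae9241)) (.node (.leaf 0xb239251) (.leaf 0x0)))))) (.node (.node (.node (.node (.node (.leaf 0x1386) (.leaf 0x6ff91d3)) (.node (.leaf 0xc019251) (.leaf 0x717d1b5))) (.node (.node (.leaf 0x939d241) (.leaf 0x81c1241)) (.node (.leaf 0xdca1251) (.leaf 0x9f61251)))) (.node (.node (.node (.leaf 0x8add251) (.leaf 0x133a)) (.node (.leaf 0x13dc) (.leaf 0xf2bd251))) (.node (.node (.leaf 0x9cc5251) (.leaf 0xad25251)) (.node (.leaf 0xc195241) (.leaf 0x0))))) (.node (.node (.node (.node (.leaf 0x5635241) (.leaf 0xd471241)) (.node (.leaf 0x87d1251) (.leaf 0xb179241))) (.node (.node (.leaf 0x1594) (.leaf 0x65a5241)) (.node (.leaf 0xc2a9251) (.leaf 0xaa41251)))) (.node (.node (.node (.leaf 0xcb59241) (.leaf 0xa9fd241)) (.node (.leaf 0x13f6) (.leaf 0x1b7a))) (.node (.node (.leaf 0x81a9251) (.leaf 0xaa01241)) (.node (.leaf 0x76851d3)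 (.leaf 0x0))))))) (.node (.node (.node (.node (.node (.node (.leaf 0x9f69241) (.leaf 0xbacd251)) (.node (.leaf 0x8aa9251) (.leaf 0x73611b5))) (.node (.node (.leaf 0x1490) (.leaf 0x6fb9251)) (.node (.leaf 0xacc9241) (.leaf 0xa2ed251)))) (.node (.node (.node (.leaf 0x9121241) (.leaf 0xaba1251)) (.node (.leaf 0x5ca91d3) (.leaf 0xf3c5251))) (.node (.node (.leaf 0x9ef1241) (.leaf 0x6f81251)) (.node (.leaf 0x5905251) (.leaf 0x0))))) (.node (.node (.node (.node (.leaf 0x4e911d1) (.leaf 0x75151d3)) (.node (.leaf 0x149c) (.leaf 0xeedd251))) (.node (.node (.leaf 0xc1f5241) (.leaf 0xab6d251)) (.node (.leaf 0x85bd251) (.leaf 0xa985251)))) (.node (.node (.node (.leaf 0x9795251) (.leaf 0xba0d251)) (.node (.leaf 0x8811241) (.leaf 0x132a))) (.node (.node (.leaf 0x4e7d1b5) (.leaf 0x40f9241)) (.node (.leaf 0xbb0d241) (.leaf 0x0)))))) (.node (.node (.node (.node (.node (.leaf 0x8849251) (.leaf 0x8819241)) (.node (.leaf 0x41191b5) (.leaf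 0xb0c5251))) (.node (.node (.leaf 0x49691d3) (.leaf 0x1272)) (.node (.leaf 0x4f59251) (.leaf 0x6895251)))) (.node (.node (.node (.leaf 0xab29241) (.leaf 0x6e95251)) (.node (.leaf 0x563d251) (.leaf 0x6ea11d3))) (.node (.node (.leaf 0x4101251) (.leaf 0x410d241)) (.node (.leaf 0xf795251) (.leaf 0x0))))) (.node (.node (.node (.node (.leaf 0xed55241) (.leaf 0xa3a5241)) (.node (.leaf 0x5d411d3) (.leaf 0x701d1d1))) (.node (.node (.leaf 0x8c45251) (.leaf 0x6c791d1)) (.node (.leaf 0xd6bd251) (.leaf 0x0)))) (.node (.node (.node (.leaf 0x1210) (.leaf 0x882d241)) (.node (.leaf 0x4d9d1d1) (.leaf 0x68ed251))) (.node (.node (.leaf 0x9991251) (.leaf 0x146a)) (.node (.leaf 0x71ad1d1) (.leaf 0x0)))))))) (.node (.node (.node (.node (.node (.node (.node (.leaf 0x4e3d1b5) (.leaf 0xb91d241)) (.node (.leaf 0x8269241) (.leaf 0x8c25241))) (.node (.node (.leaf 0x819d251) (.leaf 0xb575241)) (.node (.leaf 0x8c41241) (.leaf 0x9de1251)))) (.node (.node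 (.node (.leaf 0x157c) (.leaf 0xbac9241)) (.node (.leaf 0x4d991d3) (.leaf 0xb439241))) (.node (.node (.leaf 0x56351b5) (.leaf 0xb415251)) (.node (.leaf 0x5c3d1b5) (.leaf 0x0))))) (.node (.node (.node (.node (.leaf 0x9615241) (.leaf 0x95c1241)) (.node (.leaf 0x4dbd1b5) (.leaf 0x1418))) (.node (.node (.leaf 0x144c) (.leaf 0x5e491b5)) (.node (.leaf 0x96c5241) (.leaf 0xa94d251)))) (.node (.node (.node (.leaf 0x994d241) (.leaf 0x615d1b5)) (.node (.leaf 0x9ef9241) (.leaf 0x6fa9251))) (.node (.node (.leaf 0x93bd251) (.leaf 0xaca5251)) (.node (.leaf 0xe5e5241) (.leaf 0x0)))))) (.node (.node (.node (.node (.node (.leaf 0x943d251) (.leaf 0xb8d9251)) (.node (.leaf 0x53411d1) (.leaf 0x8d51241))) (.node (.node (.leaf 0x4b451d1) (.leaf 0xb2b1251)) (.node (.leaf 0x41091d3) (.leaf 0x69811d3)))) (.node (.node (.node (.leaf 0x93ed241) (.leaf 0xa1b1241)) (.node (.leaf 0xda51251) (.leaf 0xb2e5251))) (.node (.node (.leaf 0x8fb9251) (.leaf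 0x8d7d241)) (.node (.leaf 0x13a0) (.leaf 0x0))))) (.node (.node (.node (.node (.leaf 0x6d35241) (.leaf 0x74ed251)) (.node (.leaf 0x1948) (.leaf 0x72411b5))) (.node (.node (.leaf 0x5a291d1) (.leaf 0x4ce5241)) (.node (.leaf 0x47291d1) (.leaf 0x5fbd1d1)))) (.node (.node (.node (.leaf 0x8735241) (.leaf 0xbb05251)) (.node (.leaf 0xf1e9241) (.leaf 0x68311d1))) (.node (.node (.leaf 0x83b5241) (.leaf 0xf23d251)) (.node (.leaf 0xe29d251) (.leaf 0x0))))))) (.node (.node (.node (.node (.node (.node (.leaf 0x59951d3) (.leaf 0xb005241)) (.node (.leaf 0xaa95241) (.leaf 0x8d55241))) (.node (.node (.leaf 0x9671241) (.leaf 0x77f91d3)) (.node (.leaf 0x1548) (.leaf 0x6aa51d1)))) (.node (.node (.node (.leaf 0xb985241) (.leaf 0xb159251)) (.node (.leaf 0x5029251) (.leaf 0x6d9d251))) (.node (.node (.leaf 0x95d9251) (.leaf 0xb429241)) (.node (.leaf 0x8ce1251) (.leaf 0x0))))) (.node (.node (.node (.node (.leaf 0x4ed51b5) (.leaf 0x69891b5)) (.node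 (.leaf 0x8edd251) (.leaf 0x80c1241))) (.node (.node (.leaf 0x9089251) (.leaf 0x6f551d3)) (.node (.leaf 0xa0d5241) (.leaf 0x6ad91d3)))) (.node (.node (.node (.leaf 0x5bb9251) (.leaf 0x5ead1d1)) (.node (.leaf 0x9b7d251) (.leaf 0xb101241))) (.node (.node (.leaf 0x8a9d241) (.leaf 0xa779241)) (.node (.leaf 0xb271251) (.leaf 0x0)))))) (.node (.node (.node (.node (.node (.leaf 0x51b51b5) (.leaf 0xad15251)) (.node (.leaf 0x11bc) (.leaf 0xb619241))) (.node (.node (.leaf 0xcc89251) (.leaf 0xf705241)) (.node (.leaf 0x9ad9251) (.leaf 0xca55241)))) (.node (.node (.node (.leaf 0x51991d3) (.leaf 0x9f31241)) (.node (.leaf 0x51c91d1) (.leaf 0xb449251))) (.node (.node (.leaf 0x47811d1) (.leaf 0xb581251)) (.node (.leaf 0x9dcd241) (.leaf 0x0))))) (.node (.node (.node (.node (.leaf 0xccd9251) (.leaf 0x6ba5251)) (.node (.leaf 0x5bf91b5) (.leaf 0x8d65241))) (.node (.node (.leaf 0xec55241) (.leaf 0xb941251)) (.node (.leaf 0x869d251) (.leaf 0x0))))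 (.node (.node (.node (.leaf 0x9309251) (.leaf 0xb3b9251)) (.node (.leaf 0x4d89251) (.leaf 0xa0b5251))) (.node (.node (.leaf 0xe4a5241) (.leaf 0x6fb9241)) (.node (.leaf 0x788d1d1) (.leaf 0x0))))))))) (.node (.node (.node (.node (.node (.node (.node (.node (.leaf 0x141e) (.leaf 0xb8c1241)) (.node (.leaf 0x94a1251) (.leaf 0xa9f1241))) (.node (.node (.leaf 0x51b9251) (.leaf 0xb2f9251)) (.node (.leaf 0xba11241) (.leaf 0x79b51b5)))) (.node (.node (.node (.leaf 0x53b11d1) (.leaf 0xebfd251)) (.node (.leaf 0x47b51d1) (.leaf 0x6f851d3))) (.node (.node (.leaf 0x40fd1d1) (.leaf 0xbabd251)) (.node (.leaf 0x449d1b5) (.leaf 0x0))))) (.node (.node (.node (.node (.leaf 0x925d251) (.leaf 0xaed1251)) (.node (.leaf 0x4d991b5) (.leaf 0x759d1d1))) (.node (.node (.leaf 0x9621251) (.leaf 0x8815241)) (.node (.leaf 0x8b55251) (.leaf 0x78051b5)))) (.node (.node (.node (.leaf 0x40d1251) (.leaf 0xa5b9241)) (.node (.leaf 0x5ead241) (.leaf 0xf605251)))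 (.node (.node (.leaf 0x4955241) (.leaf 0x7329241)) (.node (.leaf 0x9fe9241) (.leaf 0x0)))))) (.node (.node (.node (.node (.node (.leaf 0x4d79251) (.leaf 0xa559241)) (.node (.leaf 0x53851b5) (.leaf 0x8639241))) (.node (.node (.leaf 0xc4c1251) (.leaf 0x8075241)) (.node (.leaf 0xdc95251) (.leaf 0x6171251)))) (.node (.node (.node (.leaf 0xf87d241) (.leaf 0x74911d3)) (.node (.leaf 0x808d241) (.leaf 0x6d9d1d1))) (.node (.node (.leaf 0xf65d241) (.leaf 0x8d69241)) (.node (.leaf 0x9509241) (.leaf 0x0))))) (.node (.node (.node (.node (.leaf 0x9319241) (.leaf 0x5f0d241)) (.node (.leaf 0x6501241) (.leaf 0x8d81241))) (.node (.node (.leaf 0x58c11d1) (.leaf 0xde55241)) (.node (.leaf 0xa61d241) (.leaf 0x77011b5)))) (.node (.node (.node (.leaf 0x4729241) (.leaf 0x69ed1d3)) (.node (.leaf 0x4a41241) (.leaf 0xab11241))) (.node (.node (.leaf 0xc581251) (.leaf 0xf4fd251)) (.node (.leaf 0x6b7d1b5) (.leaf 0x0))))))) (.node (.node (.node (.node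 (.node (.node (.leaf 0x9839251) (.leaf 0x72191d1)) (.node (.leaf 0x8aad251) (.leaf 0xb341251))) (.node (.node (.leaf 0x9725251) (.leaf 0x87fd241)) (.node (.leaf 0x1474) (.leaf 0xaafd251)))) (.node (.node (.node (.leaf 0x4ff91d3) (.leaf 0x140a)) (.node (.leaf 0x54b51d3) (.leaf 0xb961241))) (.node (.node (.leaf 0x95cd251) (.leaf 0x6ea1251)) (.node (.leaf 0xa111241) (.leaf 0x0))))) (.node (.node (.node (.node (.leaf 0xb8d9241) (.leaf 0x6999251)) (.node (.leaf 0xccc5241) (.leaf 0xa5e1241))) (.node (.node (.leaf 0x9091251) (.leaf 0x779d1d3)) (.node (.leaf 0x85c5251) (.leaf 0x9d85251)))) (.node (.node (.node (.leaf 0xb42d241) (.leaf 0x748d1d3)) (.node (.leaf 0x9b85251) (.leaf 0xa6e5241))) (.node (.node (.leaf 0x4ea51b5) (.leaf 0x13d2)) (.node (.leaf 0xbad9251) (.leaf 0x0)))))) (.node (.node (.node (.node (.node (.leaf 0x4845251) (.leaf 0xb749251)) (.node (.leaf 0x12d6) (.leaf 0x7401251))) (.node (.node (.leaf 0xcc81251) (.leaf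 0x196c)) (.node (.leaf 0xb131241) (.leaf 0xa01d251)))) (.node (.node (.node (.leaf 0x40f11d3) (.leaf 0xae2d241)) (.node (.leaf 0x8609241) (.leaf 0x6ea51d3))) (.node (.node (.leaf 0x1296) (.leaf 0xaee5251)) (.node (.leaf 0x75391d1) (.leaf 0x0))))) (.node (.node (.node (.node (.leaf 0x992d251) (.leaf 0xb4b9251)) (.node (.leaf 0x8e4d251) (.leaf 0x6e9d1b5))) (.node (.node (.leaf 0x51c1241) (.leaf 0x6a1d1d1)) (.node (.leaf 0x86a9251) (.leaf 0x0)))) (.node (.node (.node (.leaf 0x8bed241) (.leaf 0xb6f9251)) (.node (.leaf 0x4d951d1) (.leaf 0x64a1251))) (.node (.node (.leaf 0x8e4d241) (.leaf 0xaf49251)) (.node (.leaf 0xa80d251) (.leaf 0x0)))))))) (.node (.node (.node (.node (.node (.node (.node (.leaf 0xd5fd241) (.leaf 0xa075241)) (.node (.leaf 0xc8b1251) (.leaf 0xb409251))) (.node (.node (.leaf 0x9231241) (.leaf 0xa0b5241)) (.node (.leaf 0x83d5251) (.leaf 0xa899251)))) (.node (.node (.node (.leaf 0x5c591d1) (.leaf 0xb0b9251))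 (.node (.leaf 0x4d951d3) (.leaf 0x9165241))) (.node (.node (.leaf 0x8b89251) (.leaf 0xae25251)) (.node (.leaf 0x44691d1) (.leaf 0x0))))) (.node (.node (.node (.node (.leaf 0x47091d1) (.leaf 0xba1d251)) (.node (.leaf 0xc225251) (.leaf 0x73611d3))) (.node (.node (.leaf 0xb9c5241) (.leaf 0xb739241)) (.node (.leaf 0xfb35241) (.leaf 0x63551d3)))) (.node (.node (.node (.leaf 0x979d251) (.leaf 0x6a1d251)) (.node (.leaf 0x82ed251) (.leaf 0x62011d3))) (.node (.node (.leaf 0x9711241) (.leaf 0x6f811b5)) (.node (.leaf 0x6dd91d3) (.leaf 0x0)))))) (.node (.node (.node (.node (.node (.leaf 0x9439251) (.leaf 0xb0b1251)) (.node (.leaf 0x40f91b5) (.leaf 0xaf99241))) (.node (.node (.leaf 0x1588) (.leaf 0x65a51b5)) (.node (.leaf 0x41011d3) (.leaf 0x79f91b5)))) (.node (.node (.node (.leaf 0x831d251) (.leaf 0x7845251)) (.node (.leaf 0x8bf1251) (.leaf 0x917d241))) (.node (.node (.leaf 0x4109251) (.leaf 0xb169251)) (.node (.leaf 0x95bd241) (.leaf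 0x0))))) (.node (.node (.node (.node (.leaf 0x56391d3) (.leaf 0xdcb1241)) (.node (.leaf 0x1ba6) (.leaf 0x14c2))) (.node (.node (.leaf 0x9a31251) (.leaf 0xa599241)) (.node (.leaf 0x96c9251) (.leaf 0x0)))) (.node (.node (.node (.leaf 0xaa19241) (.leaf 0x71751d3)) (.node (.leaf 0x4dad241) (.leaf 0x72ed241))) (.node (.node (.leaf 0xd999251) (.leaf 0xb349251)) (.node (.leaf 0x76791d3) (.leaf 0x0))))))) (.node (.node (.node (.node (.node (.node (.leaf 0x14fa) (.leaf 0x1284)) (.node (.leaf 0x9725241) (.leaf 0xaab1241))) (.node (.node (.leaf 0x9ea9241) (.leaf 0xb90d241)) (.node (.leaf 0x1542) (.leaf 0x5f5d251)))) (.node (.node (.node (.leaf 0x97b9241) (.leaf 0x6c1d241)) (.node (.leaf 0x84ad251) (.leaf 0x73291d3))) (.node (.node (.leaf 0x6099241) (.leaf 0x70c9251)) (.node (.leaf 0x81fd251) (.leaf 0x0))))) (.node (.node (.node (.node (.leaf 0x77ed241) (.leaf 0x69a51b5)) (.node (.leaf 0xced9251) (.leaf 0xb305251))) (.node (.node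 (.leaf 0xc4f5251) (.leaf 0x9fad241)) (.node (.leaf 0x5201241) (.leaf 0x6501251)))) (.node (.node (.node (.leaf 0x56a51d1) (.leaf 0xba11251)) (.node (.leaf 0x96f5241) (.leaf 0xb0f9241))) (.node (.node (.leaf 0xb799241) (.leaf 0xaea9251)) (.node (.leaf 0xa2a5251) (.leaf 0x0)))))) (.node (.node (.node (.node (.node (.leaf 0x8289241) (.leaf 0xa399251)) (.node (.leaf 0x9241251) (.leaf 0x759d1b5))) (.node (.node (.leaf 0xa6a1241) (.leaf 0xb8b9241)) (.node (.leaf 0xc995251) (.leaf 0xe505251)))) (.node (.node (.node (.leaf 0x917d251) (.leaf 0x66d51b5)) (.node (.leaf 0x51c11d1) (.leaf 0xb005251))) (.node (.node (.leaf 0x8de9241) (.leaf 0xb3a1251)) (.node (.leaf 0x7a391d3) (.leaf 0x0))))) (.node (.node (.node (.node (.leaf 0xb309241) (.leaf 0x124a)) (.node (.leaf 0xbae5241) (.leaf 0xb1a5251))) (.node (.node (.leaf 0x9455241) (.leaf 0xb1d5251)) (.node (.leaf 0xfa89241) (.leaf 0x0)))) (.node (.node (.node (.leaf 0x9171241) (.leaf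 0xec09251)) (.node (.leaf 0x9481251) (.leaf 0xa779251))) (.node (.node (.leaf 0x802d241) (.leaf 0x8bf5241)) (.node (.leaf 0x8239241) (.leaf 0x0))))))))))

/-- packed table -/
noncomputable def cov9_llr : BTree := (.node (.node (.node (.node (.node (.node (.node (.node (.node (.leaf 0x5001241) (.leaf 0x74911d1)) (.node (.leaf 0x94cd251) (.leaf 0xac45251))) (.node (.node (.leaf 0x51ad251) (.leaf 0xcca1241)) (.node (.leaf 0x4ce51d1) (.leaf 0x14b6)))) (.node (.node (.node (.leaf 0x8a69251) (.leaf 0xbb0d251)) (.node (.leaf 0x87f9241) (.leaf 0xaa65251))) (.node (.node (.leaf 0x41151d1) (.leaf 0xad4d251)) (.node (.leaf 0x937d241) (.leaf 0x0))))) (.node (.node (.node (.node (.leaf 0x5d09251) (.leaf 0xaca5241)) (.node (.leaf 0x4d8d1b5) (.leaf 0x6b7d1d1))) (.node (.node (.leaf 0xaac1241) (.leaf 0x78111d1)) (.node (.leaf 0x8b5d251) (.leaf 0x77f91b5)))) (.node (.node (.node (.leaf 0x916d251) (.leaf 0x69ed241)) (.node (.leaf 0x4115241)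 (.leaf 0x4db9241))) (.node (.node (.leaf 0x86e1251) (.leaf 0x64651d3)) (.node (.leaf 0xb68d251) (.leaf 0x0)))))) (.node (.node (.node (.node (.node (.leaf 0x12c2) (.leaf 0x77f91d1)) (.node (.leaf 0x84a5241) (.leaf 0xabb5251))) (.node (.node (.leaf 0x84d9251) (.leaf 0xb921241)) (.node (.leaf 0xdc6d251) (.leaf 0x788d1b5)))) (.node (.node (.node (.leaf 0xcae9251) (.leaf 0x60311d1)) (.node (.leaf 0x9ddd241) (.leaf 0x6fb91b5))) (.node (.node (.leaf 0x48451d1) (.leaf 0x9f7d251)) (.node (.leaf 0x48811d1) (.leaf 0x0))))) (.node (.node (.node (.node (.leaf 0x7371241) (.leaf 0x75391d3)) (.node (.leaf 0x8d5d241) (.leaf 0x63151d1))) (.node (.node (.leaf 0x8b1d241) (.leaf 0x5f0d1d3)) (.node (.leaf 0x4d351d1) (.leaf 0xa321251)))) (.node (.node (.node (.leaf 0x1568) (.leaf 0x68ed1b5)) (.node (.leaf 0x4889251) (.leaf 0xeb8d251))) (.node (.node (.leaf 0x81d5251) (.leaf 0xa2b9251)) (.node (.leaf 0xb071241) (.leaf 0x0))))))) (.node (.node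 (.node (.node (.node (.node (.leaf 0x9825251) (.leaf 0xec35251)) (.node (.leaf 0x40551d3) (.leaf 0xe6ad241))) (.node (.node (.leaf 0x1c02) (.leaf 0x13ce)) (.node (.leaf 0x5b5d241) (.leaf 0xab5d251)))) (.node (.node (.node (.leaf 0x90fd241) (.leaf 0x746d1d1)) (.node (.leaf 0x9809251) (.leaf 0x14b0))) (.node (.node (.leaf 0x8249241) (.leaf 0x9f1d251)) (.node (.leaf 0xd919251) (.leaf 0x0))))) (.node (.node (.node (.node (.leaf 0x4ea51d1) (.leaf 0xb839251)) (.node (.leaf 0xd749251) (.leaf 0x5701241))) (.node (.node (.leaf 0xa689241) (.leaf 0x75d1251)) (.node (.leaf 0x85b5251) (.leaf 0xa8c1251)))) (.node (.node (.node (.leaf 0x828d241) (.leaf 0x5ca9241)) (.node (.leaf 0x82dd251) (.leaf 0xa419241))) (.node (.node (.leaf 0x134c) (.leaf 0x6ea1241)) (.node (.leaf 0x788d241) (.leaf 0x0)))))) (.node (.node (.node (.node (.node (.leaf 0x9951241) (.leaf 0x73711d3)) (.node (.leaf 0x41251b5) (.leaf 0xb9dd241))) (.node (.node (.leaf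 0x9a01251) (.leaf 0xcca5241)) (.node (.leaf 0x40e11d1) (.leaf 0xa8bd251)))) (.node (.node (.node (.leaf 0xcf49251) (.leaf 0xba25251)) (.node (.leaf 0x5635251) (.leaf 0xdec5251))) (.node (.node (.leaf 0x137c) (.leaf 0xa979251)) (.node (.leaf 0xe14d251) (.leaf 0x0))))) (.node (.node (.node (.node (.leaf 0x995d251) (.leaf 0xa3a9241)) (.node (.leaf 0xfaf9241) (.leaf 0xa415241))) (.node (.node (.leaf 0x8c3d251) (.leaf 0x7a39251)) (.node (.leaf 0xa6a9241) (.leaf 0x0)))) (.node (.node (.node (.leaf 0x8295241) (.leaf 0x6f551d1)) (.node (.leaf 0x4da91d1) (.leaf 0x68951d1))) (.node (.node (.leaf 0xcd31251) (.leaf 0x69a5251)) (.node (.leaf 0x78691d3) (.leaf 0x0)))))))) (.node (.node (.node (.node (.node (.node (.node (.leaf 0x9bd9251) (.leaf 0xbb19251)) (.node (.leaf 0xb909241) (.leaf 0xa9a9251))) (.node (.node (.leaf 0xa3f5241) (.leaf 0xb56d241)) (.node (.leaf 0xafe9241) (.leaf 0xa189241)))) (.node (.node (.node (.leaf 0x5c491d1)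 (.leaf 0x9cd9241)) (.node (.leaf 0x4dad1d3) (.leaf 0xaa31251))) (.node (.node (.leaf 0x8ba1251) (.leaf 0x5ce5241)) (.node (.leaf 0x44411d3) (.leaf 0x0))))) (.node (.node (.node (.node (.leaf 0x5ce51d1) (.leaf 0x6fb91d1)) (.node (.leaf 0xaead241) (.leaf 0x746d1b5))) (.node (.node (.leaf 0x43fd1b5) (.leaf 0xccd1241)) (.node (.leaf 0xbb45241) (.leaf 0x5f051d3)))) (.node (.node (.node (.leaf 0x80c5251) (.leaf 0x7a391d1)) (.node (.leaf 0x8211241) (.leaf 0x8d45241))) (.node (.node (.leaf 0x538d251) (.leaf 0x920d241)) (.node (.leaf 0xbb19241) (.leaf 0x0)))))) (.node (.node (.node (.node (.node (.leaf 0x944d251) (.leaf 0x68d11d1)) (.node (.leaf 0x53451d1) (.leaf 0xa2e1251))) (.node (.node (.leaf 0x5a351b5) (.leaf 0x77f5251)) (.node (.leaf 0x41151d3) (.leaf 0xb0dd241)))) (.node (.node (.node (.leaf 0x81d5241) (.leaf 0x7315241)) (.node (.leaf 0x8c21251) (.leaf 0xb1b5241))) (.node (.node (.leaf 0x4111251) (.leaf 0x9241241)) (.node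 (.leaf 0xba19251) (.leaf 0x0))))) (.node (.node (.node (.node (.leaf 0xec75241) (.leaf 0xb83d251)) (.node (.leaf 0x53451b5) (.leaf 0xab5d241))) (.node (.node (.leaf 0x9a1d251) (.leaf 0x6e151d1)) (.node (.leaf 0x473d1d1) (.leaf 0x0)))) (.node (.node (.node (.leaf 0xa6b5241) (.leaf 0x5f0d251)) (.node (.leaf 0x5281251) (.leaf 0x6d0d241))) (.node (.node (.leaf 0xb311241) (.leaf 0xeaf9251)) (.node (.leaf 0xb4f5251) (.leaf 0x0))))))) (.node (.node (.node (.node (.node (.node (.leaf 0x145c) (.leaf 0xae91251)) (.node (.leaf 0x834d251) (.leaf 0xaa69251))) (.node (.node (.leaf 0xda8d241) (.leaf 0x14e6)) (.node (.leaf 0x4b191d1) (.leaf 0x9e9d251)))) (.node (.node (.node (.leaf 0xb981241) (.leaf 0xb97d251)) (.node (.leaf 0x54a51d3) (.leaf 0xa99d251))) (.node (.node (.leaf 0x95bd251) (.leaf 0x61351d3)) (.node (.leaf 0xc679241) (.leaf 0x0))))) (.node (.node (.node (.node (.leaf 0x4e7d241) (.leaf 0xa2bd241)) (.node (.leaf 0xa0dd241)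 (.leaf 0xa339241))) (.node (.node (.leaf 0x9f35241) (.leaf 0x77f9251)) (.node (.leaf 0xa495241) (.leaf 0x6471251)))) (.node (.node (.node (.leaf 0x8b71241) (.leaf 0x6c79251)) (.node (.leaf 0x136c) (.leaf 0xa2c1251))) (.node (.node (.leaf 0xd975241) (.leaf 0x6d351b5)) (.node (.leaf 0x76651d1) (.leaf 0x0)))))) (.node (.node (.node (.node (.node (.leaf 0x51c11b5) (.leaf 0xe3d5241)) (.node (.leaf 0x8285241) (.leaf 0xe1a1241))) (.node (.node (.leaf 0xcc71251) (.leaf 0x73151d3)) (.node (.leaf 0xaed1241) (.leaf 0xb211241)))) (.node (.node (.node (.leaf 0x51c51d3) (.leaf 0xec05251)) (.node (.leaf 0x519d1d1) (.leaf 0x11f2))) (.node (.node (.leaf 0x198e) (.leaf 0x71ad1b5)) (.node (.leaf 0x6eb9251) (.leaf 0x0))))) (.node (.node (.node (.node (.leaf 0xec61241) (.leaf 0xb575251)) (.node (.leaf 0xbae1241) (.leaf 0xaac1251))) (.node (.node (.leaf 0xed11241) (.leaf 0x519d241)) (.node (.leaf 0xba85241) (.leaf 0x0)))) (.node (.node (.node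 (.leaf 0x5c7d241) (.leaf 0xf80d251)) (.node (.leaf 0x52011b5) (.leaf 0xb1bd241))) (.node (.node (.leaf 0x4039241) (.leaf 0x96fd241)) (.node (.leaf 0x9481241) (.leaf 0x0))))))))) (.node (.node (.node (.node (.node (.node (.node (.node (.leaf 0x9119251) (.leaf 0x1528)) (.node (.leaf 0x54c9251) (.leaf 0x9d9d251))) (.node (.node (.leaf 0x51a1251) (.leaf 0x12f0)) (.node (.leaf 0xba0d241) (.leaf 0xb83d241)))) (.node (.node (.node (.leaf 0x4a5d251) (.leaf 0xb915241)) (.node (.leaf 0x4da11d3) (.leaf 0xa3d9251))) (.node (.node (.leaf 0x8b95251) (.leaf 0x7869241)) (.node (.leaf 0x8fd5251) (.leaf 0x0))))) (.node (.node (.node (.node (.leaf 0x9255251) (.leaf 0xb72d251)) (.node (.leaf 0x4da91b5) (.leaf 0xa311251))) (.node (.node (.leaf 0x6a1d241) (.leaf 0x746d1d3)) (.node (.leaf 0x56a5241) (.leaf 0xeb61251)))) (.node (.node (.node (.leaf 0x8ab1241) (.leaf 0x68d11d3)) (.node (.leaf 0xa259241) (.leaf 0x4dbd241))) (.node (.node (.leaf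 0x86dd251) (.leaf 0xe58d241)) (.node (.leaf 0xb571251) (.leaf 0x0)))))) (.node (.node (.node (.node (.node (.leaf 0x9449251) (.leaf 0xb3f5251)) (.node (.leaf 0x9159241) (.leaf 0x73711b5))) (.node (.node (.leaf 0x58b91d3) (.leaf 0xccd5241)) (.node (.leaf 0x410d1d3) (.leaf 0x69811d1)))) (.node (.node (.node (.leaf 0xa9a9241) (.leaf 0xb73d251)) (.node (.leaf 0x8c01241) (.leaf 0x615d1d3))) (.node (.node (.leaf 0xb659241) (.leaf 0xa971251)) (.node (.leaf 0x9355251) (.leaf 0x0))))) (.node (.node (.node (.node (.leaf 0x811d241) (.leaf 0xac2d251)) (.node (.leaf 0x9351241) (.leaf 0x615d251))) (.node (.node (.leaf 0x58e5251) (.leaf 0x77f1251)) (.node (.leaf 0xdb3d241) (.leaf 0xab65251)))) (.node (.node (.node (.leaf 0x4729251) (.leaf 0x7175241)) (.node (.leaf 0x4881251) (.leaf 0x61711d1))) (.node (.node (.leaf 0x8579251) (.leaf 0xe12d251)) (.node (.leaf 0x7835251) (.leaf 0x0))))))) (.node (.node (.node (.node (.node (.node (.leaf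 0xa925241) (.leaf 0xb741251)) (.node (.leaf 0x8a95251) (.leaf 0x6f551b5))) (.node (.node (.leaf 0xa659241) (.leaf 0xb2b9251)) (.node (.leaf 0x49551d1) (.leaf 0x6aa5251)))) (.node (.node (.node (.leaf 0x48e91b5) (.leaf 0x5ead1b5)) (.node (.leaf 0x54ad1d1) (.leaf 0xa251251))) (.node (.node (.leaf 0x95c9251) (.leaf 0x6e151b5)) (.node (.leaf 0x8d11251) (.leaf 0x0))))) (.node (.node (.node (.node (.leaf 0xb8e1241) (.leaf 0x75cd1d3)) (.node (.leaf 0xad65241) (.leaf 0x69451d1))) (.node (.node (.leaf 0x53b11d3) (.leaf 0x68d1251)) (.node (.leaf 0x85ad251) (.leaf 0x6ad91d1)))) (.node (.node (.node (.leaf 0xad75241) (.leaf 0xb849251)) (.node (.leaf 0x9a19241) (.leaf 0xaa9d251))) (.node (.node (.leaf 0x92cd251) (.leaf 0x65b51d3)) (.node (.leaf 0x95e9241) (.leaf 0x0)))))) (.node (.node (.node (.node (.node (.leaf 0x51a51b5) (.leaf 0x5fd9251)) (.node (.leaf 0x1394) (.leaf 0x9fad251))) (.node (.node (.leaf 0x56351d1) (.leaf 0xb911251))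 (.node (.leaf 0x9ac5251) (.leaf 0xea75251)))) (.node (.node (.node (.leaf 0x51c91d3) (.leaf 0x8229241)) (.node (.leaf 0xad4d241) (.leaf 0x5f99241))) (.node (.node (.leaf 0x97d1251) (.leaf 0x9fc1241)) (.node (.leaf 0x68911b5) (.leaf 0x0))))) (.node (.node (.node (.node (.leaf 0x4d791d1) (.leaf 0xbb21251)) (.node (.leaf 0x14ba) (.leaf 0x62e5251))) (.node (.node (.leaf 0x7639241) (.leaf 0xb071251)) (.node (.leaf 0x8649241) (.leaf 0x0)))) (.node (.node (.node (.leaf 0x47b51b5) (.leaf 0xa0f1251)) (.node (.leaf 0x4dbd251) (.leaf 0xa2c9251))) (.node (.node (.leaf 0x8d39251) (.leaf 0xe531241)) (.node (.leaf 0xb911241) (.leaf 0x0)))))))) (.node (.node (.node (.node (.node (.node (.node (.leaf 0xaa41241) (.leaf 0x6e951d1)) (.node (.leaf 0x89b5241) (.leaf 0x73551b5))) (.node (.node (.leaf 0x4e99241) (.leaf 0xb465241)) (.node (.leaf 0x83e5251) (.leaf 0xa07d251)))) (.node (.node (.node (.leaf 0x5c3d1d3) (.leaf 0x1324)) (.node (.leaf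 0x9811251) (.leaf 0x69a11d1))) (.node (.node (.leaf 0xa885241) (.leaf 0x68b51d3)) (.node (.leaf 0xa04d241) (.leaf 0x0))))) (.node (.node (.node (.node (.leaf 0x4e791d1) (.leaf 0xa95d251)) (.node (.leaf 0x5bb91d1) (.leaf 0x6db51b5))) (.node (.node (.leaf 0x79b5241) (.leaf 0x12ae)) (.node (.leaf 0x9535251) (.leaf 0xa475251)))) (.node (.node (.node (.leaf 0x976d251) (.leaf 0x73551d3)) (.node (.leaf 0x59051d1) (.leaf 0x13ae))) (.node (.node (.leaf 0x1290) (.leaf 0xac3d251)) (.node (.leaf 0xfaad241) (.leaf 0x0)))))) (.node (.node (.node (.node (.node (.leaf 0xe699241) (.leaf 0x12f4)) (.node (.leaf 0x41051b5) (.leaf 0x68ad1d1))) (.node (.node (.leaf 0x8965241) (.leaf 0x4881241)) (.node (.leaf 0xb169241) (.leaf 0xab2d251)))) (.node (.node (.node (.leaf 0xa4f9241) (.leaf 0x5edd1d1)) (.node (.leaf 0x4d791d3) (.leaf 0x6831241))) (.node (.node (.leaf 0x4119251) (.leaf 0xa39d251)) (.node (.leaf 0x6e151d3) (.leaf 0x0))))) (.node (.node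 (.node (.node (.leaf 0xd955241) (.leaf 0xc1ed241)) (.node (.leaf 0x9c2d241) (.leaf 0x1300))) (.node (.node (.leaf 0x58b91b5) (.leaf 0x5ead251)) (.node (.leaf 0x9885241) (.leaf 0x0)))) (.node (.node (.node (.leaf 0x93ed251) (.leaf 0xa36d241)) (.node (.leaf 0x4da11d1) (.leaf 0xa775241))) (.node (.node (.leaf 0x701d241) (.leaf 0xa2b1251)) (.node (.leaf 0xa3f5251) (.leaf 0x0))))))) (.node (.node (.node (.node (.node (.node (.leaf 0x11ae) (.leaf 0x5edd1b5)) (.node (.leaf 0x4021251) (.leaf 0x9d71251))) (.node (.node (.leaf 0xe7fd241) (.leaf 0x1276)) (.node (.leaf 0x98bd241) (.leaf 0x64711d3)))) (.node (.node (.node (.leaf 0xb889241) (.leaf 0xac89241)) (.node (.leaf 0x9d2d241) (.leaf 0xa6a1251))) (.node (.node (.leaf 0x57ed1d3) (.leaf 0x70d51b5)) (.node (.leaf 0x48891d1) (.leaf 0x0))))) (.node (.node (.node (.node (.leaf 0x7805241) (.leaf 0xd2c1241)) (.node (.leaf 0x87dd251) (.leaf 0xadf9241))) (.node (.node (.leaf 0x8579241)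 (.leaf 0xb72d241)) (.node (.leaf 0xa67d241) (.leaf 0xa085251)))) (.node (.node (.node (.leaf 0x8b6d241) (.leaf 0x6ae51b5)) (.node (.leaf 0x1538) (.leaf 0xa335241))) (.node (.node (.leaf 0x81d9251) (.leaf 0xa3a5251)) (.node (.leaf 0x6ff91d1) (.leaf 0x0)))))) (.node (.node (.node (.node (.node (.leaf 0xa30d241) (.leaf 0xac71251)) (.node (.leaf 0x920d251) (.leaf 0x75ed1b5))) (.node (.node (.leaf 0xd06d241) (.leaf 0x60311b5)) (.node (.leaf 0x8965251) (.leaf 0xb029241)))) (.node (.node (.node (.leaf 0x9175251) (.leaf 0xb731251)) (.node (.leaf 0x8a31251) (.leaf 0xe6a5251))) (.node (.node (.leaf 0x12ca) (.leaf 0x748d1b5)) (.node (.leaf 0xa159251) (.leaf 0x0))))) (.node (.node (.node (.node (.leaf 0x9451241) (.leaf 0xa759251)) (.node (.leaf 0x8775251) (.leaf 0xa2dd251))) (.node (.node (.leaf 0x410d1d1) (.leaf 0xe4d5241)) (.node (.leaf 0x4889241) (.leaf 0x0)))) (.node (.node (.node (.leaf 0x7685241) (.leaf 0xb3ad251)) (.node (.leaf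 0x84d9241) (.leaf 0x12f8))) (.node (.node (.leaf 0x9c21251) (.leaf 0xe0b1241)) (.node (.leaf 0xa255241) (.leaf 0x0))))))))))

/-- packed table -/
noncomputable def cov9_lrl : BTree := (.node (.node (.node (.node (.node (.node (.node (.node (.node (.leaf 0x8fd5241) (.leaf 0xf861241)) (.node (.leaf 0x54b5251) (.leaf 0x9931241))) (.node (.node (.leaf 0x51cd251) (.leaf 0x7679251)) (.node (.leaf 0x4da9241) (.leaf 0x9ed9251)))) (.node (.node (.node (.leaf 0x5bf91d3) (.leaf 0x9445241)) (.node (.leaf 0x8a51241) (.leaf 0x40f5241))) (.node (.node (.leaf 0x40f51d1) (.leaf 0xb471241)) (.node (.leaf 0x5385241) (.leaf 0x0))))) (.node (.node (.node (.node (.leaf 0x9cfd251) (.leaf 0xba65251)) (.node (.leaf 0x9215251) (.leaf 0xb381251))) (.node (.node (.leaf 0xc681241) (.leaf 0xae59251)) (.node (.leaf 0x99ed241) (.leaf 0xaf49241)))) (.node (.node (.node (.leaf 0x4d791b5) (.leaf 0x74ed241)) (.node (.leaf 0x5edd241) (.leaf 0xb5c5251)))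 (.node (.node (.leaf 0x8929241) (.leaf 0x79f9241)) (.node (.leaf 0x73551d1) (.leaf 0x0)))))) (.node (.node (.node (.node (.node (.leaf 0x11c4) (.leaf 0x97c1241)) (.node (.leaf 0x84a9241) (.leaf 0x6f5d251))) (.node (.node (.leaf 0x9ed5241) (.leaf 0x69ed1d1)) (.node (.leaf 0x5c7d251) (.leaf 0x65011d3)))) (.node (.node (.node (.leaf 0xf86d241) (.leaf 0xb5c5241)) (.node (.leaf 0x50011b5) (.leaf 0xa129241))) (.node (.node (.leaf 0x944d241) (.leaf 0x9869241)) (.node (.leaf 0x133c) (.leaf 0x0))))) (.node (.node (.node (.node (.leaf 0x77f5241) (.leaf 0xccad241)) (.node (.leaf 0x5fbd241) (.leaf 0x701d1b5))) (.node (.node (.leaf 0x8b39241) (.leaf 0x8aa9241)) (.node (.leaf 0x9ed1241) (.leaf 0x93bd241)))) (.node (.node (.node (.leaf 0x1318) (.leaf 0xba55241)) (.node (.leaf 0xb2b1241) (.leaf 0xa751241))) (.node (.node (.leaf 0x81cd251) (.leaf 0xb365251)) (.node (.leaf 0xa94d241) (.leaf 0x0))))))) (.node (.node (.node (.node (.node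 (.node (.leaf 0xa951241) (.leaf 0xb96d251)) (.node (.leaf 0x4a5d1b5) (.leaf 0xdf25241))) (.node (.node (.leaf 0x12ce) (.leaf 0xb019251)) (.node (.leaf 0x4b451b5) (.leaf 0x60e11d1)))) (.node (.node (.node (.leaf 0x94e5251) (.leaf 0x6a1d1b5)) (.node (.leaf 0x85c5241) (.leaf 0xac15241))) (.node (.node (.leaf 0x95e1241) (.leaf 0x6ea11d1)) (.node (.leaf 0xdecd241) (.leaf 0x0))))) (.node (.node (.node (.node (.leaf 0x4e991d1) (.leaf 0x7515251)) (.node (.leaf 0x59951d1) (.leaf 0xb0dd251))) (.node (.node (.leaf 0x840d251) (.leaf 0xa98d251)) (.node (.leaf 0x85d9251) (.leaf 0xa805251)))) (.node (.node (.node (.leaf 0x9779251) (.leaf 0x79b5251)) (.node (.leaf 0x8301251) (.leaf 0x9ff9251))) (.node (.node (.leaf 0x4e911b5) (.leaf 0x992d241)) (.node (.leaf 0x75ed241) (.leaf 0x0)))))) (.node (.node (.node (.node (.node (.leaf 0x5ca91d1) (.leaf 0x5f0d1d1)) (.node (.leaf 0x8609251) (.leaf 0x6135241))) (.node (.node (.leaf 0x59f5251) (.leaf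 0x129e)) (.node (.leaf 0x8d71241) (.leaf 0x44b9241)))) (.node (.node (.node (.leaf 0xcf3d251) (.leaf 0x75cd1d1)) (.node (.leaf 0x5659251) (.leaf 0xae61251))) (.node (.node (.leaf 0x12ea) (.leaf 0xb07d251)) (.node (.leaf 0x840d241) (.leaf 0x0))))) (.node (.node (.node (.node (.leaf 0x9949251) (.leaf 0xa395241)) (.node (.leaf 0x9c05241) (.leaf 0xc3c5241))) (.node (.node (.leaf 0x7515241) (.leaf 0xb631251)) (.node (.leaf 0xd69d251) (.leaf 0x0)))) (.node (.node (.node (.leaf 0x8261241) (.leaf 0xa395251)) (.node (.leaf 0x4d8d1d1) (.leaf 0x68ed1d1))) (.node (.node (.leaf 0x996d251) (.leaf 0x984d241)) (.node (.leaf 0x7219251) (.leaf 0x0)))))))) (.node (.node (.node (.node (.node (.node (.node (.leaf 0x5bf9251) (.leaf 0xcc95241)) (.node (.leaf 0xb8f1241) (.leaf 0xae5d251))) (.node (.node (.leaf 0x4d35241) (.leaf 0x9fc5241)) (.node (.leaf 0xba19241) (.leaf 0x7835241)))) (.node (.node (.node (.leaf 0x8471241) (.leaf 0xf969251))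 (.node (.leaf 0x4d891d3) (.leaf 0x6d9d1b5))) (.node (.node (.leaf 0x8b7d251) (.leaf 0xb73d241)) (.node (.leaf 0x1558) (.leaf 0x0))))) (.node (.node (.node (.node (.leaf 0x5d091d1) (.leaf 0xb261241)) (.node (.leaf 0x57011b5) (.leaf 0x9191241))) (.node (.node (.leaf 0x48451d3) (.leaf 0xf959251)) (.node (.leaf 0xbb49241) (.leaf 0xa7a5251)))) (.node (.node (.node (.leaf 0x40e1251) (.leaf 0xb015251)) (.node (.leaf 0x8121241) (.leaf 0x9195241))) (.node (.node (.leaf 0x939d251) (.leaf 0x65b5241)) (.node (.leaf 0x14c6) (.leaf 0x0)))))) (.node (.node (.node (.node (.node (.leaf 0x9431251) (.leaf 0xa96d241)) (.node (.leaf 0x9141251) (.leaf 0x701d1d3))) (.node (.node (.leaf 0x8e0d241) (.leaf 0x75151d1)) (.node (.leaf 0x40f91d3) (.leaf 0x62051d3)))) (.node (.node (.node (.leaf 0x8311251) (.leaf 0xf2f5241)) (.node (.leaf 0x8c0d251) (.leaf 0xb085251))) (.node (.node (.leaf 0xb661241) (.leaf 0x987d241)) (.node (.leaf 0x40391b5) (.leaf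 0x0))))) (.node (.node (.node (.node (.leaf 0x4b791d3) (.leaf 0xf60d251)) (.node (.leaf 0x932d241) (.leaf 0x4125241))) (.node (.node (.leaf 0x86dd241) (.leaf 0x85ad241)) (.node (.leaf 0x47391d1) (.leaf 0x64711d1)))) (.node (.node (.node (.leaf 0xa809241) (.leaf 0xba59251)) (.node (.leaf 0x8421241) (.leaf 0x68f11d1))) (.node (.node (.leaf 0x8685241) (.leaf 0x759d1d3)) (.node (.leaf 0xa1ad251) (.leaf 0x0))))))) (.node (.node (.node (.node (.node (.node (.leaf 0xca75241) (.leaf 0xaff5241)) (.node (.leaf 0x835d251) (.leaf 0x1426))) (.node (.node (.leaf 0xea15241) (.leaf 0xf951251)) (.node (.leaf 0x1520) (.leaf 0xa775251)))) (.node (.node (.node (.leaf 0x88fd251) (.leaf 0x945d241)) (.node (.leaf 0x1570) (.leaf 0xf25d251))) (.node (.node (.leaf 0x95dd251) (.leaf 0x6f5d1d3)) (.node (.leaf 0x9185241) (.leaf 0x0))))) (.node (.node (.node (.node (.leaf 0x9af5251) (.leaf 0x69811b5)) (.node (.leaf 0x8a65241) (.leaf 0xaeb1241))) (.node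 (.node (.leaf 0xa801241) (.leaf 0xa521241)) (.node (.leaf 0x59ad251) (.leaf 0x6ad9251)))) (.node (.node (.node (.leaf 0x6e15241) (.leaf 0xf095241)) (.node (.leaf 0x5b5d1d1) (.leaf 0x9ff5251))) (.node (.node (.leaf 0x92b5251) (.leaf 0x9289241)) (.node (.leaf 0x97d9241) (.leaf 0x0)))))) (.node (.node (.node (.node (.node (.leaf 0x51bd1b5) (.leaf 0x563d241)) (.node (.leaf 0x1388) (.leaf 0x9751241))) (.node (.node (.leaf 0xcc8d251) (.leaf 0xedd5241)) (.node (.leaf 0x9add251) (.leaf 0xa2f9251)))) (.node (.node (.node (.leaf 0x51b91d3) (.leaf 0xba51251)) (.node (.leaf 0x41bd1d3) (.leaf 0x8d59241))) (.node (.node (.leaf 0x4dd5241) (.leaf 0xd551241)) (.node (.leaf 0x9db5241) (.leaf 0x0))))) (.node (.node (.node (.node (.leaf 0x4f591b5) (.leaf 0xe841251)) (.node (.leaf 0xbad1241) (.leaf 0xee65251))) (.node (.node (.leaf 0x89ed251) (.leaf 0xca8d241)) (.node (.leaf 0x538d1b5) (.leaf 0x0)))) (.node (.node (.node (.leaf 0x7681241)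 (.leaf 0xb419251)) (.node (.leaf 0x4da9251) (.leaf 0x9db1251))) (.node (.node (.leaf 0x44751d1) (.leaf 0x9935241)) (.node (.leaf 0x7ac5251) (.leaf 0x0))))))))) (.node (.node (.node (.node (.node (.node (.node (.node (.leaf 0x4ff9241) (.leaf 0xb9c5251)) (.node (.leaf 0x1b6a) (.leaf 0x74bd1d3))) (.node (.node (.leaf 0x51c1251) (.leaf 0xadf1251)) (.node (.leaf 0x808d251) (.leaf 0x5e491d1)))) (.node (.node (.node (.leaf 0x86a9241) (.leaf 0xa8fd251)) (.node (.leaf 0x899d241) (.leaf 0x73291b5))) (.node (.node (.leaf 0x4b791b5) (.leaf 0x788d1d3)) (.node (.leaf 0x4ff91d1) (.leaf 0x0))))) (.node (.node (.node (.node (.leaf 0x48811b5) (.leaf 0xf359251)) (.node (.leaf 0x4da11b5) (.leaf 0xd55d241))) (.node (.node (.leaf 0x92d5241) (.leaf 0xa38d251)) (.node (.leaf 0x14d6) (.leaf 0x63e1251)))) (.node (.node (.node (.leaf 0xc0ed251) (.leaf 0xb961251)) (.node (.leaf 0xa1f9241) (.leaf 0x74011d3))) (.node (.node (.leaf 0x893d241) (.leaf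 0xb001251)) (.node (.leaf 0xa9f1251) (.leaf 0x0)))))) (.node (.node (.node (.node (.node (.leaf 0x1244) (.leaf 0x68d11b5)) (.node (.leaf 0x12ec) (.leaf 0x9981241))) (.node (.node (.leaf 0x58a1251) (.leaf 0xb9ad251)) (.node (.leaf 0xdc79251) (.leaf 0x6831251)))) (.node (.node (.node (.leaf 0x87b1241) (.leaf 0xba65241)) (.node (.leaf 0xda49251) (.leaf 0xb029251))) (.node (.node (.leaf 0xcfa5251) (.leaf 0xb531241)) (.node (.leaf 0x94f9241) (.leaf 0x0))))) (.node (.node (.node (.node (.leaf 0xb3b1241) (.leaf 0xba4d251)) (.node (.leaf 0x12a4) (.leaf 0x149a))) (.node (.node (.leaf 0x58e11d1) (.leaf 0x73711d1)) (.node (.leaf 0xdb25251) (.leaf 0xa1ad241)))) (.node (.node (.node (.leaf 0x143c) (.leaf 0x51b5241)) (.node (.leaf 0x889d251) (.leaf 0x9db5251))) (.node (.node (.leaf 0xc59d251) (.leaf 0x9961241)) (.node (.leaf 0x97b1241) (.leaf 0x0))))))) (.node (.node (.node (.node (.node (.node (.leaf 0x9ac9241) (.leaf 0x97a9241))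 (.node (.leaf 0xcab5251) (.leaf 0x66d5241))) (.node (.node (.leaf 0x5ce51d3) (.leaf 0x68b5241)) (.node (.leaf 0x9b69241) (.leaf 0x9e79251)))) (.node (.node (.node (.leaf 0x54dd251) (.leaf 0x7681251)) (.node (.leaf 0x54a51b5) (.leaf 0xb41d251))) (.node (.node (.leaf 0x95e9251) (.leaf 0x717d1d3)) (.node (.leaf 0x14d8) (.leaf 0x0))))) (.node (.node (.node (.node (.leaf 0x8a69241) (.leaf 0x6565241)) (.node (.leaf 0x9761251) (.leaf 0xb261251))) (.node (.node (.leaf 0x538d1d3) (.leaf 0xb751251)) (.node (.leaf 0x85d1251) (.leaf 0xa801251)))) (.node (.node (.node (.leaf 0x48891d3) (.leaf 0x71ad1d3)) (.node (.leaf 0x9b69251) (.leaf 0xdfed251))) (.node (.node (.leaf 0x48e91d3) (.leaf 0x40fd241)) (.node (.leaf 0x76811d1) (.leaf 0x0)))))) (.node (.node (.node (.node (.node (.leaf 0x51991b5) (.leaf 0xb789251)) (.node (.leaf 0x41bd1b5) (.leaf 0x6465241))) (.node (.node (.leaf 0x56591d1) (.leaf 0x62e51b5)) (.node (.leaf 0xb0b1241) (.leaf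 0xb4f5241)))) (.node (.node (.node (.leaf 0x51b51d3) (.leaf 0xee41241)) (.node (.leaf 0x820d241) (.leaf 0xad65251))) (.node (.node (.leaf 0x128e) (.leaf 0xa13d241)) (.node (.leaf 0x9435241) (.leaf 0x0))))) (.node (.node (.node (.node (.leaf 0x9951251) (.leaf 0x7355251)) (.node (.leaf 0x4e3d251) (.leaf 0x6ea51b5))) (.node (.node (.leaf 0x5bb9241) (.leaf 0x662d1d1)) (.node (.leaf 0x8695251) (.leaf 0x0)))) (.node (.node (.node (.leaf 0x85a1241) (.leaf 0xb759251)) (.node (.leaf 0x4da5251) (.leaf 0xceb1241))) (.node (.node (.leaf 0x8d15251) (.leaf 0x14bc)) (.node (.leaf 0xb6ed241) (.leaf 0x0)))))))) (.node (.node (.node (.node (.node (.node (.node (.leaf 0x9bf1251) (.leaf 0x5edd251)) (.node (.leaf 0xd559241) (.leaf 0x9945241))) (.node (.node (.leaf 0xdeb9241) (.leaf 0xb45d241)) (.node (.leaf 0x52811d1) (.leaf 0x147a)))) (.node (.node (.node (.leaf 0x1266) (.leaf 0xadf9251)) (.node (.leaf 0xa571241) (.leaf 0xa881241))) (.node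 (.node (.leaf 0xa0a1241) (.leaf 0x9939241)) (.node (.leaf 0x9c41241) (.leaf 0x0))))) (.node (.node (.node (.node (.leaf 0x4e791d3) (.leaf 0x8e69241)) (.node (.leaf 0xc245251) (.leaf 0xd545241))) (.node (.node (.leaf 0x40551d1) (.leaf 0x6dd91d1)) (.node (.leaf 0x85b9241) (.leaf 0x5f991d3)))) (.node (.node (.node (.leaf 0x9781251) (.leaf 0x662d251)) (.node (.leaf 0x8305251) (.leaf 0x9dad251))) (.node (.node (.leaf 0x4a5d1d1) (.leaf 0xe375241)) (.node (.leaf 0x5659241) (.leaf 0x0)))))) (.node (.node (.node (.node (.node (.leaf 0x8835251) (.leaf 0x9e35241)) (.node (.leaf 0x41011b5) (.leaf 0x6fa91b5))) (.node (.node (.leaf 0x16f4) (.leaf 0x75cd241)) (.node (.leaf 0x40d11d1) (.leaf 0xb2fd241)))) (.node (.node (.node (.leaf 0x9f7d241) (.leaf 0x7805251)) (.node (.leaf 0x8c11251) (.leaf 0xa455241))) (.node (.node (.leaf 0x40f9251) (.leaf 0xd579241)) (.node (.leaf 0x8a25241) (.leaf 0x0))))) (.node (.node (.node (.node (.leaf 0xf115241)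 (.leaf 0xee55241)) (.node (.leaf 0x9c21241) (.leaf 0x83c9241))) (.node (.node (.leaf 0x49551d3) (.leaf 0xb365241)) (.node (.leaf 0x56a51d3) (.leaf 0x0)))) (.node (.node (.node (.leaf 0x93e9251) (.leaf 0xb131251)) (.node (.leaf 0x9289251) (.leaf 0xacb5241))) (.node (.node (.leaf 0x57451d1) (.leaf 0x70c91b5)) (.node (.leaf 0x7801251) (.leaf 0x0))))))) (.node (.node (.node (.node (.node (.node (.leaf 0xb4dd241) (.leaf 0xb975251)) (.node (.leaf 0x8359251) (.leaf 0x997d241))) (.node (.node (.leaf 0x1280) (.leaf 0x9e61241)) (.node (.leaf 0x8b2d251) (.leaf 0x68951d3)))) (.node (.node (.node (.leaf 0xb97d241) (.leaf 0xac71241)) (.node (.leaf 0xc48d251) (.leaf 0xb45d251))) (.node (.node (.leaf 0xab71241) (.leaf 0x74011d1)) (.node (.leaf 0x8219251) (.leaf 0x0))))) (.node (.node (.node (.node (.leaf 0x9671251) (.leaf 0xa2c1241)) (.node (.leaf 0x9e9d241) (.leaf 0x4111241))) (.node (.node (.leaf 0x95c5241) (.leaf 0xa151251)) (.node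 (.leaf 0xa645241) (.leaf 0x5fbd251)))) (.node (.node (.node (.leaf 0x4b45241) (.leaf 0xb3a1241)) (.node (.leaf 0x96ed241) (.leaf 0xf5f5241))) (.node (.node (.leaf 0x81c1251) (.leaf 0xd769241)) (.node (.leaf 0x51b1241) (.leaf 0x0)))))) (.node (.node (.node (.node (.node (.leaf 0x9f81241) (.leaf 0x85a5241)) (.node (.leaf 0x9221251) (.leaf 0xb63d251))) (.node (.node (.leaf 0xa84d241) (.leaf 0xb1e1241)) (.node (.leaf 0x8975251) (.leaf 0xadcd241)))) (.node (.node (.node (.leaf 0x9191251) (.leaf 0x9439241)) (.node (.leaf 0x51a11d1) (.leaf 0x8621241))) (.node (.node (.leaf 0x4df11d3) (.leaf 0xa151241)) (.node (.leaf 0xa669241) (.leaf 0x0))))) (.node (.node (.node (.node (.leaf 0x81cd241) (.leaf 0xba69251)) (.node (.leaf 0x4105241) (.leaf 0x4101241))) (.node (.node (.leaf 0xb40d241) (.leaf 0xb259251)) (.node (.leaf 0x53b11b5) (.leaf 0x0)))) (.node (.node (.node (.leaf 0x958d241) (.leaf 0xa7ad251)) (.node (.leaf 0x48451b5) (.leaf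 0x7241241))) (.node (.node (.leaf 0xdbfd251) (.leaf 0x701d251)) (.node (.leaf 0x75ed1d1) (.leaf 0x0))))))))))

/-- packed table -/
noncomputable def cov9_lrr : BTree := (.node (.node (.node (.node (.node (.node (.node (.node (.node (.leaf 0x8fed241) (.leaf 0x9461241)) (.node (.leaf 0x54ad251) (.leaf 0x72ed1b5))) (.node (.node (.leaf 0x5199251) (.leaf 0xc839241)) (.node (.leaf 0xba15241) (.leaf 0x90ad241)))) (.node (.node (.node (.leaf 0xaa0d241) (.leaf 0x7ac51d1)) (.node (.leaf 0x40f1241) (.leaf 0x730d1b5))) (.node (.node (.leaf 0x956d251) (.leaf 0x75d11d1)) (.node (.leaf 0x5361241) (.leaf 0x0))))) (.node (.node (.node (.node (.leaf 0x6945241) (.leaf 0xde81251)) (.node (.leaf 0x4d911b5) (.leaf 0x1368))) (.node (.node (.leaf 0xa80d241) (.leaf 0x64711b5)) (.node (.leaf 0x58b51d1) (.leaf 0x77f11b5)))) (.node (.node (.node (.leaf 0x8e8d241) (.leaf 0xba4d241)) (.node (.leaf 0xca45251) (.leaf 0x61351d1))) (.node (.node (.leaf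 0x8931241) (.leaf 0x9dd9251)) (.node (.leaf 0xbb45251) (.leaf 0x0)))))) (.node (.node (.node (.node (.node (.leaf 0x135c) (.leaf 0xbac1251)) (.node (.leaf 0x5d411d1) (.leaf 0x15b4))) (.node (.node (.leaf 0x4ed51d1) (.leaf 0x74ed1d1)) (.node (.leaf 0x8c05241) (.leaf 0x5f05251)))) (.node (.node (.node (.leaf 0xcc79241) (.leaf 0x886d241)) (.node (.leaf 0x9f01241) (.leaf 0xec49251))) (.node (.node (.leaf 0x44b91b5) (.leaf 0xa011251)) (.node (.leaf 0xd4e1241) (.leaf 0x0))))) (.node (.node (.node (.node (.leaf 0x6db5241) (.leaf 0x9779241)) (.node (.leaf 0x47ed251) (.leaf 0x9e5d251))) (.node (.node (.leaf 0x1580) (.leaf 0xedf5241)) (.node (.leaf 0xc669241) (.leaf 0x65651d3)))) (.node (.node (.node (.leaf 0x8721251) (.leaf 0xf851251)) (.node (.leaf 0xadd1241) (.leaf 0x78691b5))) (.node (.node (.leaf 0x81b1251) (.leaf 0x14de)) (.node (.leaf 0xb081241) (.leaf 0x0))))))) (.node (.node (.node (.node (.node (.node (.leaf 0x9ed9241)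 (.leaf 0x144a)) (.node (.leaf 0x4e3d1d1) (.leaf 0xa6d1241))) (.node (.node (.leaf 0x9875241) (.leaf 0x77011d1)) (.node (.leaf 0x893d251) (.leaf 0x9f39251)))) (.node (.node (.node (.leaf 0x94f5251) (.leaf 0x9ba5241)) (.node (.leaf 0xa6f1241) (.leaf 0xa96d251))) (.node (.node (.leaf 0xa949241) (.leaf 0xe00d251)) (.node (.leaf 0x89ed241) (.leaf 0x0))))) (.node (.node (.node (.node (.leaf 0x9b05251) (.leaf 0x65651b5)) (.node (.leaf 0x40d11b5) (.leaf 0xe63d251))) (.node (.node (.leaf 0x1488) (.leaf 0xb511251)) (.node (.leaf 0x85a9251) (.leaf 0x60e11d3)))) (.node (.node (.node (.leaf 0x9ba5251) (.leaf 0xa53d251)) (.node (.leaf 0x9a25241) (.leaf 0x9fc9241))) (.node (.node (.leaf 0x1a80) (.leaf 0x9e91251)) (.node (.leaf 0xf02d241) (.leaf 0x0)))))) (.node (.node (.node (.node (.node (.leaf 0x97c9241) (.leaf 0xb155251)) (.node (.leaf 0x1342) (.leaf 0xab1d241))) (.node (.node (.leaf 0x8981241) (.leaf 0x1628)) (.node (.leaf 0xae25241)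 (.leaf 0xb019241)))) (.node (.node (.node (.leaf 0xa791241) (.leaf 0x78351d1)) (.node (.leaf 0xaf2d241) (.leaf 0x66d51d1))) (.node (.node (.leaf 0x125e) (.leaf 0xa1f5251)) (.node (.leaf 0xdffd251) (.leaf 0x0))))) (.node (.node (.node (.node (.leaf 0x9941251) (.leaf 0x6ba51b5)) (.node (.leaf 0x8e6d251) (.leaf 0xb3a5241))) (.node (.node (.leaf 0x7119241) (.leaf 0x7671251)) (.node (.leaf 0x86c5251) (.leaf 0x0)))) (.node (.node (.node (.leaf 0x8e35241) (.leaf 0xb075251)) (.node (.leaf 0x8685251) (.leaf 0x6201251))) (.node (.node (.leaf 0xe4d1241) (.leaf 0x66d5251)) (.node (.leaf 0x12de) (.leaf 0x0)))))))) (.node (.node (.node (.node (.node (.node (.node (.leaf 0xaa11241) (.leaf 0x78451d1)) (.node (.leaf 0xc8c1251) (.leaf 0xc675241))) (.node (.node (.leaf 0xc18d251) (.leaf 0x64ed1b5)) (.node (.leaf 0x6fa9241) (.leaf 0xeab9241)))) (.node (.node (.node (.leaf 0x843d241) (.leaf 0xac45241)) (.node (.leaf 0x815d251) (.leaf 0xa975251)))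 (.node (.node (.leaf 0x8ba5251) (.leaf 0xc665241)) (.node (.leaf 0x1544) (.leaf 0x0))))) (.node (.node (.node (.node (.leaf 0x4e711d1) (.leaf 0x7639251)) (.node (.leaf 0x8235251) (.leaf 0x69a11d3))) (.node (.node (.leaf 0xb9b9241) (.leaf 0xa511251)) (.node (.leaf 0xc2e9241) (.leaf 0x61711d3)))) (.node (.node (.node (.leaf 0x9789251) (.leaf 0x76711d1)) (.node (.leaf 0x1ae8) (.leaf 0x5f5d1d1))) (.node (.node (.leaf 0xd3ad251) (.leaf 0x6355241)) (.node (.leaf 0xa001251) (.leaf 0x0)))))) (.node (.node (.node (.node (.node (.leaf 0x9455251) (.leaf 0x662d1b5)) (.node (.leaf 0x53451d3) (.leaf 0x4d91241))) (.node (.node (.leaf 0x9891251) (.leaf 0xf7d9251)) (.node (.leaf 0x83b5251) (.leaf 0xb221241)))) (.node (.node (.node (.leaf 0x97d1241) (.leaf 0x70d5251)) (.node (.leaf 0x8c01251) (.leaf 0x9f21251))) (.node (.node (.leaf 0x4129251) (.leaf 0xe6d9251)) (.node (.leaf 0xfb09251) (.leaf 0x0))))) (.node (.node (.node (.node (.leaf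 0x56591d3) (.leaf 0xae5d241)) (.node (.leaf 0x9d2d251) (.leaf 0xab81241))) (.node (.node (.leaf 0x9a0d251) (.leaf 0xb611251)) (.node (.leaf 0x58b5241) (.leaf 0x0)))) (.node (.node (.node (.leaf 0x9c81241) (.leaf 0x5fd9241)) (.node (.leaf 0x85c9241) (.leaf 0x730d241))) (.node (.node (.leaf 0x155c) (.leaf 0x89a9241)) (.node (.leaf 0xf475251) (.leaf 0x0))))))) (.node (.node (.node (.node (.node (.node (.leaf 0xc63d251) (.leaf 0xefed241)) (.node (.leaf 0x9571241) (.leaf 0xa859251))) (.node (.node (.leaf 0xd071251) (.leaf 0x9d8d251)) (.node (.leaf 0x58c9241) (.leaf 0x779d1b5)))) (.node (.node (.node (.leaf 0x4d351b5) (.leaf 0xb7dd251)) (.node (.leaf 0x9d45241) (.leaf 0x6135251))) (.node (.node (.leaf 0x8281241) (.leaf 0xa761241)) (.node (.leaf 0x4ce5251) (.leaf 0x0))))) (.node (.node (.node (.node (.leaf 0x9675251) (.leaf 0xa2dd241)) (.node (.leaf 0x83d5241) (.leaf 0xa825251))) (.node (.node (.leaf 0x8505251) (.leaf 0x1406))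 (.node (.leaf 0x4d75241) (.leaf 0x76811b5)))) (.node (.node (.node (.leaf 0x8e2d251) (.leaf 0x9775241)) (.node (.leaf 0x56d11d1) (.leaf 0xaf39241))) (.node (.node (.leaf 0x9781241) (.leaf 0xa4f9251)) (.node (.leaf 0x60e11b5) (.leaf 0x0)))))) (.node (.node (.node (.node (.node (.leaf 0x51c91b5) (.leaf 0xb945251)) (.node (.leaf 0x9229251) (.leaf 0xc661241))) (.node (.node (.leaf 0x941d241) (.leaf 0xb5b1251)) (.node (.leaf 0x8981251) (.leaf 0xe149251)))) (.node (.node (.node (.leaf 0x51a51d3) (.leaf 0x5ead1d3)) (.node (.leaf 0x51bd1d1) (.leaf 0xea61251))) (.node (.node (.leaf 0x8ded241) (.leaf 0x1512)) (.node (.leaf 0x68ad1b5) (.leaf 0x0))))) (.node (.node (.node (.node (.leaf 0x53b1241) (.leaf 0x6eb91d1)) (.node (.leaf 0x8505241) (.leaf 0x9e69251))) (.node (.node (.leaf 0x85d1241) (.leaf 0xe7d5241)) (.node (.leaf 0x44151d1) (.leaf 0x0)))) (.node (.node (.node (.leaf 0x7671241) (.leaf 0xb931251)) (.node (.leaf 0x4d91251)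 (.leaf 0xb31d241))) (.node (.node (.leaf 0x9c2d251) (.leaf 0x4d8d241)) (.node (.leaf 0x1444) (.leaf 0x0))))))))) (.node (.node (.node (.node (.node (.node (.node (.node (.leaf 0x1502) (.leaf 0x69ed1b5)) (.node (.leaf 0x94a9251) (.leaf 0xa57d251))) (.node (.node (.leaf 0x8189251) (.leaf 0xb949251)) (.node (.leaf 0x51ad241) (.leaf 0x78451b5)))) (.node (.node (.node (.leaf 0x158c) (.leaf 0x75ed251)) (.node (.leaf 0x4dbd1d3) (.leaf 0x65b5251))) (.node (.node (.leaf 0x8bb1251) (.leaf 0x70d5241)) (.node (.leaf 0x9c4d241) (.leaf 0x0))))) (.node (.node (.node (.node (.leaf 0x48911b5) (.leaf 0xf92d251)) (.node (.leaf 0x4db51b5) (.leaf 0x732d1b5))) (.node (.node (.leaf 0x9611251) (.leaf 0xb251251)) (.node (.leaf 0x49551b5) (.leaf 0x1470)))) (.node (.node (.node (.leaf 0x4f591d1) (.leaf 0xa919241)) (.node (.leaf 0x1278) (.leaf 0x13b8))) (.node (.node (.leaf 0xa805241) (.leaf 0xdef5251)) (.node (.leaf 0x97d5241) (.leaf 0x0))))))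 (.node (.node (.node (.node (.node (.leaf 0x9461251) (.leaf 0xac51251)) (.node (.leaf 0x9151241) (.leaf 0x89a5241))) (.node (.node (.leaf 0x5895251) (.leaf 0x81a1241)) (.node (.leaf 0x41251d3) (.leaf 0xb949241)))) (.node (.node (.node (.leaf 0x9d9d241) (.leaf 0x7869251)) (.node (.leaf 0xcc75241) (.leaf 0x15aa))) (.node (.node (.leaf 0x5745241) (.leaf 0xa84d251)) (.node (.leaf 0x94fd241) (.leaf 0x0))))) (.node (.node (.node (.node (.leaf 0x9235241) (.leaf 0x69ed251)) (.node (.leaf 0x18ec) (.leaf 0x9fdd241))) (.node (.node (.leaf 0x58c91d1) (.leaf 0xce41241)) (.node (.leaf 0x47291d3) (.leaf 0xab35251)))) (.node (.node (.node (.leaf 0x1908) (.leaf 0xcc7d241)) (.node (.leaf 0x9299251) (.leaf 0x63551d1))) (.node (.node (.leaf 0xc569251) (.leaf 0x6b7d1d3)) (.node (.leaf 0x63551b5) (.leaf 0x0))))))) (.node (.node (.node (.node (.node (.node (.leaf 0x8639251) (.leaf 0xb001241)) (.node (.leaf 0xa825241) (.leaf 0x4d95241))) (.node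 (.node (.leaf 0xab35241) (.leaf 0x71191d1)) (.node (.leaf 0x1892) (.leaf 0x6aa51d3)))) (.node (.node (.node (.leaf 0x1724) (.leaf 0x85d5241)) (.node (.leaf 0x54b51b5) (.leaf 0x75b91b5))) (.node (.node (.leaf 0x95b9251) (.leaf 0x64651d1)) (.node (.leaf 0xcced251) (.leaf 0x0))))) (.node (.node (.node (.node (.leaf 0x9b11251) (.leaf 0x730d1d3)) (.node (.leaf 0xcec5251) (.leaf 0x6eb91b5))) (.node (.node (.leaf 0x90a5251) (.leaf 0xaba9251)) (.node (.leaf 0x62e5241) (.leaf 0xa6e5251)))) (.node (.node (.node (.leaf 0x92a5241) (.leaf 0xb7e9251)) (.node (.leaf 0x5a35241) (.leaf 0xb421241))) (.node (.node (.leaf 0x779d241) (.leaf 0x1460)) (.node (.leaf 0xa6c1251) (.leaf 0x0)))))) (.node (.node (.node (.node (.node (.leaf 0x51ad1b5) (.leaf 0xccb9241)) (.node (.leaf 0x11cc) (.leaf 0x64ed1d3))) (.node (.node (.leaf 0xcc65251) (.leaf 0x7ac51d3)) (.node (.leaf 0xadf1241) (.leaf 0x78111b5)))) (.node (.node (.node (.leaf 0x41bd1d1) (.leaf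 0x6d0d1d3)) (.node (.leaf 0x51b51d1) (.leaf 0x1b7c))) (.node (.node (.leaf 0x120e) (.leaf 0xf27d241)) (.node (.leaf 0x9dd9241) (.leaf 0x0))))) (.node (.node (.node (.node (.leaf 0x9939251) (.leaf 0xf9cd251)) (.node (.leaf 0xc66d241) (.leaf 0x4da1241))) (.node (.node (.leaf 0xf3ed241) (.leaf 0x75b9251)) (.node (.leaf 0x126a) (.leaf 0x0)))) (.node (.node (.node (.leaf 0x4b79241) (.leaf 0xe7a1241)) (.node (.leaf 0x4d9d251) (.leaf 0x6205251))) (.node (.node (.leaf 0x4d9d241) (.leaf 0x1428)) (.node (.leaf 0x97bd241) (.leaf 0x0)))))))) (.node (.node (.node (.node (.node (.node (.node (.leaf 0x8e81241) (.leaf 0x97a5241)) (.node (.leaf 0xc8bd251) (.leaf 0x9f1d241))) (.node (.node (.leaf 0xa09d241) (.leaf 0xa539241)) (.node (.leaf 0xc67d241) (.leaf 0xa111251)))) (.node (.node (.node (.leaf 0x90f5241) (.leaf 0xb9b9251)) (.node (.leaf 0x57ed251) (.leaf 0xeaf1251))) (.node (.node (.leaf 0x89b1251) (.leaf 0x11ec)) (.node (.leaf 0xa34d241)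 (.leaf 0x0))))) (.node (.node (.node (.node (.leaf 0x827d251) (.leaf 0x51c9241)) (.node (.leaf 0xf16d241) (.leaf 0xac29241))) (.node (.node (.leaf 0x9479241) (.leaf 0x7401241)) (.node (.leaf 0xfb39241) (.leaf 0x9bc9241)))) (.node (.node (.node (.leaf 0x9791251) (.leaf 0x75b91d1)) (.node (.leaf 0x60e1241) (.leaf 0x1382))) (.node (.node (.leaf 0x11da) (.leaf 0xa1c9251)) (.node (.leaf 0x5f991b5) (.leaf 0x0)))))) (.node (.node (.node (.node (.node (.leaf 0x886d251) (.leaf 0xa961241)) (.node (.leaf 0x410d1b5) (.leaf 0x6465251))) (.node (.node (.leaf 0x1354) (.leaf 0x65b51b5)) (.node (.leaf 0x8e5d241) (.leaf 0xaaa1251)))) (.node (.node (.node (.leaf 0x59ad1d3) (.leaf 0xa299241)) (.node (.leaf 0x8bfd251) (.leaf 0xa101251))) (.node (.node (.leaf 0x127a) (.leaf 0x9dd5251)) (.node (.leaf 0x97ad241) (.leaf 0x0))))) (.node (.node (.node (.node (.leaf 0xd26d241) (.leaf 0xee4d241)) (.node (.leaf 0x9c25241) (.leaf 0xc659241))) (.node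 (.node (.leaf 0x123c) (.leaf 0x7355241)) (.node (.leaf 0x98b1241) (.leaf 0x0)))) (.node (.node (.node (.leaf 0xa4a9241) (.leaf 0x79f91d3)) (.node (.leaf 0x4db91d1) (.leaf 0x6aa5241))) (.node (.node (.leaf 0x9181241) (.leaf 0x4d89241)) (.node (.leaf 0x85a9241) (.leaf 0x0))))))) (.node (.node (.node (.node (.node (.node (.leaf 0x1390) (.leaf 0xa571251)) (.node (.leaf 0x53611b5) (.leaf 0x68ad1d3))) (.node (.node (.leaf 0xc4e9251) (.leaf 0xb989251)) (.node (.leaf 0xba95241) (.leaf 0x9d4d251)))) (.node (.node (.node (.leaf 0xf879241) (.leaf 0x6d351d1)) (.node (.leaf 0x449d251) (.leaf 0xa521251))) (.node (.node (.leaf 0xa489241) (.leaf 0x9f81251)) (.node (.leaf 0xc1e9251) (.leaf 0x0))))) (.node (.node (.node (.node (.leaf 0x81b9241) (.leaf 0x4a99241)) (.node (.leaf 0x87f1251) (.leaf 0x4da5241))) (.node (.node (.leaf 0xa8c1241) (.leaf 0x8251241)) (.node (.leaf 0x82cd251) (.leaf 0xaa11251)))) (.node (.node (.node (.leaf 0xcb51241)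 (.leaf 0xa631251)) (.node (.leaf 0x56f11b5) (.leaf 0x65651d1))) (.node (.node (.leaf 0x41bd251) (.leaf 0xa9d1241)) (.node (.leaf 0x6ff9251) (.leaf 0x0)))))) (.node (.node (.node (.node (.node (.leaf 0x8919241) (.leaf 0x7119251)) (.node (.leaf 0x922d251) (.leaf 0xe78d251))) (.node (.node (.leaf 0xa191241) (.leaf 0xa2a9251)) (.node (.leaf 0x59f51d1) (.leaf 0x156c)))) (.node (.node (.node (.leaf 0x9161251) (.leaf 0x8e51241)) (.node (.leaf 0x9d8d241) (.leaf 0xed19241))) (.node (.node (.leaf 0x8925241) (.leaf 0x74911b5)) (.node (.leaf 0x9dbd251) (.leaf 0x0))))) (.node (.node (.node (.node (.leaf 0xace1241) (.leaf 0xb84d241)) (.node (.leaf 0xbad5241) (.leaf 0xaa91241))) (.node (.node (.leaf 0x41251d1) (.leaf 0xf485241)) (.node (.leaf 0x1506) (.leaf 0x0)))) (.node (.node (.node (.leaf 0x40f1251) (.leaf 0xf615251)) (.node (.leaf 0xa53d241) (.leaf 0x11e4))) (.node (.node (.leaf 0x11dc) (.leaf 0x1344)) (.node (.leaf 0x65011b5)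 (.leaf 0x0))))))))))

/-- packed table -/
noncomputable def cov9_rll : BTree := (.node (.node (.node (.node (.node (.node (.node (.node (.node (.leaf 0xd10d251) (.leaf 0x9e89251)) (.node (.leaf 0x1590) (.leaf 0x6f811d3))) (.node (.node (.leaf 0x51c9251) (.leaf 0x79b51d1)) (.node (.leaf 0x4a411d3) (.leaf 0x11f6)))) (.node (.node (.node (.leaf 0x8a6d251) (.leaf 0xedb1251)) (.node (.leaf 0x84b1241) (.leaf 0xb081251))) (.node (.node (.leaf 0x41091d1) (.leaf 0xb47d241)) (.node (.leaf 0x50011d1) (.leaf 0x0))))) (.node (.node (.node (.node (.leaf 0x9805241) (.leaf 0x134a)) (.node (.leaf 0x9219251) (.leaf 0xae11241))) (.node (.node (.leaf 0xd799241) (.leaf 0xef59251)) (.node (.leaf 0x896d251) (.leaf 0xee29241)))) (.node (.node (.node (.leaf 0x9181251) (.leaf 0xac2d241)) (.node (.leaf 0x9e7d241) (.leaf 0xacb9241))) (.node (.node (.leaf 0x892d241) (.leaf 0x9949241)) (.node (.leaf 0x75b91d3) (.leaf 0x0)))))) (.node (.node (.node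 (.node (.node (.leaf 0x11d6) (.leaf 0x9449241)) (.node (.leaf 0x449d241) (.leaf 0xf045241))) (.node (.node (.leaf 0x44b9251) (.leaf 0x65a5251)) (.node (.leaf 0x1228) (.leaf 0xa49d251)))) (.node (.node (.node (.leaf 0x59051b5) (.leaf 0xac0d241)) (.node (.leaf 0x9d1d241) (.leaf 0xae81251))) (.node (.node (.leaf 0x4a411b5) (.leaf 0x6e9d1d3)) (.node (.leaf 0x820d251) (.leaf 0x0))))) (.node (.node (.node (.node (.leaf 0x77f1241) (.leaf 0x8809241)) (.node (.leaf 0x6471241) (.leaf 0x6031241))) (.node (.node (.leaf 0x8b35241) (.leaf 0xb781241)) (.node (.leaf 0x44b91d3) (.leaf 0x538d241)))) (.node (.node (.node (.leaf 0x8b5d241) (.leaf 0xb619251)) (.node (.leaf 0x88a9251) (.leaf 0x9e75251))) (.node (.node (.leaf 0x81c9251) (.leaf 0xd575241)) (.node (.leaf 0x12a8) (.leaf 0x0))))))) (.node (.node (.node (.node (.node (.node (.leaf 0xab31241) (.leaf 0x79b51d3)) (.node (.leaf 0xb829241) (.leaf 0x72411d3))) (.node (.node (.leaf 0x92dd241)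 (.leaf 0x76391d1)) (.node (.leaf 0x5a291d3) (.leaf 0x63e11d1)))) (.node (.node (.node (.leaf 0x50011d3) (.leaf 0xabd1251)) (.node (.leaf 0x8c11241) (.leaf 0xace9251))) (.node (.node (.leaf 0x83b1241) (.leaf 0xad81251)) (.node (.leaf 0xde6d241) (.leaf 0x0))))) (.node (.node (.node (.node (.leaf 0x4ea51d3) (.leaf 0x69451b5)) (.node (.leaf 0xb0c5241) (.leaf 0xb1dd251))) (.node (.node (.leaf 0x8409251) (.leaf 0xac31251)) (.node (.leaf 0x85d5251) (.leaf 0x5e49251)))) (.node (.node (.node (.leaf 0x52011d1) (.leaf 0x76791d1)) (.node (.leaf 0x82fd251) (.leaf 0x13c2))) (.node (.node (.leaf 0x4e791b5) (.leaf 0xb309251)) (.node (.leaf 0xa8fd241) (.leaf 0x0)))))) (.node (.node (.node (.node (.node (.leaf 0xc83d251) (.leaf 0xe9c5241)) (.node (.leaf 0x41151b5) (.leaf 0xf53d251))) (.node (.node (.leaf 0x99f9251) (.leaf 0x4e3d241)) (.node (.leaf 0x8f7d251) (.leaf 0x64a11d1)))) (.node (.node (.node (.leaf 0xa491241) (.leaf 0x9431241))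 (.node (.leaf 0xafad241) (.leaf 0x8d4d241))) (.node (.node (.leaf 0x8291241) (.leaf 0x974d241)) (.node (.leaf 0x77f11d3) (.leaf 0x0))))) (.node (.node (.node (.node (.leaf 0x85a1251) (.leaf 0xba3d251)) (.node (.leaf 0x14fe) (.leaf 0xb2e9251))) (.node (.node (.leaf 0x8c5d251) (.leaf 0xb1cd251)) (.node (.leaf 0x58a1241) (.leaf 0x0)))) (.node (.node (.node (.leaf 0x4e71241) (.leaf 0xa129251)) (.node (.leaf 0x4d891d1) (.leaf 0xe625241))) (.node (.node (.leaf 0x978d241) (.leaf 0x1560)) (.node (.leaf 0x942d241) (.leaf 0x0)))))))) (.node (.node (.node (.node (.node (.node (.node (.leaf 0xa085241) (.leaf 0xb035251)) (.node (.leaf 0xb8ed241) (.leaf 0xb19d251))) (.node (.node (.leaf 0x13fe) (.leaf 0x9f45251)) (.node (.leaf 0xba25241) (.leaf 0x1500)))) (.node (.node (.node (.leaf 0x846d241) (.leaf 0xb761251)) (.node (.leaf 0x4d8d1d3) (.leaf 0xae09251))) (.node (.node (.leaf 0x563d1b5) (.leaf 0x75ed1d3)) (.node (.leaf 0x5c49241)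 (.leaf 0x0))))) (.node (.node (.node (.node (.leaf 0x9991241) (.leaf 0xb259241)) (.node (.leaf 0x8239251) (.leaf 0xae21251))) (.node (.node (.leaf 0x9791241) (.leaf 0xf9d1251)) (.node (.leaf 0xbb41241) (.leaf 0xa599251)))) (.node (.node (.node (.leaf 0x922d241) (.leaf 0x6f55251)) (.node (.leaf 0x8829241) (.leaf 0xf525251))) (.node (.node (.leaf 0x93c1251) (.leaf 0xb3bd251)) (.node (.leaf 0xb779251) (.leaf 0x0)))))) (.node (.node (.node (.node (.node (.leaf 0x9441251) (.leaf 0xb8b9251)) (.node (.leaf 0x53391d1) (.leaf 0xd549241))) (.node (.node (.leaf 0x5a291b5) (.leaf 0x14ae)) (.node (.leaf 0x40f51d3) (.leaf 0x68911d3)))) (.node (.node (.node (.leaf 0x8315251) (.leaf 0xa4e1251)) (.node (.leaf 0x8c09251) (.leaf 0xf3e5251))) (.node (.node (.leaf 0x4f9d251) (.leaf 0x995d241)) (.node (.leaf 0x53611d1) (.leaf 0x0))))) (.node (.node (.node (.node (.leaf 0xaf15241) (.leaf 0xba59241)) (.node (.leaf 0x12e2) (.leaf 0x9e5d241)))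 (.node (.node (.leaf 0x1536) (.leaf 0x51a5241)) (.node (.leaf 0x18e0) (.leaf 0x65011d1)))) (.node (.node (.node (.leaf 0x8e85241) (.leaf 0xb789241)) (.node (.leaf 0x154c) (.leaf 0x5f051d1))) (.node (.node (.leaf 0x9795241) (.leaf 0xa001241)) (.node (.leaf 0x6f81241) (.leaf 0x0))))))) (.node (.node (.node (.node (.node (.node (.leaf 0x6f5d241) (.leaf 0xcca9241)) (.node (.leaf 0x8361251) (.leaf 0x6f5d1b5))) (.node (.node (.leaf 0x9825241) (.leaf 0xbab1251)) (.node (.leaf 0x58c91b5) (.leaf 0x68ed241)))) (.node (.node (.node (.leaf 0xc051241) (.leaf 0x6db5251)) (.node (.leaf 0x1574) (.leaf 0xad5d251))) (.node (.node (.leaf 0x95d5251) (.leaf 0xe705241)) (.node (.leaf 0x51bd241) (.leaf 0x0))))) (.node (.node (.node (.node (.leaf 0x943d241) (.leaf 0x8041241)) (.node (.leaf 0xc411241) (.leaf 0xb521251))) (.node (.node (.leaf 0x826d241) (.leaf 0xb919241)) (.node (.leaf 0x47ed241) (.leaf 0x1524)))) (.node (.node (.node (.leaf 0x48811d3)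 (.leaf 0xa189251)) (.node (.leaf 0x5b5d251) (.leaf 0xb1a1241))) (.node (.node (.leaf 0xb791241) (.leaf 0xafbd251)) (.node (.leaf 0x979d241) (.leaf 0x0)))))) (.node (.node (.node (.node (.node (.leaf 0x51b11b5) (.leaf 0xee0d241)) (.node (.leaf 0x11ba) (.leaf 0xa631241))) (.node (.node (.leaf 0xcc85251) (.leaf 0xa71d251)) (.node (.leaf 0x9ae1251) (.leaf 0x5e491d3)))) (.node (.node (.node (.leaf 0x51bd1d3) (.leaf 0xb29d241)) (.node (.leaf 0x51ad1d1) (.leaf 0x74bd1b5))) (.node (.node (.leaf 0x13d8) (.leaf 0xb5a1251)) (.node (.leaf 0x9ee9251) (.leaf 0x0))))) (.node (.node (.node (.node (.leaf 0x9869251) (.leaf 0xa1d5241)) (.node (.leaf 0xbae9241) (.leaf 0x8c09241))) (.node (.node (.leaf 0x9535241) (.leaf 0xb85d251)) (.node (.leaf 0xc059251) (.leaf 0x0)))) (.node (.node (.node (.leaf 0x9305251) (.leaf 0x6e951d3)) (.node (.leaf 0x4dad251) (.leaf 0xb7b9241))) (.node (.node (.leaf 0xaaa1241) (.leaf 0xb2fd251)) (.node (.leaf 0x6c1d1b5)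 (.leaf 0x0))))))))) (.node (.node (.node (.node (.node (.node (.node (.node (.leaf 0x8ff5241) (.leaf 0x759d241)) (.node (.leaf 0x949d251) (.leaf 0xb1a9251))) (.node (.node (.leaf 0x51c5251) (.leaf 0x72191d3)) (.node (.leaf 0x5c7d1d1) (.leaf 0xd0b1241)))) (.node (.node (.node (.leaf 0x884d241) (.leaf 0x8cf5241)) (.node (.leaf 0x8349241) (.leaf 0xb3e9251))) (.node (.node (.leaf 0x41011d1) (.leaf 0x5fbd1b5)) (.node (.leaf 0x55011d3) (.leaf 0x0))))) (.node (.node (.node (.node (.leaf 0xabb5241) (.leaf 0xadcd251)) (.node (.leaf 0x4da51b5) (.leaf 0xa511241))) (.node (.node (.leaf 0x4ce51b5) (.leaf 0x85bd241)) (.node (.leaf 0x4b451d3) (.leaf 0x77f51b5)))) (.node (.node (.node (.leaf 0xf3e1241) (.leaf 0xb8c1251)) (.node (.leaf 0x9f89241) (.leaf 0xb429251))) (.node (.node (.leaf 0x8939241) (.leaf 0x6f5d1d1)) (.node (.leaf 0x7701241) (.leaf 0x0)))))) (.node (.node (.node (.node (.node (.leaf 0x12be) (.leaf 0xa2fd251)) (.node (.leaf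 0x8485241) (.leaf 0xd561241))) (.node (.node (.leaf 0x4b3d1d1) (.leaf 0x77ed251)) (.node (.leaf 0xdc75251) (.leaf 0x68f1251)))) (.node (.node (.node (.leaf 0xf881241) (.leaf 0x97a1241)) (.node (.leaf 0xda45251) (.leaf 0x8bfd241))) (.node (.node (.leaf 0x9bd5241) (.leaf 0x68d1241)) (.node (.leaf 0x94f5241) (.leaf 0x0))))) (.node (.node (.node (.node (.leaf 0x59ad1b5) (.leaf 0xb76d251)) (.node (.leaf 0x5345241) (.leaf 0xa641241))) (.node (.node (.leaf 0x58e1251) (.leaf 0xb925241)) (.node (.leaf 0x9b41241) (.leaf 0x9f91251)))) (.node (.node (.node (.leaf 0x872d251) (.leaf 0xa961251)) (.node (.leaf 0x5bb91d3) (.leaf 0x6565251))) (.node (.node (.leaf 0xc599251) (.leaf 0xb4e1251)) (.node (.leaf 0xb599251) (.leaf 0x0))))))) (.node (.node (.node (.node (.node (.node (.leaf 0x9591241) (.leaf 0x748d251)) (.node (.leaf 0x4d99241) (.leaf 0xb47d251))) (.node (.node (.leaf 0xd709251) (.leaf 0xa899241)) (.node (.leaf 0x9b65241) (.leaf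 0xa865251)))) (.node (.node (.node (.leaf 0x55011d1) (.leaf 0xb985251)) (.node (.leaf 0x1772) (.leaf 0x8c0d241))) (.node (.node (.leaf 0x95d1251) (.leaf 0x6f811d1)) (.node (.leaf 0xa661241) (.leaf 0x0))))) (.node (.node (.node (.node (.leaf 0x9b1d251) (.leaf 0x5edd1d3)) (.node (.leaf 0x40e11b5) (.leaf 0xf121251))) (.node (.node (.leaf 0x907d251) (.leaf 0x1530)) (.node (.leaf 0x85cd251) (.leaf 0xa79d251)))) (.node (.node (.node (.leaf 0xc4dd241) (.leaf 0x976d241)) (.node (.leaf 0x1486) (.leaf 0xa9b9241))) (.node (.node (.leaf 0x11b2) (.leaf 0x164e)) (.node (.leaf 0xb64d251) (.leaf 0x0)))))) (.node (.node (.node (.node (.node (.leaf 0x40f11b5) (.leaf 0xab75241)) (.node (.leaf 0x1258) (.leaf 0x70c91d1))) (.node (.node (.leaf 0x563d1d1) (.leaf 0x1316)) (.node (.leaf 0xb271241) (.leaf 0xb239241)))) (.node (.node (.node (.leaf 0x51b11d3) (.leaf 0x14ca)) (.node (.leaf 0x86bd241) (.leaf 0xb599241))) (.node (.node (.leaf 0x131e)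 (.leaf 0xae49251)) (.node (.leaf 0xacb1251) (.leaf 0x0))))) (.node (.node (.node (.node (.leaf 0x9931251) (.leaf 0x732d1d3)) (.node (.leaf 0xce39251) (.leaf 0x6ea11b5))) (.node (.node (.leaf 0x5d09241) (.leaf 0x151e)) (.node (.leaf 0x57011d1) (.leaf 0x0)))) (.node (.node (.node (.leaf 0xcc9d241) (.leaf 0x78451d3)) (.node (.leaf 0x4da1251) (.leaf 0x9ed1251))) (.node (.node (.leaf 0x9bd9241) (.leaf 0xb0a9251)) (.node (.leaf 0xa71d241) (.leaf 0x0)))))))) (.node (.node (.node (.node (.node (.node (.node (.leaf 0x9be9251) (.leaf 0x69991d3)) (.node (.leaf 0x95c9241) (.leaf 0x9299241))) (.node (.node (.leaf 0x4a411d1) (.leaf 0x6a711b5)) (.node (.leaf 0x83c9251) (.leaf 0xa905241)))) (.node (.node (.node (.leaf 0x4469241) (.leaf 0x132c)) (.node (.leaf 0xd7f9251) (.leaf 0x7361251))) (.node (.node (.leaf 0xa8b9241) (.leaf 0xb4dd251)) (.node (.leaf 0x5c3d241) (.leaf 0x0))))) (.node (.node (.node (.node (.leaf 0x4e7d1d1) (.leaf 0x8431241))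 (.node (.leaf 0x8d05241) (.leaf 0xb629251))) (.node (.node (.leaf 0x4415251) (.leaf 0x6f191d1)) (.node (.leaf 0xd531251) (.leaf 0x68311d3)))) (.node (.node (.node (.leaf 0x97a1251) (.leaf 0xa89d251)) (.node (.leaf 0x8309251) (.leaf 0x1452))) (.node (.node (.leaf 0x9441241) (.leaf 0x9969241)) (.node (.leaf 0xba61241) (.leaf 0x0)))))) (.node (.node (.node (.node (.node (.leaf 0x9435251) (.leaf 0xba51241)) (.node (.leaf 0x40f51b5) (.leaf 0xb221251))) (.node (.node (.leaf 0x49691b5) (.leaf 0xe211251)) (.node (.leaf 0x8f71251) (.leaf 0xe0b9251)))) (.node (.node (.node (.leaf 0x9421241) (.leaf 0x14f4)) (.node (.leaf 0x8c15251) (.leaf 0xb1e1251))) (.node (.node (.leaf 0x40f5251) (.leaf 0x6fa91d3)) (.node (.leaf 0x81b1241) (.leaf 0x0))))) (.node (.node (.node (.node (.leaf 0xf54d241) (.leaf 0xae61241)) (.node (.leaf 0xdc1d241) (.leaf 0x72411d1))) (.node (.node (.leaf 0x86e1241) (.leaf 0x76851d1)) (.node (.leaf 0x56a5251) (.leaf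 0x0)))) (.node (.node (.node (.leaf 0xac25241) (.leaf 0xa039241)) (.node (.leaf 0xb109241) (.leaf 0xb2cd241))) (.node (.node (.leaf 0x5995251) (.leaf 0xd54d241)) (.node (.leaf 0xb821251) (.leaf 0x0))))))) (.node (.node (.node (.node (.node (.node (.leaf 0x97c5241) (.leaf 0xba99251)) (.node (.leaf 0xa281241) (.leaf 0xb189251))) (.node (.node (.leaf 0xde19241) (.leaf 0x8215241)) (.node (.leaf 0x1b3c) (.leaf 0xa0ad251)))) (.node (.node (.node (.leaf 0x88f5251) (.leaf 0x51a1241)) (.node (.leaf 0x5d41241) (.leaf 0x9e2d241))) (.node (.node (.leaf 0x1550) (.leaf 0xe015241)) (.node (.leaf 0x1844) (.leaf 0x0))))) (.node (.node (.node (.node (.leaf 0x5c7d1d3) (.leaf 0x1226)) (.node (.leaf 0x8eb9251) (.leaf 0x6f19241))) (.node (.node (.leaf 0xc4f1251) (.leaf 0x14a2)) (.node (.leaf 0xa4c5241) (.leaf 0x76711b5)))) (.node (.node (.node (.leaf 0x8e0d251) (.leaf 0x6ad91b5)) (.node (.leaf 0x96f9241) (.leaf 0xf039241))) (.node (.node (.leaf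 0x81c5251) (.leaf 0x5995241)) (.node (.leaf 0xccbd241) (.leaf 0x0)))))) (.node (.node (.node (.node (.node (.leaf 0x9cf5251) (.leaf 0xe3d1241)) (.node (.leaf 0x921d251) (.leaf 0xb1cd241))) (.node (.node (.leaf 0xdd6d241) (.leaf 0x9f21241)) (.node (.leaf 0x4979251) (.leaf 0xe295251)))) (.node (.node (.node (.leaf 0x9179251) (.leaf 0xb211251)) (.node (.leaf 0x51a51d1) (.leaf 0xb421251))) (.node (.node (.leaf 0x4df1241) (.leaf 0xacd1241)) (.node (.leaf 0xa66d241) (.leaf 0x0))))) (.node (.node (.node (.node (.leaf 0x4119241) (.leaf 0xb719251)) (.node (.leaf 0x8ef9241) (.leaf 0x8bf9241))) (.node (.node (.leaf 0xeed9241) (.leaf 0xb055251)) (.node (.leaf 0x8cf1241) (.leaf 0x0)))) (.node (.node (.node (.leaf 0x930d251) (.leaf 0xeadd251)) (.node (.leaf 0x9d5d241) (.leaf 0xb2dd241))) (.node (.node (.leaf 0x4021241) (.leaf 0x5281241)) (.node (.leaf 0xba69241) (.leaf 0x0))))))))))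

/-- packed table -/
noncomputable def cov9_rlr : BTree := (.node (.node (.node (.node (.node (.node (.node (.node (.node (.leaf 0x9105251) (.leaf 0xacb9251)) (.node (.leaf 0x94d1251) (.leaf 0x7491241))) (.node (.node (.leaf 0x519d251) (.leaf 0xa729251)) (.node (.leaf 0xba29241) (.leaf 0x9089241)))) (.node (.node (.node (.leaf 0x13f2) (.leaf 0x788d251)) (.node (.leaf 0x9419251) (.leaf 0x73151b5))) (.node (.node (.leaf 0x41191d1) (.leaf 0x6fb91d3)) (.node (.leaf 0x935d241) (.leaf 0x0))))) (.node (.node (.node (.node (.leaf 0x5ce5251) (.leaf 0xa8a9251)) (.node (.leaf 0x4d951b5) (.leaf 0xa721241))) (.node (.node (.leaf 0x827d241) (.leaf 0xbb49251)) (.node (.leaf 0x58b91d1) (.leaf 0x60e1251)))) (.node (.node (.node (.leaf 0x9169251) (.leaf 0x7371251)) (.node (.leaf 0x4a41251) (.leaf 0xb995241))) (.node (.node (.leaf 0x8935241) (.leaf 0x140c)) (.node (.leaf 0xaa8d241) (.leaf 0x0)))))) (.node (.node (.node (.node (.node (.leaf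 0x1378) (.leaf 0xa859241)) (.node (.leaf 0x84a1241) (.leaf 0xa8b9251))) (.node (.node (.leaf 0x921d241) (.leaf 0xf139251)) (.node (.leaf 0xccb5241) (.leaf 0x5f99251)))) (.node (.node (.node (.leaf 0x9941241) (.leaf 0xe8a5251)) (.node (.leaf 0x9d4d241) (.leaf 0x11c8))) (.node (.node (.leaf 0x7665241) (.leaf 0x74ed1b5)) (.node (.leaf 0x54dd241) (.leaf 0x0))))) (.node (.node (.node (.node (.leaf 0x746d241) (.leaf 0x1304)) (.node (.leaf 0x8c3d241) (.leaf 0x121c))) (.node (.node (.leaf 0x4b19241) (.leaf 0xdfa5251)) (.node (.leaf 0x82c1251) (.leaf 0x662d241)))) (.node (.node (.node (.leaf 0x872d241) (.leaf 0x68f11b5)) (.node (.leaf 0xf111241) (.leaf 0x9fc5251))) (.node (.node (.leaf 0x81b5251) (.leaf 0x6315251)) (.node (.leaf 0xa4b1251) (.leaf 0x0))))))) (.node (.node (.node (.node (.node (.node (.leaf 0xa535241) (.leaf 0x8801241)) (.node (.leaf 0xb821241) (.leaf 0x9e09251))) (.node (.node (.leaf 0x9721251) (.leaf 0x1886))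 (.node (.leaf 0x12d8) (.leaf 0xa715251)))) (.node (.node (.node (.leaf 0x90f9241) (.leaf 0x746d251)) (.node (.leaf 0x97e9251) (.leaf 0xa72d251))) (.node (.node (.leaf 0x89a9251) (.leaf 0x9dcd251)) (.node (.leaf 0x89b1241) (.leaf 0x0))))) (.node (.node (.node (.node (.leaf 0x48e91d1) (.leaf 0xa57d241)) (.node (.leaf 0xf209241) (.leaf 0xa4f5251))) (.node (.node (.leaf 0x5bf91d1) (.leaf 0x76391d3)) (.node (.leaf 0x85a5251) (.leaf 0x63e11d3)))) (.node (.node (.node (.leaf 0x48911d3) (.leaf 0x5199241)) (.node (.leaf 0x5a29241) (.leaf 0xe8c5241))) (.node (.node (.leaf 0x8e89251) (.leaf 0x13c4)) (.node (.leaf 0x70d51d1) (.leaf 0x0)))))) (.node (.node (.node (.node (.node (.leaf 0x8865251) (.leaf 0xef35251)) (.node (.leaf 0x41291b5) (.leaf 0xe319251))) (.node (.node (.leaf 0x897d241) (.leaf 0x697d241)) (.node (.leaf 0x153c) (.leaf 0x69891d1)))) (.node (.node (.node (.leaf 0xcf45251) (.leaf 0xee3d241)) (.node (.leaf 0xad6d241)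 (.leaf 0xe75d251))) (.node (.node (.leaf 0x12e4) (.leaf 0xaafd241)) (.node (.leaf 0xa9f5251) (.leaf 0x0))))) (.node (.node (.node (.node (.leaf 0x9961251) (.leaf 0x662d1d3)) (.node (.leaf 0x8e69251) (.leaf 0x6e951b5))) (.node (.node (.leaf 0x7219241) (.leaf 0xabad241)) (.node (.leaf 0x86c9251) (.leaf 0x0)))) (.node (.node (.node (.leaf 0x803d241) (.leaf 0xaef5251)) (.node (.leaf 0x4db51d1) (.leaf 0x8edd241))) (.node (.node (.leaf 0x6895241) (.leaf 0xa715241)) (.node (.leaf 0xba95251) (.leaf 0x0)))))))) (.node (.node (.node (.node (.node (.node (.node (.leaf 0x13f8) (.leaf 0xa06d241)) (.node (.leaf 0xc8c5251) (.leaf 0x62e51d1))) (.node (.node (.leaf 0xe0f9241) (.leaf 0xb581241)) (.node (.leaf 0xaf69241) (.leaf 0xa299251)))) (.node (.node (.node (.leaf 0x4441241) (.leaf 0x6031251)) (.node (.leaf 0x4db51d3) (.leaf 0x69a1251))) (.node (.node (.leaf 0x8ba9251) (.leaf 0xa791251)) (.node (.leaf 0x8461251) (.leaf 0x0))))) (.node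 (.node (.node (.node (.leaf 0xe941241) (.leaf 0x72ed1d3)) (.node (.leaf 0x4ed5241) (.leaf 0xa24d241))) (.node (.node (.leaf 0x841d251) (.leaf 0xa721251)) (.node (.leaf 0xc091241) (.leaf 0x6a711d3)))) (.node (.node (.node (.leaf 0x4ea5241) (.leaf 0xb74d251)) (.node (.leaf 0xa289241) (.leaf 0x8d19241))) (.node (.node (.leaf 0xa475241) (.leaf 0xa589251)) (.node (.leaf 0xa909251) (.leaf 0x0)))))) (.node (.node (.node (.node (.node (.leaf 0x9451251) (.leaf 0xa72d241)) (.node (.leaf 0x9135241) (.leaf 0x68f1241))) (.node (.node (.leaf 0x13a4) (.leaf 0xba61251)) (.node (.leaf 0x83b1251) (.leaf 0xb629241)))) (.node (.node (.node (.leaf 0x9239241) (.leaf 0x9789241)) (.node (.leaf 0x8c05251) (.leaf 0xa611251))) (.node (.node (.leaf 0x4125251) (.leaf 0xa885251)) (.node (.leaf 0x88f5241) (.leaf 0x0))))) (.node (.node (.node (.node (.leaf 0xf5ad241) (.leaf 0x1322)) (.node (.leaf 0x40211d1) (.leaf 0x12fc))) (.node (.node (.leaf 0x58951b5)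 (.leaf 0xb40d251)) (.node (.leaf 0x58b9241) (.leaf 0x0)))) (.node (.node (.node (.leaf 0xa2f5241) (.leaf 0x85c1241)) (.node (.leaf 0x8c15241) (.leaf 0xacf5241))) (.node (.node (.leaf 0xc275241) (.leaf 0x124e)) (.node (.leaf 0xed2d251) (.leaf 0x0))))))) (.node (.node (.node (.node (.node (.node (.leaf 0xc61d251) (.leaf 0x6d35251)) (.node (.leaf 0x85cd241) (.leaf 0x13e2))) (.node (.node (.leaf 0x993d241) (.leaf 0xac39251)) (.node (.leaf 0x98c5241) (.leaf 0xa0dd251)))) (.node (.node (.node (.leaf 0x862d241) (.leaf 0xb93d251)) (.node (.leaf 0x9d49241) (.leaf 0xc689241))) (.node (.node (.leaf 0x95c1251) (.leaf 0xb75d241)) (.node (.leaf 0xa4b1241) (.leaf 0x0))))) (.node (.node (.node (.node (.leaf 0x9679251) (.leaf 0x69991b5)) (.node (.leaf 0x4d351d3) (.leaf 0x6dd9241))) (.node (.node (.leaf 0x9d85241) (.leaf 0xf9e9251)) (.node (.leaf 0x51c5241) (.leaf 0x76851b5)))) (.node (.node (.node (.leaf 0x8b75241) (.leaf 0x130c)) (.node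 (.leaf 0x56cd241) (.leaf 0xf535241))) (.node (.node (.leaf 0x130a) (.leaf 0x86c5241)) (.node (.leaf 0x7665251) (.leaf 0x0)))))) (.node (.node (.node (.node (.node (.leaf 0x51c51b5) (.leaf 0x7701251)) (.node (.leaf 0x9225251) (.leaf 0x69a51d3))) (.node (.node (.leaf 0xcc6d251) (.leaf 0xc201241)) (.node (.leaf 0x897d251) (.leaf 0xeb95251)))) (.node (.node (.node (.leaf 0x51a11d3) (.leaf 0xab11251)) (.node (.leaf 0x51b91d1) (.leaf 0xc65d241))) (.node (.node (.leaf 0x18fa) (.leaf 0x9e95251)) (.node (.leaf 0x71191d3) (.leaf 0x0))))) (.node (.node (.node (.node (.leaf 0x57451d3) (.leaf 0xb171251)) (.node (.leaf 0x8add241) (.leaf 0xe525251))) (.node (.node (.leaf 0x956d241) (.leaf 0xe7f5241)) (.node (.leaf 0x4055251) (.leaf 0x0)))) (.node (.node (.node (.leaf 0x5905241) (.leaf 0xb70d251)) (.node (.leaf 0x4d95251) (.leaf 0xb201241))) (.node (.node (.leaf 0x54dd1b5) (.leaf 0xa191251)) (.node (.leaf 0xb719241) (.leaf 0x0)))))))))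 (.node (.node (.node (.node (.node (.node (.node (.node (.leaf 0x53611d3) (.leaf 0xb725241)) (.node (.leaf 0x54c5251) (.leaf 0x6f191b5))) (.node (.node (.leaf 0x4e91241) (.leaf 0xb57d241)) (.node (.leaf 0x809d251) (.leaf 0x148e)))) (.node (.node (.node (.leaf 0xe9dd241) (.leaf 0xf12d251)) (.node (.leaf 0x4db91d3) (.leaf 0x6171241))) (.node (.node (.leaf 0x8bad251) (.leaf 0x8189241)) (.node (.leaf 0x9c51241) (.leaf 0x0))))) (.node (.node (.node (.node (.leaf 0x48891b5) (.leaf 0x8049241)) (.node (.leaf 0x5201251) (.leaf 0xa551251))) (.node (.node (.leaf 0x95ed251) (.leaf 0x81fd241)) (.node (.leaf 0x13ea) (.leaf 0xfa45241)))) (.node (.node (.node (.leaf 0x80bd251) (.leaf 0x85d9241)) (.node (.leaf 0x1218) (.leaf 0xc68d241))) (.node (.node (.leaf 0x43fd1d3) (.leaf 0x75d11b5)) (.node (.leaf 0x7491251) (.leaf 0x0)))))) (.node (.node (.node (.node (.node (.leaf 0x9445251) (.leaf 0x135a)) (.node (.leaf 0x53291d1) (.leaf 0xe555251)))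 (.node (.node (.leaf 0x58b51d3) (.leaf 0x8d11241)) (.node (.leaf 0x41291d3) (.leaf 0x68911d1)))) (.node (.node (.node (.leaf 0x8341251) (.leaf 0x63e11b5)) (.node (.leaf 0x47ed1d3) (.leaf 0xabad251))) (.node (.node (.leaf 0x151a) (.leaf 0x122e)) (.node (.leaf 0x5501241) (.leaf 0x0))))) (.node (.node (.node (.node (.leaf 0x8825241) (.leaf 0x65a51d1)) (.node (.leaf 0x5341251) (.leaf 0x9da1251))) (.node (.node (.leaf 0x58c91d3) (.leaf 0x767d1d1)) (.node (.leaf 0x9b39251) (.leaf 0xa685251)))) (.node (.node (.node (.leaf 0x5b451d1) (.leaf 0xb435251)) (.node (.leaf 0xb149241) (.leaf 0x9fc1251))) (.node (.node (.leaf 0xb055241) (.leaf 0xa909241)) (.node (.leaf 0x77f51d3) (.leaf 0x0))))))) (.node (.node (.node (.node (.node (.node (.leaf 0x8e89241) (.leaf 0x62051b5)) (.node (.leaf 0x9dd5241) (.leaf 0x8359241))) (.node (.node (.leaf 0xa685241) (.leaf 0x17ae)) (.node (.leaf 0x1830) (.leaf 0xe745251)))) (.node (.node (.node (.leaf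 0xb975241) (.leaf 0xa4e5251)) (.node (.leaf 0x17d8) (.leaf 0xa281251))) (.node (.node (.leaf 0x95c5251) (.leaf 0x68ad251)) (.node (.leaf 0x8cf1251) (.leaf 0x0))))) (.node (.node (.node (.node (.leaf 0xb8e9241) (.leaf 0x9771241)) (.node (.leaf 0x5f5d241) (.leaf 0x65b51d1))) (.node (.node (.leaf 0x9cf1241) (.leaf 0xa341241)) (.node (.leaf 0xa0a5241) (.leaf 0xa9b9251)))) (.node (.node (.node (.leaf 0xdbad251) (.leaf 0x7685251)) (.node (.leaf 0x9a39241) (.leaf 0xaacd251))) (.node (.node (.leaf 0xb7a1241) (.leaf 0xe1bd251)) (.node (.leaf 0x8831241) (.leaf 0x0)))))) (.node (.node (.node (.node (.node (.leaf 0x51a11b5) (.leaf 0xa039251)) (.node (.leaf 0x12d2) (.leaf 0x6dd91b5))) (.node (.node (.leaf 0x56391d1) (.leaf 0xbb41251)) (.node (.leaf 0x9ab9251) (.leaf 0x1508)))) (.node (.node (.node (.leaf 0x51ad1d3) (.leaf 0x1330)) (.node (.leaf 0x51b11d1) (.leaf 0xac15251))) (.node (.node (.leaf 0x11e8) (.leaf 0x1288)) (.node (.leaf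 0x77011d3) (.leaf 0x0))))) (.node (.node (.node (.node (.leaf 0x4d751d1) (.leaf 0xb935251)) (.node (.leaf 0x8235241) (.leaf 0xe2b5251))) (.node (.node (.leaf 0xee75241) (.leaf 0x710d1d1)) (.node (.leaf 0x86bd251) (.leaf 0x0)))) (.node (.node (.node (.leaf 0x1200) (.leaf 0xa969251)) (.node (.leaf 0x4d99251) (.leaf 0x6981251))) (.node (.node (.leaf 0x4d35251) (.leaf 0x9e05251)) (.node (.leaf 0xf52d251) (.leaf 0x0)))))))) (.node (.node (.node (.node (.node (.node (.node (.leaf 0x4a5d1d3) (.leaf 0x75cd251)) (.node (.leaf 0xc8b9251) (.leaf 0x5f05241))) (.node (.node (.leaf 0xa39d241) (.leaf 0xa279251)) (.node (.leaf 0x40e11d3) (.leaf 0xa25d251)))) (.node (.node (.node (.leaf 0x1584) (.leaf 0x78111d3)) (.node (.leaf 0x8fb5241) (.leaf 0xac19241))) (.node (.node (.leaf 0x89b5251) (.leaf 0x9ef1251)) (.node (.leaf 0xa2ed241) (.leaf 0x0))))) (.node (.node (.node (.node (.leaf 0x8281251) (.leaf 0x8a49241)) (.node (.leaf 0x8229251)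 (.leaf 0xe4f1251))) (.node (.node (.leaf 0x8421251) (.leaf 0x8a95241)) (.node (.leaf 0xfb31241) (.leaf 0x5bf9241)))) (.node (.node (.node (.leaf 0x9771251) (.leaf 0x710d251)) (.node (.leaf 0x63e1241) (.leaf 0xac25251))) (.node (.node (.leaf 0x13ec) (.leaf 0xab29251)) (.node (.leaf 0x78691d1) (.leaf 0x0)))))) (.node (.node (.node (.node (.node (.leaf 0xa5d9241) (.leaf 0xb8c5251)) (.node (.leaf 0x41091b5) (.leaf 0x126e))) (.node (.node (.leaf 0x49791d1) (.leaf 0x75d1241)) (.node (.leaf 0x8f69251) (.leaf 0x76651b5)))) (.node (.node (.node (.leaf 0xcf51251) (.leaf 0xa2b1241)) (.node (.leaf 0x8bf9251) (.leaf 0x68b51d1))) (.node (.node (.leaf 0x1256) (.leaf 0x710d1b5)) (.node (.leaf 0x7539251) (.leaf 0x0))))) (.node (.node (.node (.node (.leaf 0xc24d241) (.leaf 0xb2b5251)) (.node (.leaf 0x9c29241) (.leaf 0x834d241))) (.node (.node (.leaf 0x58b51b5) (.leaf 0x5f0d1b5)) (.node (.leaf 0x98ad241) (.leaf 0x0)))) (.node (.node (.node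 (.leaf 0x5639241) (.leaf 0x6aa51b5)) (.node (.leaf 0x4dbd1d1) (.leaf 0xa711251))) (.node (.node (.leaf 0x9969251) (.leaf 0x9f39241)) (.node (.leaf 0x81a9241) (.leaf 0x0))))))) (.node (.node (.node (.node (.node (.node (.leaf 0x139e) (.leaf 0x81c5241)) (.node (.leaf 0x40211d3) (.leaf 0x71751b5))) (.node (.node (.leaf 0x4f9d1b5) (.leaf 0xe6c5241)) (.node (.leaf 0xba99241) (.leaf 0x9f01251)))) (.node (.node (.node (.leaf 0xb885241) (.leaf 0x6c79241)) (.node (.leaf 0x449d1d3) (.leaf 0x6d0d1b5))) (.node (.node (.leaf 0x5ca9251) (.leaf 0x64ed251)) (.node (.leaf 0x710d241) (.leaf 0x0))))) (.node (.node (.node (.node (.leaf 0x8d61241) (.leaf 0x767d251)) (.node (.leaf 0x87f5251) (.leaf 0x9fe9251))) (.node (.node (.leaf 0x835d241) (.leaf 0xacd1251)) (.node (.leaf 0x6201241) (.leaf 0x93c1241)))) (.node (.node (.node (.leaf 0x8b69241) (.leaf 0xb85d241)) (.node (.leaf 0x56f11d3) (.leaf 0x697d251))) (.node (.node (.leaf 0x81b9251)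 (.leaf 0x615d1d1)) (.node (.leaf 0x9785241) (.leaf 0x0)))))) (.node (.node (.node (.node (.node (.leaf 0x9cf1251) (.leaf 0x6eb91d3)) (.node (.leaf 0x9231251) (.leaf 0xc671241))) (.node (.node (.leaf 0xaa31241) (.leaf 0x51cd241)) (.node (.leaf 0x1578) (.leaf 0xef09241)))) (.node (.node (.node (.leaf 0x9171251) (.leaf 0xb76d241)) (.node (.leaf 0x8a49251) (.leaf 0xac0d251))) (.node (.node (.leaf 0x4df11d1) (.leaf 0xa919251)) (.node (.leaf 0xa671241) (.leaf 0x0))))) (.node (.node (.node (.node (.leaf 0x9859251) (.leaf 0x60991d3)) (.node (.leaf 0xbadd241) (.leaf 0x6a71241))) (.node (.node (.leaf 0x41111d1) (.leaf 0xba55251)) (.node (.leaf 0x4a991d3) (.leaf 0x0)))) (.node (.node (.node (.leaf 0x767d241) (.leaf 0xb471251)) (.node (.leaf 0xd469251) (.leaf 0x12b6))) (.node (.node (.leaf 0x55011b5) (.leaf 0x68b5251)) (.node (.leaf 0x74bd241) (.leaf 0x0))))))))))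

/-- packed table -/
noncomputable def cov9_rrl : BTree := (.node (.node (.node (.node (.node (.node (.node (.node (.node (.leaf 0x53851d3) (.leaf 0xb741241)) (.node (.leaf 0x94b9251) (.leaf 0x9225241))) (.node (.node (.leaf 0x91a9251) (.leaf 0x60991b5)) (.node (.leaf 0xd46d251) (.leaf 0x9099241)))) (.node (.node (.node (.leaf 0x4a991b5) (.leaf 0xb8ed251)) (.node (.leaf 0x81a5241) (.leaf 0x63151d3))) (.node (.node (.leaf 0x40f91d1) (.leaf 0x72ed1d1)) (.node (.leaf 0x9381241) (.leaf 0x0))))) (.node (.node (.node (.node (.leaf 0x5bb91b5) (.leaf 0xdeb1251)) (.node (.leaf 0x4d891b5) (.leaf 0xf0d1241))) (.node (.node (.leaf 0xa4bd241) (.leaf 0x7811251)) (.node (.leaf 0x58a11d1) (.leaf 0x78011b5)))) (.node (.node (.node (.leaf 0x4d751b5) (.leaf 0x71751d1)) (.node (.leaf 0x81c9241) (.leaf 0xa60d241))) (.node (.node (.leaf 0x56a51b5) (.leaf 0xa60d251)) (.node (.leaf 0xefc5241) (.leaf 0x0)))))) (.node (.node (.node (.node (.node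 (.leaf 0x15cc) (.leaf 0xf289241)) (.node (.leaf 0x84ad241) (.leaf 0x1456))) (.node (.node (.leaf 0x928d241) (.leaf 0xb0f5241)) (.node (.leaf 0xdc71251) (.leaf 0x6a71251)))) (.node (.node (.node (.leaf 0xf871241) (.leaf 0xa439241)) (.node (.leaf 0x9f61241) (.leaf 0xa679251))) (.node (.node (.leaf 0xe8d9241) (.leaf 0x1310)) (.node (.leaf 0xacb1241) (.leaf 0x0))))) (.node (.node (.node (.node (.leaf 0x47b5241) (.leaf 0x6e15251)) (.node (.leaf 0x41bd241) (.leaf 0x13c8))) (.node (.node (.leaf 0x8b21241) (.leaf 0xa695251)) (.node (.leaf 0x8f69241) (.leaf 0x6c1d1d1)))) (.node (.node (.node (.leaf 0x4709241) (.leaf 0x8905241)) (.node (.leaf 0x82c1241) (.leaf 0x697d1d1))) (.node (.node (.leaf 0x81d1251) (.leaf 0xa9d1251)) (.node (.leaf 0x14d2) (.leaf 0x0))))))) (.node (.node (.node (.node (.node (.node (.leaf 0x59051d3) (.leaf 0xe601251)) (.node (.leaf 0x8a9d251) (.leaf 0x9249241))) (.node (.node (.leaf 0x5701251) (.leaf 0x68ad241))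 (.node (.leaf 0xdb61241) (.leaf 0x1352)))) (.node (.node (.node (.leaf 0x9119241) (.leaf 0xb291251)) (.node (.leaf 0x9805251) (.leaf 0x12a2))) (.node (.node (.leaf 0x9271241) (.leaf 0x6ff91b5)) (.node (.leaf 0x85b5241) (.leaf 0x0))))) (.node (.node (.node (.node (.leaf 0x4e991d3) (.leaf 0xba21251)) (.node (.leaf 0x5745251) (.leaf 0xa671251))) (.node (.node (.leaf 0x9099251) (.leaf 0x72ed251)) (.node (.leaf 0x85b9251) (.leaf 0xa91d251)))) (.node (.node (.node (.leaf 0x9775251) (.leaf 0x95b9241)) (.node (.leaf 0x82e1251) (.leaf 0x6ad9241))) (.node (.node (.leaf 0x4e91251) (.leaf 0xa4bd251)) (.node (.leaf 0xafd9251) (.leaf 0x0)))))) (.node (.node (.node (.node (.node (.leaf 0x95d9241) (.leaf 0xb0f5251)) (.node (.leaf 0x860d251) (.leaf 0xa8dd251))) (.node (.node (.leaf 0x59fd251) (.leaf 0x69a1241)) (.node (.leaf 0xcf85251) (.leaf 0xb419241)))) (.node (.node (.node (.leaf 0xcf41251) (.leaf 0xb739251)) (.node (.leaf 0x5639251)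 (.leaf 0x69a51d1))) (.node (.node (.leaf 0x1a54) (.leaf 0xa285251)) (.node (.leaf 0x6ae51d1) (.leaf 0x0))))) (.node (.node (.node (.node (.leaf 0x9945251) (.leaf 0x6a1d1d3)) (.node (.leaf 0x1402) (.leaf 0x9ebd251))) (.node (.node (.leaf 0x8c41251) (.leaf 0xaba9241)) (.node (.leaf 0xa675241) (.leaf 0x0)))) (.node (.node (.node (.leaf 0x8ea9241) (.leaf 0xa011241)) (.node (.leaf 0x4dad1d1) (.leaf 0xa67d251))) (.node (.node (.leaf 0xb641241) (.leaf 0x9219241)) (.node (.leaf 0xf691251) (.leaf 0x0)))))))) (.node (.node (.node (.node (.node (.node (.node (.leaf 0x9bf5251) (.leaf 0x78051d1)) (.node (.leaf 0xc8e1251) (.leaf 0x9229241))) (.node (.node (.leaf 0x57ed1b5) (.leaf 0x6d351d3)) (.node (.leaf 0x40d11d3) (.leaf 0x6c1d251)))) (.node (.node (.node (.leaf 0x8451241) (.leaf 0xbb21241)) (.node (.leaf 0x4da91d3) (.leaf 0xa865241))) (.node (.node (.leaf 0x8b9d251) (.leaf 0x9589241)) (.node (.leaf 0x44411d1) (.leaf 0x0))))) (.node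 (.node (.node (.node (.leaf 0x9271251) (.leaf 0x75d11d3)) (.node (.leaf 0x8251251) (.leaf 0xe231241))) (.node (.node (.leaf 0xd5f9251) (.leaf 0xb6f9241)) (.node (.leaf 0xfb3d241) (.leaf 0x68f11d3)))) (.node (.node (.node (.leaf 0x80c1251) (.leaf 0xbb15251)) (.node (.leaf 0x86c1241) (.leaf 0x64a11d3))) (.node (.node (.leaf 0x40551b5) (.leaf 0xac19251)) (.node (.leaf 0xdd61251) (.leaf 0x0)))))) (.node (.node (.node (.node (.node (.leaf 0x942d251) (.leaf 0x95e5241)) (.node (.leaf 0x9145241) (.leaf 0xa5e1251))) (.node (.node (.leaf 0xce11241) (.leaf 0x78351d3)) (.node (.leaf 0x41191d3) (.leaf 0xeb69251)))) (.node (.node (.node (.leaf 0x860d241) (.leaf 0xf735241)) (.node (.leaf 0x8c25251) (.leaf 0xa0a1251))) (.node (.node (.leaf 0x410d251) (.leaf 0x76391b5)) (.node (.leaf 0x767d1d3) (.leaf 0x0))))) (.node (.node (.node (.node (.leaf 0x563d1d3) (.leaf 0x77f51d1)) (.node (.leaf 0x5329241) (.leaf 0xc699241))) (.node (.node (.leaf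 0xda3d251) (.leaf 0xaeed251)) (.node (.leaf 0x5b45241) (.leaf 0x0)))) (.node (.node (.node (.leaf 0xab99241) (.leaf 0xad15241)) (.node (.leaf 0x4f591d3) (.leaf 0x732d241))) (.node (.node (.leaf 0xc571251) (.leaf 0x9215241)) (.node (.leaf 0xaeb1251) (.leaf 0x0))))))) (.node (.node (.node (.node (.node (.node (.leaf 0x862d251) (.leaf 0xb1b9251)) (.node (.leaf 0xa101241) (.leaf 0xa6a9251))) (.node (.node (.leaf 0xe9b5241) (.leaf 0xb6f5241)) (.node (.leaf 0x98d1241) (.leaf 0xe31d251)))) (.node (.node (.node (.leaf 0xb96d241) (.leaf 0x68311b5)) (.node (.leaf 0x54a51d1) (.leaf 0xa731251))) (.node (.node (.leaf 0x95e1251) (.leaf 0x923d241)) (.node (.leaf 0x8d05251) (.leaf 0x0))))) (.node (.node (.node (.node (.leaf 0x4f9d1d3) (.leaf 0xe47d251)) (.node (.leaf 0x44b91d1) (.leaf 0x6b7d251))) (.node (.node (.leaf 0xa79d241) (.leaf 0x6e9d241)) (.node (.leaf 0xa615241) (.leaf 0x76791b5)))) (.node (.node (.node (.leaf 0x4b3d241) (.leaf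 0xaf39251)) (.node (.leaf 0x1c3a) (.leaf 0xb1b9241))) (.node (.node (.leaf 0x92d5251) (.leaf 0x9731241)) (.node (.leaf 0xb889251) (.leaf 0x0)))))) (.node (.node (.node (.node (.node (.leaf 0x51b91b5) (.leaf 0xb8e9251)) (.node (.leaf 0x1260) (.leaf 0x66d51d3))) (.node (.node (.leaf 0xcc91251) (.leaf 0xb1f1251)) (.node (.leaf 0x9abd251) (.leaf 0xb171241)))) (.node (.node (.node (.leaf 0x51c11d3) (.leaf 0xe65d251)) (.node (.leaf 0x51991d1) (.leaf 0x13e4))) (.node (.node (.leaf 0x4dd11d1) (.leaf 0x64ed1d1)) (.node (.leaf 0x68b51b5) (.leaf 0x0))))) (.node (.node (.node (.node (.leaf 0x987d251) (.leaf 0xad6d251)) (.node (.leaf 0xbad9241) (.leaf 0x869d241))) (.node (.node (.leaf 0xb3ad241) (.leaf 0xa065251)) (.node (.leaf 0x8075251) (.leaf 0x0)))) (.node (.node (.node (.leaf 0x9321251) (.leaf 0xb995251)) (.node (.leaf 0x4db5251) (.leaf 0xaa79251))) (.node (.node (.leaf 0x8035241) (.leaf 0x9581241)) (.node (.leaf 0xacf1241) (.leaf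 0x0))))))))) (.node (.node (.node (.node (.node (.node (.node (.node (.leaf 0x5d411b5) (.leaf 0x81dd241)) (.node (.leaf 0x50291d1) (.leaf 0xa42d251))) (.node (.node (.leaf 0x51a5251) (.leaf 0xb661251)) (.node (.leaf 0xba21241) (.leaf 0xa651251)))) (.node (.node (.node (.leaf 0x97b5241) (.leaf 0x73151d1)) (.node (.leaf 0x4da51d3) (.leaf 0x6945251))) (.node (.node (.leaf 0x8b99251) (.leaf 0x5fd91b5)) (.node (.leaf 0x54dd1d3) (.leaf 0x0))))) (.node (.node (.node (.node (.leaf 0x9d71241) (.leaf 0xf9ed251)) (.node (.leaf 0x4dad1b5) (.leaf 0xa641251))) (.node (.node (.leaf 0x57ed1d1) (.leaf 0x888d241)) (.node (.leaf 0xcb65251) (.leaf 0xa059251)))) (.node (.node (.node (.leaf 0x57451b5) (.leaf 0x14a4)) (.node (.leaf 0x9d75241) (.leaf 0xaa95251))) (.node (.node (.leaf 0x5b5d1d3) (.leaf 0x75cd1b5)) (.node (.leaf 0x64651b5) (.leaf 0x0)))))) (.node (.node (.node (.node (.node (.leaf 0x8ea1241) (.leaf 0xaa69241)) (.node (.leaf 0x8259241)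 (.leaf 0x9cdd241))) (.node (.node (.leaf 0x58a11d3) (.leaf 0x81d9241)) (.node (.leaf 0x41111d3) (.leaf 0xb93d241)))) (.node (.node (.node (.leaf 0x832d251) (.leaf 0x7ac5241)) (.node (.leaf 0xda69251) (.leaf 0xa42d241))) (.node (.node (.leaf 0x8f95251) (.leaf 0x9d11241)) (.node (.leaf 0x40211b5) (.leaf 0x0))))) (.node (.node (.node (.node (.leaf 0x748d241) (.leaf 0xe68d251)) (.node (.leaf 0x53291b5) (.leaf 0x138e))) (.node (.node (.leaf 0x58e51d1) (.leaf 0x4f9d241)) (.node (.leaf 0x9b39241) (.leaf 0xa659251)))) (.node (.node (.node (.leaf 0x47291b5) (.leaf 0x74ed1d3)) (.node (.leaf 0xc87d251) (.leaf 0x6a711d1))) (.node (.node (.leaf 0x88dd241) (.leaf 0x72191b5)) (.node (.leaf 0x6f85241) (.leaf 0x0))))))) (.node (.node (.node (.node (.node (.node (.leaf 0xaad1241) (.leaf 0x62011b5)) (.node (.leaf 0x4a99251) (.leaf 0xd24d241))) (.node (.node (.leaf 0x8271241) (.leaf 0x13a8)) (.node (.leaf 0x5a351d3) (.leaf 0xe1a9241))))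 (.node (.node (.node (.leaf 0x54dd1d1) (.leaf 0xa5d9251)) (.node (.leaf 0x1acc) (.leaf 0x9e79241))) (.node (.node (.leaf 0x95e5251) (.leaf 0xa761251)) (.node (.leaf 0xa2fd241) (.leaf 0x0))))) (.node (.node (.node (.node (.leaf 0x4415241) (.leaf 0xb395251)) (.node (.leaf 0xb1a5241) (.leaf 0xe5f1241))) (.node (.node (.leaf 0x57ed241) (.leaf 0xab45251)) (.node (.leaf 0x85b1251) (.leaf 0xa419251)))) (.node (.node (.node (.leaf 0xecf9241) (.leaf 0xb745251)) (.node (.leaf 0x9a15241) (.leaf 0xb341241))) (.node (.node (.leaf 0xf7a5241) (.leaf 0x69451d3)) (.node (.leaf 0x1438) (.leaf 0x0)))))) (.node (.node (.node (.node (.node (.leaf 0x519d1b5) (.leaf 0x65a51d3)) (.node (.leaf 0x12b8) (.leaf 0x1788))) (.node (.node (.leaf 0xcc99251) (.leaf 0xb6ed251)) (.node (.leaf 0x1214) (.leaf 0x4a5d241)))) (.node (.node (.node (.leaf 0x51cd1d3) (.leaf 0xae35241)) (.node (.leaf 0xaeed241) (.leaf 0xa949251))) (.node (.node (.leaf 0x127e) (.leaf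 0xa7c5251)) (.node (.leaf 0x68951b5) (.leaf 0x0))))) (.node (.node (.node (.node (.leaf 0x994d251) (.leaf 0xb791251)) (.node (.leaf 0x8a2d241) (.leaf 0x62e51d3))) (.node (.node (.leaf 0x7539241) (.leaf 0x732d1d1)) (.node (.leaf 0x8865241) (.leaf 0x0)))) (.node (.node (.node (.leaf 0x8c29241) (.leaf 0x69991d1)) (.node (.leaf 0x4db9251) (.leaf 0xaa6d251))) (.node (.node (.leaf 0x8d19251) (.leaf 0x75151b5)) (.node (.leaf 0x70d51d3) (.leaf 0x0)))))))) (.node (.node (.node (.node (.node (.node (.node (.leaf 0x977d241) (.leaf 0x730d251)) (.node (.leaf 0x88dd251) (.leaf 0xe499251))) (.node (.node (.leaf 0x4ce51d3) (.leaf 0xb455241)) (.node (.leaf 0x8821241) (.leaf 0xa04d251)))) (.node (.node (.node (.leaf 0x5c3d1d1) (.leaf 0xb8f1251)) (.node (.leaf 0xa6c1241) (.leaf 0x1230))) (.node (.node (.leaf 0x9da1241) (.leaf 0xa4cd241)) (.node (.leaf 0xa07d241) (.leaf 0x0))))) (.node (.node (.node (.node (.leaf 0x4e7d1d3) (.leaf 0xe241251))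 (.node (.leaf 0x8249251) (.leaf 0xa071251))) (.node (.node (.leaf 0x4e3d1d3) (.leaf 0x6205241)) (.node (.leaf 0x8361241) (.leaf 0x9bf5241)))) (.node (.node (.node (.leaf 0x977d251) (.leaf 0x732d251)) (.node (.leaf 0x82e5251) (.leaf 0xaa19251))) (.node (.node (.leaf 0x5e49241) (.leaf 0x9211241)) (.node (.leaf 0xb885251) (.leaf 0x0)))))) (.node (.node (.node (.node (.node (.leaf 0xa2a5241) (.leaf 0x841d241)) (.node (.leaf 0x40fd1b5) (.leaf 0xab51251))) (.node (.node (.leaf 0x4969241) (.leaf 0x6d0d1d1)) (.node (.leaf 0x70c9241) (.leaf 0x5f5d1d3)))) (.node (.node (.node (.leaf 0xcf35251) (.leaf 0xa2d5251)) (.node (.leaf 0x4d751d3) (.leaf 0x6c791b5))) (.node (.node (.leaf 0x4115251) (.leaf 0x71191b5)) (.node (.leaf 0xb311251) (.leaf 0x0))))) (.node (.node (.node (.node (.leaf 0xcccd241) (.leaf 0x6d0d251)) (.node (.leaf 0x9d15251) (.leaf 0x8695241))) (.node (.node (.leaf 0x5a351d1) (.leaf 0x7361241)) (.node (.leaf 0x9889241)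 (.leaf 0x0)))) (.node (.node (.node (.leaf 0x91a9241) (.leaf 0x779d1d1)) (.node (.leaf 0x4da51d1) (.leaf 0x68ed1d3))) (.node (.node (.leaf 0x9be9241) (.leaf 0xa24d251)) (.node (.leaf 0x95ed241) (.leaf 0x0))))))) (.node (.node (.node (.node (.node (.node (.leaf 0xb63d241) (.leaf 0xe3bd251)) (.node (.leaf 0x4475241) (.leaf 0x9e2d251))) (.node (.node (.leaf 0x9dad241) (.leaf 0x1440)) (.node (.leaf 0x58c1241) (.leaf 0x5fbd1d3)))) (.node (.node (.node (.leaf 0x8265241) (.leaf 0x1334)) (.node (.leaf 0xdd31241) (.leaf 0x1514))) (.node (.node (.leaf 0x9b11241) (.leaf 0x9e61251)) (.node (.leaf 0xc1f9251) (.leaf 0x0))))) (.node (.node (.node (.node (.leaf 0x7801241) (.leaf 0x77f11d1)) (.node (.leaf 0x87d9251) (.leaf 0x1366))) (.node (.node (.leaf 0xd555241) (.leaf 0xb2d5251)) (.node (.leaf 0xe3ad241) (.leaf 0xd395241)))) (.node (.node (.node (.leaf 0x8b41241) (.leaf 0x9e95241)) (.node (.leaf 0x56f11d1) (.leaf 0x6c1d1d3))) (.node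 (.node (.leaf 0x81dd251) (.leaf 0x75391b5)) (.node (.leaf 0xaf79251) (.leaf 0x0)))))) (.node (.node (.node (.node (.node (.leaf 0x9d11251) (.leaf 0xb0f9251)) (.node (.leaf 0x9211251) (.leaf 0xa255251))) (.node (.node (.leaf 0x59ad1d1) (.leaf 0x1458)) (.node (.leaf 0x4969251) (.leaf 0xace9241)))) (.node (.node (.node (.leaf 0x9195251) (.leaf 0xe35d241)) (.node (.leaf 0x5ca91b5) (.leaf 0x1370))) (.node (.node (.leaf 0x4df11b5) (.leaf 0xa5b9251)) (.node (.leaf 0xa489251) (.leaf 0x0))))) (.node (.node (.node (.node (.leaf 0x9875251) (.leaf 0xde21251)) (.node (.leaf 0x47ed1b5) (.leaf 0xa491251))) (.node (.node (.leaf 0x40f11d1) (.leaf 0xba75251)) (.node (.leaf 0xc06d251) (.leaf 0x0)))) (.node (.node (.node (.leaf 0x1204) (.leaf 0xb58d251)) (.node (.leaf 0x14f2) (.leaf 0x1236))) (.node (.node (.leaf 0x449d1d1) (.leaf 0xab81251)) (.node (.leaf 0xbab1241) (.leaf 0x0))))))))))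

/-- packed table -/
noncomputable def cov9_rrr : BTree := (.node (.node (.node (.node (.node (.node (.node (.node (.node (.leaf 0x90f5251) (.leaf 0x6b7d241)) (.node (.leaf 0x94b1251) (.leaf 0x14ce))) (.node (.node (.leaf 0x51bd251) (.leaf 0xadd1251)) (.node (.leaf 0xba1d241) (.leaf 0xe16d251)))) (.node (.node (.node (.leaf 0x538d1d1) (.leaf 0xe6ed251)) (.node (.leaf 0x47b51d3) (.leaf 0x615d241))) (.node (.node (.leaf 0x9571251) (.leaf 0x146c)) (.node (.leaf 0x8fed251) (.leaf 0x0))))) (.node (.node (.node (.node (.leaf 0x8e9d241) (.leaf 0xaca1241)) (.node (.leaf 0x4d9d1b5) (.leaf 0xf411241))) (.node (.node (.leaf 0x9609251) (.leaf 0x152c)) (.node (.leaf 0x58951d1) (.leaf 0x77ed1b5)))) (.node (.node (.node (.leaf 0xb381241) (.leaf 0x779d251)) (.node (.leaf 0x8a25251) (.leaf 0xaf69251))) (.node (.node (.leaf 0x8951241) (.leaf 0xf1c1251)) (.node (.leaf 0xab41251) (.leaf 0x0)))))) (.node (.node (.node (.node (.node (.leaf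 0x4d75251) (.leaf 0xa995251)) (.node (.leaf 0x802d251) (.leaf 0x9179241))) (.node (.node (.leaf 0xa76d241) (.leaf 0x77ed1d3)) (.node (.leaf 0xdc99251) (.leaf 0x6355251)))) (.node (.node (.node (.leaf 0xcbc9241) (.leaf 0xae11251)) (.node (.leaf 0x82e5241) (.leaf 0xb511241))) (.node (.node (.leaf 0xb64d241) (.leaf 0xf6b1241)) (.node (.leaf 0x53851d1) (.leaf 0x0))))) (.node (.node (.node (.node (.leaf 0x6f55241) (.leaf 0x92cd241)) (.node (.leaf 0x87c9251) (.leaf 0x6f851d1))) (.node (.node (.leaf 0x58c11d3) (.leaf 0x7175251)) (.node (.leaf 0x64a1241) (.leaf 0xa2bd251)))) (.node (.node (.node (.leaf 0x8731241) (.leaf 0x5fd91d1)) (.node (.leaf 0xcf81241) (.leaf 0xab01251))) (.node (.node (.leaf 0xc585251) (.leaf 0x6f85251)) (.node (.leaf 0x6c791d3) (.leaf 0x0))))))) (.node (.node (.node (.node (.node (.node (.leaf 0x4109241) (.leaf 0x71ad251)) (.node (.leaf 0x8ab1251) (.leaf 0xc0b9241))) (.node (.node (.leaf 0x5d091d3) (.leaf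 0x6ba51d3)) (.node (.leaf 0x892d251) (.leaf 0xa4cd251)))) (.node (.node (.node (.leaf 0x14aa) (.leaf 0x76811d3)) (.node (.leaf 0x54b51d1) (.leaf 0xede9251))) (.node (.node (.leaf 0x8bed251) (.leaf 0x8bf1241)) (.node (.leaf 0xa25d241) (.leaf 0x0))))) (.node (.node (.node (.node (.leaf 0xdb09251) (.leaf 0xa589241)) (.node (.leaf 0xd755251) (.leaf 0x7241251))) (.node (.node (.leaf 0x44151b5) (.leaf 0x79f91d1)) (.node (.leaf 0x85c9251) (.leaf 0x9f35251)))) (.node (.node (.node (.leaf 0x5ce51b5) (.leaf 0xaf2d251)) (.node (.leaf 0x9a0d241) (.leaf 0xa52d251))) (.node (.node (.leaf 0x4e991b5) (.leaf 0x13d4)) (.node (.leaf 0x64a11b5) (.leaf 0x0)))))) (.node (.node (.node (.node (.node (.leaf 0x6ae5241) (.leaf 0x9b05241)) (.node (.leaf 0x120a) (.leaf 0x73291d1))) (.node (.node (.leaf 0x4b791d1) (.leaf 0x6989241)) (.node (.leaf 0xb251241) (.leaf 0xa88d251)))) (.node (.node (.node (.leaf 0x9ebd241) (.leaf 0x97e9241)) (.node (.leaf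 0x81d1241) (.leaf 0x1464))) (.node (.node (.leaf 0x12c4) (.leaf 0x147e)) (.node (.leaf 0x63151b5) (.leaf 0x0))))) (.node (.node (.node (.node (.leaf 0x993d251) (.leaf 0x710d1d3)) (.node (.leaf 0x44151d3) (.leaf 0x916d241))) (.node (.node (.leaf 0x4d79241) (.leaf 0xab79251)) (.node (.leaf 0x8fbd241) (.leaf 0x0)))) (.node (.node (.node (.leaf 0xc7a1251) (.leaf 0x78051d3)) (.node (.leaf 0x4d911d1) (.leaf 0x1420))) (.node (.node (.leaf 0x1376) (.leaf 0xb3a9251)) (.node (.leaf 0xb1f1241) (.leaf 0x0)))))))) (.node (.node (.node (.node (.node (.node (.node (.leaf 0x9bc9251) (.leaf 0xea4d251)) (.node (.leaf 0xc8b5251) (.leaf 0xcf75241))) (.node (.node (.leaf 0xd569241) (.leaf 0x8409241)) (.node (.leaf 0x83d9251) (.leaf 0x697d1d3)))) (.node (.node (.node (.leaf 0x5c59251) (.leaf 0xb929241)) (.node (.leaf 0x4d911d3) (.leaf 0x74011b5))) (.node (.node (.leaf 0x56591b5) (.leaf 0x9169241)) (.node (.leaf 0x4469251) (.leaf 0x0))))) (.node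 (.node (.node (.node (.leaf 0x4e751d1) (.leaf 0x77ed1d1)) (.node (.leaf 0x71ad241) (.leaf 0xa251241))) (.node (.node (.leaf 0x14e2) (.leaf 0x8c5d241)) (.node (.leaf 0xfb2d241) (.leaf 0xac29251)))) (.node (.node (.node (.leaf 0x9785251) (.leaf 0x9e09241)) (.node (.leaf 0x82f1251) (.leaf 0xa76d251))) (.node (.node (.leaf 0x53b1251) (.leaf 0x6f851b5)) (.node (.leaf 0x6f191d3) (.leaf 0x0)))))) (.node (.node (.node (.node (.node (.leaf 0x52011d3) (.leaf 0x14ec)) (.node (.leaf 0x913d241) (.leaf 0x6ea5251))) (.node (.node (.leaf 0x8e2d241) (.leaf 0x4845241)) (.node (.leaf 0x40fd1d3) (.leaf 0xaf1d241)))) (.node (.node (.node (.leaf 0x8319251) (.leaf 0xa2b9241)) (.node (.leaf 0x8bf5251) (.leaf 0xb035241))) (.node (.node (.leaf 0x4105251) (.leaf 0x4129241)) (.node (.leaf 0x6ae5251) (.leaf 0x0))))) (.node (.node (.node (.node (.leaf 0x56351d3) (.leaf 0xa335251)) (.node (.leaf 0x40391d1) (.leaf 0xf5a5251))) (.node (.node (.leaf 0x58a11b5)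 (.leaf 0x5f051b5)) (.node (.leaf 0x142c) (.leaf 0x0)))) (.node (.node (.node (.leaf 0x9909241) (.leaf 0xb749241)) (.node (.leaf 0x92a5251) (.leaf 0x69891d3))) (.node (.node (.leaf 0x997d251) (.leaf 0x1416)) (.node (.leaf 0x1482) (.leaf 0x0))))))) (.node (.node (.node (.node (.node (.node (.leaf 0xd565241) (.leaf 0x76651d3)) (.node (.leaf 0x889d241) (.leaf 0x6e9d1d1))) (.node (.node (.leaf 0x47ed1d1) (.leaf 0x61351b5)) (.node (.leaf 0x58e1241) (.leaf 0x82cd241)))) (.node (.node (.node (.leaf 0x8919251) (.leaf 0xac81241)) (.node (.leaf 0x1434) (.leaf 0x70c91d3))) (.node (.node (.leaf 0xa069241) (.leaf 0x7329251)) (.node (.leaf 0x48911d1) (.leaf 0x0))))) (.node (.node (.node (.node (.leaf 0x77f9241) (.leaf 0x69a11b5)) (.node (.leaf 0x4ed5251) (.leaf 0x759d251))) (.node (.node (.leaf 0x5c7d1b5) (.leaf 0xb70d241)) (.node (.leaf 0x4db5241) (.leaf 0x767d1b5)))) (.node (.node (.node (.leaf 0x5b5d1b5) (.leaf 0xe225241)) (.node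 (.leaf 0x56f1241) (.leaf 0xf499241))) (.node (.node (.leaf 0x4f9d1d1) (.leaf 0x8c21241)) (.node (.leaf 0x1566) (.leaf 0x0)))))) (.node (.node (.node (.node (.node (.leaf 0x51cd1b5) (.leaf 0x9e25251)) (.node (.leaf 0x923d251) (.leaf 0x6ea51d1))) (.node (.node (.leaf 0xebe5241) (.leaf 0xb829251)) (.node (.leaf 0xd9d5241) (.leaf 0x6989251)))) (.node (.node (.node (.leaf 0x81a5251) (.leaf 0xb56d251)) (.node (.leaf 0x51c51d1) (.leaf 0xa979241))) (.node (.node (.leaf 0x8df5241) (.leaf 0xafe5251)) (.node (.leaf 0x76711d3) (.leaf 0x0))))) (.node (.node (.node (.node (.leaf 0x984d251) (.leaf 0xbabd241)) (.node (.leaf 0xbacd241) (.leaf 0xacc9251))) (.node (.node (.leaf 0x815d241) (.leaf 0xe7cd241)) (.node (.leaf 0x8041251) (.leaf 0x0)))) (.node (.node (.node (.leaf 0x7679241) (.leaf 0x81ad241)) (.node (.leaf 0xa38d241) (.leaf 0x717d241))) (.node (.node (.leaf 0xc031241) (.leaf 0x9161241)) (.node (.leaf 0x7315251) (.leaf 0x0)))))))))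 (.node (.node (.node (.node (.node (.node (.node (.node (.leaf 0x43fd1d1) (.leaf 0xb1b5251)) (.node (.leaf 0x54a5251) (.leaf 0xe795241))) (.node (.node (.leaf 0xaba1241) (.leaf 0x81b5241)) (.node (.leaf 0x8325241) (.leaf 0x78351b5)))) (.node (.node (.node (.leaf 0x44411b5) (.leaf 0xb909251)) (.node (.leaf 0x4d9d1d3) (.leaf 0x8f65241))) (.node (.node (.leaf 0x56391b5) (.leaf 0x4891241)) (.node (.leaf 0x150c) (.leaf 0x0))))) (.node (.node (.node (.node (.leaf 0x9249251) (.leaf 0x9f91241)) (.node (.leaf 0x4db91b5) (.leaf 0xaa65241))) (.node (.node (.leaf 0x881d241) (.leaf 0xb8b1241)) (.node (.leaf 0x96c9241) (.leaf 0x7a391b5)))) (.node (.node (.node (.leaf 0x95d5241) (.leaf 0xb745241)) (.node (.leaf 0x15a0) (.leaf 0x6fa91d1))) (.node (.node (.leaf 0x13b2) (.leaf 0xb31d251)) (.node (.leaf 0xf165241) (.leaf 0x0)))))) (.node (.node (.node (.node (.node (.leaf 0x945d251) (.leaf 0x79f9251)) (.node (.leaf 0x53291d3) (.leaf 0xed09251)))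 (.node (.node (.leaf 0x58951d3) (.leaf 0xafad251)) (.node (.leaf 0x41051d3) (.leaf 0x62051d1)))) (.node (.node (.node (.leaf 0x8325251) (.leaf 0x60991d1)) (.node (.leaf 0xa49d241) (.leaf 0xb19d241))) (.node (.node (.leaf 0x8fbd251) (.leaf 0xeec9251)) (.node (.leaf 0x9381251) (.leaf 0x0))))) (.node (.node (.node (.node (.leaf 0x97cd241) (.leaf 0x8c45241)) (.node (.leaf 0x5339241) (.leaf 0xacdd241))) (.node (.node (.leaf 0x1554) (.leaf 0xa6f1251)) (.node (.leaf 0x9b41251) (.leaf 0x9ea9251)))) (.node (.node (.node (.leaf 0x1ca0) (.leaf 0xf6f1251)) (.node (.leaf 0xd2ad251) (.leaf 0x5f991d1))) (.node (.node (.leaf 0x95dd241) (.leaf 0xefe1251)) (.node (.leaf 0xe935251) (.leaf 0x0))))))) (.node (.node (.node (.node (.node (.node (.leaf 0x52811b5) (.leaf 0xe411241)) (.node (.leaf 0xa311241) (.leaf 0xf041251))) (.node (.node (.leaf 0xab65241) (.leaf 0x64ed241)) (.node (.leaf 0x58c11b5) (.leaf 0xa711241)))) (.node (.node (.node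 (.leaf 0xc91d251) (.leaf 0x6db51d3)) (.node (.leaf 0x902d251) (.leaf 0x14e8))) (.node (.node (.leaf 0x95b5251) (.leaf 0xaca9251)) (.node (.leaf 0xa0f1241) (.leaf 0x0))))) (.node (.node (.node (.node (.leaf 0xdb0d251) (.leaf 0x697d1b5)) (.node (.leaf 0xa0ad241) (.leaf 0xaa9d241))) (.node (.node (.leaf 0xd085251) (.leaf 0xb531251)) (.node (.leaf 0x6315241) (.leaf 0x7ac51b5)))) (.node (.node (.node (.leaf 0x5d091b5) (.leaf 0xf0a5241)) (.node (.leaf 0x9a1d241) (.leaf 0xa025251))) (.node (.node (.leaf 0x9091241) (.leaf 0xb2b5241)) (.node (.leaf 0x6db51d1) (.leaf 0x0)))))) (.node (.node (.node (.node (.node (.leaf 0x12b0) (.leaf 0xb731241)) (.node (.leaf 0x11c2) (.leaf 0x6e9d251))) (.node (.node (.leaf 0xcc69251) (.leaf 0xa691251)) (.node (.leaf 0x9ad5251) (.leaf 0x8a6d241)))) (.node (.node (.node (.leaf 0x519d1d3) (.leaf 0xbad5251)) (.node (.leaf 0x51cd1d1) (.leaf 0xf4b1241))) (.node (.node (.leaf 0x1998) (.leaf 0xad05251))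 (.node (.leaf 0x6ba51d1) (.leaf 0x0))))) (.node (.node (.node (.node (.leaf 0x9935251) (.leaf 0x95b5241)) (.node (.leaf 0x4a991d1) (.leaf 0x40d1241))) (.node (.node (.leaf 0xf38d241) (.leaf 0xb75d251)) (.node (.leaf 0xa285241) (.leaf 0x0)))) (.node (.node (.node (.leaf 0x4e79241) (.leaf 0xae2d251)) (.node (.leaf 0x4d8d251) (.leaf 0x6891251))) (.node (.node (.leaf 0x4ed51d3) (.leaf 0x6d9d1d3)) (.node (.leaf 0x165a) (.leaf 0x0)))))))) (.node (.node (.node (.node (.node (.node (.node (.leaf 0xa569241) (.leaf 0x78011d1)) (.node (.leaf 0x7811241) (.leaf 0x4f59241))) (.node (.node (.leaf 0xab51241) (.leaf 0xae35251)) (.node (.leaf 0x59951b5) (.leaf 0xa34d251)))) (.node (.node (.node (.leaf 0x90f1241) (.leaf 0x95d1241)) (.node (.leaf 0xe481241) (.leaf 0x73611d1))) (.node (.node (.leaf 0x89a5251) (.leaf 0xb101251)) (.node (.leaf 0x11fe) (.leaf 0x0))))) (.node (.node (.node (.node (.leaf 0x4e911d3) (.leaf 0xaead251)) (.node (.leaf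 0x974d251) (.leaf 0xac89251))) (.node (.node (.leaf 0x9221241) (.leaf 0x8805241)) (.node (.leaf 0x85c1251) (.leaf 0xe269251)))) (.node (.node (.node (.leaf 0x978d251) (.leaf 0x5f5d1b5)) (.node (.leaf 0x9175241) (.leaf 0x13be))) (.node (.node (.leaf 0x11e0) (.leaf 0x80bd241)) (.node (.leaf 0x6099251) (.leaf 0x0)))))) (.node (.node (.node (.node (.node (.leaf 0x884d251) (.leaf 0xe639251)) (.node (.leaf 0x41111b5) (.leaf 0x1412))) (.node (.node (.leaf 0x49691d1) (.leaf 0x139a)) (.node (.leaf 0x52811d3) (.leaf 0x62011d1)))) (.node (.node (.node (.leaf 0xcf2d251) (.leaf 0x730d1d1)) (.node (.leaf 0xac8d241) (.leaf 0x717d251))) (.node (.node (.leaf 0x40fd251) (.leaf 0xec9d251)) (.node (.leaf 0xbadd251) (.leaf 0x0))))) (.node (.node (.node (.node (.leaf 0xf335241) (.leaf 0xbae5251)) (.node (.leaf 0x5d41251) (.leaf 0xf4a5251))) (.node (.node (.leaf 0x6ff9241) (.leaf 0x1362)) (.node (.leaf 0x5895241) (.leaf 0x0)))) (.node (.node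 (.node (.leaf 0x9ff9241) (.leaf 0xa609251)) (.node (.leaf 0x4d991d1) (.leaf 0xe021251))) (.node (.node (.leaf 0x51b9241) (.leaf 0xeebd251)) (.node (.leaf 0x748d1d1) (.leaf 0x0))))))) (.node (.node (.node (.node (.node (.node (.leaf 0x13b4) (.leaf 0xac8d251)) (.node (.leaf 0x40391d3) (.leaf 0xa8dd241))) (.node (.node (.leaf 0x4055241) (.leaf 0x5fd91d3)) (.node (.leaf 0xdc9d251) (.leaf 0x9ddd251)))) (.node (.node (.node (.leaf 0xf875241) (.leaf 0xbac1241)) (.node (.leaf 0x4ff91b5) (.leaf 0xaef5241))) (.node (.node (.leaf 0x8d6d241) (.leaf 0xb4d9241)) (.node (.leaf 0x40e1241) (.leaf 0x0))))) (.node (.node (.node (.node (.leaf 0x59ad241) (.leaf 0x6ae51d3)) (.node (.leaf 0x87d5251) (.leaf 0x74bd1d1))) (.node (.node (.leaf 0xa91d241) (.leaf 0x61711b5)) (.node (.leaf 0x82ad251) (.leaf 0x93a9241)))) (.node (.node (.node (.leaf 0x8b55241) (.leaf 0x88a9241)) (.node (.leaf 0x4891251) (.leaf 0xa159241))) (.node (.node (.leaf 0x81ad251)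 (.leaf 0xb4e1241)) (.node (.leaf 0xb085241) (.leaf 0x0)))))) (.node (.node (.node (.node (.node (.leaf 0x57011d3) (.leaf 0xaca9241)) (.node (.leaf 0x9239251) (.leaf 0xea59241))) (.node (.node (.leaf 0xccc9241) (.leaf 0x6dd9251)) (.node (.leaf 0x11f8) (.leaf 0x9f2d251)))) (.node (.node (.node (.leaf 0x9165251) (.leaf 0xab75251)) (.node (.leaf 0x8a2d251) (.leaf 0xb149251))) (.node (.node (.leaf 0x8945241) (.leaf 0xb331241)) (.node (.leaf 0xad75251) (.leaf 0x0))))) (.node (.node (.node (.node (.leaf 0x1298) (.leaf 0xacf1251)) (.node (.leaf 0x48e9241) (.leaf 0xafc1251))) (.node (.node (.leaf 0x41291d1) (.leaf 0x9e75241)) (.node (.leaf 0x9355241) (.leaf 0x0)))) (.node (.node (.node (.leaf 0x51b1251) (.leaf 0xb659251)) (.node (.leaf 0xccc1241) (.leaf 0xa535251))) (.node (.node (.leaf 0x800d241) (.leaf 0xb3a5251)) (.node (.leaf 0x9811241) (.leaf 0x0))))))))))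

/-- packed table -/
noncomputable def cov9 : BTree := (.node (.node (.node cov9_lll cov9_llr) (.node cov9_lrl cov9_lrr)) (.node (.node cov9_rll cov9_rlr) (.node cov9_rrl cov9_rrr)))

theorem cov9_ok : okCover 9 cov9 = true := by decide +kernel

/-- straight-line program -/
def slp9 : List (Nat × Nat × Nat) :=
  [(0xad2f63b9ab41181198af54d2204a30, 2, 3),
   (0xad2f60c0d240147134af6452322e6e, 1, 4),
   (0xbdab46014278cf324528684ab740d2, 2, 4),
   (0xbdab48ae6e7c0ca931280b4a010ce4, 5, 3)]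

/-- levels -/
def levels9 : List (Nat × List Nat) :=
  [(0, [8, 0, 1, 3, 4, 5, 6, 7]),
   (1, [8, 2])]

/-- stabilising facts -/
def gens9 : List Nat := [1133, 1140, 1168, 1172]

theorem chain9_ok : okChain 9 gens9 slp9 levels9 = true := by decide +kernel

theorem chain9_size : chainSize levels9 = 16 := by decide +kernel

end CfsgLib.Spor.J4.Index
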