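import Cfsg.Agent.Lib.Spor.J4.Index.Facts
import Cfsg.Agent.Lib.Spor.J4.Index.Node0
import Cfsg.Agent.Lib.Spor.J4.Index.Node1
import Cfsg.Agent.Lib.Spor.J4.Index.Node2
import Cfsg.Agent.Lib.Spor.J4.Index.Node3
import Cfsg.Agent.Lib.Spor.J4.Index.Node4
import Cfsg.Agent.Lib.Spor.J4.Index.Node5
import Cfsg.Agent.Lib.Spor.J4.Index.Node6
import Cfsg.Agent.Lib.Spor.J4.Index.Node7
import Cfsg.Agent.Lib.Spor.J4.Index.Node8
import Cfsg.Agent.Lib.Spor.J4.Index.Node9
import Cfsg.Agent.Lib.Spor.J4.Index.Node10
import Cfsg.Agent.Lib.Spor.J4.Index.Node11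
import Cfsg.Agent.Lib.Spor.J4.Index.Node12
import Cfsg.Agent.Lib.Spor.J4.Index.Node13
import Cfsg.Agent.Lib.Spor.J4.Index.Node14
import Cfsg.Agent.Lib.Spor.J4.Index.Node15
import Cfsg.Agent.Lib.Spor.J4.Index.Node16
import Cfsg.Agent.Lib.Spor.J4.Index.Node17
import Cfsg.Agent.Lib.Spor.J4.Index.Node18
import Cfsg.Agent.Lib.Spor.J4.Index.Node19

/-!
The twenty orbits cover all cosets: the index is at most 173067389.
-/

set_option autoImplicit false

namespace CfsgLib.Spor.J4.Index

open CfsgLib.PresCert CfsgLib.Spor Cfsg
open scoped Pointwise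

theorem fact_bounds : ∀ f < numFacts, fI f < 20 ∧ fJ f < 20 := by
  intro f hf
  have h : allBelow numFacts (fun f => Nat.blt (fI f) 20 && Nat.blt (fJ f) 20) = true := by
    decide +kernel
  have := allBelow_spec h f hf
  simp only [Bool.and_eq_true] at this
  exact ⟨blt_lt this.1, blt_lt this.2⟩

theorem cover_of_table {i : ℕ} {tab : BTree} (h : okCover i tab = true) {c : ℕ} (hc : c < 3795) :
    ∃ j < 20, ∃ g : M24, tT c • node i = psi g • node j := by
  induction hr : Nat.shiftRight (tab.get c) 26 using Nat.strong_induction_on generalizing c with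
  | _ r ih =>
    have he := allBelow_spec h c hc
    simp only [okCovAt, Bool.and_eq_true] at he
    obtain ⟨hf, he⟩ := he
    set e := tab.get c with hedef
    set f := Nat.land (Nat.shiftRight e 2) 4095 with hfdef
    obtain ⟨hp, hpi, hinv, hst, hed⟩ := facts_all f (blt_lt hf)
    cases h0 : Nat.beq (Nat.land e 1) 0 with
    | true =>
      simp only [h0, cond_true, Bool.and_eq_true] at he
      obtain ⟨hE, he⟩ := he
      have hb := fact_bounds f (blt_lt hf)
      cases hs : Nat.beq (Nat.land (Nat.shiftRight e 1) 1) 1 with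
      | true =>
        simp only [hs, cond_true, Bool.and_eq_true, Nat.beq_eq] at he
        refine ⟨fI f, hb.1, el (fPi f), ?_⟩
        rw [tT_conj (rep_el hpi) he.2, ← he.1, hinv, map_inv, inv_inv]
        rw [mul_smul, ← hed hE, mul_smul, ← mul_smul (tT (fC f)), tT_sq, one_smul]
      | false =>
        simp only [hs, cond_false, Bool.and_eq_true, Nat.beq_eq] at he
        exact ⟨fJ f, hb.2, el (fP f), by rw [← he.1, ← he.2]; exact hed hE⟩
    | false =>
      simp only [h0, cond_false, Bool.and_eq_true, Nat.beq_eq] at he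
      obtain ⟨⟨⟨⟨hS, hi⟩, hu⟩, hlt⟩, hm⟩ := he
      obtain ⟨j, hj, g, hg⟩ := ih _ (hr ▸ blt_lt hlt) (blt_lt hu) rfl
      have hfix : psi (el (fP f)) • node i = node i := hi ▸ hst hS
      cases hs : Nat.beq (Nat.land (Nat.shiftRight e 1) 1) 1 with
      | true =>
        simp only [hs, cond_true] at hm
        refine ⟨j, hj, el (fPi f) * g, ?_⟩
        rw [tT_conj (rep_el hpi) hm, hinv, map_mul, map_inv, inv_inv]
        simp only [mul_smul]
        rw [hfix, hg]
      | false =>
        simp only [hs, cond_false] at hm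
        refine ⟨j, hj, el (fP f) * g, ?_⟩
        rw [tT_conj (rep_el hp) hm, map_mul]
        simp only [mul_smul]
        rw [inv_smul_eq_iff.2 hfix.symm, hg]

theorem cover_all {i c : ℕ} (hi : i < 20) (hc : c < 3795) :
    ∃ j < 20, ∃ g : M24, tT c • node i = psi g • node j := by
  interval_cases i
  · exact cover_of_table cov0_ok hc
  · exact cover_of_table cov1_ok hc
  · exact cover_of_table cov2_ok hc
  · exact cover_of_table cov3_ok hc
  · exact cover_of_table cov4_ok hc
  · exact cover_of_table cov5_ok hc
  · exact cover_of_table cov6_ok hc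
  · exact cover_of_table cov7_ok hc
  · exact cover_of_table cov8_ok hc
  · exact cover_of_table cov9_ok hc
  · exact cover_of_table cov10_ok hc
  · exact cover_of_table cov11_ok hc
  · exact cover_of_table cov12_ok hc
  · exact cover_of_table cov13_ok hc
  · exact cover_of_table cov14_ok hc
  · exact cover_of_table cov15_ok hc
  · exact cover_of_table cov16_ok hc
  · exact cover_of_table cov17_ok hc
  · exact cover_of_table cov18_ok hc
  · exact cover_of_table cov19_ok hc

/-- stabiliser of a node in M₂₄ -/
noncomputable def stabNode (i : ℕ) : Subgroup M24 :=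
  (MulAction.stabilizer Cfsg.Spor.J4 (node i)).comap psi

theorem le_card_stabNode {i : ℕ} {gens : List ℕ} {slp : List (ℕ × ℕ × ℕ)}
    {lv : List (ℕ × List ℕ)} (h : okChain i gens slp lv = true) :
    chainSize lv ≤ Nat.card (stabNode i) := by
  simp only [okChain, Bool.and_eq_true, List.all_eq_true, Nat.beq_eq] at h
  refine le_card_of_program h.2 _ fun a ha => ?_
  obtain ⟨f, hf, rfl⟩ := List.mem_map.1 ha
  obtain ⟨⟨hlt, hS⟩, hI⟩ := h.1 f hf
  obtain ⟨hp, -, -, hst, -⟩ := facts_all f (blt_lt hlt)
  refine ⟨hp, ?_⟩
  rw [stabNode, Subgroup.mem_comap, MulAction.mem_stabilizer_iff, ← hI]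
  exact hst hS

/-- lower bounds for the stabiliser orders -/
def nodeSizes : List ℕ := [244823040, 64512, 48, 768, 3, 6, 1152, 32, 96, 16, 20, 512, 128, 192, 96, 253, 4608, 9216, 138240, 21504]

theorem nodeSizes_le {i : ℕ} (hi : i < 20) : nodeSizes.getD i 0 ≤ Nat.card (stabNode i) := by
  interval_cases i
  · have h : stabNode 0 = ⊤ := by
      rw [eq_top_iff, ← M24Iso.gen_top, Subgroup.closure_le]
      rintro _ (rfl | rfl) <;>
        simp only [stabNode, SetLike.mem_coe, Subgroup.mem_comap, MulAction.mem_stabilizer_iff,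
          psi, M24Iso.toHom_ga, M24Iso.toHom_gb, node_zero] <;>
        refine QuotientGroup.eq.2 ?_ <;> simp only [smul_eq_mul, mul_one] <;> refine inv_mem ?_
      · exact Subgroup.subset_closure (Or.inl rfl)
      · exact Subgroup.subset_closure (Or.inr (Or.inl rfl))
    rw [h, Subgroup.card_top, natCard_M24]
    rfl
  · exact chain1_size.symm.trans_le (le_card_stabNode chain1_ok)
  · exact chain2_size.symm.trans_le (le_card_stabNode chain2_ok)
  · exact chain3_size.symm.trans_le (le_card_stabNode chain3_ok)
  · exact chain4_size.symm.trans_le (le_card_stabNode chain4_ok)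
  · exact chain5_size.symm.trans_le (le_card_stabNode chain5_ok)
  · exact chain6_size.symm.trans_le (le_card_stabNode chain6_ok)
  · exact chain7_size.symm.trans_le (le_card_stabNode chain7_ok)
  · exact chain8_size.symm.trans_le (le_card_stabNode chain8_ok)
  · exact chain9_size.symm.trans_le (le_card_stabNode chain9_ok)
  · exact chain10_size.symm.trans_le (le_card_stabNode chain10_ok)
  · exact chain11_size.symm.trans_le (le_card_stabNode chain11_ok)
  · exact chain12_size.symm.trans_le (le_card_stabNode chain12_ok)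
  · exact chain13_size.symm.trans_le (le_card_stabNode chain13_ok)
  · exact chain14_size.symm.trans_le (le_card_stabNode chain14_ok)
  · exact chain15_size.symm.trans_le (le_card_stabNode chain15_ok)
  · exact chain16_size.symm.trans_le (le_card_stabNode chain16_ok)
  · exact chain17_size.symm.trans_le (le_card_stabNode chain17_ok)
  · exact chain18_size.symm.trans_le (le_card_stabNode chain18_ok)
  · exact chain19_size.symm.trans_le (le_card_stabNode chain19_ok)

/-- the orbit map of a node -/
noncomputable def orbMap (i : ℕ) : M24 ⧸ stabNode i → Pts :=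
  fun q => Quotient.liftOn' q (fun g => psi g • node i) fun a b h => by
    rw [QuotientGroup.leftRel_apply, stabNode, Subgroup.mem_comap, MulAction.mem_stabilizer_iff,
      map_mul, map_inv, mul_smul, inv_smul_eq_iff] at h
    exact h.symm

/-- all orbit maps together -/
noncomputable def allMap : (Σ i : Fin 20, M24 ⧸ stabNode i.val) → Pts := fun p => orbMap p.1 p.2

theorem allMap_mem {j : ℕ} (hj : j < 20) (g : M24) : psi g • node j ∈ Set.range allMap :=
  ⟨⟨⟨j, hj⟩, (g : M24 ⧸ stabNode j)⟩, rfl⟩

theorem allMap_surjective : Function.Surjective allMap := by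
  have hstep : ∀ q ∈ ({gx, gy, gt} : Set Cfsg.Spor.J4), ∀ p ∈ Set.range allMap,
      q • p ∈ Set.range allMap := by
    rintro q hq _ ⟨⟨⟨i, hi⟩, z⟩, rfl⟩
    induction z using QuotientGroup.induction_on with
    | H g =>
      show q • psi g • node i ∈ Set.range allMap
      rcases hq with rfl | rfl | rfl
      · rw [show gx = psi M24Iso.ga from (M24Iso.toHom_ga m24Rels).symm, ← mul_smul, ← map_mul]
        exact allMap_mem hi _
      · rw [show gy = psi M24Iso.gb from (M24Iso.toHom_gb m24Rels).symm, ← mul_smul, ← map_mul]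
        exact allMap_mem hi _
      · obtain ⟨c, hc, e⟩ := exists_trio g⁻¹ baseTrio_lt
        have et : tT c = (psi g)⁻¹ * gt * psi g := by rw [tT_eq hc e, map_inv, inv_inv]
        obtain ⟨j, hj, k, hk⟩ := cover_all hi hc
        rw [et, mul_smul, mul_smul, inv_smul_eq_iff, ← mul_smul (psi g) (psi k),
          ← map_mul] at hk
        rw [hk]
        exact allMap_mem hj _
  intro p
  induction p using QuotientGroup.induction_on with
  | H a =>
    have ha : a ∈ Subgroup.closure {gx, gy, gt} := by
      have h : Subgroup.closure {gx, gy, gt} = (⊤ : Subgroup Cfsg.Spor.J4) := by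
        rw [eq_top_iff, ← PresentedGroup.closure_range_of, Subgroup.closure_le]
        rintro _ ⟨z, rfl⟩
        refine Subgroup.subset_closure ?_
        cases z
        · exact Or.inl rfl
        · exact Or.inr (Or.inl rfl)
        · exact Or.inr (Or.inr rfl)
      rw [h]; trivial
    suffices h : ∀ p ∈ Set.range allMap, a • p ∈ Set.range allMap by
      have h0 : pt0 ∈ Set.range allMap := by
        have := allMap_mem (j := 0) (by norm_num) 1
        rwa [map_one, one_smul, node_zero] at this
      have := h pt0 h0
      rwa [show a • pt0 = (a : Pts) from congrArg _ (mul_one a)] at this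
    induction ha using Subgroup.closure_induction'' with
    | mem q hq => exact hstep q hq
    | inv_mem q hq =>
      have hx2 : gx * gx = 1 := by rw [← sq]; exact m24Rels.sq
      intro p hp
      rcases hq with rfl | rfl | rfl
      · rw [inv_eq_of_mul_eq_one_right hx2]; exact hstep _ (Or.inl rfl) p hp
      · rw [inv_eq_of_mul_eq_one_left gy3, mul_smul]
        exact hstep _ (Or.inr (Or.inl rfl)) _ (hstep _ (Or.inr (Or.inl rfl)) p hp)
      · rw [gt_inv]; exact hstep _ (Or.inr (Or.inr rfl)) p hp
    | one => exact fun p hp => by rwa [one_smul]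
    | mul u v _ _ hu hv => exact fun p hp => by rw [mul_smul]; exact hu _ (hv p hp)

theorem index_le : subH.index ≤ 173067389 ∧ subH.FiniteIndex := by
  have hfin : Finite Pts := Finite.of_surjective allMap allMap_surjective
  refine ⟨?_, Subgroup.finiteIndex_of_finite_quotient⟩
  rw [Subgroup.index_eq_card]
  refine (Nat.card_le_card_of_surjective allMap allMap_surjective).trans ?_
  rw [Nat.card_sigma]
  have hle : ∀ i : Fin 20, Nat.card (M24 ⧸ stabNode i.val) ≤
      244823040 / nodeSizes.getD i.val 0 := by
    intro i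
    have hpos : 0 < nodeSizes.getD i.val 0 := by
      have : ∀ j < 20, 0 < nodeSizes.getD j 0 := by decide
      exact this _ i.isLt
    rw [Nat.le_div_iff_mul_le hpos, ← natCard_M24, ← Subgroup.index_eq_card]
    refine (Nat.mul_le_mul_left _ (nodeSizes_le i.isLt)).trans (le_of_eq ?_)
    rw [mul_comm, Subgroup.card_mul_index]
  refine (Finset.sum_le_sum fun i _ => hle i).trans ?_
  decide +kernel

end CfsgLib.Spor.J4.Index
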