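import Cfsg.Agent.Lib.Spor.J4.Index.Sem
import Cfsg.Agent.Lib.Spor.J4.Index.Loop0
import Cfsg.Agent.Lib.Spor.J4.Index.Loop1
import Cfsg.Agent.Lib.Spor.J4.Index.Loop2
import Cfsg.Agent.Lib.Spor.J4.Index.Loop3
import Cfsg.Agent.Lib.Spor.J4.Index.Loop4
import Cfsg.Agent.Lib.Spor.J4.Index.Loop5
import Cfsg.Agent.Lib.Spor.J4.Index.Loop6
import Cfsg.Agent.Lib.Spor.J4.Index.Loop7
import Cfsg.Agent.Lib.Spor.J4.Index.Loop8
import Cfsg.Agent.Lib.Spor.J4.Index.Loop9
import Cfsg.Agent.Lib.Spor.J4.Index.Loop10
import Cfsg.Agent.Lib.Spor.J4.Index.Loop11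
import Cfsg.Agent.Lib.Spor.J4.Index.Loop12
import Cfsg.Agent.Lib.Spor.J4.Index.Loop13
import Cfsg.Agent.Lib.Spor.J4.Index.Loop14
import Cfsg.Agent.Lib.Spor.J4.Index.Loop15
import Cfsg.Agent.Lib.Spor.J4.Index.Loop16
import Cfsg.Agent.Lib.Spor.J4.Index.Loop17
import Cfsg.Agent.Lib.Spor.J4.Index.Loop18

/-!
All facts of the certificate hold (generated).
-/

set_option autoImplicit false

namespace CfsgLib.Spor.J4.Index

theorem facts_upto0 : ∀ f < 0, FactOK f := by
  intro f hf
  omega

theorem facts_upto100 : ∀ f < 100, FactOK f := fun f hf =>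
  okLoops_sound loops0 0 loops0_ok facts_upto0 f (by rw [loops0_len]; exact hf)

theorem facts_upto200 : ∀ f < 200, FactOK f := fun f hf =>
  okLoops_sound loops1 100 loops1_ok facts_upto100 f (by rw [loops1_len]; exact hf)

theorem facts_upto300 : ∀ f < 300, FactOK f := fun f hf =>
  okLoops_sound loops2 200 loops2_ok facts_upto200 f (by rw [loops2_len]; exact hf)

theorem facts_upto400 : ∀ f < 400, FactOK f := fun f hf =>
  okLoops_sound loops3 300 loops3_ok facts_upto300 f (by rw [loops3_len]; exact hf)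

theorem facts_upto500 : ∀ f < 500, FactOK f := fun f hf =>
  okLoops_sound loops4 400 loops4_ok facts_upto400 f (by rw [loops4_len]; exact hf)

theorem facts_upto600 : ∀ f < 600, FactOK f := fun f hf =>
  okLoops_sound loops5 500 loops5_ok facts_upto500 f (by rw [loops5_len]; exact hf)

theorem facts_upto700 : ∀ f < 700, FactOK f := fun f hf =>
  okLoops_sound loops6 600 loops6_ok facts_upto600 f (by rw [loops6_len]; exact hf)

theorem facts_upto800 : ∀ f < 800, FactOK f := fun f hf =>
  okLoops_sound loops7 700 loops7_ok facts_upto700 f (by rw [loops7_len]; exact hf)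

theorem facts_upto900 : ∀ f < 900, FactOK f := fun f hf =>
  okLoops_sound loops8 800 loops8_ok facts_upto800 f (by rw [loops8_len]; exact hf)

theorem facts_upto1000 : ∀ f < 1000, FactOK f := fun f hf =>
  okLoops_sound loops9 900 loops9_ok facts_upto900 f (by rw [loops9_len]; exact hf)

theorem facts_upto1100 : ∀ f < 1100, FactOK f := fun f hf =>
  okLoops_sound loops10 1000 loops10_ok facts_upto1000 f (by rw [loops10_len]; exact hf)

theorem facts_upto1200 : ∀ f < 1200, FactOK f := fun f hf =>
  okLoops_sound loops11 1100 loops11_ok facts_upto1100 f (by rw [loops11_len]; exact hf)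

theorem facts_upto1300 : ∀ f < 1300, FactOK f := fun f hf =>
  okLoops_sound loops12 1200 loops12_ok facts_upto1200 f (by rw [loops12_len]; exact hf)

theorem facts_upto1400 : ∀ f < 1400, FactOK f := fun f hf =>
  okLoops_sound loops13 1300 loops13_ok facts_upto1300 f (by rw [loops13_len]; exact hf)

theorem facts_upto1500 : ∀ f < 1500, FactOK f := fun f hf =>
  okLoops_sound loops14 1400 loops14_ok facts_upto1400 f (by rw [loops14_len]; exact hf)

theorem facts_upto1600 : ∀ f < 1600, FactOK f := fun f hf =>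
  okLoops_sound loops15 1500 loops15_ok facts_upto1500 f (by rw [loops15_len]; exact hf)

theorem facts_upto1700 : ∀ f < 1700, FactOK f := fun f hf =>
  okLoops_sound loops16 1600 loops16_ok facts_upto1600 f (by rw [loops16_len]; exact hf)

theorem facts_upto1800 : ∀ f < 1800, FactOK f := fun f hf =>
  okLoops_sound loops17 1700 loops17_ok facts_upto1700 f (by rw [loops17_len]; exact hf)

theorem facts_upto1847 : ∀ f < 1847, FactOK f := fun f hf =>
  okLoops_sound loops18 1800 loops18_ok facts_upto1800 f (by rw [loops18_len]; exact hf)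

theorem facts_all : ∀ f < numFacts, FactOK f := facts_upto1847

end CfsgLib.Spor.J4.Index
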