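import Cfsg.Agent.Lib.Spor.J4.Index.Check

/-!
Coverage and stabiliser of node 11 (generated).
-/

set_option autoImplicit false
set_option linter.all false

namespace CfsgLib.Spor.J4.Index

open CfsgLib.PresCert

/-- packed table -/
noncomputable def cov11_lll : BTree := (.node (.node (.node (.node (.node (.node (.node (.node (.node (.leaf 0x192c) (.leaf 0x134718f1)) (.node (.leaf 0xd5098e5) (.leaf 0xeca98e5))) (.node (.node (.leaf 0x10ef18c5) (.leaf 0x1207d8e5)) (.node (.leaf 0x111898f1) (.leaf 0xe4a58f3)))) (.node (.node (.node (.leaf 0x1068d8f3) (.leaf 0x125798f1)) (.node (.leaf 0x127898e9) (.leaf 0x104b18eb))) (.node (.node (.leaf 0xf6f98e9) (.leaf 0x122418e5)) (.node (.leaf 0x84718eb) (.leaf 0x0))))) (.node (.node (.node (.node (.leaf 0x10d498e9) (.leaf 0xe0ad8e5)) (.node (.leaf 0xd9158f1) (.leaf 0x81598e9))) (.node (.node (.leaf 0xcbd98c5) (.leaf 0x13ae18e9)) (.node (.leaf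 0x9a318e9) (.leaf 0xf0158dd)))) (.node (.node (.node (.leaf 0x13a658e9) (.leaf 0xd71d8eb)) (.node (.leaf 0xaa498eb) (.leaf 0x131fd8e5))) (.node (.node (.leaf 0x94c18dd) (.leaf 0x12abd8f1)) (.node (.leaf 0xddfd8dd) (.leaf 0x0)))))) (.node (.node (.node (.node (.node (.leaf 0x88698f1) (.leaf 0xe59d8f1)) (.node (.leaf 0xd4f98eb) (.leaf 0xb17d8e5))) (.node (.node (.leaf 0x1091d8dd) (.leaf 0x127b58e9)) (.node (.leaf 0xad618dd) (.leaf 0x1249d8f3)))) (.node (.node (.node (.leaf 0x119098e5) (.leaf 0xe2f58c5)) (.node (.leaf 0xd0298f1) (.leaf 0xc6818e9))) (.node (.node (.leaf 0x15cc98c5) (.leaf 0x12af58f1)) (.node (.leaf 0x16c358dd) (.leaf 0x0))))) (.node (.node (.node (.node (.leaf 0x107718c5) (.leaf 0xf4518f1)) (.node (.leaf 0x8abd8dd) (.leaf 0xf4f58f3))) (.node (.node (.leaf 0x50ed8dd) (.leaf 0xc09d8eb)) (.node (.leaf 0xc2ad8c5) (.leaf 0x11f5d8f1)))) (.node (.node (.node (.leaf 0x80118f3)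 (.leaf 0x111718eb)) (.node (.leaf 0xa6058dd) (.leaf 0xd85d8eb))) (.node (.node (.leaf 0x1127d8f3) (.leaf 0xd1698eb)) (.node (.leaf 0x129698e9) (.leaf 0x0))))))) (.node (.node (.node (.node (.node (.node (.leaf 0xdf298eb) (.leaf 0x8abd8eb)) (.node (.leaf 0x117198f1) (.leaf 0x131798f3))) (.node (.node (.leaf 0xd9258e9) (.leaf 0xdf298e9)) (.node (.leaf 0x10cdd8f1) (.leaf 0x124618e9)))) (.node (.node (.node (.leaf 0x89998f1) (.leaf 0x160498f3)) (.node (.leaf 0xea898dd) (.leaf 0xc51d8dd))) (.node (.node (.leaf 0xdd5d8eb) (.leaf 0x135898e5)) (.node (.leaf 0x14ad98e5) (.leaf 0x0))))) (.node (.node (.node (.node (.leaf 0x82918f1) (.leaf 0x14af18e9)) (.node (.leaf 0xfa158e9) (.leaf 0x16dc98e5))) (.node (.node (.leaf 0xc6798f1) (.leaf 0xdf3d8eb)) (.node (.leaf 0x119458f1) (.leaf 0xe8c18eb)))) (.node (.node (.node (.leaf 0x81598e5) (.leaf 0x139798f3)) (.node (.leaf 0xcbe18f3) (.leaf 0x126a98dd)))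 (.node (.node (.leaf 0x12fc58dd) (.leaf 0x12b098e9)) (.node (.leaf 0xc12d8dd) (.leaf 0x0)))))) (.node (.node (.node (.node (.node (.leaf 0xd4758c5) (.leaf 0xe1e58e9)) (.node (.leaf 0x81158c5) (.leaf 0x12e158eb))) (.node (.node (.leaf 0x84798f3) (.leaf 0x13a658f1)) (.node (.leaf 0xd8658e5) (.leaf 0xdd518f1)))) (.node (.node (.node (.leaf 0xc7498f3) (.leaf 0xe8998dd)) (.node (.leaf 0x701d8eb) (.leaf 0xb00d8dd))) (.node (.node (.leaf 0x106158e5) (.leaf 0x16fd98eb)) (.node (.leaf 0x10cf98e9) (.leaf 0x0))))) (.node (.node (.node (.node (.leaf 0xc7498f1) (.leaf 0x167458eb)) (.node (.leaf 0x18f8) (.leaf 0x134b58f3))) (.node (.node (.leaf 0x95818e5) (.leaf 0xe9618eb)) (.node (.leaf 0x9d358f1) (.leaf 0x0)))) (.node (.node (.node (.leaf 0xc7858f1) (.leaf 0x11f858f3)) (.node (.leaf 0x81458c5) (.leaf 0x139398c5))) (.node (.node (.leaf 0xe56d8eb) (.leaf 0x164298c5)) (.node (.leaf 0xa4518f1)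 (.leaf 0x0)))))))) (.node (.node (.node (.node (.node (.node (.node (.leaf 0xc5458f1) (.leaf 0x74ad8c5)) (.node (.leaf 0x102498eb) (.leaf 0x123258e9))) (.node (.node (.leaf 0x106158f1) (.leaf 0xe34d8eb)) (.node (.leaf 0xcbd98f1) (.leaf 0xe67d8eb)))) (.node (.node (.node (.leaf 0x845d8dd) (.leaf 0x10f318e9)) (.node (.leaf 0x12eb18dd) (.leaf 0xd5cd8e9))) (.node (.node (.leaf 0x1389d8dd) (.leaf 0xdfdd8e5)) (.node (.leaf 0x44a98e9) (.leaf 0x0))))) (.node (.node (.node (.node (.leaf 0x5ead8dd) (.leaf 0xd7018eb)) (.node (.leaf 0x10ac98f1) (.leaf 0x190a))) (.node (.node (.leaf 0x125618eb) (.leaf 0xfa718f3)) (.node (.leaf 0xd9ed8eb) (.leaf 0xf6a58c5)))) (.node (.node (.node (.leaf 0x127658e9) (.leaf 0x123998f1)) (.node (.leaf 0xceb98f1) (.leaf 0x18fe))) (.node (.node (.leaf 0x116598f1) (.leaf 0xb6118dd)) (.node (.leaf 0x1166d8eb) (.leaf 0x0)))))) (.node (.node (.node (.node (.node (.leaf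 0x11edd8e9) (.leaf 0xc5ed8dd)) (.node (.leaf 0x8b118eb) (.leaf 0x131d98f3))) (.node (.node (.leaf 0x44a98c5) (.leaf 0x11c998e9)) (.node (.leaf 0xa4698e9) (.leaf 0xc60d8e9)))) (.node (.node (.node (.leaf 0xc2ad8f1) (.leaf 0xee418c5)) (.node (.leaf 0x103b18eb) (.leaf 0x11ea18e9))) (.node (.node (.leaf 0xd78d8f3) (.leaf 0x12ee18e5)) (.node (.leaf 0x9b5d8e9) (.leaf 0x0))))) (.node (.node (.node (.node (.leaf 0x82a58f3) (.leaf 0x134718c5)) (.node (.leaf 0xd8c58eb) (.leaf 0x72418e5))) (.node (.node (.leaf 0xd8d58f1) (.leaf 0xaf798f1)) (.node (.leaf 0x1cb2) (.leaf 0xe34d8f3)))) (.node (.node (.node (.leaf 0x5b418e9) (.leaf 0xa5f98e5)) (.node (.leaf 0xcf198e9) (.leaf 0xd2a18eb))) (.node (.node (.leaf 0x10bd58e5) (.leaf 0x131ed8f3)) (.node (.leaf 0xea098f3) (.leaf 0x0))))))) (.node (.node (.node (.node (.node (.node (.leaf 0x819d8e9) (.leaf 0x132d18f1)) (.node (.leaf 0x10fa98eb) (.leaf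 0x12f618e5))) (.node (.node (.leaf 0x16f718e9) (.leaf 0xba998f3)) (.node (.leaf 0x91158dd) (.leaf 0x10c3d8e9)))) (.node (.node (.node (.leaf 0xc1618f1) (.leaf 0x12e498eb)) (.node (.leaf 0x535d8eb) (.leaf 0x114918e9))) (.node (.node (.leaf 0xc5c98c5) (.leaf 0xe5898f1)) (.node (.leaf 0x12dc18eb) (.leaf 0x0))))) (.node (.node (.node (.node (.leaf 0x117718eb) (.leaf 0x135398e9)) (.node (.leaf 0x15af98e5) (.leaf 0x166a18f1))) (.node (.node (.leaf 0x104318e5) (.leaf 0x17a198eb)) (.node (.leaf 0xdb098f3) (.leaf 0xf79d8dd)))) (.node (.node (.node (.leaf 0xc9118e9) (.leaf 0xefd58f1)) (.node (.leaf 0xcb398e9) (.leaf 0xc4d98eb))) (.node (.node (.leaf 0xc2ad8e5) (.leaf 0x132bd8e5)) (.node (.leaf 0xf5818eb) (.leaf 0x0)))))) (.node (.node (.node (.node (.node (.leaf 0x125a18dd) (.leaf 0xc66d8dd)) (.node (.leaf 0x12c718dd) (.leaf 0x163918c5))) (.node (.node (.leaf 0xc9a98eb) (.leaf 0xe8998e9))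 (.node (.leaf 0x11bed8f3) (.leaf 0xa0418e9)))) (.node (.node (.node (.leaf 0xc3958f1) (.leaf 0xf1358dd)) (.node (.leaf 0x11a7d8c5) (.leaf 0x10ef18eb))) (.node (.node (.leaf 0xd4f98dd) (.leaf 0xe5b98f1)) (.node (.leaf 0x123d58f3) (.leaf 0x0))))) (.node (.node (.node (.node (.leaf 0xf1658e9) (.leaf 0x12e918f1)) (.node (.leaf 0x10b7d8f1) (.leaf 0x134d58f3))) (.node (.node (.leaf 0xc6798e9) (.leaf 0x15cd18e9)) (.node (.leaf 0x15c758f3) (.leaf 0x0)))) (.node (.node (.node (.leaf 0x100898c5) (.leaf 0xb3dd8f3)) (.node (.leaf 0xe2fd8eb) (.leaf 0x137b98e5))) (.node (.node (.leaf 0x117718f1) (.leaf 0xf1718f3)) (.node (.leaf 0xf9458f3) (.leaf 0x0))))))))) (.node (.node (.node (.node (.node (.node (.node (.node (.leaf 0x86d18f3) (.leaf 0xc3bd8dd)) (.node (.leaf 0x91118eb) (.leaf 0x138dd8dd))) (.node (.node (.leaf 0x14f058c5) (.leaf 0xb43d8f3)) (.node (.leaf 0xc5458eb) (.leaf 0xf9c18c5))))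 (.node (.node (.node (.leaf 0xc6858f3) (.leaf 0xc2818eb)) (.node (.leaf 0x1141d8e5) (.leaf 0xb3418dd))) (.node (.node (.leaf 0xd5b98f1) (.leaf 0xf1a58eb)) (.node (.leaf 0x849d8e5) (.leaf 0x0))))) (.node (.node (.node (.node (.leaf 0x57098c5) (.leaf 0x131258f3)) (.node (.leaf 0x110558f3) (.leaf 0x1242d8f1))) (.node (.node (.leaf 0x115ed8c5) (.leaf 0x160198f3)) (.node (.leaf 0xdc358e9) (.leaf 0xc0f98e9)))) (.node (.node (.node (.leaf 0x9f118eb) (.leaf 0xf9458f1)) (.node (.leaf 0x10f618f3) (.leaf 0xa0418f1))) (.node (.node (.leaf 0xd6bd8f3) (.leaf 0x131f18f3)) (.node (.leaf 0x13b358e9) (.leaf 0x0)))))) (.node (.node (.node (.node (.node (.leaf 0x1091d8e9) (.leaf 0xfaa98eb)) (.node (.leaf 0xd3598f1) (.leaf 0x1736d8eb))) (.node (.node (.leaf 0xc1398f3) (.leaf 0xe0ad8c5)) (.node (.leaf 0xec618dd) (.leaf 0x126b18f3)))) (.node (.node (.node (.leaf 0x1369d8e9) (.leaf 0x132bd8f3)) (.node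 (.leaf 0x130718e9) (.leaf 0x10cc98e9))) (.node (.node (.leaf 0xd7858f3) (.leaf 0xd6fd8e9)) (.node (.leaf 0x80118e5) (.leaf 0x0))))) (.node (.node (.node (.node (.leaf 0x102a98f3) (.leaf 0xde758c5)) (.node (.leaf 0xc60d8eb) (.leaf 0x134258e5))) (.node (.node (.leaf 0xd3598dd) (.leaf 0x103e58eb)) (.node (.leaf 0x159598eb) (.leaf 0xde0d8f1)))) (.node (.node (.node (.leaf 0x5b298e9) (.leaf 0xf5818c5)) (.node (.leaf 0x126018dd) (.leaf 0xa6b98dd))) (.node (.node (.leaf 0x10bb58e5) (.leaf 0x125298f1)) (.node (.leaf 0x129518e9) (.leaf 0x0))))))) (.node (.node (.node (.node (.node (.node (.leaf 0x833d8eb) (.leaf 0x151958eb)) (.node (.leaf 0x10fb18c5) (.leaf 0x1329d8e5))) (.node (.node (.leaf 0xc4d58f1) (.leaf 0xaed98e9)) (.node (.leaf 0x8b118f1) (.leaf 0x125998f3)))) (.node (.node (.node (.leaf 0xd9dd8e9) (.leaf 0x132398e9)) (.node (.leaf 0x8b118c5) (.leaf 0xd9c98e9))) (.node (.node (.leaf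 0x11a7d8e5) (.leaf 0xe6098c5)) (.node (.leaf 0xe67d8e9) (.leaf 0x0))))) (.node (.node (.node (.node (.leaf 0x76418dd) (.leaf 0xe56d8e5)) (.node (.leaf 0xa4518dd) (.leaf 0x130cd8dd))) (.node (.node (.leaf 0x126a98eb) (.leaf 0xfa158eb)) (.node (.leaf 0x10cc18e5) (.leaf 0x121398e9)))) (.node (.node (.node (.leaf 0x145098f3) (.leaf 0x11b018e9)) (.node (.leaf 0x8b118e9) (.leaf 0x13a858dd))) (.node (.node (.leaf 0x112d98e9) (.leaf 0xdea98dd)) (.node (.leaf 0xf9c18f3) (.leaf 0x0)))))) (.node (.node (.node (.node (.node (.leaf 0x94958e5) (.leaf 0x123298e5)) (.node (.leaf 0xc1b58e5) (.leaf 0xf1018dd))) (.node (.node (.leaf 0x123318dd) (.leaf 0x134e18f3)) (.node (.leaf 0xdb098f1) (.leaf 0x176998eb)))) (.node (.node (.node (.leaf 0x103858f1) (.leaf 0xe0ad8eb)) (.node (.leaf 0xb00d8eb) (.leaf 0xdecd8dd))) (.node (.node (.leaf 0x1586d8e9) (.leaf 0xb43d8e5)) (.node (.leaf 0xdd9d8dd) (.leaf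 0x0))))) (.node (.node (.node (.node (.leaf 0x105a98f3) (.leaf 0x1273d8eb)) (.node (.leaf 0x12af58e9) (.leaf 0xee9d8e5))) (.node (.node (.leaf 0x152e18f1) (.leaf 0xdd6d8f3)) (.node (.leaf 0x1507d8e9) (.leaf 0x0)))) (.node (.node (.node (.leaf 0x123358e9) (.leaf 0x139fd8f1)) (.node (.leaf 0xc2ad8e9) (.leaf 0x17a758c5))) (.node (.node (.leaf 0xdf818eb) (.leaf 0xf1658e5)) (.node (.leaf 0xde7d8e5) (.leaf 0x0)))))))) (.node (.node (.node (.node (.node (.node (.node (.leaf 0x18e2) (.leaf 0xb2cd8f1)) (.node (.leaf 0x142318eb) (.leaf 0x12e6d8eb))) (.node (.node (.leaf 0x81158f3) (.leaf 0x100458eb)) (.node (.leaf 0xe1698e9) (.leaf 0xe5098f3)))) (.node (.node (.node (.leaf 0xdc258e9) (.leaf 0xf13d8f3)) (.node (.leaf 0xfa9d8dd) (.leaf 0x104dd8dd))) (.node (.node (.leaf 0x132998eb) (.leaf 0xb3dd8e5)) (.node (.leaf 0x849d8e9) (.leaf 0x0))))) (.node (.node (.node (.node (.leaf 0x1904) (.leaf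 0xee1d8eb)) (.node (.leaf 0xd2a18e9) (.leaf 0xe1b18c5))) (.node (.node (.leaf 0x10be98e9) (.leaf 0xea898f1)) (.node (.leaf 0xd05d8e5) (.leaf 0x128918f3)))) (.node (.node (.node (.leaf 0xc4358f1) (.leaf 0x9ded8e5)) (.node (.leaf 0x10be58f3) (.leaf 0x1397d8e5))) (.node (.node (.leaf 0x134818e9) (.leaf 0x11b058eb)) (.node (.leaf 0xe44d8f1) (.leaf 0x0)))))) (.node (.node (.node (.node (.node (.leaf 0x9f6d8e9) (.leaf 0xd3018e9)) (.node (.leaf 0xd47d8f1) (.leaf 0x124ed8f1))) (.node (.node (.leaf 0x44758eb) (.leaf 0xa8798dd)) (.node (.leaf 0x137858e9) (.leaf 0x125ed8f3)))) (.node (.node (.node (.leaf 0x1029d8f1) (.leaf 0xd5b98eb)) (.node (.leaf 0xea1d8eb) (.leaf 0xed598f3))) (.node (.node (.leaf 0xe0358eb) (.leaf 0x76418e5)) (.node (.leaf 0xf46d8f1) (.leaf 0x0))))) (.node (.node (.node (.node (.leaf 0x107598f1) (.leaf 0xdf3d8e5)) (.node (.leaf 0xcb0d8dd) (.leaf 0xe9798f1))) (.node (.node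 (.leaf 0x42598eb) (.leaf 0x100818eb)) (.node (.leaf 0xdd318f3) (.leaf 0x0)))) (.node (.node (.node (.leaf 0xab598eb) (.leaf 0xafed8c5)) (.node (.leaf 0xc6498c5) (.leaf 0x1163d8e9))) (.node (.node (.leaf 0xea098dd) (.leaf 0xca7d8eb)) (.node (.leaf 0x138f98f1) (.leaf 0x0))))))) (.node (.node (.node (.node (.node (.node (.leaf 0x1081d8f3) (.leaf 0xc1498e9)) (.node (.leaf 0x125798eb) (.leaf 0xd74d8eb))) (.node (.node (.leaf 0x1153d8e5) (.leaf 0x121318e5)) (.node (.leaf 0x1110d8dd) (.leaf 0x1378d8e5)))) (.node (.node (.node (.leaf 0x81518f1) (.leaf 0xb2358f1)) (.node (.leaf 0x90fd8e9) (.leaf 0xf19d8e5))) (.node (.node (.leaf 0x128918e9) (.leaf 0x1361d8e5)) (.node (.leaf 0x1295d8e9) (.leaf 0x0))))) (.node (.node (.node (.node (.leaf 0xc7498c5) (.leaf 0x107b98e9)) (.node (.leaf 0x11b198e5) (.leaf 0xd8658eb))) (.node (.node (.leaf 0x112b58dd) (.leaf 0x119318dd)) (.node (.leaf 0xdb0d8f3)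 (.leaf 0xf6898e5)))) (.node (.node (.node (.leaf 0x86e58dd) (.leaf 0x12ad18e5)) (.node (.leaf 0xd15d8f3) (.leaf 0xc4c58eb))) (.node (.node (.leaf 0x142c98e5) (.leaf 0xee518eb)) (.node (.leaf 0x1010d8e9) (.leaf 0x0)))))) (.node (.node (.node (.node (.node (.leaf 0x10d358e9) (.leaf 0x167958f3)) (.node (.leaf 0xd9258f1) (.leaf 0xf59d8e5))) (.node (.node (.leaf 0x119818dd) (.leaf 0x121d98c5)) (.node (.leaf 0xda158e9) (.leaf 0x154458e9)))) (.node (.node (.node (.leaf 0xc3898dd) (.leaf 0x162598e9)) (.node (.leaf 0x136d58dd) (.leaf 0xee418e5))) (.node (.node (.leaf 0xd4d98dd) (.leaf 0x10f458e9)) (.node (.leaf 0x11ddd8dd) (.leaf 0x0))))) (.node (.node (.node (.node (.leaf 0x1187d8c5) (.leaf 0x11f698c5)) (.node (.leaf 0xd2ad8e9) (.leaf 0x104dd8eb))) (.node (.node (.leaf 0x8e598e9) (.leaf 0x123218eb)) (.node (.leaf 0x108998dd) (.leaf 0x0)))) (.node (.node (.node (.leaf 0xc4d58dd) (.leaf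 0x148758dd)) (.node (.leaf 0x10d7d8f3) (.leaf 0xd7998e9))) (.node (.node (.leaf 0xd3718e9) (.leaf 0x12e898e5)) (.node (.leaf 0xc3458dd) (.leaf 0x0))))))))))

/-- packed table -/
noncomputable def cov11_llr : BTree := (.node (.node (.node (.node (.node (.node (.node (.node (.node (.leaf 0x5d198c5) (.leaf 0xf59d8f3)) (.node (.leaf 0x91198eb) (.leaf 0x12a818f3))) (.node (.node (.leaf 0xee9d8eb) (.leaf 0x123618dd)) (.node (.leaf 0x13aa58dd) (.leaf 0xc0f98eb)))) (.node (.node (.node (.leaf 0xc66d8f3) (.leaf 0x100658eb)) (.node (.leaf 0x114158e5) (.leaf 0x123318f3))) (.node (.node (.leaf 0x115dd8f1) (.leaf 0xe4f18eb)) (.node (.leaf 0xc9818e9) (.leaf 0x0))))) (.node (.node (.node (.node (.leaf 0x108e98e9) (.leaf 0xe8b58f3)) (.node (.leaf 0x12d098eb) (.leaf 0x1699d8c5))) (.node (.node (.leaf 0xf8f58dd) (.leaf 0xe1cd8c5)) (.node (.leaf 0x9c4d8e9) (.leaf 0x149e18e9)))) (.node (.node (.node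 (.leaf 0x121458dd) (.leaf 0xd1818eb)) (.node (.leaf 0x131598eb) (.leaf 0x705d8f1))) (.node (.node (.leaf 0x8b618eb) (.leaf 0x114358e9)) (.node (.leaf 0x163858c5) (.leaf 0x0)))))) (.node (.node (.node (.node (.node (.leaf 0x151958c5) (.leaf 0x7b2d8f1)) (.node (.leaf 0x53818f3) (.leaf 0x165698eb))) (.node (.node (.leaf 0x81598f3) (.leaf 0xe7c18e9)) (.node (.leaf 0xc8958eb) (.leaf 0x160b18dd)))) (.node (.node (.node (.leaf 0xd9158e5) (.leaf 0xf64d8eb)) (.node (.leaf 0xf06d8e9) (.leaf 0x122a18f3))) (.node (.node (.leaf 0x16fb18e9) (.leaf 0xd71d8e9)) (.node (.leaf 0x12c218dd) (.leaf 0x0))))) (.node (.node (.node (.node (.leaf 0x82cd8f3) (.leaf 0xe38d8f1)) (.node (.leaf 0xc7698e5) (.leaf 0x133618dd))) (.node (.node (.leaf 0x535d8dd) (.leaf 0x1345d8c5)) (.node (.leaf 0xc2bd8c5) (.leaf 0xa1fd8f3)))) (.node (.node (.node (.leaf 0x1934) (.leaf 0x132498eb)) (.node (.leaf 0x142318c5) (.leaf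 0xe0258f3))) (.node (.node (.leaf 0xd2a18f3) (.leaf 0xc1018e9)) (.node (.leaf 0x74ad8f1) (.leaf 0x0))))))) (.node (.node (.node (.node (.node (.node (.leaf 0x1166d8e5) (.leaf 0x1740d8f1)) (.node (.leaf 0x16a658e9) (.leaf 0x121b58f3))) (.node (.node (.leaf 0x104c18f1) (.leaf 0xc5d18e9)) (.node (.leaf 0x8b358f1) (.leaf 0x81158eb)))) (.node (.node (.node (.leaf 0xc9718f1) (.leaf 0xea318e5)) (.node (.leaf 0xd1818f3) (.leaf 0x11e818f3))) (.node (.node (.leaf 0x118398f1) (.leaf 0xafed8e5)) (.node (.leaf 0x10aed8e5) (.leaf 0x0))))) (.node (.node (.node (.node (.leaf 0x42758f1) (.leaf 0x116198e9)) (.node (.leaf 0xa4698dd) (.leaf 0xf06d8dd))) (.node (.node (.leaf 0xdf558eb) (.leaf 0xea858f1)) (.node (.leaf 0xa4498e9) (.leaf 0x13ab18dd)))) (.node (.node (.node (.leaf 0x104ed8f3) (.leaf 0x9f6d8e5)) (.node (.leaf 0x10bbd8f3) (.leaf 0xf6a58e5))) (.node (.node (.leaf 0x1141d8f3) (.leaf 0xd7fd8eb))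 (.node (.leaf 0xc1398dd) (.leaf 0x0)))))) (.node (.node (.node (.node (.node (.leaf 0xd4858e5) (.leaf 0xb3ed8c5)) (.node (.leaf 0x90998eb) (.leaf 0xf4d18e5))) (.node (.node (.leaf 0x49498f1) (.leaf 0xe6618dd)) (.node (.leaf 0x12abd8dd) (.leaf 0xf6a58eb)))) (.node (.node (.node (.leaf 0xc7698f3) (.leaf 0xf9c18f1)) (.node (.leaf 0x165318dd) (.leaf 0x131d98e5))) (.node (.node (.leaf 0x155418f1) (.leaf 0x175098f1)) (.node (.leaf 0xe1c98f3) (.leaf 0x0))))) (.node (.node (.node (.node (.leaf 0xccbd8eb) (.leaf 0x127558eb)) (.node (.leaf 0x14b998f1) (.leaf 0x12cc58f1))) (.node (.node (.leaf 0x152c58f1) (.leaf 0x115ed8eb)) (.node (.leaf 0x11ca18f3) (.leaf 0x0)))) (.node (.node (.node (.leaf 0xe1598e9) (.leaf 0x16a298f1)) (.node (.leaf 0x102b18e9) (.leaf 0xa1118eb))) (.node (.node (.leaf 0x123718eb) (.leaf 0xd4758dd)) (.node (.leaf 0xde758e5) (.leaf 0x0)))))))) (.node (.node (.node (.node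 (.node (.node (.node (.leaf 0x11bd58c5) (.leaf 0xf94d8f1)) (.node (.leaf 0xc3458e9) (.leaf 0x12a518f3))) (.node (.node (.leaf 0xd7f98e5) (.leaf 0xa8798f1)) (.node (.leaf 0xba998e9) (.leaf 0xb6ed8eb)))) (.node (.node (.node (.leaf 0x84718dd) (.leaf 0x5e1d8e5)) (.node (.leaf 0xd78d8e5) (.leaf 0xb3ed8e5))) (.node (.node (.leaf 0x164b58dd) (.leaf 0x132998dd)) (.node (.leaf 0x9c4d8e5) (.leaf 0x0))))) (.node (.node (.node (.node (.leaf 0xbb318dd) (.leaf 0x125c18eb)) (.node (.leaf 0x57098e5) (.leaf 0xe1c98c5))) (.node (.node (.leaf 0xc21d8f3) (.leaf 0xd1858dd)) (.node (.leaf 0xdba58f3) (.leaf 0x105418dd)))) (.node (.node (.node (.leaf 0xc1b18f3) (.leaf 0x111998eb)) (.node (.leaf 0xcecd8f1) (.leaf 0x139798c5))) (.node (.node (.leaf 0x1562d8f1) (.leaf 0x9d8d8f3)) (.node (.leaf 0xc2698eb) (.leaf 0x0)))))) (.node (.node (.node (.node (.node (.leaf 0x5ead8e9) (.leaf 0x145f98dd)) (.node (.leaf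 0xcb498e9) (.leaf 0xedbd8f1))) (.node (.node (.leaf 0x845d8f1) (.leaf 0xeb798e9)) (.node (.leaf 0x155658c5) (.leaf 0xf57d8eb)))) (.node (.node (.node (.leaf 0xd5a18c5) (.leaf 0xd5a98dd)) (.node (.leaf 0xd92d8c5) (.leaf 0x109d98e9))) (.node (.node (.leaf 0xd4998f3) (.leaf 0x9ded8f3)) (.node (.leaf 0x819d8eb) (.leaf 0x0))))) (.node (.node (.node (.node (.leaf 0x107658f1) (.leaf 0x128558e9)) (.node (.leaf 0xd8918e9) (.leaf 0x12e498f1))) (.node (.node (.leaf 0x10dfd8e9) (.leaf 0xab598dd)) (.node (.leaf 0x9b358f1) (.leaf 0x0)))) (.node (.node (.node (.leaf 0xf5818e9) (.leaf 0xa5fd8e5)) (.node (.leaf 0x10a118e9) (.leaf 0x11fc98f3))) (.node (.node (.leaf 0x10be98e5) (.leaf 0x170758dd)) (.node (.leaf 0x117398eb) (.leaf 0x0))))))) (.node (.node (.node (.node (.node (.node (.leaf 0xc1b18f1) (.leaf 0x131f18dd)) (.node (.leaf 0x112f18f3) (.leaf 0x136ad8eb))) (.node (.node (.leaf 0xd52d8e5)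 (.leaf 0x121298e5)) (.node (.leaf 0x111218dd) (.leaf 0x1029d8eb)))) (.node (.node (.node (.leaf 0xc8798f3) (.leaf 0xf7fd8f1)) (.node (.leaf 0x8fd58f3) (.leaf 0x94958dd))) (.node (.node (.leaf 0x95498f1) (.leaf 0xf19d8eb)) (.node (.leaf 0x116198e5) (.leaf 0x0))))) (.node (.node (.node (.node (.leaf 0x109d98f3) (.leaf 0x12b1d8eb)) (.node (.leaf 0xdb098e5) (.leaf 0xfa318eb))) (.node (.node (.leaf 0x152e18dd) (.leaf 0xdd518c5)) (.node (.leaf 0xdaed8f3) (.leaf 0xfa718dd)))) (.node (.node (.node (.leaf 0x40298eb) (.leaf 0xf1018f3)) (.node (.leaf 0x1100d8eb) (.leaf 0x121458f3))) (.node (.node (.leaf 0xc2bd8e5) (.leaf 0xd7758dd)) (.node (.leaf 0x131dd8dd) (.leaf 0x0)))))) (.node (.node (.node (.node (.node (.leaf 0x120598eb) (.leaf 0xeccd8e9)) (.node (.leaf 0x12ced8eb) (.leaf 0xcf158e9))) (.node (.node (.leaf 0x132d18eb) (.leaf 0x1242d8e5)) (.node (.leaf 0xdaf18f1) (.leaf 0x1376d8eb))))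 (.node (.node (.node (.leaf 0xb43d8e9) (.leaf 0x126bd8e5)) (.node (.leaf 0xdd858eb) (.leaf 0x12e358e5))) (.node (.node (.leaf 0xd4dd8dd) (.leaf 0x165758eb)) (.node (.leaf 0xf57d8f3) (.leaf 0x0))))) (.node (.node (.node (.node (.leaf 0x10f618e5) (.leaf 0xf19d8f3)) (.node (.leaf 0xc1658e9) (.leaf 0x12c558e5))) (.node (.node (.leaf 0xc8958e9) (.leaf 0xed598f1)) (.node (.leaf 0x12d498dd) (.leaf 0x0)))) (.node (.node (.node (.leaf 0xc08d8c5) (.leaf 0x163858dd)) (.node (.leaf 0x10aed8f3) (.leaf 0x10a058e9))) (.node (.node (.leaf 0x53818e9) (.leaf 0xe5898eb)) (.node (.leaf 0xe0618e9) (.leaf 0x0))))))))) (.node (.node (.node (.node (.node (.node (.node (.node (.leaf 0xdb558eb) (.leaf 0x139ad8eb)) (.node (.leaf 0xd6a98dd) (.leaf 0x168118f3))) (.node (.node (.leaf 0xcf158e5) (.leaf 0xfa318f3)) (.node (.leaf 0x10c658f3) (.leaf 0x13aad8c5)))) (.node (.node (.node (.leaf 0xc42d8dd) (.leaf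 0x16f898eb)) (.node (.leaf 0x11bed8e9) (.leaf 0xde358c5))) (.node (.node (.leaf 0xf79d8eb) (.leaf 0x11de98e9)) (.node (.leaf 0x44a98e5) (.leaf 0x0))))) (.node (.node (.node (.node (.leaf 0x136a98eb) (.leaf 0x165d18eb)) (.node (.leaf 0x1106d8f3) (.leaf 0x16b958eb))) (.node (.node (.leaf 0xd61d8c5) (.leaf 0xae758c5)) (.node (.leaf 0x49498e5) (.leaf 0x9f6d8eb)))) (.node (.node (.node (.leaf 0xc1b98f3) (.leaf 0x109f18e9)) (.node (.leaf 0xcedd8f1) (.leaf 0x701d8f1))) (.node (.node (.leaf 0x1169d8f3) (.leaf 0x1274d8f3)) (.node (.leaf 0xc1018dd) (.leaf 0x0)))))) (.node (.node (.node (.node (.node (.leaf 0xdf3d8e9) (.leaf 0xfa958eb)) (.node (.leaf 0xd6d98f1) (.leaf 0x120c58f3))) (.node (.node (.leaf 0xc46d8f1) (.leaf 0xc8958dd)) (.node (.leaf 0xe5b98e9) (.leaf 0x120898eb)))) (.node (.node (.node (.leaf 0x102b18f1) (.leaf 0x10cfd8eb)) (.node (.leaf 0x112018f1) (.leaf 0xee418f1))) (.node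 (.node (.leaf 0x102058eb) (.leaf 0xe8a18f3)) (.node (.leaf 0x9d358dd) (.leaf 0x0))))) (.node (.node (.node (.node (.leaf 0xf2f98eb) (.leaf 0xe1b18e5)) (.node (.leaf 0xd8a18e9) (.leaf 0xe1b18f3))) (.node (.node (.leaf 0x42598e9) (.leaf 0xdd518e5)) (.node (.leaf 0x5b298c5) (.leaf 0x5e1d8eb)))) (.node (.node (.node (.leaf 0x87418f1) (.leaf 0xf56d8c5)) (.node (.leaf 0x10a918f1) (.leaf 0x13a598e5))) (.node (.node (.leaf 0xcbc98e5) (.leaf 0x129c18f3)) (.node (.leaf 0x11fc98c5) (.leaf 0x0))))))) (.node (.node (.node (.node (.node (.node (.leaf 0xc4e18eb) (.leaf 0x101318e9)) (.node (.leaf 0xd7018f1) (.leaf 0x121b98f3))) (.node (.node (.leaf 0xaf798e9) (.leaf 0xe5658dd)) (.node (.leaf 0xd4fd8c5) (.leaf 0x139798dd)))) (.node (.node (.node (.leaf 0xc12d8f1) (.leaf 0x5ead8e5)) (.node (.leaf 0xd3558eb) (.leaf 0x114718e9))) (.node (.node (.leaf 0x135298eb) (.leaf 0xb3c98f1)) (.node (.leaf 0x15af98eb)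 (.leaf 0x0))))) (.node (.node (.node (.node (.leaf 0xd78d8dd) (.leaf 0xf1358e9)) (.node (.leaf 0x130718eb) (.leaf 0x16e818f1))) (.node (.node (.leaf 0xc28d8eb) (.leaf 0x13a1d8eb)) (.node (.leaf 0xd92d8f1) (.leaf 0xd2ad8eb)))) (.node (.node (.node (.leaf 0x104f18f3) (.leaf 0xdaf18eb)) (.node (.leaf 0xcb298e9) (.leaf 0x11fc58f3))) (.node (.node (.leaf 0x102998e5) (.leaf 0xc1798e9)) (.node (.leaf 0x12d0d8e9) (.leaf 0x0)))))) (.node (.node (.node (.node (.node (.leaf 0x91a58e5) (.leaf 0xb3c98eb)) (.node (.leaf 0xc0c18e9) (.leaf 0x123a98c5))) (.node (.node (.leaf 0x132e18eb) (.leaf 0x107fd8e9)) (.node (.leaf 0x10c3d8c5) (.leaf 0x120218e9)))) (.node (.node (.node (.leaf 0xc3bd8f1) (.leaf 0x160d18eb)) (.node (.leaf 0xceb58f3) (.leaf 0x74ad8e5))) (.node (.node (.leaf 0xd9158f3) (.leaf 0x1286d8f3)) (.node (.leaf 0x11a7d8eb) (.leaf 0x0))))) (.node (.node (.node (.node (.leaf 0xf9458eb)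 (.leaf 0xf94d8f3)) (.node (.leaf 0x9be98e5) (.leaf 0x16dc98f1))) (.node (.node (.leaf 0x112b58f1) (.leaf 0x123a98e5)) (.node (.leaf 0x150818e9) (.leaf 0x0)))) (.node (.node (.node (.leaf 0x107a58f3) (.leaf 0xed2d8f1)) (.node (.leaf 0x11cdd8c5) (.leaf 0x128058eb))) (.node (.node (.leaf 0xc2898eb) (.leaf 0x105d58e9)) (.node (.leaf 0x103598dd) (.leaf 0x0)))))))) (.node (.node (.node (.node (.node (.node (.node (.leaf 0x11f5d8e9) (.leaf 0xa5fd8f1)) (.node (.leaf 0x1122d8f1) (.leaf 0xde958c5))) (.node (.node (.leaf 0xd9158e9) (.leaf 0x12a818e5)) (.node (.leaf 0xb04d8eb) (.leaf 0xdea98f3)))) (.node (.node (.node (.leaf 0x49358f3) (.leaf 0x12b998c5)) (.node (.leaf 0xc1798e5) (.leaf 0xc5d18dd))) (.node (.node (.leaf 0x12ed58dd) (.leaf 0xc8fd8eb)) (.node (.leaf 0xdba58f1) (.leaf 0x0))))) (.node (.node (.node (.node (.leaf 0x426d8c5) (.leaf 0x1559d8eb)) (.node (.leaf 0xd52d8e9) (.leaf 0xe0818dd)))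 (.node (.node (.leaf 0x106658f1) (.leaf 0x13a358f3)) (.node (.leaf 0x1106d8e5) (.leaf 0x9e198e9)))) (.node (.node (.node (.leaf 0xc14d8e5) (.leaf 0x132f58c5)) (.node (.leaf 0xcbc98f3) (.leaf 0x112818e9))) (.node (.node (.leaf 0xd8a98e9) (.leaf 0x134258f1)) (.node (.leaf 0xc1618dd) (.leaf 0x0)))))) (.node (.node (.node (.node (.node (.leaf 0x15de18e9) (.leaf 0xc5c98eb)) (.node (.leaf 0xd4758f1) (.leaf 0x88698dd))) (.node (.node (.leaf 0x896d8e5) (.leaf 0x128158f1)) (.node (.leaf 0x12aa18dd) (.leaf 0xe0818f3)))) (.node (.node (.node (.leaf 0xc7618f3) (.leaf 0x95818eb)) (.node (.leaf 0x1382d8eb) (.leaf 0x11e898f3))) (.node (.node (.leaf 0xde958e9) (.leaf 0x134c58f1)) (.node (.leaf 0xeb518e5) (.leaf 0x0))))) (.node (.node (.node (.node (.leaf 0x127558e9) (.leaf 0xe6918f1)) (.node (.leaf 0x90fd8f1) (.leaf 0x122418f3))) (.node (.node (.leaf 0x94a98f3) (.leaf 0xe0998dd)) (.node (.leaf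 0x5d198f3) (.leaf 0x0)))) (.node (.node (.node (.leaf 0xe7c18eb) (.leaf 0x13ab18f3)) (.node (.leaf 0xe6098eb) (.leaf 0x101258eb))) (.node (.node (.leaf 0x115ed8f3) (.leaf 0x116198dd)) (.node (.leaf 0x115b18eb) (.leaf 0x0))))))) (.node (.node (.node (.node (.node (.node (.leaf 0xc8358f1) (.leaf 0xd7fd8dd)) (.node (.leaf 0x535d8c5) (.leaf 0x1255d8eb))) (.node (.node (.leaf 0xc1618f3) (.leaf 0x13a2d8f3)) (.node (.leaf 0x91198dd) (.leaf 0x95498eb)))) (.node (.node (.node (.leaf 0xfa8d8e9) (.leaf 0xa6058f1)) (.node (.leaf 0x91118e9) (.leaf 0x12d118e5))) (.node (.node (.leaf 0xd85d8f1) (.leaf 0x133298f1)) (.node (.leaf 0x11a598f3) (.leaf 0x0))))) (.node (.node (.node (.node (.leaf 0x149e18f3) (.leaf 0xccd18eb)) (.node (.leaf 0xc7498e5) (.leaf 0xe1ad8f3))) (.node (.node (.leaf 0x11c998e5) (.leaf 0x132ad8c5)) (.node (.leaf 0x82a58c5) (.leaf 0xe0ad8f1)))) (.node (.node (.node (.leaf 0x801d8eb)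 (.leaf 0x1558d8eb)) (.node (.leaf 0xd1418f3) (.leaf 0x60b98f3))) (.node (.node (.leaf 0xed758dd) (.leaf 0x122658eb)) (.node (.leaf 0xf19d8dd) (.leaf 0x0)))))) (.node (.node (.node (.node (.node (.leaf 0x14d1d8e9) (.leaf 0x12e6d8e9)) (.node (.leaf 0xd9018f1) (.leaf 0xc1618e9))) (.node (.node (.leaf 0xcbc98c5) (.leaf 0xde958f3)) (.node (.leaf 0xdbfd8f3) (.leaf 0xc5598e9)))) (.node (.node (.node (.leaf 0xe1698dd) (.leaf 0x179318f3)) (.node (.leaf 0x129998dd) (.leaf 0x112698e9))) (.node (.node (.leaf 0xd5058e9) (.leaf 0x129318f3)) (.node (.leaf 0xdadd8e9) (.leaf 0x0))))) (.node (.node (.node (.node (.leaf 0x17a498eb) (.leaf 0x125418e5)) (.node (.leaf 0x12c858dd) (.leaf 0x10fa18eb))) (.node (.node (.leaf 0xc3958c5) (.leaf 0x108f18eb)) (.node (.leaf 0xef698dd) (.leaf 0x0)))) (.node (.node (.node (.leaf 0x13aad8e9) (.leaf 0x123a58dd)) (.node (.leaf 0xf6f98dd) (.leaf 0x12b098f1))) (.node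 (.node (.leaf 0x8b618c5) (.leaf 0x1145d8e9)) (.node (.leaf 0x176518e9) (.leaf 0x0))))))))))

/-- packed table -/
noncomputable def cov11_lrl : BTree := (.node (.node (.node (.node (.node (.node (.node (.node (.node (.leaf 0xc6ed8f1) (.leaf 0x1358d8f1)) (.node (.leaf 0x91258eb) (.leaf 0x127558c5))) (.node (.node (.leaf 0x10bbd8e9) (.leaf 0xe0818e5)) (.node (.leaf 0xd1818f1) (.leaf 0xfa158e5)))) (.node (.node (.node (.leaf 0xc2558f1) (.leaf 0x1123d8dd)) (.node (.leaf 0xe0358e9) (.leaf 0x10fb98eb))) (.node (.node (.leaf 0x119458e5) (.leaf 0x105c18dd)) (.node (.leaf 0x49958e9) (.leaf 0x0))))) (.node (.node (.node (.node (.leaf 0x12c4d8eb) (.leaf 0x1376d8f1)) (.node (.leaf 0x143a18eb) (.leaf 0xaed98f3))) (.node (.node (.leaf 0xcbe18c5) (.leaf 0xa0418e5)) (.node (.leaf 0x9c098f3) (.leaf 0xde758f1)))) (.node (.node (.node (.leaf 0x108598f3) (.leaf 0xb3dd8eb)) (.node (.leaf 0xdd4d8eb)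 (.leaf 0xf4758eb))) (.node (.node (.leaf 0xd6a18e5) (.leaf 0xe1dd8c5)) (.node (.leaf 0xdde58dd) (.leaf 0x0)))))) (.node (.node (.node (.node (.node (.leaf 0xde0d8dd) (.leaf 0xdf3d8f1)) (.node (.leaf 0x535d8f1) (.leaf 0xefd58f3))) (.node (.node (.leaf 0xc1358f3) (.leaf 0x127218e5)) (.node (.leaf 0xeda18dd) (.leaf 0xe40d8f3)))) (.node (.node (.node (.leaf 0x103f98e9) (.leaf 0x94798e9)) (.node (.leaf 0x90f18e9) (.leaf 0x119818eb))) (.node (.node (.leaf 0xd8718f3) (.leaf 0xdd798f1)) (.node (.leaf 0x12c1d8dd) (.leaf 0x0))))) (.node (.node (.node (.node (.leaf 0x109e58f3) (.leaf 0xa6158f3)) (.node (.leaf 0x118458c5) (.leaf 0x701d8e5))) (.node (.node (.leaf 0xd3798dd) (.leaf 0xf6898f1)) (.node (.leaf 0x82cd8c5) (.leaf 0x11f5d8f3)))) (.node (.node (.node (.leaf 0xdb3d8e9) (.leaf 0x13a298e9)) (.node (.leaf 0x18f6) (.leaf 0xe3598f1))) (.node (.node (.leaf 0x131d98eb) (.leaf 0xf3398eb))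 (.node (.leaf 0xe9798e9) (.leaf 0x0))))))) (.node (.node (.node (.node (.node (.node (.leaf 0xc42d8eb) (.leaf 0xf6898f3)) (.node (.leaf 0x14f918c5) (.leaf 0x11e898c5))) (.node (.node (.leaf 0xc4c58f1) (.leaf 0x12a8d8e5)) (.node (.leaf 0xcb458e5) (.leaf 0xba998e5)))) (.node (.node (.node (.leaf 0xc9758f1) (.leaf 0xea1d8e5)) (.node (.leaf 0x818d8e5) (.leaf 0xdfe58f1))) (.node (.node (.leaf 0x117198eb) (.leaf 0xf5818e5)) (.node (.leaf 0xc5358e9) (.leaf 0x0))))) (.node (.node (.node (.node (.leaf 0x82798f1) (.leaf 0x109198e9)) (.node (.leaf 0xc0c18e5) (.leaf 0xed998f3))) (.node (.node (.leaf 0xcc398eb) (.leaf 0x9f358eb)) (.node (.leaf 0x119458f3) (.leaf 0x12cc58dd)))) (.node (.node (.node (.leaf 0xc1658e5) (.leaf 0xcfc58eb)) (.node (.leaf 0xcbd98f3) (.leaf 0x82218e9))) (.node (.node (.leaf 0x1141d8f1) (.leaf 0xe7418e9)) (.node (.leaf 0xc14d8dd) (.leaf 0x0)))))) (.node (.node (.node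 (.node (.node (.leaf 0x94958c5) (.leaf 0x121d58e9)) (.node (.leaf 0xc4358e9) (.leaf 0x121318f1))) (.node (.node (.leaf 0x897d8dd) (.leaf 0x137b98f1)) (.node (.leaf 0xd8718e5) (.leaf 0xe7998eb)))) (.node (.node (.node (.leaf 0xc9fd8e5) (.leaf 0xa6058eb)) (.node (.leaf 0x10e698f1) (.leaf 0xeccd8dd))) (.node (.node (.leaf 0x12a7d8e9) (.leaf 0xdf298f1)) (.node (.leaf 0xfa158f1) (.leaf 0x0))))) (.node (.node (.node (.node (.leaf 0x95498e5) (.leaf 0xc6858e9)) (.node (.leaf 0x90f18f1) (.leaf 0xf13d8e5))) (.node (.node (.leaf 0x113a98f3) (.leaf 0x705d8f3)) (.node (.leaf 0x5d198f1) (.leaf 0x0)))) (.node (.node (.node (.leaf 0xdb3d8dd) (.leaf 0xee9d8c5)) (.node (.leaf 0xc1618c5) (.leaf 0x1376d8e5))) (.node (.node (.leaf 0x103f98e5) (.leaf 0x11bed8dd)) (.node (.leaf 0xc8fd8e9) (.leaf 0x0)))))))) (.node (.node (.node (.node (.node (.node (.node (.leaf 0x140698dd) (.leaf 0x1151d8e9)) (.node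 (.leaf 0x102358eb) (.leaf 0xb2358eb))) (.node (.node (.leaf 0xe5098e9) (.leaf 0xea858dd)) (.node (.leaf 0xc5358eb) (.leaf 0x132f58e9)))) (.node (.node (.node (.leaf 0x44a98f1) (.leaf 0x76f58f3)) (.node (.leaf 0xd7858e5) (.leaf 0x11fe98f1))) (.node (.node (.leaf 0xe3098eb) (.leaf 0xddfd8e9)) (.node (.leaf 0xc9758c5) (.leaf 0x0))))) (.node (.node (.node (.node (.leaf 0xf94d8dd) (.leaf 0x12c058e5)) (.node (.leaf 0xd7018e5) (.leaf 0xf1358f3))) (.node (.node (.leaf 0x135358dd) (.leaf 0x76f58f1)) (.node (.leaf 0x150498e5) (.leaf 0x136a98c5)))) (.node (.node (.node (.leaf 0x8abd8e9) (.leaf 0xc2698e9)) (.node (.leaf 0x10ed98f1) (.leaf 0xee398f3))) (.node (.node (.leaf 0x160198eb) (.leaf 0xf2f98dd)) (.node (.leaf 0xc0c18dd) (.leaf 0x0)))))) (.node (.node (.node (.node (.node (.leaf 0x81158e9) (.leaf 0x104158eb)) (.node (.leaf 0xcb0d8eb) (.leaf 0x1616d8e9))) (.node (.node (.leaf 0x1914)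 (.leaf 0x11fd18f1)) (.node (.leaf 0x11a7d8f3) (.leaf 0x1255d8f3)))) (.node (.node (.node (.leaf 0x82a58f1) (.leaf 0x12e498c5)) (.node (.leaf 0x7b2d8eb) (.leaf 0xdf1d8f1))) (.node (.node (.leaf 0xd7798f3) (.leaf 0xdfb98f1)) (.node (.leaf 0x86fd8eb) (.leaf 0x0))))) (.node (.node (.node (.node (.leaf 0x107458f1) (.leaf 0xf4758c5)) (.node (.leaf 0xd8f18eb) (.leaf 0xb6118eb))) (.node (.node (.leaf 0x8fd18c5) (.leaf 0x101fd8e9)) (.node (.leaf 0xdb3d8f1) (.leaf 0xa1118f1)))) (.node (.node (.node (.leaf 0xab898eb) (.leaf 0x101918eb)) (.node (.leaf 0x111ad8f1) (.leaf 0x16bf18f3))) (.node (.node (.leaf 0xcbdd8e5) (.leaf 0xde998f1)) (.node (.leaf 0xec198f3) (.leaf 0x0))))))) (.node (.node (.node (.node (.node (.node (.leaf 0xd2918c5) (.leaf 0xf5958f1)) (.node (.leaf 0x137418dd) (.leaf 0xddfd8f1))) (.node (.node (.leaf 0xeb518eb) (.leaf 0xf6f98f1)) (.node (.leaf 0xd8c58e5) (.leaf 0x103f98eb))))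 (.node (.node (.node (.leaf 0x104158c5) (.leaf 0x12c858f3)) (.node (.leaf 0x8b618f1) (.leaf 0x114818e9))) (.node (.node (.leaf 0xc5d18c5) (.leaf 0x121098f1)) (.node (.leaf 0x104d18dd) (.leaf 0x0))))) (.node (.node (.node (.node (.leaf 0x1361d8dd) (.leaf 0x148018eb)) (.node (.leaf 0x10c3d8f1) (.leaf 0xd7f98e9))) (.node (.node (.leaf 0xd8fd8c5) (.leaf 0xee9d8f3)) (.node (.leaf 0x113e18e9) (.leaf 0x138418c5)))) (.node (.node (.node (.leaf 0xe1918dd) (.leaf 0x131a98c5)) (.node (.leaf 0x10dfd8f1) (.leaf 0x102498e9))) (.node (.node (.leaf 0xc9fd8eb) (.leaf 0x133ad8f3)) (.node (.leaf 0xde7d8f1) (.leaf 0x0)))))) (.node (.node (.node (.node (.node (.leaf 0x11edd8dd) (.leaf 0xad618eb)) (.node (.leaf 0x130f98dd) (.leaf 0xed398f3))) (.node (.node (.leaf 0xf2dd8eb) (.leaf 0x10c658e9)) (.node (.leaf 0x9be98f3) (.leaf 0x15fbd8f1)))) (.node (.node (.node (.leaf 0x90998dd) (.leaf 0x137b98f3))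 (.node (.leaf 0xde3d8e9) (.leaf 0x134c58e5))) (.node (.node (.leaf 0xd5098dd) (.leaf 0x10ec18dd)) (.node (.leaf 0xc24d8e9) (.leaf 0x0))))) (.node (.node (.node (.node (.leaf 0x125e58e9) (.leaf 0xecf98e9)) (.node (.leaf 0xd8718dd) (.leaf 0x705d8e5))) (.node (.node (.leaf 0xa4518e9) (.leaf 0x163418eb)) (.node (.leaf 0x1067d8dd) (.leaf 0x0)))) (.node (.node (.node (.leaf 0x100818c5) (.leaf 0xe06d8e5)) (.node (.leaf 0x15cfd8c5) (.leaf 0x1175d8e9))) (.node (.node (.leaf 0x50ed8e9) (.leaf 0x105a98e9)) (.node (.leaf 0xc3418dd) (.leaf 0x0))))))))) (.node (.node (.node (.node (.node (.node (.node (.node (.leaf 0x1924) (.leaf 0x138058e9)) (.node (.leaf 0x90fd8eb) (.leaf 0xafed8f3))) (.node (.node (.leaf 0x108f58e9) (.leaf 0x16dc98f3)) (.node (.leaf 0xd3018c5) (.leaf 0x12abd8eb)))) (.node (.node (.node (.leaf 0xc6798f3) (.leaf 0x12d898eb)) (.node (.leaf 0x12bb98eb) (.leaf 0xd8fd8eb))) (.node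 (.node (.leaf 0xf0158eb) (.leaf 0x10cc58eb)) (.node (.leaf 0x845d8eb) (.leaf 0x0))))) (.node (.node (.node (.node (.leaf 0xb6318dd) (.leaf 0xee0d8dd)) (.node (.leaf 0x1246d8eb) (.leaf 0xcedd8dd))) (.node (.node (.leaf 0x135b98dd) (.leaf 0x106398e9)) (.node (.leaf 0x9c418e9) (.leaf 0xf7fd8e5)))) (.node (.node (.node (.leaf 0xa1118dd) (.leaf 0xf6f98f3)) (.node (.leaf 0x10e698f3) (.leaf 0xf3398e9))) (.node (.node (.leaf 0xd6bd8e5) (.leaf 0xaf0d8f3)) (.node (.leaf 0x16c458f3) (.leaf 0x0)))))) (.node (.node (.node (.node (.node (.leaf 0x16f718eb) (.leaf 0xd7818e9)) (.node (.leaf 0x8b018eb) (.leaf 0x123718f1))) (.node (.node (.leaf 0x89998eb) (.leaf 0xf7fd8f3)) (.node (.leaf 0x16ce18dd) (.leaf 0x103a98eb)))) (.node (.node (.node (.leaf 0x102958f1) (.leaf 0xf9c18e9)) (.node (.leaf 0xce558dd) (.leaf 0xde358f1))) (.node (.node (.leaf 0xd7818f3) (.leaf 0x117198e9)) (.node (.leaf 0x5b658e9)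 (.leaf 0x0))))) (.node (.node (.node (.node (.leaf 0x1029d8f3) (.leaf 0xc1ad8e9)) (.node (.leaf 0xd8dd8eb) (.leaf 0xea318dd))) (.node (.node (.leaf 0x94c18c5) (.leaf 0xe1918e5)) (.node (.leaf 0x191c) (.leaf 0x9f2d8f1)))) (.node (.node (.node (.leaf 0x42618eb) (.leaf 0x135858c5)) (.node (.leaf 0x125ed8dd) (.leaf 0xe0258f1))) (.node (.node (.leaf 0x10bbd8e5) (.leaf 0x167458e9)) (.node (.leaf 0x9f6d8f1) (.leaf 0x0))))))) (.node (.node (.node (.node (.node (.node (.leaf 0xc9fd8f1) (.leaf 0x5e1d8f1)) (.node (.leaf 0x10fb98c5) (.leaf 0x11e918f1))) (.node (.node (.leaf 0xc2518e5) (.leaf 0x117718dd)) (.node (.leaf 0x8b318f1) (.leaf 0x11ef18e9)))) (.node (.node (.node (.leaf 0x1918) (.leaf 0x12cc58eb)) (.node (.leaf 0x53818eb) (.leaf 0x1293d8dd))) (.node (.node (.leaf 0x11a858e5) (.leaf 0xa5fd8c5)) (.node (.leaf 0x115ed8e5) (.leaf 0x0))))) (.node (.node (.node (.node (.leaf 0xf13d8dd)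 (.leaf 0x105958e9)) (.node (.leaf 0x1477d8e9) (.leaf 0xecb18dd))) (.node (.node (.leaf 0xd7018f3) (.leaf 0x148c58eb)) (.node (.leaf 0x10cc98e5) (.leaf 0x9f358f1)))) (.node (.node (.node (.leaf 0x132258eb) (.leaf 0xeda18f3)) (.node (.leaf 0x98a58eb) (.leaf 0xf6898dd))) (.node (.node (.leaf 0x102958e5) (.leaf 0x118098eb)) (.node (.leaf 0x9f358c5) (.leaf 0x0)))))) (.node (.node (.node (.node (.node (.leaf 0x111998e5) (.leaf 0x1068d8dd)) (.node (.leaf 0xed998dd) (.leaf 0xc3958eb))) (.node (.node (.leaf 0xb2cd8eb) (.leaf 0x16f658f3)) (.node (.leaf 0x10c2d8c5) (.leaf 0x117898e9)))) (.node (.node (.node (.leaf 0xd5b98e5) (.leaf 0x120c58eb)) (.node (.leaf 0x8e598f1) (.leaf 0x1148d8eb))) (.node (.node (.leaf 0x119218f3) (.leaf 0xe44d8c5)) (.node (.leaf 0xdda58dd) (.leaf 0x0))))) (.node (.node (.node (.node (.leaf 0xc5d18f1) (.leaf 0xefd58e9)) (.node (.leaf 0xd4858dd) (.leaf 0xde958f1)))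 (.node (.node (.leaf 0xd3b18f3) (.leaf 0xde998eb)) (.node (.leaf 0x110b18e9) (.leaf 0x0)))) (.node (.node (.node (.leaf 0xe7518e9) (.leaf 0x138358f1)) (.node (.leaf 0x14af98f3) (.leaf 0x12a618e9))) (.node (.node (.leaf 0xd7758f1) (.leaf 0xa0a98f1)) (.node (.leaf 0x107a58eb) (.leaf 0x0)))))))) (.node (.node (.node (.node (.node (.node (.node (.leaf 0x1054d8f1) (.leaf 0xb6318f1)) (.node (.leaf 0xd52d8c5) (.leaf 0xe7598e9))) (.node (.node (.leaf 0x74ad8e9) (.leaf 0xea798e5)) (.node (.leaf 0x14ce18f3) (.leaf 0xb6f18eb)))) (.node (.node (.node (.leaf 0x84658dd) (.leaf 0x426d8e9)) (.node (.leaf 0xc1798c5) (.leaf 0xecf98dd))) (.node (.node (.leaf 0x145058e9) (.leaf 0x1274d8e9)) (.node (.leaf 0x84798e9) (.leaf 0x0))))) (.node (.node (.node (.node (.leaf 0x82718e5) (.leaf 0x1378d8f1)) (.node (.leaf 0xd71d8e5) (.leaf 0x134818e5))) (.node (.node (.leaf 0x1215d8e9) (.leaf 0xa11d8f1)) (.node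 (.leaf 0x139f58e9) (.leaf 0x132a98eb)))) (.node (.node (.node (.leaf 0x104158f1) (.leaf 0xe60d8f3)) (.node (.leaf 0x10bcd8f3) (.leaf 0xd7358e9))) (.node (.node (.leaf 0xc2c58eb) (.leaf 0x15af58eb)) (.node (.leaf 0x12e898f3) (.leaf 0x0)))))) (.node (.node (.node (.node (.node (.leaf 0xe62d8dd) (.leaf 0x82658e9)) (.node (.leaf 0x94958f1) (.leaf 0xdf818f1))) (.node (.node (.leaf 0x44a98f3) (.leaf 0xd7f98dd)) (.node (.leaf 0xea898eb) (.leaf 0x116518e9)))) (.node (.node (.node (.leaf 0x149e18e5) (.leaf 0x128918dd)) (.node (.leaf 0x10cc98f3) (.leaf 0x132e18e5))) (.node (.node (.leaf 0x117e98f1) (.leaf 0xdfb98e9)) (.node (.leaf 0xf06d8f1) (.leaf 0x0))))) (.node (.node (.node (.node (.leaf 0x107558f1) (.leaf 0xb5b18f1)) (.node (.leaf 0xcb2d8dd) (.leaf 0x1191d8dd))) (.node (.node (.leaf 0xd1418eb) (.leaf 0xb7058dd)) (.node (.leaf 0x5b658dd) (.leaf 0x0)))) (.node (.node (.node (.leaf 0x82858eb)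 (.leaf 0xa6158e5)) (.node (.leaf 0xe6258dd) (.leaf 0x119098eb))) (.node (.node (.leaf 0xbb1d8eb) (.leaf 0xa0798f1)) (.node (.leaf 0xc4358eb) (.leaf 0x0))))))) (.node (.node (.node (.node (.node (.node (.leaf 0xcd2d8eb) (.leaf 0x10bcd8e9)) (.node (.leaf 0x113c98f1) (.leaf 0x1230d8f1))) (.node (.node (.leaf 0xc12d8f3) (.leaf 0x11e518f1)) (.node (.leaf 0xc7858e9) (.leaf 0xe61d8f3)))) (.node (.node (.node (.leaf 0x101318f1) (.leaf 0x128418e5)) (.node (.leaf 0x1110d8e9) (.leaf 0xee0d8e9))) (.node (.node (.leaf 0x1187d8f1) (.leaf 0xb02d8f3)) (.node (.leaf 0x11ca18f1) (.leaf 0x0))))) (.node (.node (.node (.node (.leaf 0x118298e5) (.leaf 0x104b98eb)) (.node (.leaf 0x10ed98eb) (.leaf 0xb6318eb))) (.node (.node (.leaf 0x119198c5) (.leaf 0x121c18f3)) (.node (.leaf 0x15af98f3) (.leaf 0xea098eb)))) (.node (.node (.node (.leaf 0x80058f3) (.leaf 0xd85d8dd)) (.node (.leaf 0x8fd18e9) (.leaf 0x122398f1)))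 (.node (.node (.leaf 0x121d98e9) (.leaf 0xe1918e9)) (.node (.leaf 0xd74d8e9) (.leaf 0x0)))))) (.node (.node (.node (.node (.node (.leaf 0x145098f1) (.leaf 0xed518e9)) (.node (.leaf 0x119058f1) (.leaf 0x170558f3))) (.node (.node (.leaf 0xed518dd) (.leaf 0xc1b98eb)) (.node (.leaf 0x84798eb) (.leaf 0x12ef58dd)))) (.node (.node (.node (.leaf 0xf6218e9) (.leaf 0x1369d8dd)) (.node (.leaf 0x10bf18f1) (.leaf 0x129118e9))) (.node (.node (.leaf 0xd4e18e9) (.leaf 0x13add8dd)) (.node (.leaf 0xde058dd) (.leaf 0x0))))) (.node (.node (.node (.node (.leaf 0xd8718c5) (.leaf 0x1121d8dd)) (.node (.leaf 0xdadd8eb) (.leaf 0x110a58eb))) (.node (.node (.leaf 0xe2fd8e9) (.leaf 0x133798e9)) (.node (.leaf 0x40618c5) (.leaf 0x0)))) (.node (.node (.node (.leaf 0x117a58eb) (.leaf 0xe40d8eb)) (.node (.leaf 0xf3b98dd) (.leaf 0x136ad8e5))) (.node (.node (.leaf 0x94a98f1) (.leaf 0xe40d8e9)) (.node (.leaf 0xe04d8e9)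 (.leaf 0x0))))))))))

/-- packed table -/
noncomputable def cov11_lrr : BTree := (.node (.node (.node (.node (.node (.node (.node (.node (.node (.leaf 0x9b698eb) (.leaf 0x103f98dd)) (.node (.leaf 0xd6a18dd) (.leaf 0x11e018c5))) (.node (.node (.leaf 0xcf158c5) (.leaf 0x1284d8f3)) (.node (.leaf 0xf64d8e9) (.leaf 0x128098f3)))) (.node (.node (.node (.leaf 0xc2298f1) (.leaf 0x125c18c5)) (.node (.leaf 0x119c58eb) (.leaf 0xd80d8dd))) (.node (.node (.leaf 0x139358eb) (.leaf 0xa8798e9)) (.node (.leaf 0xc4958e5) (.leaf 0x0))))) (.node (.node (.node (.node (.leaf 0x10d418e9) (.leaf 0xe8518eb)) (.node (.leaf 0x15cad8eb) (.leaf 0x106b98e9))) (.node (.node (.leaf 0xefa98eb) (.leaf 0x1637d8c5)) (.node (.leaf 0x49358e5) (.leaf 0x132e18dd)))) (.node (.node (.node (.leaf 0xa11d8dd) (.leaf 0x1307d8eb)) (.node (.leaf 0xeda18e9) (.leaf 0x109e58e9))) (.node (.node (.leaf 0xd4a18dd) (.leaf 0x1173d8e9))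 (.node (.leaf 0x7b2d8e9) (.leaf 0x0)))))) (.node (.node (.node (.node (.node (.leaf 0xd1818e5) (.leaf 0xfa9d8eb)) (.node (.leaf 0x53818e5) (.leaf 0x103ad8e9))) (.node (.node (.leaf 0xc8958f1) (.leaf 0x1279d8e9)) (.node (.leaf 0xd3b18dd) (.leaf 0xf8918e5)))) (.node (.node (.node (.leaf 0x119218e5) (.leaf 0x166a18f3)) (.node (.leaf 0x155398eb) (.leaf 0xea898f3))) (.node (.node (.leaf 0x1179d8f3) (.leaf 0xc21d8e9)) (.node (.leaf 0x1930) (.leaf 0x0))))) (.node (.node (.node (.node (.leaf 0x14a258eb) (.leaf 0xed598c5)) (.node (.leaf 0x107718e5) (.leaf 0xe7598f3))) (.node (.node (.leaf 0xd3858dd) (.leaf 0x134698c5)) (.node (.leaf 0xc2c58c5) (.leaf 0x76f58c5)))) (.node (.node (.node (.leaf 0x9b358eb) (.leaf 0x11fc58c5)) (.node (.leaf 0xe6098dd) (.leaf 0xea798dd))) (.node (.node (.leaf 0xb8fd8dd) (.leaf 0x12c158c5)) (.node (.leaf 0x11acd8dd) (.leaf 0x0))))))) (.node (.node (.node (.node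 (.node (.node (.leaf 0xdd798eb) (.leaf 0xb6118f1)) (.node (.leaf 0x57098f1) (.leaf 0x10aad8eb))) (.node (.node (.leaf 0xc4e18f1) (.leaf 0x815d8e9)) (.node (.leaf 0x10b158f1) (.leaf 0xd1858eb)))) (.node (.node (.node (.leaf 0x898d8f1) (.leaf 0x12f258dd)) (.node (.leaf 0x819d8e5) (.leaf 0x123d58c5))) (.node (.node (.leaf 0x12d0d8dd) (.leaf 0xc2558e9)) (.node (.leaf 0xc51d8c5) (.leaf 0x0))))) (.node (.node (.node (.node (.leaf 0xd71d8dd) (.leaf 0xcbdd8e9)) (.node (.leaf 0x100e98c5) (.leaf 0xe6098f3))) (.node (.node (.leaf 0x117158f3) (.leaf 0x123718e9)) (.node (.leaf 0xe3698dd) (.leaf 0x7b2d8c5)))) (.node (.node (.node (.leaf 0x145218f3) (.leaf 0x164f98f3)) (.node (.leaf 0xce018e5) (.leaf 0x1369d8e5))) (.node (.node (.leaf 0x114158f1) (.leaf 0xf6218f1)) (.node (.leaf 0x81598dd) (.leaf 0x0)))))) (.node (.node (.node (.node (.node (.leaf 0x81158f1) (.leaf 0x121f98e9)) (.node (.leaf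 0xc1b58c5) (.leaf 0xb17d8f1))) (.node (.node (.leaf 0x49958dd) (.leaf 0xf3998f1)) (.node (.leaf 0x136a98e9) (.leaf 0xc5498e9)))) (.node (.node (.node (.leaf 0x13af58dd) (.leaf 0xefd58dd)) (.node (.leaf 0xf0258eb) (.leaf 0xc1b18e9))) (.node (.node (.leaf 0x119098f3) (.leaf 0xa4698c5)) (.node (.leaf 0x1023d8e9) (.leaf 0x0))))) (.node (.node (.node (.node (.leaf 0x95558e5) (.leaf 0xe7418eb)) (.node (.leaf 0xcbad8f1) (.leaf 0x91a58e9))) (.node (.node (.leaf 0x103a98e9) (.leaf 0xde958eb)) (.node (.leaf 0xed598dd) (.leaf 0x0)))) (.node (.node (.node (.leaf 0xe8cd8e9) (.leaf 0x9f118f1)) (.node (.leaf 0x815d8c5) (.leaf 0x117a18dd))) (.node (.node (.leaf 0x1179d8f1) (.leaf 0xdb9d8dd)) (.node (.leaf 0x114698e9) (.leaf 0x0)))))))) (.node (.node (.node (.node (.node (.node (.node (.leaf 0xc5358f1) (.leaf 0xf8918f1)) (.node (.leaf 0x82218eb) (.leaf 0x11a858dd))) (.node (.node (.leaf 0xd7fd8e5)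 (.leaf 0x124ed8e5)) (.node (.leaf 0xd61d8e9) (.leaf 0xe5098f1)))) (.node (.node (.node (.leaf 0x892d8f3) (.leaf 0xfaa98e9)) (.node (.leaf 0xd7998e5) (.leaf 0xd64d8dd))) (.node (.node (.leaf 0x112d98f3) (.leaf 0x102458e9)) (.node (.leaf 0x9a198eb) (.leaf 0x0))))) (.node (.node (.node (.node (.leaf 0x1956) (.leaf 0x108f18e9)) (.node (.leaf 0x176018eb) (.leaf 0x134718e5))) (.node (.node (.leaf 0xc2518f3) (.leaf 0x1143d8e9)) (.node (.leaf 0xd0598e5) (.leaf 0xea318e9)))) (.node (.node (.node (.leaf 0xc1358e5) (.leaf 0x1310d8e9)) (.node (.leaf 0xc4c58e9) (.leaf 0x131a98dd))) (.node (.node (.leaf 0x40618e5) (.leaf 0x169d98c5)) (.node (.leaf 0x102358e9) (.leaf 0x0)))))) (.node (.node (.node (.node (.node (.leaf 0x40618e9) (.leaf 0xa4698f3)) (.node (.leaf 0xd6e58f3) (.leaf 0xf13d8f1))) (.node (.node (.leaf 0x896d8f3) (.leaf 0xa5958e5)) (.node (.leaf 0x12af58dd) (.leaf 0xee3d8eb)))) (.node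 (.node (.node (.leaf 0x82b98f1) (.leaf 0x123ad8e9)) (.node (.leaf 0xe62d8eb) (.leaf 0xb2cd8e5))) (.node (.node (.leaf 0xe8c18dd) (.leaf 0xb3098e9)) (.node (.leaf 0xfa718f1) (.leaf 0x0))))) (.node (.node (.node (.node (.leaf 0xcbd98e9) (.leaf 0x9f2d8e5)) (.node (.leaf 0x90f18e5) (.leaf 0xd7958dd))) (.node (.node (.leaf 0xd8c58f1) (.leaf 0x701d8f3)) (.node (.leaf 0x9d398eb) (.leaf 0x0)))) (.node (.node (.node (.leaf 0xe8218eb) (.leaf 0xa6058e5)) (.node (.leaf 0x139198e9) (.leaf 0xe8c58f3))) (.node (.node (.leaf 0x1296d8e9) (.leaf 0x16c358f3)) (.node (.leaf 0xb02d8dd) (.leaf 0x0))))))) (.node (.node (.node (.node (.node (.node (.leaf 0xd2a18e5) (.leaf 0xaf0d8dd)) (.node (.leaf 0x10ec98dd) (.leaf 0x12cf58e5))) (.node (.node (.leaf 0x102058f1) (.leaf 0xf3b98f1)) (.node (.leaf 0xd8d58e5) (.leaf 0xe67d8f1)))) (.node (.node (.node (.leaf 0x815d8f1) (.leaf 0xf8518f3)) (.node (.leaf 0x911d8e9)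 (.leaf 0x129c58f3))) (.node (.node (.leaf 0x12fc58e9) (.leaf 0xec198dd)) (.node (.leaf 0xdd4d8e9) (.leaf 0x0))))) (.node (.node (.node (.node (.leaf 0x11e018e9) (.leaf 0x172198e9)) (.node (.leaf 0xdb0d8e5) (.leaf 0x12b9d8eb))) (.node (.node (.leaf 0x119098c5) (.leaf 0xf8918f3)) (.node (.leaf 0x11b198f3) (.leaf 0x104b58eb)))) (.node (.node (.node (.leaf 0x9d358e9) (.leaf 0x112b58e9)) (.node (.leaf 0x8fd58dd) (.leaf 0xe4d58f1))) (.node (.node (.leaf 0xc2c58e5) (.leaf 0x701d8e9)) (.node (.leaf 0xf64d8f1) (.leaf 0x0)))))) (.node (.node (.node (.node (.node (.leaf 0xf5958eb) (.leaf 0xc8618e9)) (.node (.leaf 0x119118f1) (.leaf 0xe67d8dd))) (.node (.node (.leaf 0xcecd8e9) (.leaf 0x134818eb)) (.node (.leaf 0x44a98eb) (.leaf 0x11acd8e9)))) (.node (.node (.node (.leaf 0xdd858e9) (.leaf 0x134dd8c5)) (.node (.leaf 0x12f998e9) (.leaf 0x104318eb))) (.node (.node (.leaf 0xd4d58e9) (.leaf 0x12bb98c5))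 (.node (.leaf 0xe8ad8e5) (.leaf 0x0))))) (.node (.node (.node (.node (.leaf 0x11e518eb) (.leaf 0xc28d8e9)) (.node (.leaf 0x1166d8c5) (.leaf 0x134818f1))) (.node (.node (.leaf 0xa4b18e9) (.leaf 0x10a098e9)) (.node (.leaf 0xefa98dd) (.leaf 0x0)))) (.node (.node (.node (.leaf 0x117b58eb) (.leaf 0x11e458c5)) (.node (.leaf 0x107ed8e9) (.leaf 0xe8998f3))) (.node (.node (.leaf 0xd4e18e5) (.leaf 0x1361d8f1)) (.node (.leaf 0x132a98c5) (.leaf 0x0))))))))) (.node (.node (.node (.node (.node (.node (.node (.node (.leaf 0x86f98e9) (.leaf 0x12c0d8f3)) (.node (.leaf 0xd4e18f3) (.leaf 0x129298eb))) (.node (.node (.leaf 0x117e98c5) (.leaf 0xe4d58e5)) (.node (.leaf 0xcbdd8f1) (.leaf 0x13ac18c5)))) (.node (.node (.node (.leaf 0x44758e9) (.leaf 0x106058eb)) (.node (.leaf 0xd7758e5) (.leaf 0x132e18f1))) (.node (.node (.leaf 0xaed98dd) (.leaf 0x15b8d8e9)) (.node (.leaf 0xdc598dd) (.leaf 0x0))))) (.node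 (.node (.node (.node (.leaf 0x12a818dd) (.leaf 0xe4f18e9)) (.node (.leaf 0x110698f3) (.leaf 0xcf158dd))) (.node (.node (.leaf 0x10cfd8e5) (.leaf 0x122418f1)) (.node (.leaf 0xdc698e9) (.leaf 0x11f698eb)))) (.node (.node (.node (.leaf 0xc1ad8f3) (.leaf 0x130f98f1)) (.node (.leaf 0x104d18e9) (.leaf 0xdd9d8c5))) (.node (.node (.leaf 0xe4d58e9) (.leaf 0xad618e9)) (.node (.leaf 0x11edd8f1) (.leaf 0x0)))))) (.node (.node (.node (.node (.node (.leaf 0x81518e9) (.leaf 0xea1d8f1)) (.node (.leaf 0x10b158eb) (.leaf 0x126b18dd))) (.node (.node (.leaf 0xc9758f3) (.leaf 0x172d98f1)) (.node (.leaf 0x132398eb) (.leaf 0xe0998eb)))) (.node (.node (.node (.leaf 0x142c98f1) (.leaf 0x115a58dd)) (.node (.leaf 0x10e698dd) (.leaf 0xf1a58e9))) (.node (.node (.leaf 0xd7958f3) (.leaf 0xaed98e5)) (.node (.leaf 0x40298e5) (.leaf 0x0))))) (.node (.node (.node (.node (.leaf 0x82b98f3) (.leaf 0x121b58e5)) (.node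 (.leaf 0xd8d58eb) (.leaf 0xa8798f3))) (.node (.node (.leaf 0x8b358e5) (.leaf 0xe61d8c5)) (.node (.leaf 0x5b418e5) (.leaf 0x1207d8f3)))) (.node (.node (.node (.leaf 0x87298f1) (.leaf 0xcbad8dd)) (.node (.leaf 0xcf158f3) (.leaf 0xe6258f1))) (.node (.node (.leaf 0x10bd18e5) (.leaf 0x14d958e9)) (.node (.leaf 0x10bb98e9) (.leaf 0x0))))))) (.node (.node (.node (.node (.node (.node (.leaf 0xd2858c5) (.leaf 0x1bc4)) (.node (.leaf 0x11a598e9) (.leaf 0x11e018eb))) (.node (.node (.leaf 0x142158f1) (.leaf 0x169d98eb)) (.node (.leaf 0xd6bd8e9) (.leaf 0xd1918eb)))) (.node (.node (.node (.leaf 0xc14d8f1) (.leaf 0xf5598e9)) (.node (.leaf 0x8fd18f3) (.leaf 0xb4bd8f1))) (.node (.node (.leaf 0x1154d8f1) (.leaf 0x1022d8e9)) (.node (.leaf 0x99798f1) (.leaf 0x0))))) (.node (.node (.node (.node (.leaf 0x42758dd) (.leaf 0x175f58c5)) (.node (.leaf 0xdaed8e5) (.leaf 0x100b58e9))) (.node (.node (.leaf 0xd71d8f3)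 (.leaf 0xd2918e9)) (.node (.leaf 0x16b198eb) (.leaf 0x1382d8c5)))) (.node (.node (.node (.leaf 0xc51d8f3) (.leaf 0x60b98e9)) (.node (.leaf 0xd8918eb) (.leaf 0xe5658f1))) (.node (.node (.leaf 0x82a18e5) (.leaf 0xf59d8f1)) (.node (.leaf 0x16be58f3) (.leaf 0x0)))))) (.node (.node (.node (.node (.node (.leaf 0xbb198dd) (.leaf 0xc6798dd)) (.node (.leaf 0x117618f3) (.leaf 0x129318eb))) (.node (.node (.leaf 0x11ed58eb) (.leaf 0x126b18c5)) (.node (.leaf 0x15af58f1) (.leaf 0xdd518f3)))) (.node (.node (.node (.leaf 0xde0d8eb) (.leaf 0x9f358e9)) (.node (.leaf 0xb43d8eb) (.leaf 0xee9d8f1))) (.node (.node (.leaf 0xd9018f3) (.leaf 0xe56d8f3)) (.node (.leaf 0xf6a58f3) (.leaf 0x0))))) (.node (.node (.node (.node (.leaf 0x155758e5) (.leaf 0x12e158e9)) (.node (.leaf 0x11bed8e5) (.leaf 0xb43d8f1))) (.node (.node (.leaf 0xe7598dd) (.leaf 0xde758eb)) (.node (.leaf 0x1109d8e9) (.leaf 0x0)))) (.node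 (.node (.node (.leaf 0xc90d8e9) (.leaf 0xf4758f1)) (.node (.leaf 0x110558f1) (.leaf 0xd7798dd))) (.node (.node (.leaf 0xddfd8eb) (.leaf 0x16ba58f3)) (.node (.leaf 0x9d8d8f1) (.leaf 0x0)))))))) (.node (.node (.node (.node (.node (.node (.node (.leaf 0xc5598eb) (.leaf 0x5ead8f1)) (.node (.leaf 0x142398eb) (.leaf 0xd52d8eb))) (.node (.node (.leaf 0x82218e5) (.leaf 0x72418c5)) (.node (.leaf 0x12e858e9) (.leaf 0x1215d8eb)))) (.node (.node (.node (.leaf 0x49358c5) (.leaf 0x106758e9)) (.node (.leaf 0x76f58dd) (.leaf 0x10e698eb))) (.node (.node (.leaf 0x118258f1) (.leaf 0xc9118eb)) (.node (.leaf 0x12ca18e9) (.leaf 0x0))))) (.node (.node (.node (.node (.leaf 0x42758e5) (.leaf 0x159bd8eb)) (.node (.leaf 0xe4358dd) (.leaf 0x164e98f3))) (.node (.node (.leaf 0xc6858f1) (.leaf 0x9f2d8eb)) (.node (.leaf 0x11cdd8f1) (.leaf 0x1378d8c5)))) (.node (.node (.node (.leaf 0x81518e5) (.leaf 0xc2898e9))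 (.node (.leaf 0x10bb58f3) (.leaf 0x13ae98c5))) (.node (.node (.leaf 0x114098f3) (.leaf 0x16bf18dd)) (.node (.leaf 0x141418dd) (.leaf 0x0)))))) (.node (.node (.node (.node (.node (.leaf 0x92518e9) (.leaf 0xe1f58e9)) (.node (.leaf 0x10c318dd) (.leaf 0xe9798c5))) (.node (.node (.leaf 0xdbfd8eb) (.leaf 0xab898e9)) (.node (.leaf 0x76f58eb) (.leaf 0xc8798e9)))) (.node (.node (.node (.leaf 0x137858eb) (.leaf 0xe60d8eb)) (.node (.leaf 0xdf818e9) (.leaf 0xee518dd))) (.node (.node (.leaf 0xd4898f3) (.leaf 0x12b998eb)) (.node (.leaf 0x9ded8f1) (.leaf 0x0))))) (.node (.node (.node (.node (.leaf 0xc7698f1) (.leaf 0xea858eb)) (.node (.leaf 0x911d8f1) (.leaf 0xf1358e5))) (.node (.node (.leaf 0xc4d98e9) (.leaf 0xa0418f3)) (.node (.leaf 0xc6f18c5) (.leaf 0x0)))) (.node (.node (.node (.leaf 0x103598f3) (.leaf 0xc17d8eb)) (.node (.leaf 0x82a58e9) (.leaf 0x139098dd))) (.node (.node (.leaf 0x116198f3)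 (.leaf 0x76418f1)) (.node (.leaf 0x13a358e9) (.leaf 0x0))))))) (.node (.node (.node (.node (.node (.node (.leaf 0x819d8f3) (.leaf 0x15cf18eb)) (.node (.leaf 0xd3898f1) (.leaf 0xc3958e9))) (.node (.node (.leaf 0xc14d8f3) (.leaf 0x167fd8c5)) (.node (.leaf 0x112698dd) (.leaf 0xe40d8f1)))) (.node (.node (.node (.leaf 0xd9018e5) (.leaf 0x1284d8e5)) (.node (.leaf 0x98a58c5) (.leaf 0x106558e9))) (.node (.node (.leaf 0xd8518f3) (.leaf 0xa4b18f3)) (.node (.leaf 0x15bad8e9) (.leaf 0x0))))) (.node (.node (.node (.node (.leaf 0xc7698c5) (.leaf 0xcf198eb)) (.node (.leaf 0x134698e9) (.leaf 0xb3dd8f1))) (.node (.node (.leaf 0x11ca18e5) (.leaf 0x11ee98f1)) (.node (.leaf 0x11b018dd) (.leaf 0xe8c18e9)))) (.node (.node (.node (.leaf 0x40298f3) (.leaf 0x126118f3)) (.node (.leaf 0x8fd58e9) (.leaf 0xbb198e5))) (.node (.node (.leaf 0xc80d8c5) (.leaf 0xb3418eb)) (.node (.leaf 0x138958eb) (.leaf 0x0))))))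 (.node (.node (.node (.node (.node (.leaf 0xcd2d8e9) (.leaf 0xc9158e9)) (.node (.leaf 0x119218f1) (.leaf 0xc12d8e9))) (.node (.node (.leaf 0x10be58c5) (.leaf 0xe0358e5)) (.node (.leaf 0xc4958eb) (.leaf 0x11ae18e9)))) (.node (.node (.node (.leaf 0x117a18e9) (.leaf 0x57098dd)) (.node (.leaf 0x14f898f1) (.leaf 0xee3d8f1))) (.node (.node (.leaf 0x8b018e9) (.leaf 0xe1f58c5)) (.node (.leaf 0x12af58f3) (.leaf 0x0))))) (.node (.node (.node (.node (.leaf 0xd8658c5) (.leaf 0x125818f3)) (.node (.leaf 0xf6a58e9) (.leaf 0xf2dd8f1))) (.node (.node (.leaf 0xf1718eb) (.leaf 0xb6ed8f3)) (.node (.leaf 0x16cc98dd) (.leaf 0x0)))) (.node (.node (.node (.leaf 0xc6198f3) (.leaf 0xf4f58c5)) (.node (.leaf 0x88698c5) (.leaf 0x126898f1))) (.node (.node (.leaf 0xd3858e9) (.leaf 0xed658e9)) (.node (.leaf 0x136658f3) (.leaf 0x0))))))))))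

/-- packed table -/
noncomputable def cov11_rll : BTree := (.node (.node (.node (.node (.node (.node (.node (.node (.node (.leaf 0x5d198e5) (.leaf 0x136158f1)) (.node (.leaf 0x50ed8eb) (.leaf 0xeca58e5))) (.node (.node (.leaf 0x10ef18e5) (.leaf 0xf7958f1)) (.node (.leaf 0xd1858f1) (.leaf 0xfa158c5)))) (.node (.node (.node (.leaf 0x106898f3) (.leaf 0x121b58f1)) (.node (.leaf 0xe78d8eb) (.leaf 0x10fad8eb))) (.node (.node (.leaf 0xe78d8dd) (.leaf 0xc5498dd)) (.node (.leaf 0x9c4d8f3) (.leaf 0x0))))) (.node (.node (.node (.node (.leaf 0xc51d8f1) (.leaf 0x14f918eb)) (.node (.leaf 0x16e318eb) (.leaf 0xc14d8e9))) (.node (.node (.leaf 0xcbdd8c5) (.leaf 0x14f898dd)) (.node (.leaf 0xda0d8e9) (.leaf 0xd7998dd)))) (.node (.node (.node (.leaf 0xc1998f1) (.leaf 0x705d8eb)) (.node (.leaf 0x10f618f1) (.leaf 0xe06d8f1))) (.node (.node (.leaf 0xd8c58e9) (.leaf 0xcb818e9)) (.node (.leaf 0x82918e9)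 (.leaf 0x0)))))) (.node (.node (.node (.node (.node (.leaf 0xde358dd) (.leaf 0x134258f3)) (.node (.leaf 0xd0358e9) (.leaf 0xceb58eb))) (.node (.node (.leaf 0x101318f3) (.leaf 0x132d58f1)) (.node (.leaf 0xc8798eb) (.leaf 0x11ddd8f1)))) (.node (.node (.node (.leaf 0x119058e5) (.leaf 0x1156d8dd)) (.node (.leaf 0x8b118f3) (.leaf 0xed518eb))) (.node (.node (.leaf 0xd8718f1) (.leaf 0xec918f3)) (.node (.leaf 0x130dd8eb) (.leaf 0x0))))) (.node (.node (.node (.node (.leaf 0xc7618c5) (.leaf 0xed5d8c5)) (.node (.leaf 0xdd9d8eb) (.leaf 0x12eb18f3))) (.node (.node (.leaf 0x94a98c5) (.leaf 0xf3498eb)) (.node (.leaf 0xdaf18dd) (.leaf 0xe0ad8f3)))) (.node (.node (.node (.leaf 0x5d198e9) (.leaf 0x119058eb)) (.node (.leaf 0x10f3d8e9) (.leaf 0x60b98f1))) (.node (.node (.leaf 0x106618eb) (.leaf 0x120c58c5)) (.node (.leaf 0x1065d8e9) (.leaf 0x0))))))) (.node (.node (.node (.node (.node (.node (.leaf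 0xc1998eb) (.leaf 0xf9458e9)) (.node (.leaf 0xdba58eb) (.leaf 0x11e818c5))) (.node (.node (.leaf 0x178b18eb) (.leaf 0x12c158eb)) (.node (.leaf 0xd1418dd) (.leaf 0xdea98f1)))) (.node (.node (.node (.leaf 0x49958f1) (.leaf 0x131d98f1)) (.node (.leaf 0x818d8c5) (.leaf 0xde058f1))) (.node (.node (.leaf 0x118418f1) (.leaf 0xc9158eb)) (.node (.leaf 0xeca58e9) (.leaf 0x0))))) (.node (.node (.node (.node (.leaf 0x42758f3) (.leaf 0x10ab98e9)) (.node (.leaf 0xace58e9) (.leaf 0x12c718f3))) (.node (.node (.leaf 0x1022d8f3) (.leaf 0xa8798e5)) (.node (.leaf 0xd5b98c5) (.leaf 0xe7418f3)))) (.node (.node (.node (.leaf 0x815d8e5) (.leaf 0x1382d8e9)) (.node (.leaf 0x10bd58f3) (.leaf 0x166e58e9))) (.node (.node (.leaf 0x12da98dd) (.leaf 0xd0598dd)) (.node (.leaf 0x101318dd) (.leaf 0x0)))))) (.node (.node (.node (.node (.node (.leaf 0xd47d8e5) (.leaf 0x161f18e9)) (.node (.leaf 0x81158e5) (.leaf 0x131058e5)))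 (.node (.node (.leaf 0xc9818dd) (.leaf 0x177998f1)) (.node (.leaf 0x16aad8dd) (.leaf 0xf64d8e5)))) (.node (.node (.node (.leaf 0xc74d8f3) (.leaf 0xe8ad8dd)) (.node (.leaf 0x10ce58eb) (.leaf 0xca7d8dd))) (.node (.node (.leaf 0x107e58e9) (.leaf 0x168858f1)) (.node (.leaf 0xba998f1) (.leaf 0x0))))) (.node (.node (.node (.node (.leaf 0xe0358dd) (.leaf 0x115dd8e9)) (.node (.leaf 0x90fd8f3) (.leaf 0x160198f1))) (.node (.node (.leaf 0x152e98f1) (.leaf 0x1694d8eb)) (.node (.leaf 0x87058e5) (.leaf 0x0)))) (.node (.node (.node (.leaf 0x98a58e9) (.leaf 0x10c0d8dd)) (.node (.leaf 0x82a18e9) (.leaf 0xf9458c5))) (.node (.node (.leaf 0x16a018dd) (.leaf 0x124218c5)) (.node (.leaf 0xfa8d8dd) (.leaf 0x0)))))))) (.node (.node (.node (.node (.node (.node (.node (.leaf 0xc5498f1) (.leaf 0x102a98eb)) (.node (.leaf 0x102458eb) (.leaf 0x104c18eb))) (.node (.node (.leaf 0x117e98e5) (.leaf 0x123618eb))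 (.node (.leaf 0xc5498eb) (.leaf 0x10d758e9)))) (.node (.node (.node (.leaf 0x89418f3) (.leaf 0xd3018eb)) (.node (.leaf 0x117898e5) (.leaf 0xe1698f1))) (.node (.node (.leaf 0x112b58f3) (.leaf 0x103ad8eb)) (.node (.leaf 0xdc698dd) (.leaf 0x0))))) (.node (.node (.node (.node (.leaf 0xd05d8dd) (.leaf 0xc5e58e9)) (.node (.leaf 0xd6fd8e5) (.leaf 0x121018dd))) (.node (.node (.leaf 0x116198c5) (.leaf 0x138dd8e9)) (.node (.leaf 0x150458e5) (.leaf 0x13a418e5)))) (.node (.node (.node (.leaf 0x121158dd) (.leaf 0x1166d8e9)) (.node (.leaf 0x103318c5) (.leaf 0x129d58e9))) (.node (.node (.leaf 0x116558f1) (.leaf 0xc0a58eb)) (.node (.leaf 0xc66d8e9) (.leaf 0x0)))))) (.node (.node (.node (.node (.node (.leaf 0x5e1d8e9) (.leaf 0xcbc98e9)) (.node (.leaf 0xd1418c5) (.leaf 0x121618f1))) (.node (.node (.leaf 0x84ad8c5) (.leaf 0x134698eb)) (.node (.leaf 0xc8798dd) (.leaf 0x91a58dd)))) (.node (.node (.node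 (.leaf 0x82a18f1) (.leaf 0xee3d8c5)) (.node (.leaf 0x124ed8e9) (.leaf 0x16f058e5))) (.node (.node (.leaf 0xd7758f3) (.leaf 0xe1c98f1)) (.node (.leaf 0x801d8c5) (.leaf 0x0))))) (.node (.node (.node (.node (.leaf 0x82a18f3) (.leaf 0xc9a98dd)) (.node (.leaf 0xd8bd8eb) (.leaf 0xea898c5))) (.node (.node (.leaf 0x8fd58c5) (.leaf 0xee398f1)) (.node (.leaf 0x5b418f1) (.leaf 0x1207d8f1)))) (.node (.node (.node (.leaf 0xf57d8e9) (.leaf 0x10be58dd)) (.node (.leaf 0x126498dd) (.leaf 0x121458f1))) (.node (.node (.leaf 0xcbe18e5) (.leaf 0x132258e5)) (.node (.leaf 0xe59d8eb) (.leaf 0x0))))))) (.node (.node (.node (.node (.node (.node (.leaf 0xee1d8e9) (.leaf 0xe6918dd)) (.node (.leaf 0xd3018f3) (.leaf 0x12d118f3))) (.node (.node (.leaf 0x1151d8e5) (.leaf 0x81458e9)) (.node (.leaf 0x90fd8dd) (.leaf 0x137b98c5)))) (.node (.node (.node (.leaf 0x81458f1) (.leaf 0xf0258dd)) (.node (.leaf 0x8b318c5)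 (.leaf 0xc8618eb))) (.node (.node (.leaf 0xcd2d8dd) (.leaf 0xea098f1)) (.node (.leaf 0x10cfd8c5) (.leaf 0x0))))) (.node (.node (.node (.node (.leaf 0xb3dd8dd) (.leaf 0x171198e9)) (.node (.leaf 0x11b018e5) (.leaf 0x118058e9))) (.node (.node (.leaf 0x112d98dd) (.leaf 0xe3698f1)) (.node (.leaf 0x11b018f3) (.leaf 0x138358c5)))) (.node (.node (.node (.leaf 0x132158eb) (.leaf 0xe0d98e9)) (.node (.leaf 0xd8a18eb) (.leaf 0x11ae18dd))) (.node (.node (.leaf 0x1085d8dd) (.leaf 0xc1998e9)) (.node (.leaf 0x16ffd8eb) (.leaf 0x0)))))) (.node (.node (.node (.node (.node (.leaf 0xc6298f1) (.leaf 0xd3b18eb)) (.node (.leaf 0xd2a18f1) (.leaf 0x119458eb))) (.node (.node (.leaf 0x100a98f1) (.leaf 0xe8b58e9)) (.node (.leaf 0xdb0d8f1) (.leaf 0xe0818f1)))) (.node (.node (.node (.leaf 0x10cc58c5) (.leaf 0xa6b98e5)) (.node (.leaf 0xf4b98dd) (.leaf 0xb4bd8e5))) (.node (.node (.leaf 0x8fc98dd) (.leaf 0x14ca98eb))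 (.node (.leaf 0xc3118eb) (.leaf 0x0))))) (.node (.node (.node (.node (.leaf 0x13aa58eb) (.leaf 0xd64d8e9)) (.node (.leaf 0xd5a18dd) (.leaf 0x123318e9))) (.node (.node (.leaf 0x120f18e9) (.leaf 0x10f498e9)) (.node (.leaf 0x106058dd) (.leaf 0x0)))) (.node (.node (.node (.leaf 0x100858c5) (.leaf 0xe1ad8f1)) (.node (.leaf 0x1106d8f1) (.leaf 0x132158e9))) (.node (.node (.leaf 0x92518f3) (.leaf 0xe62d8c5)) (.node (.leaf 0xc3398dd) (.leaf 0x0))))))))) (.node (.node (.node (.node (.node (.node (.node (.node (.leaf 0x9d358e5) (.leaf 0x94798eb)) (.node (.leaf 0x91158eb) (.leaf 0xb2cd8f3))) (.node (.node (.leaf 0x100dd8f1) (.leaf 0x138758dd)) (.node (.leaf 0xcbc98f1) (.leaf 0x139ad8c5)))) (.node (.node (.node (.leaf 0xc6818f3) (.leaf 0x1067d8eb)) (.node (.leaf 0x10aed8e9) (.leaf 0xeccd8eb))) (.node (.node (.leaf 0x178b18e9) (.leaf 0xe0818c5)) (.node (.leaf 0x896d8e9) (.leaf 0x0))))) (.node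 (.node (.node (.node (.leaf 0x11e898eb) (.leaf 0xcd4d8eb)) (.node (.leaf 0x12cfd8eb) (.leaf 0xf7958dd))) (.node (.node (.leaf 0x103f98f1) (.leaf 0xd4898dd)) (.node (.leaf 0x89418e5) (.leaf 0x11ed58f1)))) (.node (.node (.node (.leaf 0x121318dd) (.leaf 0xbb318eb)) (.node (.leaf 0x10c318e5) (.leaf 0x122b18f1))) (.node (.node (.leaf 0x94a98dd) (.leaf 0x11e718e9)) (.node (.leaf 0xe44d8e5) (.leaf 0x0)))))) (.node (.node (.node (.node (.node (.leaf 0xc1798f3) (.leaf 0x1310d8f1)) (.node (.leaf 0x535d8f3) (.leaf 0xceb58dd))) (.node (.node (.leaf 0x44758c5) (.leaf 0x1381d8f3)) (.node (.leaf 0xb3098dd) (.leaf 0x11e718f1)))) (.node (.node (.node (.leaf 0xd9258e5) (.leaf 0x160198e5)) (.node (.leaf 0x11ef18eb) (.leaf 0x14ca18e9))) (.node (.node (.leaf 0x1177d8f3) (.leaf 0x12bcd8c5)) (.node (.leaf 0x9b698e9) (.leaf 0x0))))) (.node (.node (.node (.node (.leaf 0xc2ad8f3) (.leaf 0xe4d58c5)) (.node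 (.leaf 0xcb6d8dd) (.leaf 0x138218dd))) (.node (.node (.leaf 0xd36d8dd) (.leaf 0x11e898f1)) (.node (.leaf 0x87298eb) (.leaf 0x9f2d8f3)))) (.node (.node (.node (.leaf 0x87418f3) (.leaf 0xf57d8c5)) (.node (.leaf 0xe60d8dd) (.leaf 0xcd5d8e9))) (.node (.node (.leaf 0x10bc18e5) (.leaf 0xe8b58f1)) (.node (.leaf 0x174ed8dd) (.leaf 0x0))))))) (.node (.node (.node (.node (.node (.node (.leaf 0xa0798eb) (.leaf 0x12a518f1)) (.node (.leaf 0xd71d8f1) (.leaf 0x132a98e5))) (.node (.node (.leaf 0xc2558e5) (.leaf 0xd4558e9)) (.node (.leaf 0x42598dd) (.leaf 0x121198f1)))) (.node (.node (.node (.leaf 0x845d8f3) (.leaf 0xace58eb)) (.node (.leaf 0x94a98e5) (.leaf 0x113bd8dd))) (.node (.node (.leaf 0x115618f1) (.leaf 0xa6058c5)) (.node (.leaf 0x119818f1) (.leaf 0x0))))) (.node (.node (.node (.node (.leaf 0x705d8dd) (.leaf 0xed598e9)) (.node (.leaf 0x124458dd) (.leaf 0x116898eb))) (.node (.node (.leaf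 0xd7758e9) (.leaf 0x176e58f1)) (.node (.leaf 0x1194d8f1) (.leaf 0xdd858f1)))) (.node (.node (.node (.leaf 0x121958dd) (.leaf 0x11f858e5)) (.node (.leaf 0xd0358dd) (.leaf 0xab898dd))) (.node (.node (.leaf 0xeca98dd) (.leaf 0x117e98eb)) (.node (.leaf 0xe4a58e5) (.leaf 0x0)))))) (.node (.node (.node (.node (.node (.leaf 0xc6198f1) (.leaf 0xc6858dd)) (.node (.leaf 0x57098e9) (.leaf 0xae758f3))) (.node (.node (.leaf 0xf2e98eb) (.leaf 0x11e818f1)) (.node (.leaf 0x12b098dd) (.leaf 0x1374d8e5)))) (.node (.node (.node (.leaf 0x1742d8e9) (.leaf 0xe9618e5)) (.node (.leaf 0xcecd8f3) (.leaf 0x114818eb))) (.node (.node (.leaf 0x156458e9) (.leaf 0x1332d8f3)) (.node (.leaf 0xb3098f3) (.leaf 0x0))))) (.node (.node (.node (.node (.leaf 0x115618e5) (.leaf 0xe1e58f1)) (.node (.leaf 0x10e698c5) (.leaf 0x12ea18e5))) (.node (.node (.leaf 0x112d98f1) (.leaf 0x123998e5)) (.node (.leaf 0x9d8d8eb) (.leaf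 0x0)))) (.node (.node (.node (.leaf 0xcecd8dd) (.leaf 0x138998f1)) (.node (.leaf 0xd05d8f1) (.leaf 0x138098dd))) (.node (.node (.leaf 0x1177d8f1) (.leaf 0xd5cd8eb)) (.node (.leaf 0x131258eb) (.leaf 0x0)))))))) (.node (.node (.node (.node (.node (.node (.node (.leaf 0xc5598f1) (.leaf 0x10cdd8dd)) (.node (.leaf 0xc21d8eb) (.leaf 0x1740d8f3))) (.node (.node (.leaf 0x101198f3) (.leaf 0x12c058eb)) (.node (.leaf 0x82218dd) (.leaf 0xa6b98f3)))) (.node (.node (.node (.leaf 0x49498eb) (.leaf 0x153d98eb)) (.node (.leaf 0x120598e9) (.leaf 0x12e158dd))) (.node (.node (.leaf 0xc51d8e9) (.leaf 0x174f18f3)) (.node (.leaf 0xdbfd8f1) (.leaf 0x0))))) (.node (.node (.node (.node (.leaf 0x426d8e5) (.leaf 0xf6218eb)) (.node (.leaf 0x129318e9) (.leaf 0xe1ad8c5))) (.node (.node (.leaf 0xc66d8f1) (.leaf 0x111898dd)) (.node (.leaf 0x110698e5) (.leaf 0xd7818dd)))) (.node (.node (.node (.leaf 0xf4f58eb)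 (.leaf 0xf2b58f1)) (.node (.leaf 0x10bd18f3) (.leaf 0xf8898dd))) (.node (.node (.leaf 0xd5a18f3) (.leaf 0x11b198eb)) (.node (.leaf 0x128418f1) (.leaf 0x0)))))) (.node (.node (.node (.node (.node (.leaf 0x9d8d8e9) (.leaf 0x105e98dd)) (.node (.leaf 0xd80d8f3) (.leaf 0xa11d8c5))) (.node (.node (.leaf 0x89418f1) (.leaf 0x117898dd)) (.node (.leaf 0xd8518e5) (.leaf 0xd9158eb)))) (.node (.node (.node (.leaf 0x109d98e5) (.leaf 0xa5fd8eb)) (.node (.leaf 0x1310d8eb) (.leaf 0xcbe18e9))) (.node (.node (.leaf 0x106158c5) (.leaf 0xb3ed8f3)) (.node (.leaf 0xd7858e9) (.leaf 0x0))))) (.node (.node (.node (.node (.leaf 0x107518f1) (.leaf 0x131f18f1)) (.node (.leaf 0x8b318dd) (.leaf 0xe1f58f1))) (.node (.node (.leaf 0xd4c58f3) (.leaf 0x12e998dd)) (.node (.leaf 0x1c76) (.leaf 0x0)))) (.node (.node (.node (.leaf 0xc7498dd) (.leaf 0xcbc98dd)) (.node (.leaf 0x104d18eb) (.leaf 0x12c218f3))) (.node (.node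 (.leaf 0xd61d8f1) (.leaf 0x10ed98dd)) (.node (.leaf 0x13ae18f3) (.leaf 0x0))))))) (.node (.node (.node (.node (.node (.node (.leaf 0x141c98f1) (.leaf 0xfa9d8f3)) (.node (.leaf 0x113c58f1) (.leaf 0x12d0d8f3))) (.node (.node (.leaf 0x1207d8e9) (.leaf 0x12e858f3)) (.node (.leaf 0x8b618f3) (.leaf 0x12a518eb)))) (.node (.node (.node (.leaf 0xc1358f1) (.leaf 0xf1358f1)) (.node (.leaf 0x91098e9) (.leaf 0x131a98e5))) (.node (.node (.leaf 0xd8658f3) (.leaf 0x74ad8f3)) (.node (.leaf 0x11a618f3) (.leaf 0x0))))) (.node (.node (.node (.node (.leaf 0x107598c5) (.leaf 0x129318f1)) (.node (.leaf 0x10c318f1) (.leaf 0xd05d8eb))) (.node (.node (.leaf 0xd9258c5) (.leaf 0x16d798f1)) (.node (.leaf 0x15af58f3) (.leaf 0x11d898f1)))) (.node (.node (.node (.leaf 0x5b658c5) (.leaf 0x103258e9)) (.node (.leaf 0x8fd18dd) (.leaf 0x10ec18eb))) (.node (.node (.leaf 0xd74d8f1) (.leaf 0x9e8d8e9)) (.node (.leaf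 0x132718f1) (.leaf 0x0)))))) (.node (.node (.node (.node (.node (.leaf 0x127218eb) (.leaf 0xb00d8e9)) (.node (.leaf 0x119098f1) (.leaf 0x16cd58f3))) (.node (.node (.leaf 0xceb58e9) (.leaf 0x13add8e9)) (.node (.leaf 0xc47d8eb) (.leaf 0x13a658c5)))) (.node (.node (.node (.leaf 0x88698f3) (.leaf 0xf7fd8dd)) (.node (.leaf 0xda958c5) (.leaf 0xee3d8e5))) (.node (.node (.leaf 0x94a98eb) (.leaf 0x12b9d8c5)) (.node (.leaf 0xb6118e9) (.leaf 0x0))))) (.node (.node (.node (.node (.leaf 0xf3b98eb) (.leaf 0x10fb18eb)) (.node (.leaf 0x114158dd) (.leaf 0x163398e9))) (.node (.node (.leaf 0xe6918e9) (.leaf 0x11b198e9)) (.node (.leaf 0xc2818dd) (.leaf 0x0)))) (.node (.node (.node (.leaf 0xc09d8c5) (.leaf 0x1242d8eb)) (.node (.leaf 0xf2b58eb) (.leaf 0x12c1d8f3))) (.node (.node (.leaf 0xd3798e9) (.leaf 0x10d798eb)) (.node (.leaf 0xa0798e9) (.leaf 0x0))))))))))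

/-- packed table -/
noncomputable def cov11_rlr : BTree := (.node (.node (.node (.node (.node (.node (.node (.node (.node (.leaf 0x5b658eb) (.leaf 0x1765d8e9)) (.node (.leaf 0x911d8eb) (.leaf 0xa5fd8f3))) (.node (.node (.leaf 0xc0c18f1) (.leaf 0xc3418eb)) (.node (.leaf 0xe06d8e9) (.leaf 0x139ad8e5)))) (.node (.node (.node (.leaf 0xc4358dd) (.leaf 0x1119d8e9)) (.node (.leaf 0xc3398eb) (.leaf 0xea858f3))) (.node (.node (.leaf 0x115dd8f3) (.leaf 0xe4d58eb)) (.node (.leaf 0xdbfd8dd) (.leaf 0x0))))) (.node (.node (.node (.node (.leaf 0x10d298e9) (.leaf 0x125298f3)) (.node (.leaf 0xd05d8f3) (.leaf 0xf19d8f1))) (.node (.node (.leaf 0x12f918eb) (.leaf 0x1387d8f3)) (.node (.leaf 0x9a198dd) (.leaf 0xba998dd)))) (.node (.node (.node (.leaf 0xca6d8eb) (.leaf 0x76418eb)) (.node (.leaf 0x14f7d8f1) (.leaf 0xd1698e9))) (.node (.node (.leaf 0xd8dd8e9) (.leaf 0xe6918f3)) (.node (.leaf 0xc11d8dd)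 (.leaf 0x0)))))) (.node (.node (.node (.node (.node (.leaf 0x5e1d8dd) (.leaf 0xf7958e9)) (.node (.leaf 0x53818f1) (.leaf 0x100dd8e9))) (.node (.node (.leaf 0x81518f3) (.leaf 0xdd5d8f1)) (.node (.leaf 0x82798dd) (.leaf 0x124918e9)))) (.node (.node (.node (.leaf 0xe7618e9) (.leaf 0xf59d8c5)) (.node (.leaf 0x155e18eb) (.leaf 0x10cc58e9))) (.node (.node (.leaf 0x117a18f3) (.leaf 0x137b98eb)) (.node (.leaf 0x9b6d8f1) (.leaf 0x0))))) (.node (.node (.node (.node (.leaf 0x142c98f3) (.leaf 0xdd9d8e5)) (.node (.leaf 0x104098e9) (.leaf 0xb3418f1))) (.node (.node (.leaf 0xd3898dd) (.leaf 0x174658c5)) (.node (.leaf 0x15ad58f1) (.leaf 0x95558e9)))) (.node (.node (.node (.leaf 0x5b298eb) (.leaf 0x138418f3)) (.node (.leaf 0xd5b98dd) (.leaf 0xb6ed8e9))) (.node (.node (.leaf 0xb5b18e9) (.leaf 0x131258f1)) (.node (.leaf 0x12b718e5) (.leaf 0x0))))))) (.node (.node (.node (.node (.node (.node (.leaf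 0xee418e9) (.leaf 0x128158e5)) (.node (.leaf 0x154318f3) (.leaf 0x10f118dd))) (.node (.node (.leaf 0x82418e5) (.leaf 0x125618dd)) (.node (.leaf 0xd01d8f3) (.leaf 0xee418eb)))) (.node (.node (.node (.leaf 0x84798dd) (.leaf 0x120c58f1)) (.node (.leaf 0x74ad8eb) (.leaf 0x128818dd))) (.node (.node (.leaf 0x1387d8dd) (.leaf 0x126118c5)) (.node (.leaf 0x14af58e5) (.leaf 0x0))))) (.node (.node (.node (.node (.leaf 0xdb0d8dd) (.leaf 0x122b18dd)) (.node (.leaf 0x114618e9) (.leaf 0xf2018f1))) (.node (.node (.leaf 0x117198f3) (.leaf 0x10ac98e9)) (.node (.leaf 0xa2ed8eb) (.leaf 0x9f358f3)))) (.node (.node (.node (.leaf 0x11cdd8e5) (.leaf 0x119d18eb)) (.node (.leaf 0xd0298dd) (.leaf 0x136a98e5))) (.node (.node (.leaf 0x154218f3) (.leaf 0xf5c58f1)) (.node (.leaf 0x81458dd) (.leaf 0x0)))))) (.node (.node (.node (.node (.node (.leaf 0x101198f1) (.leaf 0xe1cd8e9)) (.node (.leaf 0x134718eb) (.leaf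 0x134d58e5))) (.node (.node (.leaf 0x1928) (.leaf 0x126698dd)) (.node (.leaf 0x126a98e9) (.leaf 0x1375d8e5)))) (.node (.node (.node (.leaf 0xd3b18e9) (.leaf 0x60b98eb)) (.node (.leaf 0xdecd8eb) (.leaf 0x94958eb))) (.node (.node (.leaf 0x103358e9) (.leaf 0x1245d8c5)) (.node (.leaf 0xc3458eb) (.leaf 0x0))))) (.node (.node (.node (.node (.leaf 0xa0418dd) (.leaf 0xd7958e9)) (.node (.leaf 0x133298e9) (.leaf 0x133a18f1))) (.node (.node (.leaf 0x102058e9) (.leaf 0x11e718eb)) (.node (.leaf 0x11c858f3) (.leaf 0x0)))) (.node (.node (.node (.leaf 0x133a18dd) (.leaf 0x139798e9)) (.node (.leaf 0x81598c5) (.leaf 0xa5f98f1))) (.node (.node (.leaf 0xb3ed8e9) (.leaf 0x131a98f1)) (.node (.leaf 0x122a18e9) (.leaf 0x0)))))))) (.node (.node (.node (.node (.node (.node (.node (.leaf 0x105418f1) (.leaf 0xfa318f1)) (.node (.leaf 0xc2518eb) (.leaf 0x133ad8e5))) (.node (.node (.leaf 0xc5ed8f1) (.leaf 0xe1b18f1))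 (.node (.leaf 0x1196d8e5) (.leaf 0xd1758eb)))) (.node (.node (.node (.leaf 0x9c098e9) (.leaf 0x138758eb)) (.node (.leaf 0x9be98e9) (.leaf 0x1148d8dd))) (.node (.node (.leaf 0xd3b18f1) (.leaf 0xd78d8e9)) (.node (.leaf 0xda158eb) (.leaf 0x0))))) (.node (.node (.node (.node (.leaf 0xb2cd8dd) (.leaf 0xfa958dd)) (.node (.leaf 0x12a518e9) (.leaf 0xf4758e5))) (.node (.node (.leaf 0xc2558f3) (.leaf 0xf4d18f1)) (.node (.leaf 0x110558e5) (.leaf 0x108898dd)))) (.node (.node (.node (.leaf 0xc12d8e5) (.leaf 0xecb18e9)) (.node (.leaf 0xc4e18e9) (.leaf 0x125298e9))) (.node (.node (.leaf 0x95818f3) (.leaf 0x11b018eb)) (.node (.leaf 0xf1718f1) (.leaf 0x0)))))) (.node (.node (.node (.node (.node (.leaf 0xde7d8e9) (.leaf 0xe5b98f3)) (.node (.leaf 0xcb398eb) (.leaf 0x125918dd))) (.node (.node (.leaf 0x84718e9) (.leaf 0x177358dd)) (.node (.leaf 0x155718c5) (.leaf 0x139ed8e5)))) (.node (.node (.node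 (.leaf 0x40618f3) (.leaf 0xee398c5)) (.node (.leaf 0x76f58e9) (.leaf 0x10be58e9))) (.node (.node (.leaf 0xd80d8f1) (.leaf 0x11ac18dd)) (.node (.leaf 0x12aa18c5) (.leaf 0x0))))) (.node (.node (.node (.node (.leaf 0xd4898e9) (.leaf 0x12a818eb)) (.node (.leaf 0x91098f1) (.leaf 0x115dd8dd))) (.node (.node (.leaf 0xce018e9) (.leaf 0xdd6d8e5)) (.node (.leaf 0x9d358eb) (.leaf 0x0)))) (.node (.node (.node (.leaf 0xc1b58e9) (.leaf 0xcbd98dd)) (.node (.leaf 0x111c58f1) (.leaf 0xf22d8dd))) (.node (.node (.leaf 0x129f98dd) (.leaf 0x126018f3)) (.node (.leaf 0xb3c98f3) (.leaf 0x0))))))) (.node (.node (.node (.node (.node (.node (.leaf 0xc2518e9) (.leaf 0x168118f1)) (.node (.leaf 0x11a618e9) (.leaf 0x178318eb))) (.node (.node (.leaf 0x1273d8e9) (.leaf 0xcd4d8dd)) (.node (.leaf 0x90f18dd) (.leaf 0xe61d8f1)))) (.node (.node (.node (.leaf 0x81598f1) (.leaf 0xae758dd)) (.node (.leaf 0x91198e9) (.leaf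 0xeca58dd))) (.node (.node (.leaf 0x1154d8f3) (.leaf 0x11ea18eb)) (.node (.leaf 0x119698f1) (.leaf 0x0))))) (.node (.node (.node (.node (.leaf 0x139ad8e9) (.leaf 0x12b098eb)) (.node (.leaf 0x11b118e5) (.leaf 0xf94d8eb))) (.node (.node (.leaf 0x152c58dd) (.leaf 0x1767d8e9)) (.node (.leaf 0x11bed8f1) (.leaf 0x176818c5)))) (.node (.node (.node (.leaf 0x801d8f1) (.leaf 0x15e858f1)) (.node (.leaf 0xd03d8eb) (.leaf 0xc2ad8eb))) (.node (.node (.leaf 0xd5a18f1) (.leaf 0xe6618f3)) (.node (.leaf 0xf8918eb) (.leaf 0x0)))))) (.node (.node (.node (.node (.node (.leaf 0x100dd8f3) (.leaf 0xc3398e9)) (.node (.leaf 0x13a858eb) (.leaf 0x105dd8e9))) (.node (.node (.leaf 0x110858eb) (.leaf 0xe2fd8f1)) (.node (.leaf 0x84ad8eb) (.leaf 0x136d58e5)))) (.node (.node (.node (.leaf 0xc3958f3) (.leaf 0xf1998f1)) (.node (.leaf 0xc5c98e5) (.leaf 0xee398e5))) (.node (.node (.leaf 0xd5058dd) (.leaf 0x14f4d8e9))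 (.node (.leaf 0x11dd98dd) (.leaf 0x0))))) (.node (.node (.node (.node (.leaf 0xbb198e9) (.leaf 0xe7c18dd)) (.node (.leaf 0x134c58dd) (.leaf 0x114518e9))) (.node (.node (.leaf 0xc9fd8c5) (.leaf 0x1632d8eb)) (.node (.leaf 0xd42d8eb) (.leaf 0x0)))) (.node (.node (.node (.leaf 0x121358e9) (.leaf 0x123898c5)) (.node (.leaf 0x107d18e9) (.leaf 0x114598e9))) (.node (.node (.leaf 0x535d8e9) (.leaf 0xae758e5)) (.node (.leaf 0x120518e9) (.leaf 0x0))))))))) (.node (.node (.node (.node (.node (.node (.node (.node (.leaf 0x86d18f1) (.leaf 0xb4bd8c5)) (.node (.leaf 0x98a58f1) (.leaf 0x162518c5))) (.node (.node (.leaf 0xb4bd8e9) (.leaf 0xa1fd8e9)) (.node (.leaf 0x85558eb) (.leaf 0xe6918eb)))) (.node (.node (.node (.leaf 0x82218f1) (.leaf 0xad618f3)) (.node (.leaf 0xd7798e5) (.leaf 0xe85d8dd))) (.node (.node (.leaf 0xf22d8eb) (.leaf 0x106b98eb)) (.node (.leaf 0x896d8c5) (.leaf 0x0))))) (.node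 (.node (.node (.node (.leaf 0xf8918dd) (.leaf 0x125e58eb)) (.node (.leaf 0x10aed8f1) (.leaf 0x72418f1))) (.node (.node (.leaf 0xeb798dd) (.leaf 0x123618f1)) (.node (.leaf 0xd9e98eb) (.leaf 0xfa318e5)))) (.node (.node (.node (.leaf 0x136d58eb) (.leaf 0xf8f58e9)) (.node (.leaf 0x10ec18f1) (.leaf 0xc5358dd))) (.node (.node (.leaf 0x10b798f1) (.leaf 0xdadd8dd)) (.node (.leaf 0x82718e9) (.leaf 0x0)))))) (.node (.node (.node (.node (.node (.leaf 0x9ded8e9) (.leaf 0xf79d8e9)) (.node (.leaf 0xd6d98f3) (.leaf 0xb3c98e9))) (.node (.node (.leaf 0x19b4) (.leaf 0xf2f98f1)) (.node (.leaf 0x95498c5) (.leaf 0xf9458e5)))) (.node (.node (.node (.leaf 0x82cd8f1) (.leaf 0x155858dd)) (.node (.leaf 0x1307d8e9) (.leaf 0xd2858e9))) (.node (.node (.leaf 0xd7998f3) (.leaf 0x129918eb)) (.node (.leaf 0x40298c5) (.leaf 0x0))))) (.node (.node (.node (.node (.leaf 0xc2c58f3) (.leaf 0xe1ad8e5)) (.node (.leaf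 0x113398c5) (.leaf 0x130058dd))) (.node (.node (.leaf 0x53818dd) (.leaf 0xf8898f1)) (.node (.leaf 0x42618dd) (.leaf 0xe34d8f1)))) (.node (.node (.node (.leaf 0x9b398e9) (.leaf 0x126758e9)) (.node (.leaf 0x95498dd) (.leaf 0x135898eb))) (.node (.node (.leaf 0x10bcd8e5) (.leaf 0x131058f1)) (.node (.leaf 0x74ad8dd) (.leaf 0x0))))))) (.node (.node (.node (.node (.node (.node (.leaf 0xee9d8e9) (.leaf 0x125b58e9)) (.node (.leaf 0x121b58eb) (.leaf 0x11dd98eb))) (.node (.node (.leaf 0x125c18e9) (.leaf 0xae758e9)) (.node (.leaf 0xd0158f3) (.leaf 0x123718dd)))) (.node (.node (.node (.leaf 0xc1498f1) (.leaf 0x103358eb)) (.node (.leaf 0x8b358c5) (.leaf 0xd4858e9))) (.node (.node (.leaf 0x95558f1) (.leaf 0x100c58e9)) (.node (.leaf 0xedbd8eb) (.leaf 0x0))))) (.node (.node (.node (.node (.leaf 0x1177d8eb) (.leaf 0x125858e5)) (.node (.leaf 0xdaf18e5) (.leaf 0x818d8eb))) (.node (.node (.leaf 0x126758eb)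 (.leaf 0x138218e9)) (.node (.leaf 0x138d98eb) (.leaf 0x13aad8e5)))) (.node (.node (.node (.leaf 0x121818dd) (.leaf 0x1381d8f1)) (.node (.leaf 0xcb058e9) (.leaf 0x131f98dd))) (.node (.node (.leaf 0x82a58e5) (.leaf 0xc1a18e9)) (.node (.leaf 0x125858f3) (.leaf 0x0)))))) (.node (.node (.node (.node (.node (.leaf 0xb04d8dd) (.leaf 0xec618eb)) (.node (.leaf 0xd2858f1) (.leaf 0x179558eb))) (.node (.node (.leaf 0xe6258eb) (.leaf 0xe40d8e5)) (.node (.leaf 0x15af98f1) (.leaf 0x138218e5)))) (.node (.node (.node (.leaf 0x134318e9) (.leaf 0xdf558e9)) (.node (.leaf 0x121718eb) (.leaf 0x16a018c5))) (.node (.node (.leaf 0xd52d8f1) (.leaf 0x12a5d8c5)) (.node (.leaf 0xe1ad8eb) (.leaf 0x0))))) (.node (.node (.node (.node (.leaf 0xc5c98f1) (.leaf 0x136d58f3)) (.node (.leaf 0x11bf18e5) (.leaf 0x101198e9))) (.node (.node (.leaf 0xe6618e9) (.leaf 0x11e918eb)) (.node (.leaf 0x103fd8e9) (.leaf 0x0))))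 (.node (.node (.node (.leaf 0x107a58f1) (.leaf 0xf4f58f1)) (.node (.leaf 0xd0598f1) (.leaf 0x114718dd))) (.node (.node (.leaf 0xd5a98eb) (.leaf 0xe44d8f3)) (.node (.leaf 0xde998e5) (.leaf 0x0)))))))) (.node (.node (.node (.node (.node (.node (.node (.leaf 0x10e698e5) (.leaf 0x12a818f1)) (.node (.leaf 0xc2298eb) (.leaf 0x1179d8e9))) (.node (.node (.leaf 0x1191d8e9) (.leaf 0x128158dd)) (.node (.leaf 0x10cfd8f3) (.leaf 0xfa8d8e5)))) (.node (.node (.node (.leaf 0x1938) (.leaf 0x12ec58dd)) (.node (.leaf 0xb4bd8eb) (.leaf 0x8e598eb))) (.node (.node (.leaf 0xf2b58dd) (.leaf 0x108ed8eb)) (.node (.leaf 0x11a858e9) (.leaf 0x0))))) (.node (.node (.node (.node (.leaf 0x18c2) (.leaf 0x130cd8f1)) (.node (.leaf 0x168118e9) (.leaf 0x10ce58e9))) (.node (.node (.leaf 0xc6818f1) (.leaf 0xe3698e9)) (.node (.leaf 0x15ce18f1) (.leaf 0x128d98eb)))) (.node (.node (.node (.leaf 0xc1498e5) (.leaf 0xec618f3))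 (.node (.leaf 0x132a98e9) (.leaf 0xe4a58f1))) (.node (.node (.leaf 0xcff18dd) (.leaf 0x705d8e9)) (.node (.leaf 0x815d8dd) (.leaf 0x0)))))) (.node (.node (.node (.node (.node (.leaf 0x1310d8dd) (.leaf 0x121d18e9)) (.node (.leaf 0x94798f1) (.leaf 0xa4f58dd))) (.node (.node (.leaf 0x896d8dd) (.leaf 0xe9618f1)) (.node (.leaf 0xa11d8eb) (.leaf 0x136658e5)))) (.node (.node (.node (.leaf 0x109e58e5) (.leaf 0x10c658dd)) (.node (.leaf 0x119458c5) (.leaf 0xc8618dd))) (.node (.node (.leaf 0xd7fd8f1) (.leaf 0xa4518f3)) (.node (.leaf 0x109098e9) (.leaf 0x0))))) (.node (.node (.node (.node (.leaf 0x1076d8f1) (.leaf 0x132d18dd)) (.node (.leaf 0x911d8f3) (.leaf 0x131258e9))) (.node (.node (.leaf 0xd15d8eb) (.leaf 0xeef98f1)) (.node (.leaf 0x801d8e9) (.leaf 0x0)))) (.node (.node (.node (.leaf 0x108f98e9) (.leaf 0x136d58f1)) (.node (.leaf 0x82cd8e9) (.leaf 0x142c98eb))) (.node (.node (.leaf 0x103dd8e5)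 (.leaf 0x148e18eb)) (.node (.leaf 0xe59d8dd) (.leaf 0x0))))))) (.node (.node (.node (.node (.node (.node (.leaf 0xc1a18f3) (.leaf 0x1121d8eb)) (.node (.leaf 0xd5058eb) (.leaf 0xf1018f1))) (.node (.node (.leaf 0xc1498f3) (.leaf 0x10db18dd)) (.node (.leaf 0x101198dd) (.leaf 0xbb318e5)))) (.node (.node (.node (.leaf 0xe8ad8e9) (.leaf 0x72418f3)) (.node (.leaf 0x8b318f3) (.leaf 0xa4b18eb))) (.node (.node (.leaf 0x10a358e5) (.leaf 0xe06d8c5)) (.node (.leaf 0x155698e9) (.leaf 0x0))))) (.node (.node (.node (.node (.leaf 0xd8358e5) (.leaf 0xa2ed8dd)) (.node (.leaf 0x10ef18e9) (.leaf 0xc3418e9))) (.node (.node (.leaf 0x119218c5) (.leaf 0xf6898e9)) (.node (.leaf 0x11b198dd) (.leaf 0xe8c58e9)))) (.node (.node (.node (.leaf 0x86d18dd) (.leaf 0x105f18e9)) (.node (.leaf 0xd1418f1) (.leaf 0x1910))) (.node (.node (.leaf 0xd2918f3) (.leaf 0xd7798e9)) (.node (.leaf 0xf1358c5) (.leaf 0x0)))))) (.node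 (.node (.node (.node (.node (.leaf 0x125118eb) (.leaf 0x82858e9)) (.node (.leaf 0x1191d8f1) (.leaf 0x12ca18dd))) (.node (.node (.leaf 0xceb98e9) (.leaf 0x159ad8eb)) (.node (.leaf 0x845d8c5) (.leaf 0xf94d8e5)))) (.node (.node (.node (.leaf 0xc17d8f1) (.leaf 0x1361d8eb)) (.node (.leaf 0x10a198c5) (.leaf 0x129358eb))) (.node (.node (.leaf 0x94c18eb) (.leaf 0x13a418eb)) (.node (.leaf 0xf2f98e9) (.leaf 0x0))))) (.node (.node (.node (.node (.leaf 0x11f898e9) (.leaf 0x15cfd8eb)) (.node (.leaf 0xeb518e9) (.leaf 0x169c98f3))) (.node (.node (.leaf 0xd92d8e5) (.leaf 0x16b958c5)) (.node (.leaf 0x1230d8e9) (.leaf 0x0)))) (.node (.node (.node (.leaf 0x100998c5) (.leaf 0x174ed8c5)) (.node (.leaf 0xdd518eb) (.leaf 0x13a1d8c5))) (.node (.node (.leaf 0x94c18f1) (.leaf 0x127658c5)) (.node (.leaf 0xc3d58dd) (.leaf 0x0))))))))))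

/-- packed table -/
noncomputable def cov11_rrl : BTree := (.node (.node (.node (.node (.node (.node (.node (.node (.node (.leaf 0x80118dd) (.leaf 0x13ae98eb)) (.node (.leaf 0xd8a18f1) (.leaf 0x5ead8f3))) (.node (.node (.leaf 0xbb1d8dd) (.leaf 0xecb18f1)) (.node (.leaf 0x88698e5) (.leaf 0x12aa18eb)))) (.node (.node (.node (.leaf 0xc2518f1) (.leaf 0x92518dd)) (.node (.leaf 0xc4d98dd) (.leaf 0x1361d8e9))) (.node (.node (.leaf 0xd5b98f3) (.leaf 0xc5e58eb)) (.node (.leaf 0x897d8e9) (.leaf 0x0))))) (.node (.node (.node (.node (.leaf 0xe05d8eb) (.leaf 0x120c58e5)) (.node (.leaf 0x16a718eb) (.leaf 0x139518dd))) (.node (.node (.leaf 0xf5598dd) (.leaf 0x117158e9)) (.node (.leaf 0x9c4d8f1) (.leaf 0xf7fd8c5)))) (.node (.node (.node (.leaf 0x818d8f1) (.leaf 0x9be98eb)) (.node (.leaf 0x10f818f1) (.leaf 0xb3418e9))) (.node (.node (.leaf 0xd6a98f1) (.leaf 0xb17d8e9)) (.node (.leaf 0xbb198f1)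 (.leaf 0x0)))))) (.node (.node (.node (.node (.node (.leaf 0xd1918c5) (.leaf 0xbb1d8f3)) (.node (.leaf 0xd3598f3) (.leaf 0xeda18f1))) (.node (.node (.leaf 0x815d8f3) (.leaf 0xc4d58eb)) (.node (.leaf 0x101cd8dd) (.leaf 0x162918f3)))) (.node (.node (.node (.leaf 0x119118e5) (.leaf 0x176598eb)) (.node (.leaf 0x111ed8f1) (.leaf 0xa11d8f3))) (.node (.node (.leaf 0xd8518f1) (.leaf 0xf4f58e5)) (.node (.leaf 0xd9018eb) (.leaf 0x0))))) (.node (.node (.node (.node (.leaf 0x102958f3) (.leaf 0xe6618f1)) (.node (.leaf 0xd8358c5) (.leaf 0x124ed8c5))) (.node (.node (.leaf 0x8b118e5) (.leaf 0x103318eb)) (.node (.leaf 0x82b98c5) (.leaf 0x9f2d8dd)))) (.node (.node (.node (.leaf 0x9b358e9) (.leaf 0x13ae18f1)) (.node (.leaf 0x126118dd) (.leaf 0xd1758e9))) (.node (.node (.leaf 0x1040d8e9) (.leaf 0x72418e9)) (.node (.leaf 0xb02d8f1) (.leaf 0x0))))))) (.node (.node (.node (.node (.node (.node (.leaf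 0xa0a98eb) (.leaf 0x168118e5)) (.node (.leaf 0x10fa18c5) (.leaf 0x12ee18f1))) (.node (.node (.leaf 0xc5458dd) (.leaf 0xe5898dd)) (.node (.leaf 0xd4d98c5) (.leaf 0x11ef58e9)))) (.node (.node (.node (.leaf 0xd9ed8e9) (.leaf 0x124e58f1)) (.node (.leaf 0xd1858f3) (.leaf 0x16f658f1))) (.node (.node (.leaf 0xd8358f1) (.leaf 0xa6158c5)) (.node (.leaf 0xec918e9) (.leaf 0x0))))) (.node (.node (.node (.node (.leaf 0x82798f3) (.leaf 0x11fad8eb)) (.node (.leaf 0xa4498dd) (.leaf 0x116718eb))) (.node (.node (.leaf 0xe4358eb) (.leaf 0xe34d8e9)) (.node (.leaf 0xd9418f1) (.leaf 0xbb318c5)))) (.node (.node (.node (.leaf 0xc1618e5) (.leaf 0x1783d8e9)) (.node (.leaf 0x10c658f1) (.leaf 0x100e98eb))) (.node (.node (.leaf 0x115a58eb) (.leaf 0x1738d8e5)) (.node (.leaf 0x76418f3) (.leaf 0x0)))))) (.node (.node (.node (.node (.node (.leaf 0x57098eb) (.leaf 0xe1dd8e9)) (.node (.leaf 0xd7fd8f3) (.leaf 0x139918dd)))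 (.node (.node (.leaf 0x49498e9) (.leaf 0x16dcd8f1)) (.node (.leaf 0x133898e9) (.leaf 0x125618f1)))) (.node (.node (.node (.leaf 0x107718f3) (.leaf 0x1792d8f3)) (.node (.leaf 0x10ec18f3) (.leaf 0xd4758eb))) (.node (.node (.leaf 0xd9258f3) (.leaf 0xea1d8f3)) (.node (.leaf 0x76418c5) (.leaf 0x0))))) (.node (.node (.node (.node (.leaf 0x105c18f1) (.leaf 0xaed98f1)) (.node (.leaf 0x14b958f1) (.leaf 0x107fd8eb))) (.node (.node (.leaf 0x153a18f3) (.leaf 0x11e818eb)) (.node (.leaf 0x11df58dd) (.leaf 0x0)))) (.node (.node (.node (.leaf 0xf5c58dd) (.leaf 0xb4bd8f3)) (.node (.leaf 0x81518c5) (.leaf 0xf6218dd))) (.node (.node (.leaf 0x115ed8f1) (.leaf 0x11edd8f3)) (.node (.leaf 0x11e718e5) (.leaf 0x0)))))))) (.node (.node (.node (.node (.node (.node (.node (.leaf 0x140558dd) (.leaf 0xbb318f1)) (.node (.leaf 0x1022d8eb) (.leaf 0x5e1d8f3))) (.node (.node (.leaf 0xf5c58eb) (.leaf 0xdaf18e9))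 (.node (.leaf 0x12a8d8e9) (.leaf 0xa6b98f1)))) (.node (.node (.node (.leaf 0xc46d8dd) (.leaf 0x82658eb)) (.node (.leaf 0x129358dd) (.leaf 0x173cd8dd))) (.node (.node (.leaf 0x104cd8dd) (.leaf 0xe06d8eb)) (.node (.leaf 0x49958c5) (.leaf 0x0))))) (.node (.node (.node (.node (.leaf 0xafed8dd) (.leaf 0xb02d8c5)) (.node (.leaf 0x148758c5) (.leaf 0x10a0d8e9))) (.node (.node (.leaf 0x103cd8f3) (.leaf 0xde358f3)) (.node (.leaf 0x134e18e9) (.leaf 0x130058eb)))) (.node (.node (.node (.leaf 0xc1b58f3) (.leaf 0x121d58c5)) (.node (.leaf 0x8e598f3) (.leaf 0xa0a98dd))) (.node (.node (.leaf 0x134718e9) (.leaf 0x11b118eb)) (.node (.leaf 0x12a518e5) (.leaf 0x0)))))) (.node (.node (.node (.node (.node (.leaf 0x82418e9) (.leaf 0x1387d8e9)) (.node (.leaf 0xd8a18dd) (.leaf 0x121358c5))) (.node (.node (.leaf 0x898d8f3) (.leaf 0x11e718c5)) (.node (.leaf 0xed758eb) (.leaf 0x82b98eb)))) (.node (.node (.node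 (.leaf 0xc2c58f1) (.leaf 0xe6098f1)) (.node (.leaf 0xc3958e5) (.leaf 0x10bd58e9))) (.node (.node (.leaf 0x94958f3) (.leaf 0xe0698eb)) (.node (.leaf 0xb8fd8f3) (.leaf 0x0))))) (.node (.node (.node (.node (.leaf 0xc7618f1) (.leaf 0x9f358e5)) (.node (.leaf 0xd8ed8eb) (.leaf 0xe2fd8f3))) (.node (.node (.leaf 0xd8ed8f1) (.leaf 0xcedd8eb)) (.node (.leaf 0x9b398f1) (.leaf 0x0)))) (.node (.node (.node (.leaf 0x9e8d8eb) (.leaf 0xe6098e5)) (.node (.leaf 0x91a58f1) (.leaf 0xc1998dd))) (.node (.node (.leaf 0x10be58e5) (.leaf 0xde7d8f3)) (.node (.leaf 0x135898f3) (.leaf 0x0))))))) (.node (.node (.node (.node (.node (.node (.leaf 0xc1b98f1) (.leaf 0x125918e9)) (.node (.leaf 0x113d18f1) (.leaf 0xec618f1))) (.node (.node (.leaf 0x155258e5) (.leaf 0xa11d8e5)) (.node (.leaf 0x91258dd) (.leaf 0x12a618eb)))) (.node (.node (.node (.leaf 0xc1398f1) (.leaf 0x138358f3)) (.node (.leaf 0xd3718eb) (.leaf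 0xe9618f3))) (.node (.node (.leaf 0x16dc98e9) (.leaf 0x9f6d8f3)) (.node (.leaf 0x119898f3) (.leaf 0x0))))) (.node (.node (.node (.node (.leaf 0x701d8dd) (.leaf 0x129918e5)) (.node (.leaf 0x11b058e5) (.leaf 0x5ead8eb))) (.node (.node (.leaf 0xd9018c5) (.leaf 0xc80d8e9)) (.node (.leaf 0xdaf18f3) (.leaf 0xe85d8f1)))) (.node (.node (.node (.leaf 0x40018e9) (.leaf 0xe0ad8e9)) (.node (.leaf 0xd6d98c5) (.leaf 0x149f98e9))) (.node (.node (.leaf 0x82b98e5) (.leaf 0xe5718eb)) (.node (.leaf 0xbb318f3) (.leaf 0x0)))))) (.node (.node (.node (.node (.node (.leaf 0xc6498f1) (.leaf 0xb04d8e9)) (.node (.leaf 0x112818f1) (.leaf 0x135998e5))) (.node (.node (.leaf 0xe5658eb) (.leaf 0x10f318dd)) (.node (.leaf 0xdaed8f1) (.leaf 0x128918f1)))) (.node (.node (.node (.leaf 0x103a98f1) (.leaf 0xc1898dd)) (.node (.leaf 0x9f118dd) (.leaf 0x1187d8e9))) (.node (.node (.leaf 0xd4a18eb) (.leaf 0x1179d8dd)) (.node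 (.leaf 0xe1b18eb) (.leaf 0x0))))) (.node (.node (.node (.node (.leaf 0xd8518c5) (.leaf 0x1254d8eb)) (.node (.leaf 0x170618dd) (.leaf 0x123d58eb))) (.node (.node (.leaf 0xd1858e9) (.leaf 0xc1ad8dd)) (.node (.leaf 0x12d898dd) (.leaf 0x0)))) (.node (.node (.node (.leaf 0x117c18eb) (.leaf 0x123a98dd)) (.node (.leaf 0x110698f1) (.leaf 0x122998f3))) (.node (.node (.leaf 0xd37d8e9) (.leaf 0x11f098dd)) (.node (.leaf 0x117a58e9) (.leaf 0x0))))))))) (.node (.node (.node (.node (.node (.node (.node (.node (.leaf 0xc6d98e9) (.leaf 0x103a98dd)) (.node (.leaf 0xd6f98e9) (.leaf 0x72418eb))) (.node (.node (.leaf 0xcf198e5) (.leaf 0xe4a58c5)) (.node (.leaf 0x10bbd8f1) (.leaf 0xc1798dd)))) (.node (.node (.node (.leaf 0x82418f1) (.leaf 0xc2bd8eb)) (.node (.leaf 0x90998f1) (.leaf 0x12e858f1))) (.node (.node (.leaf 0xca7d8e9) (.leaf 0x11e098e9)) (.node (.leaf 0x84ad8e5) (.leaf 0x0))))) (.node (.node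 (.node (.node (.leaf 0xfa318dd) (.leaf 0xfb298f1)) (.node (.leaf 0xecf98eb) (.leaf 0xa6058f3))) (.node (.node (.leaf 0xc3d58f1) (.leaf 0x134298dd)) (.node (.leaf 0xdc618e9) (.leaf 0xc1b18dd)))) (.node (.node (.node (.leaf 0x127898eb) (.leaf 0x82718eb)) (.node (.leaf 0x104c18e9) (.leaf 0x101ed8dd))) (.node (.node (.leaf 0xd6a18f3) (.leaf 0xc08d8eb)) (.node (.leaf 0x12bcd8f1) (.leaf 0x0)))))) (.node (.node (.node (.node (.node (.leaf 0x82b98e9) (.leaf 0xe62d8f1)) (.node (.leaf 0xcb2d8eb) (.leaf 0x16ce18f1))) (.node (.node (.leaf 0x49958eb) (.leaf 0x102058dd)) (.node (.leaf 0xb8fd8eb) (.leaf 0x131f18e9)))) (.node (.node (.node (.leaf 0xd74d8dd) (.leaf 0x115b18dd)) (.node (.leaf 0x8e598dd) (.leaf 0xf1018eb))) (.node (.node (.leaf 0x92518f1) (.leaf 0xb3098f1)) (.node (.leaf 0x9d398dd) (.leaf 0x0))))) (.node (.node (.node (.node (.leaf 0x102998f3) (.leaf 0x134818c5)) (.node (.leaf 0x10dc98f1)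 (.leaf 0xdea98eb))) (.node (.node (.leaf 0x98a58f3) (.leaf 0x138098f1)) (.node (.leaf 0x873d8e9) (.leaf 0x1920)))) (.node (.node (.node (.leaf 0x873d8f3) (.leaf 0x135758c5)) (.node (.leaf 0xa6158dd) (.leaf 0x136d58c5))) (.node (.node (.leaf 0xea1d8e9) (.leaf 0xe0618eb)) (.node (.leaf 0x60b98c5) (.leaf 0x0))))))) (.node (.node (.node (.node (.node (.node (.leaf 0x149e18f1) (.leaf 0xb5b18dd)) (.node (.leaf 0xd6fd8f1) (.leaf 0x10a018e9))) (.node (.node (.leaf 0x150418e5) (.leaf 0xb2cd8c5)) (.node (.leaf 0xd6a18e9) (.leaf 0x1255d8f1)))) (.node (.node (.node (.leaf 0x44a98dd) (.leaf 0x12d118f1)) (.node (.leaf 0xd3598eb) (.leaf 0x190e))) (.node (.node (.leaf 0x115618f3) (.leaf 0xee0d8e5)) (.node (.leaf 0x119818f3) (.leaf 0x0))))) (.node (.node (.node (.node (.leaf 0xb43d8dd) (.leaf 0x122998dd)) (.node (.leaf 0x91a58f3) (.leaf 0xd80d8e9))) (.node (.node (.leaf 0xd4558f1) (.leaf 0x103258eb))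 (.node (.leaf 0xd5cd8c5) (.leaf 0xdf558dd)))) (.node (.node (.node (.leaf 0x104f58f3) (.leaf 0x121d18c5)) (.node (.leaf 0xd0098dd) (.leaf 0xc5598dd))) (.node (.node (.leaf 0x1029d8e5) (.leaf 0x128058dd)) (.node (.leaf 0x18d2) (.leaf 0x0)))))) (.node (.node (.node (.node (.node (.leaf 0x91a58c5) (.leaf 0x82798eb)) (.node (.leaf 0xc1b98c5) (.leaf 0x12f618f1))) (.node (.node (.leaf 0x108598e9) (.leaf 0x125ed8c5)) (.node (.leaf 0x11b018f1) (.leaf 0xdf818dd)))) (.node (.node (.node (.leaf 0x179318dd) (.leaf 0xb17d8f3)) (.node (.leaf 0xceb98f3) (.leaf 0x11f5d8dd))) (.node (.node (.leaf 0x1191d8f3) (.leaf 0xe8cd8f3)) (.node (.leaf 0x13a1d8f3) (.leaf 0x0))))) (.node (.node (.node (.node (.leaf 0xc5d18f3) (.leaf 0xed758e9)) (.node (.leaf 0x13a058e9) (.leaf 0xd1818e9))) (.node (.node (.leaf 0x82a18eb) (.leaf 0x12dfd8f3)) (.node (.leaf 0x11c998f3) (.leaf 0x0)))) (.node (.node (.node (.leaf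 0xe0718eb) (.leaf 0x12eb18f1)) (.node (.leaf 0x147c98e9) (.leaf 0x174958e9))) (.node (.node (.leaf 0xd7798f1) (.leaf 0xc5c98e9)) (.node (.leaf 0xde958e5) (.leaf 0x0)))))))) (.node (.node (.node (.node (.node (.node (.node (.leaf 0x11bed8c5) (.leaf 0xa0798dd)) (.node (.leaf 0xc2558eb) (.leaf 0xad618f1))) (.node (.node (.leaf 0xc5ed8eb) (.leaf 0xea898e5)) (.node (.leaf 0x103e58c5) (.leaf 0x9e198f3)))) (.node (.node (.node (.leaf 0x84798f1) (.leaf 0xf8f58f3)) (.node (.leaf 0x10d7d8f1) (.leaf 0xb3ed8dd))) (.node (.node (.leaf 0x12cd18eb) (.leaf 0x129118c5)) (.node (.leaf 0x10ac98e5) (.leaf 0x0))))) (.node (.node (.node (.node (.leaf 0x18ee) (.leaf 0x129318e5)) (.node (.leaf 0x107a58e9) (.leaf 0x101bd8dd))) (.node (.node (.leaf 0x82218f3) (.leaf 0x133798dd)) (.node (.leaf 0x16f658e9) (.leaf 0xe7418f1)))) (.node (.node (.node (.leaf 0x81458e5) (.leaf 0x11e018e5)) (.node (.leaf 0xcfc58dd)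 (.leaf 0xfb498dd))) (.node (.node (.leaf 0x1151d8dd) (.leaf 0xdf3d8f3)) (.node (.leaf 0x12e858eb) (.leaf 0x0)))))) (.node (.node (.node (.node (.node (.leaf 0x106158f3) (.leaf 0x13add8f3)) (.node (.leaf 0xd4998f1) (.leaf 0x132618dd))) (.node (.node (.leaf 0x49358e9) (.leaf 0xe5b98e5)) (.node (.leaf 0xf4d18eb) (.leaf 0x125918f1)))) (.node (.node (.node (.leaf 0x153b98e9) (.leaf 0xa5f98eb)) (.node (.leaf 0xf13d8e9) (.leaf 0x85558dd))) (.node (.node (.leaf 0x128d98dd) (.leaf 0xe04d8eb)) (.node (.leaf 0xaed98c5) (.leaf 0x0))))) (.node (.node (.node (.node (.leaf 0x107718f1) (.leaf 0x13b058dd)) (.node (.leaf 0x90f18f3) (.leaf 0x123618f3))) (.node (.node (.leaf 0x94c18f3) (.leaf 0x122b18f3)) (.node (.leaf 0x5d198eb) (.leaf 0x0)))) (.node (.node (.node (.leaf 0xd9c98eb) (.leaf 0xfa158f3)) (.node (.leaf 0xcd2d8f1) (.leaf 0xdf298dd))) (.node (.node (.leaf 0xde358e9) (.leaf 0xf2018e9))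 (.node (.leaf 0x705d8c5) (.leaf 0x0))))))) (.node (.node (.node (.node (.node (.node (.leaf 0x11e458dd) (.leaf 0x108598dd)) (.node (.leaf 0x1900) (.leaf 0x139998dd))) (.node (.node (.leaf 0xc1658f3) (.leaf 0x10dbd8dd)) (.node (.leaf 0x911d8dd) (.leaf 0x1249d8f1)))) (.node (.node (.node (.leaf 0xeca98e9) (.leaf 0xf9c18dd)) (.node (.leaf 0x91158e9) (.leaf 0x1068d8e9))) (.node (.node (.leaf 0x118618f1) (.leaf 0xe7518f3)) (.node (.leaf 0x16c458dd) (.leaf 0x0))))) (.node (.node (.node (.node (.leaf 0xc9a98f1) (.leaf 0x7b2d8f3)) (.node (.leaf 0xf4518e9) (.leaf 0x1031d8e9))) (.node (.node (.leaf 0xd9158c5) (.leaf 0xd9418dd)) (.node (.leaf 0x82a18c5) (.leaf 0xe1cd8f1)))) (.node (.node (.node (.leaf 0x80118f1) (.leaf 0x13a0d8e9)) (.node (.leaf 0xd01d8eb) (.leaf 0x60b98dd))) (.node (.node (.leaf 0x138418dd) (.leaf 0x120558eb)) (.node (.leaf 0x1361d8f3) (.leaf 0x0)))))) (.node (.node (.node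 (.node (.node (.leaf 0xdb098eb) (.leaf 0x123d58e5)) (.node (.leaf 0xd8fd8f1) (.leaf 0xc1398e9))) (.node (.node (.leaf 0x135998dd) (.leaf 0x12f118f1)) (.node (.leaf 0x9a198f1) (.leaf 0xf94d8c5)))) (.node (.node (.node (.leaf 0x819d8f1) (.leaf 0xdb0d8eb)) (.node (.leaf 0xc1498dd) (.leaf 0x138358eb))) (.node (.node (.leaf 0xd5098e9) (.leaf 0x132e58f1)) (.node (.leaf 0x701d8c5) (.leaf 0x0))))) (.node (.node (.node (.node (.leaf 0x12e898e9) (.leaf 0x11e918f3)) (.node (.leaf 0x12f618dd) (.leaf 0x76418e9))) (.node (.node (.leaf 0x127898dd) (.leaf 0x124ed8eb)) (.node (.leaf 0xec618e9) (.leaf 0x0)))) (.node (.node (.node (.leaf 0xc0a58c5) (.leaf 0x123898dd)) (.node (.leaf 0x132bd8eb) (.leaf 0x13a1d8e5))) (.node (.node (.leaf 0x825d8dd) (.leaf 0x40618eb)) (.node (.leaf 0x1791d8f3) (.leaf 0x0))))))))))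

/-- packed table -/
noncomputable def cov11_rrr : BTree := (.node (.node (.node (.node (.node (.node (.node (.node (.node (.leaf 0x40298dd) (.leaf 0x13ac18f3)) (.node (.leaf 0x90f18eb) (.leaf 0x18ce))) (.node (.node (.leaf 0xf3998e9) (.leaf 0x10d7d8eb)) (.node (.leaf 0x10be58f1) (.leaf 0xf9c18e5)))) (.node (.node (.node (.leaf 0x1022d8f1) (.leaf 0xef698eb)) (.node (.leaf 0xdb0d8e9) (.leaf 0xdea98e9))) (.node (.node (.leaf 0x103b18c5) (.leaf 0xc90d8eb)) (.node (.leaf 0x898d8e9) (.leaf 0x0))))) (.node (.node (.node (.node (.leaf 0xa5fd8dd) (.leaf 0x128398eb)) (.node (.leaf 0xd0598f3) (.leaf 0x11ec18dd))) (.node (.node (.leaf 0x103f98f3) (.leaf 0x818d8dd)) (.node (.leaf 0xd9e98f3) (.leaf 0xe8218dd)))) (.node (.node (.node (.leaf 0xd7358e5) (.leaf 0xb8fd8e9)) (.node (.leaf 0xa2ed8e9) (.leaf 0xdf3d8c5))) (.node (.node (.leaf 0xd4b58dd) (.leaf 0xb5b18f3)) (.node (.leaf 0x18c8) (.leaf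 0x0)))))) (.node (.node (.node (.node (.node (.leaf 0x818d8f3) (.leaf 0x426d8eb)) (.node (.leaf 0x53818c5) (.leaf 0x104c18dd))) (.node (.node (.leaf 0xc8798f1) (.leaf 0xfaa98f1)) (.node (.leaf 0xc51d8e5) (.leaf 0x138998e5)))) (.node (.node (.node (.leaf 0xb3dd8e9) (.leaf 0x135998c5)) (.node (.leaf 0xd0598c5) (.leaf 0xf4d18f3))) (.node (.node (.leaf 0x117898f3) (.leaf 0xf56d8f3)) (.node (.leaf 0x9b898f1) (.leaf 0x0))))) (.node (.node (.node (.node (.leaf 0xdfe58dd) (.leaf 0x12bcd8e9)) (.node (.leaf 0x10ab98dd) (.leaf 0xb02d8eb))) (.node (.node (.leaf 0xd4dd8f1) (.leaf 0xd9c98dd)) (.node (.leaf 0x102b18c5) (.leaf 0x76f58e5)))) (.node (.node (.node (.leaf 0x873d8dd) (.leaf 0x135898c5)) (.node (.leaf 0x82418c5) (.leaf 0xa5958f3))) (.node (.node (.leaf 0x129c58dd) (.leaf 0xb2358e9)) (.node (.leaf 0xa8798eb) (.leaf 0x0))))))) (.node (.node (.node (.node (.node (.node (.leaf 0x82918eb)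 (.leaf 0x13b3d8dd)) (.node (.leaf 0xd4558f3) (.leaf 0x102fd8dd))) (.node (.node (.leaf 0xc4d98f1) (.leaf 0x132e18c5)) (.node (.leaf 0xcb0d8f1) (.leaf 0xe8c58f1)))) (.node (.node (.node (.leaf 0x49498c5) (.leaf 0xdea98e5)) (.node (.leaf 0xd3898eb) (.leaf 0xf3998f3))) (.node (.node (.leaf 0xedbd8e9) (.leaf 0x126018c5)) (.node (.leaf 0x11c998dd) (.leaf 0x0))))) (.node (.node (.node (.node (.leaf 0xd1818dd) (.leaf 0x11fa18eb)) (.node (.leaf 0x100dd8e5) (.leaf 0xc2898dd))) (.node (.node (.leaf 0x104158e5) (.leaf 0x99798dd)) (.node (.leaf 0x10cc58e5) (.leaf 0xa4518eb)))) (.node (.node (.node (.leaf 0x1450d8f3) (.leaf 0x10c218eb)) (.node (.leaf 0xd01d8dd) (.leaf 0xfa318c5))) (.node (.node (.leaf 0x125818eb) (.leaf 0x82718dd)) (.node (.leaf 0x13af18f1) (.leaf 0x0)))))) (.node (.node (.node (.node (.node (.leaf 0x7b2d8dd) (.leaf 0x106618dd)) (.node (.leaf 0xc1ad8e5) (.leaf 0x82a58eb)))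 (.node (.node (.leaf 0x132d58eb) (.leaf 0x126758dd)) (.node (.leaf 0x11b058f1) (.leaf 0x10cc98dd)))) (.node (.node (.node (.leaf 0x131ed8dd) (.leaf 0xae758f1)) (.node (.leaf 0x10ed98f3) (.leaf 0x82658dd))) (.node (.node (.leaf 0x119058f3) (.leaf 0x15aa98e9)) (.node (.leaf 0x82cd8eb) (.leaf 0x0))))) (.node (.node (.node (.node (.leaf 0x126498e9) (.leaf 0x127f98dd)) (.node (.leaf 0x11bd98e5) (.leaf 0xc4c58dd))) (.node (.node (.leaf 0xd5a18e5) (.leaf 0xde7d8eb)) (.node (.leaf 0x90998e9) (.leaf 0x0)))) (.node (.node (.node (.leaf 0x107a58e5) (.leaf 0xfa9d8f1)) (.node (.leaf 0xc2c58e9) (.leaf 0xa5f98f3))) (.node (.node (.leaf 0x117a18f1) (.leaf 0x14a458e9)) (.node (.leaf 0x11e898e5) (.leaf 0x0)))))))) (.node (.node (.node (.node (.node (.node (.node (.leaf 0x100458dd) (.leaf 0xafed8f1)) (.node (.leaf 0x82418eb) (.leaf 0x18d4))) (.node (.node (.leaf 0xd7fd8c5) (.leaf 0x9f118e9)) (.node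 (.leaf 0xbb198eb) (.leaf 0xcd5d8eb)))) (.node (.node (.node (.leaf 0x49358eb) (.leaf 0xfa958e9)) (.node (.leaf 0xf4f58dd) (.leaf 0xc28d8dd))) (.node (.node (.leaf 0x10c0d8eb) (.leaf 0xc4e18dd)) (.node (.leaf 0x9a318eb) (.leaf 0x0))))) (.node (.node (.node (.node (.leaf 0x42598f1) (.leaf 0xf1718e9)) (.node (.leaf 0xc9fd8e9) (.leaf 0x121b58c5))) (.node (.node (.leaf 0x1068d8f1) (.leaf 0xf7958eb)) (.node (.leaf 0x101918dd) (.leaf 0x128318dd)))) (.node (.node (.node (.leaf 0xe1b18dd) (.leaf 0x130cd8e9)) (.node (.leaf 0xa6158eb) (.leaf 0x139798e5))) (.node (.node (.leaf 0xde758e9) (.leaf 0x102958eb)) (.node (.leaf 0x118298eb) (.leaf 0x0)))))) (.node (.node (.node (.node (.node (.leaf 0x42758e9) (.leaf 0xe56d8f1)) (.node (.leaf 0x8b358eb) (.leaf 0x120e18dd))) (.node (.node (.leaf 0x897d8eb) (.leaf 0xea318f3)) (.node (.leaf 0x11a7d8f1) (.leaf 0x139fd8e5)))) (.node (.node (.node (.leaf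 0x102998f1) (.leaf 0xe8b58dd)) (.node (.leaf 0x1374d8eb) (.leaf 0x10bd18e9))) (.node (.node (.leaf 0x94798f3) (.leaf 0xaf798eb)) (.node (.leaf 0xb3ed8f1) (.leaf 0x0))))) (.node (.node (.node (.node (.leaf 0x12a258e9) (.leaf 0xaf0d8f1)) (.node (.leaf 0x18da) (.leaf 0x129118f1))) (.node (.node (.leaf 0xd4a18f3) (.leaf 0xd7018e9)) (.node (.leaf 0x40298e9) (.leaf 0x0)))) (.node (.node (.node (.leaf 0xd3018e5) (.leaf 0x10bc18dd)) (.node (.leaf 0xcfc58e9) (.leaf 0xf8918c5))) (.node (.node (.leaf 0xfa718e9) (.leaf 0x16be58f1)) (.node (.leaf 0xe67d8e5) (.leaf 0x0))))))) (.node (.node (.node (.node (.node (.node (.leaf 0xd2a18c5) (.leaf 0x13af58f3)) (.node (.leaf 0x139658dd) (.leaf 0xe60d8f1))) (.node (.node (.leaf 0x16f898e9) (.leaf 0x132e18f3)) (.node (.leaf 0x91098dd) (.leaf 0xe67d8f3)))) (.node (.node (.node (.leaf 0xc8958f3) (.leaf 0x133298c5)) (.node (.leaf 0x8fd58e5) (.leaf 0xecb18eb)))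 (.node (.node (.leaf 0xd8658f1) (.leaf 0x121098dd)) (.node (.leaf 0xc1358dd) (.leaf 0x0))))) (.node (.node (.node (.node (.leaf 0xc74d8c5) (.leaf 0x171858f3)) (.node (.leaf 0x10b9d8f3) (.leaf 0xafed8eb))) (.node (.node (.leaf 0x119058c5) (.leaf 0x132bd8c5)) (.node (.leaf 0x9be98f1) (.leaf 0xf6898c5)))) (.node (.node (.node (.leaf 0x801d8f3) (.leaf 0x139418f1)) (.node (.leaf 0xd6e58e5) (.leaf 0x13aad8eb))) (.node (.node (.leaf 0x82cd8e5) (.leaf 0xa6158f1)) (.node (.leaf 0xd8658e9) (.leaf 0x0)))))) (.node (.node (.node (.node (.node (.leaf 0xc0c18f3) (.leaf 0x85558e9)) (.node (.leaf 0x133198eb) (.leaf 0xc1b58eb))) (.node (.node (.leaf 0x10bc18c5) (.leaf 0x138098eb)) (.node (.leaf 0x9a198e9) (.leaf 0x114918dd)))) (.node (.node (.node (.leaf 0xf5c58e9) (.leaf 0xb2358dd)) (.node (.leaf 0xc5d18e5) (.leaf 0x12e498e5))) (.node (.node (.leaf 0xd4d58dd) (.leaf 0x12ed58eb)) (.node (.leaf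 0xf3b98e9) (.leaf 0x0))))) (.node (.node (.node (.node (.leaf 0xd42d8dd) (.leaf 0x134dd8eb)) (.node (.leaf 0x1054d8dd) (.leaf 0x5ead8c5))) (.node (.node (.leaf 0x82798e9) (.leaf 0x11df58f1)) (.node (.leaf 0x113a98e5) (.leaf 0x0)))) (.node (.node (.node (.leaf 0x103598f1) (.leaf 0xe38d8dd)) (.node (.leaf 0x127e98dd) (.leaf 0xe8998f1))) (.node (.node (.leaf 0xd36d8e9) (.leaf 0xc11d8eb)) (.node (.leaf 0x833d8dd) (.leaf 0x0))))))))) (.node (.node (.node (.node (.node (.node (.node (.node (.leaf 0x100658dd) (.leaf 0xf5c58f3)) (.node (.leaf 0x91098eb) (.leaf 0xc1018eb))) (.node (.node (.leaf 0x105fd8f1) (.leaf 0x134258c5)) (.node (.leaf 0x10bd58f1) (.leaf 0x138358e5)))) (.node (.node (.node (.leaf 0xc4958f1) (.leaf 0xb8fd8f1)) (.node (.leaf 0xd7818e5) (.leaf 0x5e1d8c5))) (.node (.node (.leaf 0xca6d8e9) (.leaf 0xed658eb)) (.node (.leaf 0x84ad8e9) (.leaf 0x0))))) (.node (.node (.node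 (.node (.leaf 0xdba58dd) (.leaf 0xa4f58e9)) (.node (.leaf 0xdba58c5) (.leaf 0x133458e5))) (.node (.node (.leaf 0x172758e9) (.leaf 0x11e458e5)) (.node (.leaf 0xd9dd8f3) (.leaf 0xc6498e9)))) (.node (.node (.node (.leaf 0x117158eb) (.leaf 0x13b418eb)) (.node (.leaf 0xceb58f1) (.leaf 0xf06d8eb))) (.node (.node (.leaf 0xf46d8e9) (.leaf 0x82918dd)) (.node (.leaf 0xbb198f3) (.leaf 0x0)))))) (.node (.node (.node (.node (.node (.leaf 0x1091d8f1) (.leaf 0xbb1d8f1)) (.node (.leaf 0xcb458e9) (.leaf 0xa5f98e9))) (.node (.node (.leaf 0xc4418e9) (.leaf 0xc42d8e9)) (.node (.leaf 0x95558c5) (.leaf 0x1376d8c5)))) (.node (.node (.node (.leaf 0x102a98f1) (.leaf 0x123c98e9)) (.node (.leaf 0xd05d8c5) (.leaf 0x11dcd8f1))) (.node (.node (.leaf 0x112698f1) (.leaf 0x1334d8eb)) (.node (.leaf 0x86d18eb) (.leaf 0x0))))) (.node (.node (.node (.node (.leaf 0x40618f1) (.leaf 0xe1c98e5)) (.node (.leaf 0x118d98eb)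 (.leaf 0x12a818c5))) (.node (.node (.leaf 0x8b018f1) (.leaf 0xe1918f3)) (.node (.leaf 0x9b358e5) (.leaf 0xfa9d8c5)))) (.node (.node (.node (.leaf 0x42618e9) (.leaf 0xcbdd8dd)) (.node (.leaf 0xc6218c5) (.leaf 0xe4d58f3))) (.node (.node (.leaf 0xcbd98e5) (.leaf 0x132298e5)) (.node (.leaf 0x9f6d8dd) (.leaf 0x0))))))) (.node (.node (.node (.node (.node (.node (.leaf 0xd92d8dd) (.leaf 0xe5ad8e9)) (.node (.leaf 0x113f98f1) (.leaf 0x16f658e5))) (.node (.node (.leaf 0x142198f1) (.leaf 0x13a6d8e9)) (.node (.leaf 0x91118dd) (.leaf 0x121d18f1)))) (.node (.node (.node (.leaf 0xc1658f1) (.leaf 0x132058dd)) (.node (.leaf 0x10dfd8dd) (.leaf 0x426d8dd))) (.node (.node (.leaf 0x95498f3) (.leaf 0xec198f1)) (.node (.leaf 0x119658f3) (.leaf 0x0))))) (.node (.node (.node (.node (.leaf 0x9be98dd) (.leaf 0x1795d8f3)) (.node (.leaf 0x15af58e5) (.leaf 0xc2698dd))) (.node (.node (.leaf 0x57098f3) (.leaf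 0xd0598eb)) (.node (.leaf 0x11b058f3) (.leaf 0xdde58f1)))) (.node (.node (.node (.leaf 0x120518eb) (.leaf 0xf19d8c5)) (.node (.leaf 0x8b358e9) (.leaf 0x130018eb))) (.node (.node (.leaf 0x102a98e5) (.leaf 0xc1898e9)) (.node (.leaf 0x1406d8e9) (.leaf 0x0)))))) (.node (.node (.node (.node (.node (.leaf 0xf59d8eb) (.leaf 0xf5818f3)) (.node (.leaf 0x10bbd8eb) (.leaf 0xf2018dd))) (.node (.node (.leaf 0x132e58eb) (.leaf 0x10f3d8dd)) (.node (.leaf 0x11b198f1) (.leaf 0x10d0d8dd)))) (.node (.node (.node (.leaf 0xc3898f3) (.leaf 0x122458e9)) (.node (.leaf 0x13a3d8dd) (.leaf 0x108518e9))) (.node (.node (.leaf 0xd8fd8f3) (.leaf 0xa4698f1)) (.node (.leaf 0x10ee58dd) (.leaf 0x0))))) (.node (.node (.node (.node (.leaf 0xa0a98e9) (.leaf 0xdd9d8f3)) (.node (.leaf 0xdd798e9) (.leaf 0x1284d8f1))) (.node (.node (.leaf 0xe7418dd) (.leaf 0x123258eb)) (.node (.leaf 0x15c798f3) (.leaf 0x0)))) (.node (.node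 (.node (.leaf 0x100798c5) (.leaf 0x168458f1)) (.node (.leaf 0x10ac98f3) (.leaf 0x167fd8eb))) (.node (.node (.leaf 0x112698f3) (.leaf 0x135758f3)) (.node (.leaf 0x139798f1) (.leaf 0x0)))))))) (.node (.node (.node (.node (.node (.node (.node (.leaf 0xdfb98eb) (.leaf 0xe40d8c5)) (.node (.leaf 0x117158f1) (.leaf 0xde7d8c5))) (.node (.node (.leaf 0xd8fd8e9) (.leaf 0xb3418f3)) (.node (.leaf 0xe8218e9) (.leaf 0xfa9d8e5)))) (.node (.node (.node (.leaf 0x897d8f1) (.leaf 0x1081d8dd)) (.node (.leaf 0x819d8c5) (.leaf 0x128818f1))) (.node (.node (.leaf 0x1581d8f1) (.leaf 0xf57d8e5)) (.node (.leaf 0xdb9d8f1) (.leaf 0x0))))) (.node (.node (.node (.node (.leaf 0xc2898f1) (.leaf 0x135858f3)) (.node (.leaf 0xeb798eb) (.leaf 0x130f98f3))) (.node (.node (.leaf 0x82418f3) (.leaf 0xf3498c5)) (.node (.leaf 0xeda18eb) (.leaf 0x12a118f3)))) (.node (.node (.node (.leaf 0xc42d8f1) (.leaf 0xa5f98c5)) (.node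 (.leaf 0xcbdd8f3) (.leaf 0x13add8e5))) (.node (.node (.leaf 0xf1658dd) (.leaf 0x163e18e9)) (.node (.leaf 0x81518dd) (.leaf 0x0)))))) (.node (.node (.node (.node (.node (.leaf 0x94798c5) (.leaf 0x10c2d8e9)) (.node (.leaf 0x179958eb) (.leaf 0x72418dd))) (.node (.node (.leaf 0x49358f1) (.leaf 0x139f58f3)) (.node (.leaf 0x16ab18dd) (.leaf 0xf64d8c5)))) (.node (.node (.node (.leaf 0x107598f3) (.leaf 0x102998eb)) (.node (.leaf 0x128318eb) (.leaf 0x82858dd))) (.node (.node (.leaf 0xe8c58dd) (.leaf 0x131258e5)) (.node (.leaf 0xe2f58e5) (.leaf 0x0))))) (.node (.node (.node (.node (.leaf 0xdfb98dd) (.leaf 0x127658eb)) (.node (.leaf 0x911d8e5) (.leaf 0x10f818eb))) (.node (.node (.leaf 0xe59d8e9) (.leaf 0xc6218eb)) (.node (.leaf 0x9d358f3) (.leaf 0x0)))) (.node (.node (.node (.leaf 0x120898e9) (.leaf 0x10bf18dd)) (.node (.leaf 0xf3998dd) (.leaf 0x13ae18dd))) (.node (.node (.leaf 0x116198f1)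 (.leaf 0x1241d8c5)) (.node (.leaf 0x13aed8dd) (.leaf 0x0))))))) (.node (.node (.node (.node (.node (.node (.leaf 0x9e198dd) (.leaf 0x1441d8e9)) (.node (.leaf 0x535d8e5) (.leaf 0x1154d8eb))) (.node (.node (.leaf 0x81458f3) (.leaf 0x12cd18f1)) (.node (.leaf 0xb3c98dd) (.leaf 0x7b2d8e5)))) (.node (.node (.node (.leaf 0xd8fd8e5) (.leaf 0x139198f3)) (.node (.leaf 0x91258e9) (.leaf 0x106718e9))) (.node (.node (.leaf 0xca6d8dd) (.leaf 0xf5598f3)) (.node (.leaf 0x130cd8eb) (.leaf 0x0))))) (.node (.node (.node (.node (.leaf 0xc9fd8f3) (.leaf 0x9d8d8e5)) (.node (.leaf 0x107598e5) (.leaf 0x833d8e9))) (.node (.node (.leaf 0x119218eb) (.leaf 0x136a98f1)) (.node (.leaf 0x102a98c5) (.leaf 0x13a818e5)))) (.node (.node (.node (.leaf 0x40298f1) (.leaf 0x158818dd)) (.node (.leaf 0x95818dd) (.leaf 0xaa498f1))) (.node (.node (.leaf 0xc5ed8e9) (.leaf 0x175558f3)) (.node (.leaf 0xfb0d8f1) (.leaf 0x0))))))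 (.node (.node (.node (.node (.node (.leaf 0xdba58e5) (.leaf 0x60b98e5)) (.node (.leaf 0xd52d8f3) (.leaf 0xe56d8c5))) (.node (.node (.leaf 0xa4b18dd) (.leaf 0x133a18f3)) (.node (.leaf 0x849d8eb) (.leaf 0xcecd8eb)))) (.node (.node (.node (.leaf 0xc1798f1) (.leaf 0x42758eb)) (.node (.leaf 0xed998e9) (.leaf 0xed2d8eb))) (.node (.node (.leaf 0xd8d58e9) (.leaf 0xe1e58c5)) (.node (.leaf 0xa4b18f1) (.leaf 0x0))))) (.node (.node (.node (.node (.leaf 0xc21d8f1) (.leaf 0x155658eb)) (.node (.leaf 0x135298dd) (.leaf 0x134698e5))) (.node (.node (.leaf 0xd9358e5) (.leaf 0xa4f58eb)) (.node (.leaf 0x84798e5) (.leaf 0x0)))) (.node (.node (.node (.leaf 0xe56d8dd) (.leaf 0x1091d8eb)) (.node (.leaf 0x92518eb) (.leaf 0xa0418eb))) (.node (.node (.leaf 0xd3598e9) (.leaf 0x12ca18e5)) (.node (.leaf 0x133ad8f1) (.leaf 0x0))))))))))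

/-- packed table -/
noncomputable def cov11 : BTree := (.node (.node (.node cov11_lll cov11_llr) (.node cov11_lrl cov11_lrr)) (.node (.node cov11_rll cov11_rlr) (.node cov11_rrl cov11_rrr)))

theorem cov11_ok : okCover 11 cov11 = true := by decide +kernel

/-- straight-line program -/
def slp11 : List (Nat × Nat × Nat) :=
  [(0xba68811e40ac1819c6cf234ab329c3, 1, 4),
   (0xa22c518584b9d4b036a9309f09ba51, 5, 4),
   (0x43d253382bb92331b2966aaa0140f2, 3, 5),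
   (0xb16af9c98da1e0e00ee88892122d46, 3, 6),
   (0x2d9f511e604358394534542eb311c1, 8, 5),
   (0x4dd1411da07cd84844b50cacb30dca, 7, 6),
   (0xa56f61862a4b8875c905619f368202, 10, 6),
   (0xba6887188ba8e2d532cf904a03cc50, 9, 6),
   (0x49695834d342e42706ef046c323147, 9, 7),
   (0x43d25389a0bc98a846960ceab70cc4, 11, 6),
   (0x2d9f57194b406302313498ee03c84d, 12, 5),
   (0xb5e956c23243a6c584af3992320940, 13, 15),
   (0xa56f6228c14ac6c741053c5ed98a40, 12, 16),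
   (0xad2d7184ca2ac8c749e93c51368a00, 13, 15),
   (0x7d53718404289516351671e9099a4b, 17, 18),
   (0x450b694d704b9ac8a9f711aa409c60, 19, 0),
   (0x7d537835722ba6c8851611a8351c80, 18, 1),
   (0x2d9f5511c142c6c34134146ed91e60, 17, 2),
   (0xabee922983b1c2b04e85309126ba11, 20, 21),
   (0xb16af08ccaa448074ae83ad33809ac, 19, 0),
   (0x7a2f6185ca4c48c34ea53ae92809a0, 23, 0),
   (0xabee951001b087164a8571d13819ab, 24, 23),
   (0xabee99c96db3a0c892851190a19c20, 24, 0),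
   (0xa56f694ced4821110d05331e15388b, 25, 10),
   (0x4deaf9c8eda3211104a8702c35188b, 27, 0),
   (0x7d6c594e30b99ac5910913a8a19c20, 25, 0),
   (0x4dd14602477c0419b8b5236c65aa23, 27, 28),
   (0x2d9f58ac66411d30893482ae703592, 31, 0),
   (0x2d9f5602074484a6b9341cee658624, 30, 0),
   (0xb5de894d6da9a0c8a8b43b92418820, 30, 0)]

/-- levels -/
def levels11 : List (Nat × List Nat) :=
  [(0, [35, 0, 1, 3, 4, 5, 6, 7, 8, 9, 10, 11, 12, 13, 14, 15]),
   (1, [35, 16, 17, 18, 20, 21, 22, 25]),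
   (5, [35, 27, 30, 34])]

/-- stabilising facts -/
def gens11 : List Nat := [1585, 1591, 1593, 1594, 1596]

theorem chain11_ok : okChain 11 gens11 slp11 levels11 = true := by decide +kernel

theorem chain11_size : chainSize levels11 = 512 := by decide +kernel

end CfsgLib.Spor.J4.Index
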