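import Cfsg.Agent.Lib.Spor.J4.Index.Base

/-!
Soundness of the double coset certificate.
-/

set_option autoImplicit false

namespace CfsgLib.Spor.J4.Index

open CfsgLib.PresCert CfsgLib.Spor Cfsg
open scoped Pointwise

/-- the presented group -/
local notation "J" => Cfsg.Spor.J4

/-- the element `(y t^w)³` -/
noncomputable def gs : J := (gy * ((wJ wH)⁻¹ * gt * wJ wH)) ^ 3

/-- the subgroup of the index statement -/
noncomputable def subH : Subgroup J := Subgroup.closure {gx, gy, gs}

/-- the points: left cosets of the subgroup -/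
abbrev Pts : Type := J ⧸ subH

theorem wJ_append (u w : List ℕ) : wJ (u ++ w) = wJ u * wJ w := by simp [wJ]

theorem wJ_winv : ∀ {w : List ℕ}, (∀ l ∈ w, l = 0 ∨ l = 2 ∨ l = 3) → wJ (winv w) = (wJ w)⁻¹
  | [], _ => by simp [wJ, winv]
  | l :: w, h => by
    have ih := wJ_winv (w := w) fun z hz => h z (List.mem_cons_of_mem _ hz)
    have hx : gx⁻¹ = gx := inv_eq_of_mul_eq_one_right (by rw [← sq]; exact m24Rels.sq)
    have e : winv (l :: w) = winv w ++ winv [l] := by simp [winv]
    rw [e, wJ_append, ih, show wJ (l :: w) = letterVal gx gy l * wJ w from List.prod_cons,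
      mul_inv_rev]
    congr 1
    rcases h l (List.mem_cons_self ..) with rfl | rfl | rfl <;> simp [wJ, winv, letterVal, hx]

/-- conjugates of `t` by words -/
noncomputable def tU (u : List ℕ) : J := (wJ u)⁻¹ * gt * wJ u

theorem okWords_spec : ∀ {us : List (List ℕ)} {ws : List ℕ},
    (∀ u ∈ us, ∀ l ∈ u, l = 0 ∨ l = 2 ∨ l = 3) → okWords us ws = true →
      ws.map tT = us.map tU
  | [], [], _, _ => rfl
  | [], _ :: _, _, h => by simp [okWords] at h
  | _ :: _, [], _, h => by simp [okWords] at h
  | u :: us, b :: bs, hl, h => by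
    simp only [okWords, Bool.and_eq_true] at h
    obtain ⟨hk, hb, e⟩ := moveTo_spec (rep_wEl (winv u)) h.1
    rw [List.map_cons, List.map_cons,
      okWords_spec (fun v hv => hl v (List.mem_cons_of_mem _ hv)) h.2, tT_eq hb e, psi_wEl,
      wJ_winv (hl u (List.mem_cons_self ..))]
    simp [tU]

theorem actProd_eq (ws : List ℕ) : actProd ws = (ws.map tT).reverse.prod := by
  induction ws with
  | nil => simp [actProd]
  | cons b bs ih => simp [actProd, ih]

theorem wJ_y2 : wJ [2, 2] = gy * gy := by simp [wJ, letterVal]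

theorem wJ_y : wJ [2] = gy := by simp [wJ, letterVal]

theorem wJ_nil : wJ [] = 1 := rfl

theorem gy3 : gy * gy * gy = 1 := by rw [mul_assoc, ← pow_three]; exact m24Rels.cube

theorem triple_identity {G : Type*} [Group G] (y S : G) (hy : y * y * y = 1) (hS : S * S = 1) :
    S * (y⁻¹ * S * y) * ((y * y)⁻¹ * S * (y * y)) = ((y * S) ^ 3)⁻¹ := by
  have hi : S⁻¹ = S := inv_eq_of_mul_eq_one_right hS
  calc S * (y⁻¹ * S * y) * ((y * y)⁻¹ * S * (y * y))
      = (S * y⁻¹) ^ 3 * (y * y * y) := by simp only [pow_three]; group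
    _ = ((y * S) ^ 3)⁻¹ := by rw [hy, mul_one, ← inv_pow, mul_inv_rev, hi]

theorem quad_identity {G : Type*} [Group G] (p t S : G) (ht : t * t = 1) (hS : S * S = 1)
    (h : (p * t * S) ^ 2 = 1) :
    (p * p)⁻¹ * (S * t * (p⁻¹ * S * p) * (p⁻¹ * t * p)) = 1 := by
  have hi : S⁻¹ = S := inv_eq_of_mul_eq_one_right hS
  have hti : t⁻¹ = t := inv_eq_of_mul_eq_one_right ht
  have h2 : (S * t * p⁻¹) ^ 2 = 1 := by
    rw [← inv_eq_one, ← inv_pow] at h
    rwa [mul_inv_rev, mul_inv_rev, hi, hti, ← mul_assoc] at h
  calc (p * p)⁻¹ * (S * t * (p⁻¹ * S * p) * (p⁻¹ * t * p))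
      = (p * p)⁻¹ * (S * t * p⁻¹) ^ 2 * (p * p) := by rw [sq]; group
    _ = 1 := by rw [h2]; group

theorem rel_one_zero : actProd (baseRels.getD 0 ([], 0, 0)).1 = 1 := by
  obtain ⟨-, h, -⟩ := rel_words
  rw [actProd_eq, okWords_spec (by decide) h]
  have hr : (gy * ((wJ wA)⁻¹ * gt * wJ wA)) ^ 3 = 1 := by
    have e : wJ wA = gy * gx * (gy⁻¹) * gx * gy * gx * (gy⁻¹) * gx := by
      simp [wJ, wA, letterVal, mul_assoc]
    rw [e]
    simp only [gx, gy, gt, ← map_pow, ← map_mul, ← map_inv]
    exact rel_mem (by simp [Cfsg.Spor.J4.extra])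
  have hS : ((wJ wA)⁻¹ * gt * wJ wA) * ((wJ wA)⁻¹ * gt * wJ wA) = 1 := by
    calc _ = (wJ wA)⁻¹ * (gt * gt) * wJ wA := by group
      _ = 1 := by rw [gt_sq]; group
  have key := triple_identity gy ((wJ wA)⁻¹ * gt * wJ wA) gy3 hS
  rw [hr, inv_one] at key
  rw [← key]
  simp only [List.map_cons, List.map_nil, List.reverse_cons, List.reverse_nil, List.nil_append,
    List.cons_append, List.prod_cons, List.prod_nil, tU, wJ_append, wJ_y2, wJ_y, mul_inv_rev,
    mul_assoc, mul_one]

theorem rel_one_one : (wJ (winv wPi ++ winv wPi)) * actProd (baseRels.getD 1 ([], 0, 0)).1 = 1 := by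
  obtain ⟨-, -, h, -⟩ := rel_words
  rw [actProd_eq, okWords_spec (by decide) h]
  have hr : (wJ wPi * gt * ((wJ wV)⁻¹ * gt * wJ wV)) ^ 2 = 1 := by
    have e1 : wJ wPi = (gy * gx * gy * gx * gy * gx * gy) ^ 3 := by
      simp [wJ, wPi, letterVal, mul_assoc, pow_succ, List.replicate_succ]
    have e2 : wJ wV = ((gx * gy) ^ 3) * gy * ((gx * gy) ^ 6) * gy := by
      simp [wJ, wV, letterVal, mul_assoc, pow_succ, List.replicate_succ]
    rw [e1, e2]
    simp only [gx, gy, gt, ← map_pow, ← map_mul, ← map_inv]
    exact rel_mem (by simp [Cfsg.Spor.J4.extra])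
  have hS : ((wJ wV)⁻¹ * gt * wJ wV) * ((wJ wV)⁻¹ * gt * wJ wV) = 1 := by
    calc _ = (wJ wV)⁻¹ * (gt * gt) * wJ wV := by group
      _ = 1 := by rw [gt_sq]; group
  have key := quad_identity (wJ wPi) gt ((wJ wV)⁻¹ * gt * wJ wV) gt_sq hS hr
  rw [← key]
  have hp : wJ (winv wPi) = (wJ wPi)⁻¹ := wJ_winv (by decide)
  simp only [List.map_cons, List.map_nil, List.reverse_cons, List.reverse_nil, List.nil_append,
    List.cons_append, List.prod_cons, List.prod_nil, tU, wJ_append, hp,
    wJ_nil, inv_one, one_mul, mul_inv_rev, mul_assoc, mul_one]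

theorem rel_one_two : actProd (baseRels.getD 2 ([], 0, 0)).1 = 1 := by
  obtain ⟨-, -, -, h, -⟩ := rel_words
  rw [actProd_eq, okWords_spec (by decide) h]
  simp [tU, wJ_nil, gt_sq]

theorem rel_one_three : actProd (baseRels.getD 3 ([], 0, 0)).1 ∈ subH := by
  obtain ⟨-, -, -, -, h, -⟩ := rel_words
  rw [actProd_eq, okWords_spec (by decide) h]
  have hS : ((wJ wH)⁻¹ * gt * wJ wH) * ((wJ wH)⁻¹ * gt * wJ wH) = 1 := by
    calc _ = (wJ wH)⁻¹ * (gt * gt) * wJ wH := by group
      _ = 1 := by rw [gt_sq]; group
  have key := triple_identity gy ((wJ wH)⁻¹ * gt * wJ wH) gy3 hS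
  have hm : (gs)⁻¹ ∈ subH := inv_mem (Subgroup.subset_closure (Or.inr (Or.inr rfl)))
  rw [gs, ← key] at hm
  simp only [List.map_cons, List.map_nil, List.reverse_cons, List.reverse_nil, List.nil_append,
    List.cons_append, List.prod_cons, List.prod_nil, tU, wJ_append, wJ_y2, wJ_y, mul_inv_rev,
    mul_assoc, mul_one] at hm ⊢
  exact hm

theorem psi_pWord {w : List ℕ} : psi (el (pWord w)) = wJ w := by
  rw [el_eq (rep_wEl w), psi_wEl]

/-- value of the tail of a relation -/
noncomputable def relTail (r : ℕ) : J := psi (el (baseRels.getD r ([], 0, 0)).2.1)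

theorem tail_ok : okPerm (baseRels.getD 0 ([], 0, 0)).2.1 (baseRels.getD 0 ([], 0, 0)).2.2 = true ∧
    okPerm (baseRels.getD 1 ([], 0, 0)).2.1 (baseRels.getD 1 ([], 0, 0)).2.2 = true ∧
    okPerm (baseRels.getD 2 ([], 0, 0)).2.1 (baseRels.getD 2 ([], 0, 0)).2.2 = true ∧
    okPerm (baseRels.getD 3 ([], 0, 0)).2.1 (baseRels.getD 3 ([], 0, 0)).2.2 = true := by
  decide +kernel

/-- the base point -/
noncomputable def pt0 : Pts := ((1 : J) : Pts)

theorem rel_base {r : ℕ} (hr : r < 4) :
    okPerm (baseRels.getD r ([], 0, 0)).2.1 (baseRels.getD r ([], 0, 0)).2.2 = true ∧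
      (r < 3 → relTail r * actProd (baseRels.getD r ([], 0, 0)).1 = 1) ∧
      (relTail r * actProd (baseRels.getD r ([], 0, 0)).1) • pt0 = pt0 := by
  obtain ⟨t0, t1, t2, t3⟩ := tail_ok
  obtain ⟨-, -, -, -, -, e0, e1, e2, e3⟩ := rel_words
  have one : psi (el idP) = 1 := by rw [valid_id.2, map_one]
  interval_cases r
  · have : relTail 0 * actProd (baseRels.getD 0 ([], 0, 0)).1 = 1 := by
      rw [relTail, e0, one, one_mul, rel_one_zero]
    exact ⟨t0, fun _ => this, by rw [this, one_smul]⟩
  · have : relTail 1 * actProd (baseRels.getD 1 ([], 0, 0)).1 = 1 := by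
      rw [relTail, e1, psi_pWord, rel_one_one]
    exact ⟨t1, fun _ => this, by rw [this, one_smul]⟩
  · have : relTail 2 * actProd (baseRels.getD 2 ([], 0, 0)).1 = 1 := by
      rw [relTail, e2, one, one_mul, rel_one_two]
    exact ⟨t2, fun _ => this, by rw [this, one_smul]⟩
  · refine ⟨t3, fun h => absurd h (by norm_num), ?_⟩
    rw [relTail, e3, one, one_mul]
    show ((actProd _ * 1 : J) : Pts) = ((1 : J) : Pts)
    rw [QuotientGroup.eq, mul_one, mul_one]
    exact inv_mem rel_one_three

/-- parent of a node -/
noncomputable def defI (j : ℕ) : ℕ := (nodeDefs.getD (j - 1) (99, 99)).1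

/-- trio of the definition of a node -/
noncomputable def defC (j : ℕ) : ℕ := (nodeDefs.getD (j - 1) (99, 99)).2

/-- points of the nodes, with fuel -/
noncomputable def nodeAux : ℕ → ℕ → Pts
  | 0, _ => pt0
  | f + 1, j => if j = 0 then pt0 else tT (defC j) • nodeAux f (defI j)

/-- the point of a node -/
noncomputable def node (j : ℕ) : Pts := nodeAux 20 j

theorem defs_ok : allBelow 19 (fun j => Nat.blt (defI (j + 1)) (j + 1)) = true := by decide +kernel

theorem node_zero : node 0 = pt0 := rfl

theorem nodeAux_stable : ∀ f j, j < f → j < 20 → nodeAux f j = nodeAux (f + 1) j := by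
  intro f
  induction f with
  | zero => intro j h; omega
  | succ f ih =>
    intro j hj h20
    rcases j with _ | j
    · rfl
    · have hd := allBelow_spec defs_ok j (by omega)
      rw [Nat.blt_eq] at hd
      simp only [nodeAux, Nat.succ_ne_zero, if_false]
      rw [ih _ (by omega) (by omega)]
      rfl

theorem node_def {j : ℕ} (h1 : 1 ≤ j) (h20 : j < 20) :
    node j = tT (defC j) • node (defI j) := by
  have hd := allBelow_spec defs_ok (j - 1) (by omega)
  rw [Nat.blt_eq, show j - 1 + 1 = j by omega] at hd
  rw [node, node, nodeAux_stable 20 j (by omega) h20]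
  simp [nodeAux, show j ≠ 0 by omega]

/-- meaning of a fact -/
def FactOK (f : ℕ) : Prop :=
  Valid (fP f) ∧ Valid (fPi f) ∧ el (fPi f) = (el (fP f))⁻¹ ∧
  (isStab f = true → psi (el (fP f)) • node (fI f) = node (fI f)) ∧
  (isEdge f = true → tT (fC f) • node (fI f) = psi (el (fP f)) • node (fJ f))

theorem blt_lt {a b : ℕ} (h : Nat.blt a b = true) : a < b := Nat.le_of_ble_eq_true h

theorem runMoves_sound {k : ℕ} (hf : ∀ f < k, FactOK f) :
    ∀ (ms bs : List ℕ) (i n j m : ℕ), runMoves k ms bs i n = some (j, m) → Valid n →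
      Valid m ∧ psi (el m) • node j = actProd bs • (psi (el n) • node i) := by
  intro ms
  induction ms with
  | nil =>
    intro bs i n j m h hn
    cases bs with
    | nil =>
      simp only [runMoves, Option.some.injEq, Prod.mk.injEq] at h
      obtain ⟨rfl, rfl⟩ := h
      exact ⟨hn, (one_smul _ _).symm⟩
    | cons b bs => simp [runMoves] at h
  | cons mv ms ih =>
    intro bs i n j m h hn
    simp only [runMoves] at h
    set f := Nat.shiftRight mv 2 with hfdef
    set d := Nat.land mv 3 with hddef
    cases hk : Nat.blt f k with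
    | false => simp [hk] at h
    | true =>
      obtain ⟨hp, hpi, hinv, hst, hed⟩ := hf _ (blt_lt hk)
      obtain ⟨hv1, he1⟩ := valid_comp hn hp
      obtain ⟨hv2, he2⟩ := valid_comp hn hpi
      rw [hk, cond_true] at h
      cases h0 : Nat.beq d 0 with
      | true =>
        rw [h0, cond_true] at h
        cases c : (isStab f && Nat.beq (fI f) i) with
        | false => simp [c] at h
        | true =>
          rw [c, cond_true] at h
          simp only [Bool.and_eq_true, Nat.beq_eq] at c
          obtain ⟨hm, e⟩ := ih _ _ _ _ _ h hv1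
          refine ⟨hm, e.trans ?_⟩
          rw [he1, map_mul, mul_smul, ← c.2, hst c.1]
      | false =>
        rw [h0, cond_false] at h
        cases h1 : Nat.beq d 1 with
        | true =>
          rw [h1, cond_true] at h
          cases c : (isStab f && Nat.beq (fI f) i) with
          | false => simp [c] at h
          | true =>
            rw [c, cond_true] at h
            simp only [Bool.and_eq_true, Nat.beq_eq] at c
            obtain ⟨hm, e⟩ := ih _ _ _ _ _ h hv2
            refine ⟨hm, e.trans ?_⟩
            rw [he2, map_mul, mul_smul, hinv, map_inv, ← c.2]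
            exact congrArg _ (congrArg _ (inv_smul_eq_iff.2 (hst c.1).symm))
        | false =>
          rw [h1, cond_false] at h
          cases bs with
          | nil => simp at h
          | cons b bs =>
            simp only at h
            cases h2 : Nat.beq d 2 with
            | true =>
              rw [h2, cond_true] at h
              cases c : (isEdge f && Nat.beq (fI f) i && moveTo n (fC f) b) with
              | false => simp [c] at h
              | true =>
                rw [c, cond_true] at h
                simp only [Bool.and_eq_true, Nat.beq_eq] at c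
                obtain ⟨⟨ck, ci⟩, cm⟩ := c
                obtain ⟨hm, e⟩ := ih _ _ _ _ _ h hv1
                refine ⟨hm, e.trans ?_⟩
                simp only [actProd, mul_smul]
                refine congrArg _ ?_
                rw [tT_conj (rep_el hn) cm, he1, map_mul, mul_smul, mul_smul, mul_smul,
                  inv_smul_smul, ← ci, hed ck]
            | false =>
              rw [h2, cond_false] at h
              cases c : (isEdge f && Nat.beq (fJ f) i && moveTo (compP n (fPi f)) (fC f) b) with
              | false => simp [c] at h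
              | true =>
                rw [c, cond_true] at h
                simp only [Bool.and_eq_true, Nat.beq_eq] at c
                obtain ⟨⟨ck, ci⟩, cm⟩ := c
                obtain ⟨hm, e⟩ := ih _ _ _ _ _ h hv2
                refine ⟨hm, e.trans ?_⟩
                simp only [actProd, mul_smul]
                refine congrArg _ ?_
                rw [tT_conj (rep_el hv2) cm, ← ci]
                have hJ : node (fJ f) = (psi (el (fP f)))⁻¹ • tT (fC f) • node (fI f) :=
                  eq_inv_smul_iff.2 (hed ck).symm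
                have hinvT : tT (fC f) * tT (fC f) = 1 := tT_sq
                rw [hJ, he2, map_mul, hinv, map_inv]
                simp only [← mul_smul]
                refine congrArg (fun g => g • node (fI f)) ?_
                generalize psi (el n) = a
                generalize psi (el (fP f)) = q
                generalize tT (fC f) = u at hinvT
                calc a * q⁻¹ = a * q⁻¹ * (u * u) := by rw [hinvT, mul_one]
                  _ = _ := by group

theorem okW_spec : ∀ {a : ℕ} {cs bs : List ℕ}, Valid a → okW a cs bs = true →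
    actProd bs = psi (el a) * actProd cs * (psi (el a))⁻¹
  | _, [], [], _, _ => by simp [actProd]
  | _, [], _ :: _, _, h => by simp [okW] at h
  | _, _ :: _, [], _, h => by simp [okW] at h
  | a, c :: cs, b :: bs, ha, h => by
    simp only [okW, Bool.and_eq_true] at h
    simp only [actProd, okW_spec ha h.2, tT_conj (rep_el ha) h.1]
    group

theorem okFact_sound {k : ℕ} (hf : ∀ f < k, FactOK f) {L : Loop} (h : okFact k L = true) :
    FactOK k := by
  simp only [okFact, Bool.and_eq_true] at h
  obtain ⟨⟨⟨⟨hperm, hI⟩, hJ⟩, hC⟩, h⟩ := h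
  obtain ⟨hp, hpi, hinv⟩ := okPerm_spec hperm
  refine ⟨hp, hpi, hinv, ?_⟩
  cases h0 : Nat.beq (fKind k) 0 with
  | true =>
    simp only [h0, cond_true, Bool.and_eq_true, Bool.or_eq_true, Nat.beq_eq] at h
    refine ⟨fun _ => ?_, fun hE => ?_⟩
    · rw [h.1, node_zero]
      show ((psi (el (fP k)) * 1 : J) : Pts) = ((1 : J) : Pts)
      rw [QuotientGroup.eq, mul_one, mul_one]
      refine inv_mem ?_
      rcases h.2 with e | e <;> rw [e]
      · rw [el_eq rep_ga, psi, M24Iso.toHom_ga]
        exact Subgroup.subset_closure (Or.inl rfl)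
      · rw [el_eq rep_gbi, map_inv, psi, M24Iso.toHom_gb]
        exact inv_mem (Subgroup.subset_closure (Or.inr (Or.inl rfl)))
    · have := Nat.eq_of_beq_eq_true h0
      simp [isEdge, this] at hE
  | false =>
    simp only [h0, cond_false] at h
    cases h1 : Nat.beq (fKind k) 1 with
    | true =>
      have e1 := Nat.eq_of_beq_eq_true h1
      simp only [h1, cond_true, Bool.and_eq_true, Nat.beq_eq, Nat.ble_eq] at h
      obtain ⟨⟨⟨hj, hid⟩, hi⟩, hc⟩ := h
      refine ⟨fun hS => by simp [isStab, e1] at hS, fun _ => ?_⟩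
      rw [hid, valid_id.2, map_one, one_smul, node_def hj (blt_lt hJ)]
      show _ = tT (nodeDefs.getD (fJ k - 1) (99, 99)).2 •
        node (nodeDefs.getD (fJ k - 1) (99, 99)).1
      rw [show Nat.sub (fJ k) 1 = fJ k - 1 from rfl] at hi hc
      rw [hi, hc]
    | false =>
      simp only [h1, cond_false, Bool.and_eq_true, Bool.or_eq_true, Nat.blt_eq, Nat.beq_eq] at h
      obtain ⟨⟨⟨⟨hrel, hcase⟩, hconj⟩, hw⟩, h⟩ := h
      obtain ⟨hs, hsi, hsinv⟩ := okPerm_spec hconj
      obtain ⟨htail, hone, hfix⟩ := rel_base hrel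
      obtain ⟨htl, htli, htinv⟩ := okPerm_spec htail
      set r := baseRels.getD L.rel ([], 0, 0)
      obtain ⟨hv2a, he2a⟩ := valid_comp hs htli
      obtain ⟨hv2, he2⟩ := valid_comp hv2a hsi
      rw [he2a, htinv, hsinv] at he2
      have hloop : actProd L.w • node L.start =
          psi (el (compP (compP L.conj r.2.2) L.conjInv)) • node L.start := by
        rw [he2, okW_spec hs hw, map_mul, map_mul, map_inv, map_inv]
        rcases hcase with hr3 | ⟨hst, hc⟩
        · have e := hone hr3
          rw [relTail] at e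
          rw [eq_inv_of_mul_eq_one_right e]
        · rw [hst, node_zero, hc, valid_id.2]
          simp only [map_one, inv_one, one_mul, mul_one]
          rw [relTail, mul_smul] at hfix
          exact eq_inv_smul_iff.2 hfix
      have hsplit : ∀ (u w : List ℕ), u ++ w = L.w →
          actProd w.reverse • (psi (el (compP (compP L.conj r.2.2) L.conjInv)) • node L.start) =
            actProd u • node L.start := by
        intro u w e
        rw [← hloop, ← e, actProd_append, ← mul_smul, ← mul_assoc, actProd_reverse, one_mul]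
      split at h
      · simp at h
      rename_i o i n hfwd
      obtain ⟨hn, efwd⟩ := runMoves_sound hf _ _ _ _ _ _ hfwd valid_id.1
      rw [valid_id.2, map_one, one_smul] at efwd
      obtain ⟨hnp, henp⟩ := valid_comp hn hp
      cases h2 : Nat.beq (fKind k) 2 with
      | true =>
        have e2 := Nat.eq_of_beq_eq_true h2
        refine ⟨fun hS => by simp [isStab, e2] at hS, fun _ => ?_⟩
        simp only [h2, cond_true] at h
        split at h
        · simp at h
        rename_i b rest hdrop
        split at h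
        · simp at h
        rename_i o2 j m hbwd
        simp only [Bool.and_eq_true, Nat.beq_eq] at h
        obtain ⟨⟨⟨hi, hj⟩, hmv⟩, hm⟩ := h
        obtain ⟨-, ebwd⟩ := runMoves_sound hf _ _ _ _ _ _ hbwd hv2
        have e := hsplit (L.w.take L.split ++ [b]) rest (by
          rw [List.append_assoc, List.singleton_append, ← hdrop, List.take_append_drop])
        rw [e, actProd_append, mul_smul, ← efwd] at ebwd
        simp only [actProd, one_mul] at ebwd
        rw [← hm, henp, map_mul, mul_smul, tT_conj (rep_el hn) hmv, ← mul_smul _ _ (node i),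
          inv_mul_cancel_right, mul_smul, hi, hj] at ebwd
        exact (smul_left_cancel _ ebwd).symm
      | false =>
        have hk3 : fKind k < 4 := by
          show (factTab.get k) &&& 3 < 4
          exact Nat.lt_succ_of_le Nat.and_le_right
        refine ⟨fun _ => ?_, fun hE => ?_⟩
        · simp only [h2, cond_false] at h
          split at h
          · simp at h
          rename_i o2 j m hbwd
          simp only [Bool.and_eq_true, Nat.beq_eq] at h
          obtain ⟨⟨hi, hj⟩, hm⟩ := h
          obtain ⟨-, ebwd⟩ := runMoves_sound hf _ _ _ _ _ _ hbwd hv2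
          rw [hsplit (L.w.take L.split) (L.w.drop L.split) (List.take_append_drop _ _), ← efwd,
            ← hm, henp, map_mul, mul_smul, hi, hj] at ebwd
          exact smul_left_cancel _ ebwd
        · simp [isEdge, h1, h2] at hE

theorem okLoops_sound : ∀ (Ls : List Loop) (k : ℕ), okLoops k Ls = true →
    (∀ f < k, FactOK f) → ∀ f < k + Ls.length, FactOK f
  | [], k, _, h, f, hf => h f (by simpa using hf)
  | L :: Ls, k, hok, h, f, hf => by
    simp only [okLoops, Bool.and_eq_true] at hok
    refine okLoops_sound Ls (k + 1) hok.2 (fun g hg => ?_) f (by simp at hf ⊢; omega)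
    rcases Nat.lt_succ_iff_lt_or_eq.1 hg with hg | rfl
    · exact h g hg
    · exact okFact_sound h hok.1

end CfsgLib.Spor.J4.Index
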