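import Cfsg.Agent.Lib.Spor.J4.Index.Check
import Cfsg.Agent.Lib.Spor.J4.M24Iso

/-!
Packed permutations as elements of M₂₄, the trios, and the stabiliser of the base trio.
-/

set_option autoImplicit false

namespace CfsgLib.Spor.J4.Index

open CfsgLib.PresCert CfsgLib.Spor Cfsg
open scoped Pointwise symmDiff

/-- `a` packs an element of M₂₄ -/
def Valid (a : ℕ) : Prop := ∃ σ : M24, Rep (σ : Equiv.Perm GolayPt) a

open Classical in
/-- the element packed by `a` -/
noncomputable def el (a : ℕ) : M24 := if h : Valid a then h.choose else 1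

theorem rep_el {a : ℕ} (h : Valid a) : Rep (el a : Equiv.Perm GolayPt) a := by
  rw [el, dif_pos h]; exact h.choose_spec

theorem el_eq {a : ℕ} {σ : M24} (h : Rep (σ : Equiv.Perm GolayPt) a) : el a = σ :=
  Subtype.ext ((rep_el ⟨σ, h⟩).inj h)

theorem valid_comp {a b : ℕ} (ha : Valid a) (hb : Valid b) :
    Valid (compP a b) ∧ el (compP a b) = el a * el b :=
  have h : Rep ((el a * el b : M24) : Equiv.Perm GolayPt) (compP a b) := (rep_el ha).mul (rep_el hb)
  ⟨⟨_, h⟩, el_eq h⟩

theorem valid_id : Valid idP ∧ el idP = 1 :=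
  ⟨⟨1, rep_one⟩, el_eq (σ := 1) rep_one⟩

/-- the permutation given by inverse tables -/
def permOf (a ai : ℕ)
    (h : ∀ i < 24, getP a i < 24 ∧ getP ai i < 24 ∧ getP a (getP ai i) = i ∧ getP ai (getP a i) = i) :
    Equiv.Perm GolayPt where
  toFun p := pt (getP a (idx p))
  invFun p := pt (getP ai (idx p))
  left_inv p := by
    simp only
    rw [idx_pt (h _ (idx_lt p)).1, (h _ (idx_lt p)).2.2.2, pt_idx]
  right_inv p := by
    simp only
    rw [idx_pt (h _ (idx_lt p)).2.1, (h _ (idx_lt p)).2.2.1, pt_idx]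

theorem okPerm_spec {a ai : ℕ} (h : okPerm a ai = true) :
    Valid a ∧ Valid ai ∧ el ai = (el a)⁻¹ := by
  simp only [okPerm, Bool.and_eq_true] at h
  obtain ⟨h1, h2⟩ := h
  have hp : ∀ i < 24,
      getP a i < 24 ∧ getP ai i < 24 ∧ getP a (getP ai i) = i ∧ getP ai (getP a i) = i := by
    intro i hi
    have := allBelow_spec h1 i hi
    simpa [Bool.and_eq_true, and_assoc] using this
  have ha : Rep (permOf a ai hp) a := fun i hi => by
    show getP a i = idx (pt (getP a (idx (pt i))))
    rw [idx_pt hi, idx_pt (hp i hi).1]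
  have hai : Rep (permOf a ai hp)⁻¹ ai := fun i hi => by
    show getP ai i = idx (pt (getP ai (idx (pt i))))
    rw [idx_pt hi, idx_pt (hp i hi).2.1]
  have hm := ha.mem_M24 h2
  have hai' : Rep (((⟨_, hm⟩ : M24)⁻¹ : M24) : Equiv.Perm GolayPt) ai := hai
  exact ⟨⟨⟨_, hm⟩, ha⟩, ⟨_, hai'⟩, by rw [el_eq hai', el_eq (σ := ⟨_, hm⟩) ha]⟩

theorem testBit_actQ_aux (a q j : ℕ) : ∀ n,
    (Nat.rec (motive := fun _ => Nat) 0
      (fun i acc => Nat.lor acc (Nat.shiftLeft 1 (getP a (getP q i)))) n).testBit j = true ↔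
      ∃ i < n, getP a (getP q i) = j := by
  intro n
  induction n with
  | zero => simp
  | succ n ih =>
    show (_ ||| (1 <<< getP a (getP q n))).testBit j = true ↔ _
    rw [Nat.testBit_or, Bool.or_eq_true, ih, Nat.one_shiftLeft, Nat.testBit_two_pow,
      decide_eq_true_eq]
    constructor
    · rintro (⟨i, hi, h⟩ | h)
      · exact ⟨i, by omega, h⟩
      · exact ⟨n, by omega, h⟩
    · rintro ⟨i, hi, h⟩
      rcases Nat.lt_succ_iff_lt_or_eq.1 hi with hi | rfl
      · exact Or.inl ⟨i, hi, h⟩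
      · exact Or.inr h

theorem testBit_actQ (a q j : ℕ) :
    (actQ a q).testBit j = true ↔ ∃ i < 8, getP a (getP q i) = j := testBit_actQ_aux a q j 8

theorem getP_idP : ∀ i < 24, getP idP i = i := by decide +kernel

theorem toSet_actQ {σ : Equiv.Perm GolayPt} {a q : ℕ} (h : Rep σ a)
    (hq : ∀ i < 8, getP q i < 24) : toSet (actQ a q) = σ • toSet (actQ idP q) := by
  ext p
  rw [mem_toSet, testBit_actQ, Finset.mem_smul_finset]
  constructor
  · rintro ⟨i, hi, e⟩
    refine ⟨pt (getP q i), ?_, ?_⟩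
    · rw [mem_toSet, testBit_actQ]
      exact ⟨i, hi, by rw [idx_pt (hq i hi), getP_idP _ (hq i hi)]⟩
    · rw [Equiv.Perm.smul_def]
      exact idx_injective (by rw [← h _ (hq i hi), e])
  · rintro ⟨r, hr, rfl⟩
    rw [mem_toSet, testBit_actQ] at hr
    obtain ⟨i, hi, e⟩ := hr
    refine ⟨i, hi, ?_⟩
    rw [getP_idP _ (hq i hi)] at e
    rw [e, h.get, Equiv.Perm.smul_def]

theorem actQ_id_lt {q : ℕ} (hq : ∀ i < 8, getP q i < 24) : actQ idP q < 2 ^ 24 := by
  apply Nat.lt_pow_two_of_testBit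
  intro j hj
  by_contra hc
  rw [Bool.not_eq_false, testBit_actQ] at hc
  obtain ⟨i, hi, e⟩ := hc
  rw [getP_idP _ (hq i hi)] at e
  have := hq i hi
  omega

theorem smul_toSet_symm (σ : Equiv.Perm GolayPt) (a b : ℕ) :
    σ • toSet (a ^^^ b) = (σ • toSet a) ∆ (σ • toSet b) := by
  rw [toSet_xor]
  ext p
  simp only [← Finset.inv_smul_mem_iff, Finset.mem_symmDiff]

theorem smul_full (σ : Equiv.Perm GolayPt) : σ • toSet 16777215 = toSet 16777215 := by
  have h : toSet 16777215 = (Finset.univ : Finset GolayPt) := by decide +kernel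
  rw [h, Finset.smul_finset_univ]

/-- the three octads of a trio -/
noncomputable def Trio (k : ℕ) : Finset (Finset GolayPt) :=
  {toSet (trA k), toSet (trB k), toSet (trC k)}

theorem trio_table : allBelow 3795 okTrio = true := by decide +kernel

theorem trio_facts {k : ℕ} (hk : k < 3795) :
    trA k < trB k ∧ trB k < trC k ∧
      (∀ i < 8, getP (trPA k) i < 24) ∧ (∀ i < 8, getP (trPB k) i < 24) ∧
      actQ idP (trPA k) = trA k ∧ actQ idP (trPB k) = trB k := by
  have h := allBelow_spec trio_table k hk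
  simp only [okTrio, Bool.and_eq_true, Nat.blt_eq, Nat.beq_eq] at h
  obtain ⟨⟨⟨⟨⟨h1, h2⟩, h3⟩, h4⟩, h5⟩, -⟩ := h
  refine ⟨h1, h2, fun i hi => ?_, fun i hi => ?_, h3, h4⟩ <;>
    have := allBelow_spec h5 i hi <;>
    simp only [Bool.and_eq_true, Nat.blt_eq] at this
  exacts [this.1, this.2]

theorem tr_lt {k : ℕ} (hk : k < 3795) :
    trA k < 2 ^ 24 ∧ trB k < 2 ^ 24 ∧ trC k < 2 ^ 24 := by
  obtain ⟨-, -, h1, h2, e1, e2⟩ := trio_facts hk
  have ha := e1 ▸ actQ_id_lt h1
  have hb := e2 ▸ actQ_id_lt h2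
  exact ⟨ha, hb, Nat.xor_lt_two_pow (Nat.xor_lt_two_pow (by norm_num) ha) hb⟩

theorem moveTo_spec {a k k' : ℕ} {σ : M24} (hσ : Rep (σ : Equiv.Perm GolayPt) a)
    (h : moveTo a k k' = true) : k < 3795 ∧ k' < 3795 ∧ σ • Trio k = Trio k' := by
  simp only [moveTo, Bool.and_eq_true, Bool.or_eq_true, Nat.beq_eq, Nat.blt_eq] at h
  obtain ⟨⟨hk, hk'⟩, hm⟩ := h
  refine ⟨hk, hk', ?_⟩
  obtain ⟨-, -, hqa, hqb, ea, eb⟩ := trio_facts hk
  have hA := toSet_actQ hσ hqa
  have hB := toSet_actQ hσ hqb
  rw [ea] at hA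
  rw [eb] at hB
  set u := actQ a (trPA k) with hu
  set v := actQ a (trPB k) with hv
  have hC : (σ : Equiv.Perm GolayPt) • toSet (trC k) = toSet (16777215 ^^^ u ^^^ v) := by
    show (σ : Equiv.Perm GolayPt) • toSet (16777215 ^^^ trA k ^^^ trB k) = _
    rw [smul_toSet_symm, smul_toSet_symm, smul_full, toSet_xor, toSet_xor, hA, hB]
  have key : σ • Trio k = {toSet u, toSet v, toSet (16777215 ^^^ u ^^^ v)} := by
    show (σ : Equiv.Perm GolayPt) • Trio k = _
    simp only [Trio, Finset.smul_finset_insert, Finset.smul_finset_singleton, ← hA, ← hB, hC]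
  rw [key, Trio]
  have hz : trC k' = 16777215 ^^^ trA k' ^^^ trB k' := rfl
  have x1 : 16777215 ^^^ trA k' ^^^ trC k' = trB k' := by
    simp [hz, Nat.xor_assoc, Nat.xor_comm, Nat.xor_left_comm]
  have x2 : 16777215 ^^^ trB k' ^^^ trC k' = trA k' := by
    simp [hz, Nat.xor_assoc, Nat.xor_comm, Nat.xor_left_comm]
  have sw : ∀ a b : ℕ, 16777215 ^^^ a ^^^ b = 16777215 ^^^ b ^^^ a := fun a b => by
    rw [Nat.xor_assoc, Nat.xor_comm a b, ← Nat.xor_assoc]
  rcases hm with ((⟨e, e' | e'⟩ | ⟨e, e' | e'⟩) | ⟨e, e' | e'⟩) <;> rw [e, e'] <;>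
    simp only [← hz, x1, x2, sw (trB k') (trA k'), sw (trC k') (trA k'), sw (trC k') (trB k')] <;>
    ext s <;> simp only [Finset.mem_insert, Finset.mem_singleton] <;> tauto

theorem trio_injective {k k' : ℕ} (hk : k < 3795) (hk' : k' < 3795) (h : Trio k = Trio k') :
    k = k' := by
  obtain ⟨a1, a2, -⟩ := trio_facts hk
  obtain ⟨b1, b2, -⟩ := trio_facts hk'
  obtain ⟨la, lb, lc⟩ := tr_lt hk
  obtain ⟨la', lb', lc'⟩ := tr_lt hk'
  have h' := congrArg (Finset.image mask) h
  simp only [Trio, Finset.image_insert, Finset.image_singleton, mask_toSet la, mask_toSet lb,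
    mask_toSet lc, mask_toSet la', mask_toSet lb', mask_toSet lc', Finset.ext_iff,
    Finset.mem_insert, Finset.mem_singleton] at h'
  have hA : trA k = trA k' := by
    rcases (h' _).1 (Or.inl rfl) with e | e | e <;>
      rcases (h' _).2 (Or.inl rfl) with f | f | f <;> omega
  have hB : trB k = trB k' := by
    rcases (h' _).1 (Or.inr (Or.inl rfl)) with e | e | e <;>
      rcases (h' _).2 (Or.inr (Or.inl rfl)) with f | f | f <;> omega
  have mono : ∀ n m, n < m → m < 3795 →
      Nat.add (Nat.shiftLeft (trA n) 24) (trB n) < Nat.add (Nat.shiftLeft (trA m) 24) (trB m) := by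
    intro n m hnm hm
    induction m with
    | zero => omega
    | succ m ih =>
      have h := allBelow_spec trio_table m (by omega)
      simp only [okTrio, Bool.and_eq_true, Bool.or_eq_true, Nat.blt_eq, Nat.beq_eq] at h
      have hs := h.2.resolve_left (by omega)
      rcases Nat.lt_succ_iff_lt_or_eq.1 hnm with hn | rfl
      · exact (ih hn (by omega)).trans hs
      · exact hs
  rcases lt_trichotomy k k' with hl | he | hl
  · exact absurd (mono _ _ hl hk') (by rw [hA, hB]; exact lt_irrefl _)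
  · exact he
  · exact absurd (mono _ _ hl hk) (by rw [hA, hB]; exact lt_irrefl _)

theorem orbit_table : allBelow 3795 okOrb = true := by decide +kernel

theorem rep_ga : Rep (M24Iso.ga : Equiv.Perm GolayPt) mAa := rep_mA

theorem rep_gbi : Rep ((M24Iso.gb⁻¹ : M24) : Equiv.Perm GolayPt) mBi := rep_mBi

theorem exists_to {k : ℕ} (hk : k < 3795) : ∃ g : M24, g • Trio baseTrio = Trio k := by
  induction hr : orbRank k using Nat.strong_induction_on generalizing k with
  | _ r ih =>
    have h := allBelow_spec orbit_table k hk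
    simp only [okOrb, Bool.and_eq_true, Bool.or_eq_true, Nat.beq_eq, Nat.blt_eq] at h
    rcases h.2 with rfl | ⟨hlt, hm⟩
    · exact ⟨1, one_smul _ _⟩
    · obtain ⟨s, hs⟩ : ∃ s : M24, Rep (s : Equiv.Perm GolayPt) (bif orbGen k then mBi else mAa) := by
        cases orbGen k
        · exact ⟨M24Iso.ga, rep_ga⟩
        · exact ⟨M24Iso.gb⁻¹, rep_gbi⟩
      obtain ⟨hp, -, e⟩ := moveTo_spec hs hm
      obtain ⟨g, hg⟩ := ih _ (hr ▸ hlt) hp rfl
      exact ⟨s * g, by rw [mul_smul, hg, e]⟩

/-- the trios as a finite set -/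
noncomputable def allTrios : Finset (Finset (Finset GolayPt)) := (Finset.range 3795).image Trio

theorem card_allTrios : allTrios.card = 3795 := by
  rw [allTrios, Finset.card_image_of_injOn, Finset.card_range]
  intro a ha b hb h
  exact trio_injective (Finset.mem_range.1 ha) (Finset.mem_range.1 hb) h

theorem allTrios_fixed (g : M24) : g • allTrios = allTrios := by
  have key : ∀ s : M24, (∀ k < 3795, ∃ k' < 3795, s • Trio k = Trio k') →
      s • allTrios = allTrios := by
    intro s hs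
    refine Finset.eq_of_subset_of_card_le ?_ (by rw [Finset.card_smul_finset])
    intro x hx
    obtain ⟨y, hy, rfl⟩ := Finset.mem_smul_finset.1 hx
    obtain ⟨k, hk, rfl⟩ := Finset.mem_image.1 hy
    obtain ⟨k', hk', e⟩ := hs k (Finset.mem_range.1 hk)
    exact Finset.mem_image.2 ⟨k', Finset.mem_range.2 hk', e.symm⟩
  have hg : g ∈ Subgroup.closure {M24Iso.ga, M24Iso.gb} := M24Iso.gen_top ▸ Subgroup.mem_top g
  show g ∈ MulAction.stabilizer M24 allTrios
  refine (Subgroup.closure_le _).2 ?_ hg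
  rintro _ (rfl | rfl)
  · refine key _ fun k hk => ?_
    have h := allBelow_spec orbit_table k hk
    simp only [okOrb, Bool.and_eq_true] at h
    exact ⟨_, (moveTo_spec rep_ga h.1.1).2⟩
  · rw [SetLike.mem_coe, ← inv_mem_iff]
    refine key _ fun k hk => ?_
    have h := allBelow_spec orbit_table k hk
    simp only [okOrb, Bool.and_eq_true] at h
    exact ⟨_, (moveTo_spec rep_gbi h.1.2).2⟩

theorem exists_trio (g : M24) {k : ℕ} (hk : k < 3795) : ∃ k' < 3795, g • Trio k = Trio k' := by
  have h : g • Trio k ∈ allTrios := by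
    rw [← allTrios_fixed g]
    exact Finset.smul_mem_smul_finset (Finset.mem_image.2 ⟨k, Finset.mem_range.2 hk, rfl⟩)
  obtain ⟨k', hk', e⟩ := Finset.mem_image.1 h
  exact ⟨k', Finset.mem_range.1 hk', e.symm⟩

theorem baseTrio_lt : baseTrio < 3795 := by decide +kernel

theorem card_stab_base :
    Nat.card (MulAction.stabilizer M24 (Trio baseTrio)) * 3795 = 244823040 := by
  have horb : MulAction.orbit M24 (Trio baseTrio) = ↑allTrios := by
    ext x
    rw [Finset.mem_coe, allTrios, Finset.mem_image, MulAction.mem_orbit_iff]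
    constructor
    · rintro ⟨g, rfl⟩
      obtain ⟨k, hk, e⟩ := exists_trio g baseTrio_lt
      exact ⟨k, Finset.mem_range.2 hk, e.symm⟩
    · rintro ⟨k, hk, rfl⟩
      exact exists_to (Finset.mem_range.1 hk)
  rw [← natCard_M24, ← Subgroup.card_mul_index (MulAction.stabilizer M24 (Trio baseTrio)),
    MulAction.index_stabilizer, horb, Set.ncard_coe_finset, card_allTrios]

open Classical in
theorem le_card_of_levels (els : List ℕ) (S : Subgroup M24) (hels : ∀ t, Valid (els.getD t idP) ∧
    el (els.getD t idP) ∈ S) : ∀ (lv : List (ℕ × List ℕ)) (fixed : List ℕ),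
    (∀ q ∈ fixed, q < 24) → okLevels els fixed lv = true →
    ∀ K : Subgroup M24, (∀ g ∈ S, (∀ q ∈ fixed, (g : Equiv.Perm GolayPt) (pt q) = pt q) → g ∈ K) →
      chainSize lv ≤ Nat.card K
  | [], _, _, _, K, _ => by
    show 1 ≤ Nat.card K
    exact Nat.card_pos
  | (b, T) :: rest, fixed, hfix, h, K, hK => by
    simp only [okLevels, Bool.and_eq_true, List.all_eq_true, Nat.blt_eq, Nat.beq_eq] at h
    obtain ⟨⟨⟨hb, hd⟩, hT⟩, hrest⟩ := h
    have hin := le_card_of_levels els S hels rest (b :: fixed)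
      (fun q hq => by rcases List.mem_cons.1 hq with rfl | hq; exacts [hb, hfix q hq]) hrest
      (K ⊓ MulAction.stabilizer M24 (pt b)) (fun g hg hf => ⟨hK g hg fun q hq =>
        hf q (List.mem_cons_of_mem _ hq), hf b (List.mem_cons_self ..)⟩)
    set f : ℕ → K ⧸ (MulAction.stabilizer K (pt b)) := fun t =>
      if ht : el (els.getD t idP) ∈ K then ((⟨_, ht⟩ : K) : K ⧸ _) else ((1 : K) : K ⧸ _) with hf
    have hmem : ∀ t ∈ T, el (els.getD t idP) ∈ K := fun t ht => hK _ (hels t).2 fun q hq => by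
      rw [(rep_el (hels t).1).fix_iff (hfix q hq)]
      exact hT t ht q hq
    have hnd : (T.map f).Nodup := by
      have key : ∀ l : List ℕ, distinctB l = true → l.Nodup := by
        intro l
        induction l with
        | nil => simp
        | cons x l ih =>
          intro h
          simp only [distinctB, Bool.and_eq_true, Bool.not_eq_true', List.any_eq_false,
            Nat.beq_eq] at h
          exact List.nodup_cons.2 ⟨fun hx => h.1 x hx rfl, ih h.2⟩
      have hn := key _ hd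
      refine List.Nodup.map_on ?_ (hn.of_map _)
      intro s hs t ht e
      refine List.inj_on_of_nodup_map hn hs ht ?_
      simp only [hf] at e
      rw [dif_pos (hmem s hs), dif_pos (hmem t ht), QuotientGroup.eq] at e
      have e' : (el (els.getD s idP) : Equiv.Perm GolayPt) (pt b) =
          (el (els.getD t idP) : Equiv.Perm GolayPt) (pt b) := by
        have := MulAction.mem_stabilizer_iff.1 e
        rw [mul_smul, inv_smul_eq_iff] at this
        exact this.symm
      rw [rep_el (hels s).1 b hb, rep_el (hels t).1 b hb, e']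
    have hidx : T.length ≤ (MulAction.stabilizer K (pt b)).index := by
      rw [Subgroup.index_eq_card]
      have := Fintype.ofFinite (K ⧸ MulAction.stabilizer K (pt b))
      rw [Nat.card_eq_fintype_card, ← List.length_map f (as := T)]
      exact hnd.length_le_card
    have e : Nat.card (MulAction.stabilizer K (pt b)) =
        Nat.card (K ⊓ MulAction.stabilizer M24 (pt b) : Subgroup M24) :=
      Nat.card_congr ⟨fun g => ⟨g.1.1, g.1.2, g.2⟩, fun g => ⟨⟨g.1, g.2.1⟩, g.2.2⟩,
        fun _ => rfl, fun _ => rfl⟩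
    rw [← Subgroup.card_mul_index (MulAction.stabilizer K (pt b)), e, chainSize, List.map_cons,
      List.prod_cons, mul_comm]
    exact Nat.mul_le_mul hin hidx

theorem getD_mem_or (l : List ℕ) (t : ℕ) : l.getD t idP ∈ l ∨ l.getD t idP = idP := by
  by_cases h : t < l.length
  · exact Or.inl (by rw [List.getD_eq_getElem _ _ h]; exact List.getElem_mem h)
  · exact Or.inr (List.getD_eq_default _ _ (not_lt.1 h))

theorem le_card_of_program {gs : List ℕ} {slp : List (ℕ × ℕ × ℕ)} {lv : List (ℕ × List ℕ)}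
    (h : okProgram gs slp lv = true) (S : Subgroup M24)
    (hg : ∀ a ∈ gs, Valid a ∧ el a ∈ S) : chainSize lv ≤ Nat.card S := by
  simp only [okProgram, Bool.and_eq_true] at h
  have hin : ∀ e ∈ slp, RepIn (S.map M24.subtype) e.1 := by
    refine repIn_of_checkSLP slp _ h.1 fun a ha => ?_
    obtain ⟨hv, hm⟩ := hg a (List.mem_reverse.1 ha)
    exact ⟨_, Subgroup.mem_map_of_mem _ hm, rep_el hv⟩
  refine le_card_of_levels (gs ++ slp.map Prod.fst) S (fun t => ?_) lv [] (by simp) h.2 S
    fun g hg _ => hg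
  rcases getD_mem_or (gs ++ slp.map Prod.fst) t with ht | ht
  · rcases List.mem_append.1 ht with ht | ht
    · exact hg _ ht
    · obtain ⟨e, he, hee⟩ := List.mem_map.1 ht
      rw [← hee]
      obtain ⟨σ, hσ, hrep⟩ := hin e he
      obtain ⟨s, hs, rfl⟩ := Subgroup.mem_map.1 hσ
      exact ⟨⟨s, hrep⟩, (el_eq hrep).symm ▸ hs⟩
  · rw [ht]
    exact ⟨valid_id.1, valid_id.2.symm ▸ S.one_mem⟩

end CfsgLib.Spor.J4.Index
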